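import Mathlib
import Cfsg.Agent.KSG.AutSym
import Cfsg.Agent.KSG.SymCoxeter

/-! The outer automorphism of `S₆` and the subgroups of index six. -/

set_option autoImplicit false
set_option linter.unusedSectionVars false

namespace Cfsg.Agent.KSG

open Equiv Equiv.Perm Subgroup

variable {α : Type*} [Fintype α] [DecidableEq α]

theorem exists_conj_of_map_threeCycle_perm (h4 : 4 ≤ Fintype.card α)
    (φ : Perm α →* Perm α) (hφ : Function.Injective φ)
    (h3 : ∀ x, IsThreeCycle x → IsThreeCycle (φ x)) :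
    ∃ g : Perm α, ∀ x, φ x = g * x * g⁻¹ := by
  have : Nontrivial α := Fintype.one_lt_card_iff_nontrivial.1 (by omega)
  obtain ⟨g, hg⟩ := exists_conj_of_map_threeCycle h4
    ((φ.comp (alternatingGroup α).subtype).codRestrict (alternatingGroup α)
      fun x => map_alternatingGroup_of_injective φ hφ x.2)
    ((MonoidHom.injective_codRestrict _ _ _).2 (hφ.comp Subtype.val_injective))
    (fun x hx => h3 x hx)
  have hg' : ∀ x ∈ alternatingGroup α, φ x = g * x * g⁻¹ := fun x hx => hg ⟨x, hx⟩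
  refine ⟨g, fun x => ?_⟩
  have : x⁻¹ * (g⁻¹ * φ x * g) = 1 := by
    apply eq_one_of_commute_threeCycles h4
    intro σ hσ
    have h1 := hg' _ (alternatingGroup.normal.conj_mem σ hσ.mem_alternatingGroup x)
    rw [map_mul, map_mul, map_inv, hg' σ hσ.mem_alternatingGroup] at h1
    calc x⁻¹ * (g⁻¹ * φ x * g) * σ
        = x⁻¹ * g⁻¹ * (φ x * (g * σ * g⁻¹) * (φ x)⁻¹) * φ x * g := by group
      _ = _ := by rw [h1]; group
  rw [inv_mul_eq_one] at this
  rw [this, ← this]
  calc φ x = g * (g⁻¹ * φ x * g) * g⁻¹ := by group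
    _ = _ := by rw [← this]

theorem cycleType_of_orderOf_three_of_card_six (h6 : Fintype.card α = 6) {x : Perm α}
    (hx : orderOf x = 3) : x.cycleType = {3} ∨ x.cycleType = {3, 3} := by
  obtain ⟨k, hk⟩ := cycleType_prime_order (σ := x) (by rw [hx]; exact Nat.prime_three)
  have hs := sum_cycleType_le x
  rw [hx] at hk
  rw [hk, h6] at hs
  simp only [Multiset.sum_replicate, smul_eq_mul] at hs
  obtain rfl | rfl : k = 0 ∨ k = 1 := by omega
  · exact Or.inl hk
  · exact Or.inr hk

theorem cycleType_map_of_outer (h6 : Fintype.card α = 6) (φ : Perm α ≃* Perm α)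
    (hφ : ¬ ∃ g : Perm α, ∀ x, φ x = g * x * g⁻¹) {x : Perm α} (hx : IsThreeCycle x) :
    (φ x).cycleType = {3, 3} := by
  refine (cycleType_of_orderOf_three_of_card_six h6
    (by rw [MulEquiv.orderOf_eq, hx.orderOf])).resolve_left fun h => hφ ?_
  refine exists_conj_of_map_threeCycle_perm (by omega) φ.toMonoidHom φ.injective fun y hy => ?_
  have h1 : IsConj x y := isConj_iff_cycleType_eq.2 (hx.cycleType.trans hy.cycleType.symm)
  exact (isConj_iff_cycleType_eq.1 (φ.toMonoidHom.map_isConj h1)).symm.trans h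

theorem isThreeCycle_map_of_outer (h6 : Fintype.card α = 6) (φ : Perm α ≃* Perm α)
    (hφ : ¬ ∃ g : Perm α, ∀ x, φ x = g * x * g⁻¹) {x : Perm α} (hx : x.cycleType = {3, 3}) :
    IsThreeCycle (φ x) := by
  obtain ⟨a, b, c, h1, h2, h3⟩ := Fintype.two_lt_card_iff.1 (show 2 < Fintype.card α by omega)
  have hs := isThreeCycle_c3 h1 h2 h3
  have ho : orderOf (φ.symm (c3 a b c)) = 3 := by rw [MulEquiv.orderOf_eq, hs.orderOf]
  rcases cycleType_of_orderOf_three_of_card_six h6 ho with h | h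
  · have := cycleType_map_of_outer h6 φ hφ h
    rw [MulEquiv.apply_symm_apply, hs.cycleType] at this
    exact absurd this (by decide)
  · have h4 : IsConj x (φ.symm (c3 a b c)) := isConj_iff_cycleType_eq.2 (hx.trans h.symm)
    have := isConj_iff_cycleType_eq.1 (φ.toMonoidHom.map_isConj h4)
    simp only [MulEquiv.toMonoidHom_eq_coe, MonoidHom.coe_coe, MulEquiv.apply_symm_apply] at this
    exact this.trans hs

/-- The product of two outer automorphisms of `S₆` is inner. -/
theorem exists_conj_of_outer_outer (h6 : Fintype.card α = 6) (φ θ : Perm α ≃* Perm α)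
    (hφ : ¬ ∃ g : Perm α, ∀ x, φ x = g * x * g⁻¹) (hθ : ¬ ∃ g : Perm α, ∀ x, θ x = g * x * g⁻¹) :
    ∃ g : Perm α, ∀ x, θ (φ x) = g * x * g⁻¹ :=
  exists_conj_of_map_threeCycle_perm (by omega) (φ.trans θ).toMonoidHom (φ.trans θ).injective
    fun _ hx => isThreeCycle_map_of_outer h6 θ hθ (cycleType_map_of_outer h6 φ hφ hx)

theorem injective_of_not_alt_le_ker {G : Type*} [Group G] (h5 : 5 ≤ Fintype.card α)
    (φ : Perm α →* G) (h : ¬ alternatingGroup α ≤ φ.ker) : Function.Injective φ := by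
  rw [← MonoidHom.ker_eq_bot_iff]
  by_contra h1
  exact h (alternatingGroup_le_of_normal (by simpa using h5) ((nontrivial_iff_ne_bot _).2 h1))

theorem exists_outer_fin_six : ∃ θ : Perm (Fin 6) ≃* Perm (Fin 6),
    ¬ ∃ g : Perm (Fin 6), ∀ x, θ x = g * x * g⁻¹ := by
  let t : Fin 5 → Perm (Fin 6) := ![swap 0 1 * swap 2 3 * swap 4 5, swap 0 2 * swap 1 4 * swap 3 5,
    swap 0 1 * swap 2 5 * swap 3 4, swap 0 2 * swap 1 3 * swap 4 5, swap 0 1 * swap 2 4 * swap 3 5]
  obtain ⟨φ, hφ⟩ := exists_hom_perm_of_rels t (by decide +kernel)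
    (by simp only [Commute, SemiconjBy]; decide +kernel) (by decide +kernel)
  have h0 : φ (swap 0 1) = t 0 := hφ 0
  have h1 : φ (swap 1 2) = t 1 := hφ 1
  have hinj : Function.Injective φ := by
    refine injective_of_not_alt_le_ker (by simp) φ fun h => ?_
    have := h (c3_mem_alternatingGroup (a := 0) (b := 1) (c := 2) (by decide) (by decide))
    rw [MonoidHom.mem_ker, c3, map_mul, h0, h1] at this
    revert this
    decide +kernel
  refine ⟨MulEquiv.ofBijective φ (Finite.injective_iff_bijective.1 hinj), ?_⟩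
  rintro ⟨g, hg⟩
  have := hg (swap 0 1)
  rw [MulEquiv.ofBijective_apply, h0, ← swap_apply_apply] at this
  have h2 : t 0 (g 2) = g 2 := by
    rw [this, swap_apply_of_ne_of_ne] <;> simp
  have h3 : ∀ x, t 0 x ≠ x := by decide
  exact h3 _ h2

theorem exists_outer_of_card_six (h6 : Fintype.card α = 6) : ∃ θ : Perm α ≃* Perm α,
    ¬ ∃ g : Perm α, ∀ x, θ x = g * x * g⁻¹ := by
  obtain ⟨θ, hθ⟩ := exists_outer_fin_six
  let e : α ≃ Fin 6 := Fintype.equivFinOfCardEq h6
  refine ⟨e.permCongrHom.trans (θ.trans e.permCongrHom.symm), ?_⟩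
  rintro ⟨g, hg⟩
  refine hθ ⟨e.permCongrHom g, fun x => ?_⟩
  have := hg (e.permCongrHom.symm x)
  simp only [MulEquiv.trans_apply, MulEquiv.apply_symm_apply, MulEquiv.symm_apply_eq, map_mul,
    map_inv] at this
  exact this

/-- Subgroups of index six of `S₆`: point stabilizers and their images under an outer
automorphism. -/
theorem eq_stabilizer_or_of_index_six (h6 : Fintype.card α = 6) (θ : Perm α ≃* Perm α)
    (hθ : ¬ ∃ g : Perm α, ∀ x, θ x = g * x * g⁻¹) (H : Subgroup (Perm α)) (hH : H.index = 6) :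
    ∃ a : α, H = MulAction.stabilizer (Perm α) a ∨
      H = (MulAction.stabilizer (Perm α) a).map θ.toMonoidHom := by
  have : Nontrivial α := Fintype.one_lt_card_iff_nontrivial.1 (by omega)
  obtain ⟨φ, x, h1, h2⟩ := exists_hom_of_index (α := α) H (hH.trans h6.symm)
  have hφ : Function.Injective φ := by
    refine injective_of_not_alt_le_ker (by omega) φ fun h => ?_
    have := index_dvd_of_le (h.trans (h1.le.trans H.normalCore_le))
    rw [alternatingGroup.index_eq_two, hH] at this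
    exact absurd this (by decide)
  let ψ := MulEquiv.ofBijective φ (Finite.injective_iff_bijective.1 hφ)
  by_cases hc : ∃ g : Perm α, ∀ x, ψ x = g * x * g⁻¹
  · obtain ⟨g, hg⟩ := hc
    refine ⟨g⁻¹ x, Or.inl ?_⟩
    ext y
    have : φ y = g * y * g⁻¹ := hg y
    rw [← h2, this, MulAction.mem_stabilizer_iff, Perm.mul_apply, Perm.mul_apply,
      ← Perm.eq_inv_iff_eq]
    rfl
  · obtain ⟨g, hg⟩ := exists_conj_of_outer_outer h6 θ ψ hθ hc
    refine ⟨g⁻¹ x, Or.inr ?_⟩
    ext y
    obtain ⟨z, rfl⟩ := θ.surjective y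
    have : φ (θ z) = g * z * g⁻¹ := hg z
    rw [← h2, this, Perm.mul_apply, Perm.mul_apply, ← Perm.eq_inv_iff_eq]
    exact (mem_map_iff_mem (f := θ.toMonoidHom) θ.injective
      (K := MulAction.stabilizer (Perm α) (g⁻¹ x)) (x := z)).symm

theorem map_outer_stabilizer_ne (h6 : Fintype.card α = 6) (θ : Perm α ≃* Perm α)
    (hθ : ¬ ∃ g : Perm α, ∀ x, θ x = g * x * g⁻¹) (a b : α) :
    (MulAction.stabilizer (Perm α) a).map θ.toMonoidHom ≠ MulAction.stabilizer (Perm α) b := by
  intro h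
  have : 2 < Fintype.card {x // x ≠ a} := by simp [h6]
  obtain ⟨⟨p, hp⟩, ⟨q, hq⟩, ⟨r, hr⟩, h1, h2, h3⟩ := Fintype.two_lt_card_iff.1 this
  simp only [ne_eq, Subtype.mk.injEq] at h1 h2 h3
  have h4 : θ (c3 p q r) ∈ MulAction.stabilizer (Perm α) b :=
    h ▸ ⟨c3 p q r, c3_apply_of_ne hp.symm hq.symm hr.symm, rfl⟩
  have h5 := cycleType_map_of_outer h6 θ hθ (isThreeCycle_c3 h1 h2 h3)
  have h7 := sum_cycleType (θ (c3 p q r))
  rw [h5] at h7
  have h8 : (θ (c3 p q r)).support = Finset.univ := by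
    apply Finset.eq_univ_of_card
    rw [← h7, h6]; rfl
  have : b ∈ (θ (c3 p q r)).support := h8 ▸ Finset.mem_univ b
  exact mem_support.1 this h4

theorem stabilizer_perm_injective (h3 : 3 ≤ Fintype.card α) :
    Function.Injective fun a : α => MulAction.stabilizer (Perm α) a := by
  intro a b h
  by_contra hab
  obtain ⟨c, hc1, hc2⟩ : ∃ c, c ≠ a ∧ c ≠ b := by
    obtain ⟨x, y, z, h1, h2, h3⟩ := Fintype.two_lt_card_iff.1 (show 2 < Fintype.card α by omega)
    by_contra! hc
    have e1 := or_iff_not_imp_left.2 (hc x)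
    have e2 := or_iff_not_imp_left.2 (hc y)
    have e3 := or_iff_not_imp_left.2 (hc z)
    rcases e1 with rfl | rfl <;> rcases e2 with rfl | rfl <;> rcases e3 with h | h <;> simp_all
  have h1 : swap b c ∈ MulAction.stabilizer (Perm α) a := swap_apply_of_ne_of_ne hab hc1.symm
  have h' : MulAction.stabilizer (Perm α) a = MulAction.stabilizer (Perm α) b := h
  rw [h'] at h1
  have : swap b c b = b := h1
  rw [swap_apply_left] at this
  exact hc2 this

theorem map_conj_stabilizer (g : Perm α) (a : α) :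
    (MulAction.stabilizer (Perm α) a).map (MulAut.conj g).toMonoidHom =
      MulAction.stabilizer (Perm α) (g a) :=
  (MulAction.stabilizer_smul_eq_stabilizer_map_conj g a).symm

end Cfsg.Agent.KSG
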