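import Mathlib

/-! Element orders of symmetric and alternating groups through cycle types. -/

set_option autoImplicit false

namespace Cfsg.Agent.KSG

theorem mem_range_orderOf_perm_iff (α : Type*) [Fintype α] [DecidableEq α] (m : ℕ) :
    m ∈ Set.range (orderOf : Equiv.Perm α → ℕ) ↔
      ∃ c : Multiset ℕ, c.sum ≤ Fintype.card α ∧ (∀ a ∈ c, 2 ≤ a) ∧ c.lcm = m := by
  constructor
  · rintro ⟨σ, rfl⟩
    exact ⟨σ.cycleType, σ.sum_cycleType_le, fun a ha => Equiv.Perm.two_le_of_mem_cycleType ha,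
      σ.lcm_cycleType⟩
  · rintro ⟨c, h1, h2, rfl⟩
    obtain ⟨σ, rfl⟩ := (Equiv.Perm.exists_with_cycleType_iff α).2 ⟨h1, h2⟩
    exact ⟨σ, σ.lcm_cycleType.symm⟩

theorem mem_alternatingGroup_iff_cycleType {α : Type*} [Fintype α] [DecidableEq α]
    (σ : Equiv.Perm α) :
    σ ∈ alternatingGroup α ↔ Even (σ.cycleType.sum + Multiset.card σ.cycleType) := by
  rw [Equiv.Perm.mem_alternatingGroup, Equiv.Perm.sign_of_cycleType]
  exact neg_one_pow_eq_one_iff_even (by decide)

theorem mem_range_orderOf_alt_iff (α : Type*) [Fintype α] [DecidableEq α] (m : ℕ) :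
    m ∈ Set.range (orderOf : alternatingGroup α → ℕ) ↔
      ∃ c : Multiset ℕ, c.sum ≤ Fintype.card α ∧ (∀ a ∈ c, 2 ≤ a) ∧
        Even (c.sum + Multiset.card c) ∧ c.lcm = m := by
  constructor
  · rintro ⟨σ, rfl⟩
    refine ⟨σ.1.cycleType, σ.1.sum_cycleType_le,
      fun a ha => Equiv.Perm.two_le_of_mem_cycleType ha,
      (mem_alternatingGroup_iff_cycleType _).1 σ.2, ?_⟩
    rw [σ.1.lcm_cycleType, Subgroup.orderOf_coe]
  · rintro ⟨c, h1, h2, h3, rfl⟩
    obtain ⟨σ, rfl⟩ := (Equiv.Perm.exists_with_cycleType_iff α).2 ⟨h1, h2⟩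
    refine ⟨⟨σ, (mem_alternatingGroup_iff_cycleType _).2 h3⟩, ?_⟩
    rw [σ.lcm_cycleType, ← Subgroup.orderOf_coe]

theorem exists_mem_of_prime_pow_dvd_lcm {p k : ℕ} (hp : p.Prime) (hk : k ≠ 0) (c : Multiset ℕ)
    (h : p ^ k ∣ c.lcm) : ∃ a ∈ c, p ^ k ∣ a := by
  induction c using Multiset.induction_on with
  | empty =>
    simp only [Multiset.lcm_zero, Nat.dvd_one, Nat.pow_eq_one] at h
    exact absurd h (by simp [hp.ne_one, hk])
  | cons a c ih =>
    rw [Multiset.lcm_cons] at h
    have h' : p ^ k ∣ a ∨ p ^ k ∣ c.lcm := by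
      rcases eq_or_ne a 0 with rfl | ha
      · simp
      rcases eq_or_ne c.lcm 0 with h0 | h0
      · simp [h0]
      rw [lcm_eq_nat_lcm, hp.pow_dvd_iff_le_factorization (Nat.lcm_ne_zero ha h0),
        Nat.factorization_lcm ha h0, Finsupp.sup_apply, le_sup_iff] at h
      rwa [hp.pow_dvd_iff_le_factorization ha, hp.pow_dvd_iff_le_factorization h0]
    rcases h' with h' | h'
    · exact ⟨a, Multiset.mem_cons_self _ _, h'⟩
    · obtain ⟨b, hb, hb'⟩ := ih h'
      exact ⟨b, Multiset.mem_cons_of_mem hb, hb'⟩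

theorem exists_mem_of_prime_dvd_lcm {p : ℕ} (hp : p.Prime) (c : Multiset ℕ)
    (h : p ∣ c.lcm) : ∃ a ∈ c, p ∣ a := by
  simpa using exists_mem_of_prime_pow_dvd_lcm hp one_ne_zero c (by simpa using h)

theorem even_sum_add_card_iff (c : Multiset ℕ) :
    Even (c.sum + Multiset.card c) ↔ Even (Multiset.card (c.filter Even)) := by
  induction c using Multiset.induction_on with
  | empty => simp
  | cons a c ih =>
    by_cases ha : Even a
    · rw [Multiset.filter_cons_of_pos _ ha, Multiset.sum_cons, Multiset.card_cons,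
        Multiset.card_cons, Nat.even_add_one, ← ih]
      rw [Nat.even_iff] at *
      rw [Nat.even_iff]
      omega
    · rw [Multiset.filter_cons_of_neg _ ha, Multiset.sum_cons, Multiset.card_cons, ← ih]
      rw [Nat.even_iff] at *
      rw [Nat.even_iff]
      omega

/-- All lists of at most `f` numbers, each at least `2`, with sum at most `n`. -/
def cycleLists : ℕ → ℕ → List (List ℕ)
  | 0, _ => [[]]
  | f + 1, n => [] :: (List.range (n + 1)).flatMap fun a =>
      if 2 ≤ a then (cycleLists f (n - a)).map (a :: ·) else []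

theorem mem_cycleLists (f n : ℕ) (l : List ℕ) (h1 : l.length ≤ f) (h2 : l.sum ≤ n)
    (h3 : ∀ a ∈ l, 2 ≤ a) : l ∈ cycleLists f n := by
  induction f generalizing n l with
  | zero =>
    have : l = [] := List.length_eq_zero_iff.1 (by omega)
    simp [this, cycleLists]
  | succ f ih =>
    cases l with
    | nil => simp [cycleLists]
    | cons a l =>
      simp only [List.length_cons, List.sum_cons, List.mem_cons, forall_eq_or_imp] at h1 h2 h3
      simp only [cycleLists, List.mem_cons, reduceCtorEq, List.mem_flatMap, List.mem_range,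
        false_or]
      refine ⟨a, by omega, ?_⟩
      rw [if_pos h3.1]
      exact List.mem_map.2 ⟨l, ih _ _ (by omega) (by omega) h3.2, rfl⟩

/-- To check a property of all cycle types in degree `n` it suffices to check it on `cycleLists`. -/
theorem forall_cycleType_of_cycleLists (n : ℕ) (P : Multiset ℕ → Prop)
    (h : ∀ l ∈ cycleLists (n / 2) n, P (l : Multiset ℕ)) (c : Multiset ℕ) (h2 : c.sum ≤ n)
    (h3 : ∀ a ∈ c, 2 ≤ a) : P c := by
  induction c using Quotient.inductionOn with
  | _ l =>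
    simp only [Multiset.quot_mk_to_coe, Multiset.sum_coe, Multiset.mem_coe] at h2 h3
    refine h l (mem_cycleLists _ _ l ?_ h2 h3)
    have := List.card_nsmul_le_sum l 2 h3
    simp only [smul_eq_mul] at this
    omega

end Cfsg.Agent.KSG
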