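import Mathlib
import Cfsg.Agent.PLocal.Amb
import Cfsg.Agent.Grp.Card

/-! A 2-group `P` with an involution `t` whose centralizer is `⟨t⟩ × E`, `E` elementary, and an
automorphism fixing `t` and transitive on `E#`: the class of `t` is a coset `tA`, `P = F⟨t⟩`. -/

set_option autoImplicit false

namespace Cfsg.Agent.KSG.Z2L

open Subgroup

universe u

theorem exists_ne3 {G : Type*} [Group G] {E : Subgroup G} (h : 4 ≤ Nat.card E) (a b : G) :
    ∃ c ∈ E, c ≠ 1 ∧ c ≠ a ∧ c ≠ b := by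
  classical
  by_contra hc
  push Not at hc
  have h1 : (E : Set G) ⊆ (({1, a, b} : Finset G) : Set G) := fun c hc' => by
    by_cases h1 : c = 1
    · simp [h1]
    by_cases h2 : c = a
    · simp [h2]
    simp [hc c hc' h1 h2]
  have h2 := Set.ncard_le_ncard h1
  rw [Set.ncard_coe_finset] at h2
  have h3 : ({1, a, b} : Finset G).card ≤ 3 := Finset.card_le_three
  have h4 : (E : Set G).ncard = Nat.card E := rfl
  omega

theorem comm_of_sq {G : Type*} [Group G] {a b : G} (ha : a * a = 1) (hb : b * b = 1)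
    (h : a * b * (a * b) = 1) : a * b = b * a := by
  rw [← inv_eq_of_mul_eq_one_right h, mul_inv_rev, inv_eq_of_mul_eq_one_right ha,
    inv_eq_of_mul_eq_one_right hb]

theorem exists_ind {P Q : Type*} [Group P] [Group Q] [Finite Q] (π : P →* Q)
    (hπ : Function.Surjective π) (u : MulAut P) (h : ∀ y, π y = 1 → π (u y) = 1) :
    ∃ v : MulAut Q, ∀ y, v (π y) = π (u y) := by
  let e : Q →* Q := π.liftOfSurjective hπ ⟨π.comp u.toMonoidHom, h⟩
  have he : ∀ y, e (π y) = π (u y) := fun y => π.liftOfRightInverse_comp_apply _ _ _ y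
  have hs : Function.Surjective e := fun z => by
    obtain ⟨y, rfl⟩ := hπ z
    exact ⟨π (u.symm y), by rw [he]; simp⟩
  exact ⟨MulEquiv.ofBijective e ⟨Finite.injective_iff_surjective.2 hs, hs⟩, he⟩

theorem ind_pow {P Q : Type*} [Group P] [Group Q] {π : P →* Q} {u : MulAut P} {v : MulAut Q}
    (h : ∀ y, v (π y) = π (u y)) (k : ℕ) (y : P) : (v ^ k) (π y) = π ((u ^ k) y) := by
  induction k with
  | zero => rfl
  | succ k ih => rw [pow_succ', pow_succ', MulAut.mul_apply, MulAut.mul_apply, ih, h]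

variable {P : Type u} [Group P]

structure TW (t : P) (h : MulAut P) (E : Subgroup P) : Prop where
  t2 : t * t = 1
  tE : t ∉ E
  ht : h t = t
  cent : ∀ y, y * t = t * y ↔ y ∈ E ∨ t * y ∈ E
  sq : ∀ e ∈ E, e * e = 1
  four : 4 ≤ Nat.card E
  hE : ∀ e ∈ E, h e ∈ E
  tr : ∀ a ∈ E, ∀ b ∈ E, a ≠ 1 → b ≠ 1 → ∃ k : ℕ, (h ^ k) a = b

/-- `u` acts trivially on `C(t)/⟨t⟩` -/
def Tv (t : P) (u : MulAut P) : Prop := ∀ y, y * t = t * y → u y = y ∨ u y = t * y

structure TC (t : P) (h : MulAut P) (E A F : Subgroup P) : Prop where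
  nA : A.Normal
  AF : A ≤ F
  EF : E ≤ F
  tF : t ∉ F
  idx : ∀ y, y ∈ F ∨ t * y ∈ F
  cls : ∀ y, (∃ p, p * t * p⁻¹ = y) ↔ t * y ∈ A
  sq : ∀ y, y * y ∈ A
  card : Nat.card F = Nat.card A * Nat.card E
  hF : ∀ y ∈ F, h y ∈ F
  tr : ∀ a ∈ F, ∀ b ∈ F, a ∉ A → b ∉ A → ∃ k : ℕ, (h ^ k) a * b⁻¹ ∈ A
  cen : A = ⊥ ∨ E ≤ A
  triv : ∀ u : MulAut P, u t = t → (Tv t u ↔ ∀ y, u y * y⁻¹ ∈ A ∨ t * (u y * y⁻¹) ∈ A)
  free : Nat.card E = 4 → ∀ u : MulAut P, u t = t → ¬ Tv t u → ∀ ε : ℤ, Odd ε →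
    {y | u y = y ^ ε}.ncard ^ 2 ≤ 2 * Nat.card P

theorem pow_fix {u : MulAut P} {t : P} (h : u t = t) (k : ℕ) : (u ^ k) t = t := by
  induction k with
  | zero => rfl
  | succ k ih => rw [pow_succ', MulAut.mul_apply, ih, h]

theorem zpow_odd {y : P} (h : y * y = 1) {ε : ℤ} (hε : Odd ε) : y ^ ε = y := by
  obtain ⟨k, rfl⟩ := hε
  rw [zpow_add, zpow_mul, zpow_one, show y ^ (2 : ℤ) = 1 by rw [zpow_two, h], one_zpow, one_mul]

theorem card_le_half {G : Type*} [Group G] [Finite G] {K L : Subgroup G} (h : K ≤ L) {x : G}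
    (hx : x ∈ L) (hK : x ∉ K) : 2 * Nat.card K ≤ Nat.card L := by
  obtain ⟨m, hm⟩ := card_dvd_of_le h
  have h1 : m ≠ 1 := fun e => hK (by
    rw [eq_of_le_of_card_ge h (by rw [hm, e, mul_one])]; exact hx)
  have h0 : m ≠ 0 := fun e => (Nat.card_pos (α := L)).ne' (by rw [hm, e, mul_zero])
  rw [hm, mul_comm]
  exact Nat.mul_le_mul_left _ (by omega)

namespace TW

variable {t : P} {h : MulAut P} {E : Subgroup P} (H : TW t h E)
include H

theorem tt (y : P) : t * (t * y) = y := by rw [← mul_assoc, H.t2, one_mul]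

theorem tinv : t⁻¹ = t := inv_eq_of_mul_eq_one_right H.t2

theorem Et {e : P} (he : e ∈ E) : e * t = t * e := (H.cent e).2 (Or.inl he)

theorem sqR {y : P} (hy : y * t = t * y) : y * y = 1 := by
  rcases (H.cent y).1 hy with h1 | h1
  · exact H.sq y h1
  · have := H.sq _ h1
    rwa [mul_assoc, ← mul_assoc y, hy, mul_assoc, H.tt] at this

theorem hEk (k : ℕ) {e : P} (he : e ∈ E) : (h ^ k) e ∈ E := by
  induction k with
  | zero => exact he
  | succ k ih => rw [pow_succ', MulAut.mul_apply]; exact H.hE _ ih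

theorem fpf {e : P} (he : e ∈ E) (h1 : h e = e) : e = 1 := by
  by_contra h2
  obtain ⟨c, hc, c1, c2, -⟩ := exists_ne3 H.four e e
  obtain ⟨k, hk⟩ := H.tr e he c hc h2 c1
  exact c2 (hk ▸ pow_fix h1 k)

theorem base [Finite P] (hc : ∀ y, y * t = t * y) : TC t h E ⊥ E := by
  have h2 : ∀ y : P, y * y = 1 := fun y => H.sqR (hc y)
  refine ⟨inferInstance, bot_le, le_rfl, H.tE, fun y => (H.cent y).1 (hc y), fun y => ?_,
    fun y => h2 y, by simp, H.hE, fun a ha b hb h1 h3 => ?_, Or.inl rfl, fun u _ => ?_,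
    fun h4 u hu hT ε hε => ?_⟩
  · rw [mem_bot, mul_eq_one_iff_inv_eq, H.tinv]
    exact ⟨fun ⟨p, hp⟩ => by rw [← hp, hc p, mul_inv_cancel_right], fun e => ⟨1, by simp [e]⟩⟩
  · obtain ⟨k, hk⟩ := H.tr a ha b hb h1 h3
    exact ⟨k, by rw [hk]; simp⟩
  · simp only [Tv, mem_bot, mul_inv_eq_one, hc, forall_const]
    refine forall_congr' fun y => or_congr_right ?_
    rw [mul_eq_one_iff_inv_eq, H.tinv, eq_mul_inv_iff_mul_eq, eq_comm]
  · have h5 : {y | u y = y ^ ε} = (u.toMonoidHom.eqLocus (MonoidHom.id P) : Set P) := by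
      ext y
      rw [Set.mem_setOf, zpow_odd (h2 y) hε]
      rfl
    simp only [Tv, not_forall, not_or] at hT
    obtain ⟨y, -, hy, -⟩ := hT
    have h6 := card_le_half (K := u.toMonoidHom.eqLocus (MonoidHom.id P)) le_top (mem_top y) hy
    have h7 : E.index = 2 := index_eq_two_iff'.2 ⟨t, fun b => by
      rcases (H.cent b).1 (hc b) with h | h
      · exact Or.inr ⟨h, fun h' => H.tE (by simpa using mul_mem h' (inv_mem h))⟩
      · exact Or.inl ⟨h, fun h' => H.tE (by simpa using mul_mem h (inv_mem h'))⟩⟩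
    have h8 := E.card_mul_index
    rw [h4, h7] at h8
    rw [card_top, ← h8] at h6
    rw [h5, ← h8]
    change Nat.card (u.toMonoidHom.eqLocus (MonoidHom.id P)) ^ 2 ≤ _
    nlinarith

theorem le_center [Finite P] (hP : IsPGroup 2 P) {y : P} (hy : y * t ≠ t * y) : E ≤ center P := by
  have : Nontrivial P := ⟨⟨_, _, hy⟩⟩
  have : Fact (Nat.Prime 2) := ⟨Nat.prime_two⟩
  have key : ∀ z ∈ center P, ∀ k : ℕ, (h ^ k) z ∈ center P := fun z hz k =>
    mem_center_iff.2 fun g => by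
      rw [← (h ^ k).apply_symm_apply g, ← map_mul, mem_center_iff.1 hz, map_mul]
  have h1 : ∀ z ∈ center P, z ≠ 1 → z ∈ E → E ≤ center P := fun z hz z1 zE e he => by
    by_cases e1 : e = 1
    · exact e1 ▸ one_mem _
    obtain ⟨k, rfl⟩ := H.tr z zE e he z1 e1
    exact key z hz k
  have := hP.center_nontrivial
  obtain ⟨⟨z, hz⟩, z1⟩ := exists_ne (1 : center P)
  have z1' : z ≠ 1 := fun e => z1 (Subtype.ext e)
  rcases (H.cent z).1 (mem_center_iff.1 hz t).symm with h2 | h2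
  · exact h1 z hz z1' h2
  · have ht : t ∉ center P := fun h => hy (mem_center_iff.1 h y)
    have e1 : t * z ≠ 1 := fun e => ht (by
      rw [eq_inv_of_mul_eq_one_left e]; exact inv_mem hz)
    obtain ⟨c, hc, c1, c2, -⟩ := exists_ne3 H.four (t * z) 1
    obtain ⟨k, hk⟩ := H.tr _ h2 c hc e1 c1
    rw [map_mul, pow_fix H.ht] at hk
    have h3 : c⁻¹ * (t * z) ∈ center P := by
      rw [← hk, mul_inv_rev, mul_assoc, inv_mul_cancel_left]
      exact mul_mem (inv_mem (key z hz k)) hz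
    refine h1 _ h3 (fun e => c2 ?_) (mul_mem (inv_mem hc) h2)
    exact inv_mul_eq_one.1 e

end TW

/-- the commutator with `t` -/
def ka (t y : P) : P := y * t * y⁻¹ * t

theorem ka_map {t : P} {u : MulAut P} (hu : u t = t) (y : P) : ka t (u y) = u (ka t y) := by
  simp [ka, hu]

theorem ka_mul {t x y : P} (ht : t * t = 1) (hy : ka t y ∈ center P) :
    ka t (x * y) = ka t x * ka t y := by
  have h1 : y * t * y⁻¹ = ka t y * t := by rw [ka, mul_assoc _ t t, ht, mul_one]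
  calc ka t (x * y) = x * (y * t * y⁻¹) * x⁻¹ * t := by simp only [ka]; group
    _ = (x * ka t y) * (t * x⁻¹ * t) := by rw [h1]; group
    _ = ka t y * ka t x := by rw [mem_center_iff.1 hy x]; simp only [ka]; group
    _ = _ := (mem_center_iff.1 hy _).symm

theorem ka_eq_one {t y : P} (ht : t * t = 1) : ka t y = 1 ↔ y * t = t * y := by
  rw [ka, mul_eq_one_iff_eq_inv, inv_eq_of_mul_eq_one_right ht, mul_inv_eq_iff_eq_mul]

theorem ka_inv {t y : P} (ht : t * t = 1) (hy : ka t y ∈ center P) : ka t y⁻¹ = (ka t y)⁻¹ := by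
  have := ka_mul (x := y⁻¹) ht hy
  rw [inv_mul_cancel, (ka_eq_one ht).2 (by simp)] at this
  exact eq_inv_of_mul_eq_one_left this.symm

/-- the data of the induction step -/
structure St (t : P) (h : MulAut P) (E : Subgroup P) {Q : Type u} [Group Q] (π : P →* Q)
    (h' : MulAut Q) : Prop extends TW t h E where
  cen : E ≤ center P
  tZ : t ∉ center P
  sur : ∀ e ∈ E, ∃ y, ka t y = e
  hπ : Function.Surjective π
  ker : ∀ y, π y = 1 ↔ y ∈ E
  ind : ∀ y, h' (π y) = π (h y)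

theorem TW.sur [Finite P] {t : P} {h : MulAut P} {E : Subgroup P} (H : TW t h E)
    (hP : IsPGroup 2 P) {y : P} (hy : y * t ≠ t * y) {e : P} (he : e ∈ E) : ∃ y, ka t y = e := by
  have : Fact (Nat.Prime 2) := ⟨Nat.prime_two⟩
  have hZ := H.le_center hP hy
  obtain ⟨x, ⟨-, hx⟩, hx1⟩ := SetLike.exists_of_lt (PLocal.Amb.lt_inf_normalizer
    (R := centralizer {t}) (T := ⊤) (hP.to_subgroup ⊤)
    (lt_top_iff_ne_top.2 fun e => hy (mem_centralizer_singleton_iff.1 (e ▸ mem_top y))))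
  rw [mem_centralizer_singleton_iff] at hx1
  have h1 := mem_centralizer_singleton_iff.1
    (PLocal.Amb.conj_mem_of_mem_normalizer hx (mem_centralizer_singleton_iff.2 rfl))
  have h2 : ka t x ∈ E := by
    rcases (H.cent _).1 h1 with h2 | h2
    · have := mem_center_iff.1 (hZ h2) x⁻¹
      rw [show x⁻¹ * (x * t * x⁻¹) = t * x⁻¹ by group, mul_left_inj] at this
      exact absurd (this ▸ h2) H.tE
    · rwa [← h1] at h2
  by_cases e1 : e = 1
  · exact ⟨1, by rw [e1, ka_eq_one H.t2]; simp⟩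
  obtain ⟨k, hk⟩ := H.tr _ h2 e he (mt (ka_eq_one H.t2).1 hx1) e1
  exact ⟨(h ^ k) x, by rw [ka_map (pow_fix H.ht k), hk]⟩

namespace St

variable {t : P} {h : MulAut P} {E : Subgroup P} {Q : Type u} [Group Q] {π : P →* Q}
  {h' : MulAut Q} (S : St t h E π h')
include S

theorem t2' : π t * π t = 1 := by rw [← map_mul, S.t2, map_one]

theorem comm_iff (y : P) : π y * π t = π t * π y ↔ ka t y ∈ E := by
  rw [← ka_eq_one S.t2', ← S.ker]
  simp [ka]

theorem mul {x y : P} (hy : ka t y ∈ E) : ka t (x * y) = ka t x * ka t y := ka_mul S.t2 (S.cen hy)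

theorem eq_of_ka {x y : P} (hy : ka t y ∈ E) (e : ka t x = ka t y) :
    π x = π y ∨ π x = π t * π y := by
  have h1 : ka t (x * y⁻¹) = 1 := by
    have := ka_inv S.t2 (S.cen hy)
    rw [S.mul (this ▸ inv_mem hy), this, e, mul_inv_cancel]
  rcases (S.cent _).1 ((ka_eq_one S.t2).1 h1) with h2 | h2 <;> rw [← S.ker] at h2
  · left; simpa [mul_inv_eq_one] using h2
  · right
    rw [map_mul, mul_eq_one_iff_inv_eq, inv_eq_of_mul_eq_one_right S.t2'] at h2
    rw [h2]; simp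

theorem ka_of_eq {x y : P} (hy : ka t y ∈ E) (e : π x = π y ∨ π x = π t * π y) :
    ka t x = ka t y := by
  have h1 : ka t (x * y⁻¹) = 1 := by
    rw [ka_eq_one S.t2, S.cent, ← S.ker, ← S.ker]
    rcases e with e | e
    · left; simp [e]
    · right; simp [e, ← mul_assoc, S.t2']
  rw [← inv_mul_cancel_right x y, S.mul hy, h1, one_mul]

theorem conj_te {e : P} (he : e ∈ E) : ∃ x, x * t * x⁻¹ = t * e := by
  obtain ⟨x, rfl⟩ := S.sur e he
  exact ⟨x, by rw [← S.toTW.Et he, ka, mul_assoc _ t t, S.t2, mul_one]⟩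

theorem sq_mem {y : P} (hy : ka t y ∈ E) : y * y ∈ E := by
  have h1 : ka t (y * y) = 1 := by rw [S.mul hy, S.sq _ hy]
  refine ((S.cent _).1 ((ka_eq_one S.t2).1 h1)).resolve_right fun h2 => ?_
  obtain ⟨x, hx⟩ := S.conj_te h2
  rw [S.toTW.tt] at hx
  have h3 : x⁻¹ * y * x * (x⁻¹ * y * x) = t := by
    rw [show t = x⁻¹ * (x * t * x⁻¹) * x by group, hx]; group
  have h4 := S.toTW.sqR (y := x⁻¹ * y * x) (by rw [← h3]; group)
  exact S.tE (by rw [← h3, h4]; exact one_mem _)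

theorem sq' {w : Q} (hw : w * π t = π t * w) : w * w = 1 := by
  obtain ⟨y, rfl⟩ := S.hπ w
  rw [← map_mul, S.ker]
  exact S.sq_mem ((S.comm_iff y).1 hw)

theorem h't : h' (π t) = π t := by rw [S.ind, S.ht]

theorem comm' {v w : Q} (hv : v * π t = π t * v) (hw : w * π t = π t * w) : v * w = w * v :=
  comm_of_sq (S.sq' hv) (S.sq' hw) (S.sq' (Commute.mul_left hv hw))

theorem hc' {w : Q} (hw : w * π t = π t * w) : h' w * π t = π t * h' w := by
  rw [← S.h't, ← map_mul, hw, map_mul]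

/-- the next layer -/
def nxt : Subgroup Q where
  carrier := {v | ∃ w, w * π t = π t * w ∧ v = w * h' w}
  one_mem' := ⟨1, by simp, by simp⟩
  mul_mem' := by
    rintro _ _ ⟨v, hv, rfl⟩ ⟨w, hw, rfl⟩
    refine ⟨v * w, Commute.mul_left hv hw, ?_⟩
    rw [map_mul, mul_assoc, mul_assoc, ← mul_assoc (h' v), S.comm' (S.hc' hv) hw, mul_assoc]
  inv_mem' := by
    rintro _ ⟨v, hv, rfl⟩
    exact ⟨v, hv, inv_eq_of_mul_eq_one_right (S.sq' (Commute.mul_left hv (S.hc' hv)))⟩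

theorem nxt_comm {v : Q} (hv : v ∈ S.nxt) : v * π t = π t * v := by
  obtain ⟨w, hw, rfl⟩ := hv
  exact Commute.mul_left hw (S.hc' hw)

theorem ka_h {y : P} (hy : ka t y ∈ E) : ka t (y * h y) = ka t y * h (ka t y) := by
  rw [S.mul (by rw [ka_map S.ht]; exact S.hE _ hy), ka_map S.ht]

theorem fix {y : P} (hy : ka t y ∈ E) (e : ka t (y * h y) = 1) : π (y * h y) = 1 := by
  rw [S.ka_h hy, mul_eq_one_iff_inv_eq, inv_eq_of_mul_eq_one_right (S.sq _ hy)] at e
  rcases (S.cent _).1 ((ka_eq_one S.t2).1 (S.toTW.fpf hy e.symm)) with h2 | h2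
  · rw [S.ker]; exact mul_mem h2 (S.hE _ h2)
  · rw [S.ker, ← S.toTW.tt y, map_mul, S.ht, ← S.toTW.Et h2, mul_assoc, S.toTW.tt]
    exact mul_mem h2 (S.hE _ h2)

theorem t_not : π t ∉ S.nxt := by
  rintro ⟨w, hw, e⟩
  obtain ⟨y, rfl⟩ := S.hπ w
  rw [S.ind, ← map_mul] at e
  have h1 : ka t t = 1 := (ka_eq_one S.t2).2 rfl
  have := S.fix ((S.comm_iff y).1 hw) (by
    rw [S.ka_of_eq (y := t) (h1 ▸ one_mem _) (Or.inl e.symm), h1])
  exact S.tE ((S.ker t).1 (e ▸ this))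

theorem eq_of_mem {x y : P} (hx : π x ∈ S.nxt) (hy : π y ∈ S.nxt) (e : ka t x = ka t y) :
    π x = π y :=
  (S.eq_of_ka ((S.comm_iff y).1 (S.nxt_comm hy)) e).resolve_right fun h1 => S.t_not (by
    simpa [h1] using mul_mem hx (inv_mem hy))

theorem exists_nxt [Finite P] {e : P} (he : e ∈ E) : ∃ y, π y ∈ S.nxt ∧ ka t y = e := by
  let f : E → E := fun a => ⟨a * h a, mul_mem a.2 (S.hE _ a.2)⟩
  have hf : Function.Injective f := fun a b hab => by
    have h1 : (a : P) * h a = b * h b := congrArg Subtype.val hab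
    refine Subtype.ext (mul_inv_eq_one.1 (S.toTW.fpf (mul_mem a.2 (inv_mem b.2)) ?_))
    rw [map_mul, map_inv, ← mul_right_inj (a : P), ← mul_assoc, h1, mul_inv_cancel_right,
      ← mul_assoc, S.sq _ a.2, one_mul, inv_eq_of_mul_eq_one_right (S.sq _ b.2)]
  obtain ⟨a, ha⟩ := Finite.injective_iff_surjective.1 hf ⟨e, he⟩
  obtain ⟨x, hx⟩ := S.sur a a.2
  have hx' : ka t x ∈ E := hx ▸ a.2
  refine ⟨x * h x, ⟨π x, (S.comm_iff x).2 hx', by rw [S.ind, map_mul]⟩, ?_⟩
  rw [S.ka_h hx', hx]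
  exact congrArg Subtype.val ha

theorem card_nxt [Finite P] : Nat.card S.nxt = Nat.card E := by
  choose f hf1 hf2 using fun e : E => S.exists_nxt e.2
  refine (Nat.card_eq_of_bijective (fun e : E => (⟨π (f e), hf1 e⟩ : S.nxt))
    ⟨fun a b hab => ?_, fun ⟨w, hw⟩ => ?_⟩).symm
  · refine Subtype.ext ?_
    rw [← hf2, ← hf2]
    exact S.ka_of_eq (hf2 b ▸ b.2) (Or.inl (congrArg Subtype.val hab))
  · obtain ⟨y, rfl⟩ := S.hπ w
    exact ⟨⟨_, (S.comm_iff y).1 (S.nxt_comm hw)⟩, Subtype.ext (S.eq_of_mem (hf1 _) hw (hf2 _))⟩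

theorem tw [Finite P] : TW (π t) h' S.nxt := by
  have hh : ∀ e ∈ S.nxt, h' e ∈ S.nxt := by
    rintro _ ⟨w, hw, rfl⟩
    exact ⟨h' w, S.hc' hw, map_mul _ _ _⟩
  refine ⟨S.t2', S.t_not, S.h't, fun w => ⟨fun hw => ?_, ?_⟩, fun e he => S.sq' (S.nxt_comm he),
    S.card_nxt ▸ S.four, hh, fun a ha b hb a1 b1 => ?_⟩
  · obtain ⟨y, rfl⟩ := S.hπ w
    obtain ⟨x, hx, e⟩ := S.exists_nxt ((S.comm_iff y).1 hw)
    rcases S.eq_of_ka ((S.comm_iff y).1 hw) e with h1 | h1
    · exact Or.inl (h1 ▸ hx)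
    · exact Or.inr (h1 ▸ hx)
  · rintro (h1 | h1)
    · exact S.nxt_comm h1
    · have := S.nxt_comm h1
      rwa [mul_assoc, mul_right_inj] at this
  · obtain ⟨x, rfl⟩ := S.hπ a
    obtain ⟨y, rfl⟩ := S.hπ b
    have key : ∀ z, π z ∈ S.nxt → π z ≠ 1 → ka t z ≠ 1 := fun z hz z1 e => z1 (by
      rw [S.eq_of_mem hz (y := 1) (by rw [map_one]; exact one_mem _) (by
        rw [e, eq_comm, ka_eq_one S.t2]; simp), map_one])
    obtain ⟨k, hk⟩ := S.tr _ ((S.comm_iff x).1 (S.nxt_comm ha)) _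
      ((S.comm_iff y).1 (S.nxt_comm hb)) (key x ha a1) (key y hb b1)
    refine ⟨k, ?_⟩
    have h1 : ∀ k : ℕ, (h' ^ k) (π x) ∈ S.nxt := fun k => by
      induction k with
      | zero => exact ha
      | succ k ih => rw [pow_succ', MulAut.mul_apply]; exact hh _ ih
    have h2 := h1 k
    rw [ind_pow S.ind] at h2 ⊢
    exact S.eq_of_mem h2 hb (by rw [ka_map (pow_fix S.ht k), hk])

theorem mapE {u : MulAut P} (hu : u t = t) {e : P} (he : e ∈ E) : u e ∈ E := by
  have h1 : u e ∈ center P := mem_center_iff.2 fun g => by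
    rw [← u.apply_symm_apply g, ← map_mul, mem_center_iff.1 (S.cen he), map_mul]
  refine ((S.cent _).1 (mem_center_iff.1 h1 t).symm).resolve_right fun h2 => S.tZ ?_
  simpa using mul_mem (S.cen h2) (inv_mem h1)

theorem tv_iff {u : MulAut P} (hu : u t = t) : Tv t u ↔ ∀ e ∈ E, u e = e := by
  refine ⟨fun H e he => (H e (S.toTW.Et he)).resolve_right fun h1 => S.tE ?_, fun H y hy => ?_⟩
  · simpa [h1] using mul_mem (S.mapE hu he) (inv_mem he)
  · left
    rcases (S.cent y).1 hy with h1 | h1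
    · exact H y h1
    · have := H _ h1
      rwa [map_mul, hu, mul_right_inj] at this

theorem tv_ind {u : MulAut P} (hu : u t = t) {v : MulAut Q} (hv : ∀ y, v (π y) = π (u y)) :
    Tv t u ↔ Tv (π t) v := by
  rw [S.tv_iff hu]
  refine ⟨fun H w hw => ?_, fun H e he => ?_⟩
  · obtain ⟨y, rfl⟩ := S.hπ w
    have h1 := (S.comm_iff y).1 hw
    rw [hv]
    exact S.eq_of_ka h1 (by rw [ka_map hu, H _ h1])
  · obtain ⟨y, rfl⟩ := S.sur e he
    rw [← ka_map hu]
    exact S.ka_of_eq he (hv y ▸ H _ ((S.comm_iff y).2 he))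

theorem card_comap [Finite P] (K : Subgroup Q) :
    Nat.card (K.comap π) = Nat.card K * Nat.card E := by
  have h1 : π.ker = E := Subgroup.ext fun y => S.ker y
  have h2 : E ≤ K.comap π := fun y hy => by rw [mem_comap, (S.ker y).2 hy]; exact one_mem _
  have h3 := relIndex_ker (K := K.comap π) π
  rw [map_comap_eq_self_of_surjective S.hπ, h1] at h3
  rw [← h3, mul_comm, Grp.card_mul_relIndex h2]

theorem free_step [Finite P] (h4 : Nat.card E = 4) {u : MulAut P} (hu : u t = t) (hT : ¬ Tv t u)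
    {v : MulAut Q} (hv : ∀ y, v (π y) = π (u y)) {ε : ℤ} (hε : Odd ε) :
    {y | u y = y ^ ε}.ncard ≤ 2 * {y | v y = y ^ ε}.ncard := by
  classical
  have := Finite.of_surjective _ S.hπ
  rw [S.tv_iff hu] at hT
  push Not at hT
  obtain ⟨e, he, hue⟩ := hT
  let K := u.toMonoidHom.eqLocus (MonoidHom.id P) ⊓ E
  have hK : Nat.card K ≤ 2 := by
    have := card_le_half (K := K) inf_le_right he fun h => hue h.1
    omega
  rw [Set.ncard_eq_toFinset_card, Set.ncard_eq_toFinset_card]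
  refine Finset.card_le_mul_card_image_of_maps_to (f := π) (fun y hy => ?_) 2 fun w _ => ?_
  · rw [Set.Finite.mem_toFinset, Set.mem_setOf] at hy ⊢
    rw [hv, hy, map_zpow]
  · rcases Finset.eq_empty_or_nonempty (Finset.filter (fun y => π y = w)
      (Set.toFinite {y | u y = y ^ ε}).toFinset) with h0 | ⟨y, hy⟩
    · rw [h0]; simp
    refine le_trans ?_ hK
    rw [← Set.ncard_coe_finset]
    refine Set.ncard_le_ncard_of_injOn (t := (K : Set P)) (fun x => x * y⁻¹) (fun x hx => ?_)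
      fun a _ b _ h => mul_right_cancel h
    simp only [Finset.coe_filter, Set.Finite.mem_toFinset, Set.mem_setOf, Finset.mem_filter] at hx hy
    have h1 : x * y⁻¹ ∈ E := by rw [← S.ker, map_mul, map_inv, hx.2, hy.2, mul_inv_cancel]
    refine ⟨?_, h1⟩
    have h2 : x ^ ε = x * y⁻¹ * y ^ ε := by
      conv_lhs => rw [← inv_mul_cancel_right x y]
      rw [Commute.mul_zpow (mem_center_iff.1 (S.cen h1) y).symm, zpow_odd (S.sq _ h1) hε]
    change u (x * y⁻¹) = x * y⁻¹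
    rw [map_mul, map_inv, hx.1, hy.1, h2, mul_inv_cancel_right]

theorem tc [Finite P] {A F : Subgroup Q} (C : TC (π t) h' S.nxt A F) :
    TC t h E (A.comap π) (F.comap π) := by
  have := Finite.of_surjective _ S.hπ
  have hE : ∀ K : Subgroup Q, E ≤ K.comap π := fun K y hy => by
    rw [mem_comap, (S.ker y).2 hy]; exact one_mem _
  have hA := C.nA
  have ind : ∀ u : MulAut P, u t = t → ∃ v : MulAut Q, v (π t) = π t ∧ ∀ y, v (π y) = π (u y) :=
    fun u hu => by
      obtain ⟨v, hv⟩ := exists_ind π S.hπ u fun y hy => (S.ker _).2 (S.mapE hu ((S.ker y).1 hy))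
      exact ⟨v, by rw [hv, hu], hv⟩
  refine ⟨inferInstance, comap_mono C.AF, hE F, C.tF, fun y => by simpa using C.idx (π y),
    fun y => ⟨fun ⟨p, hp⟩ => ?_, fun hy => ?_⟩, fun y => by simpa using C.sq (π y), ?_,
    fun y hy => ?_, fun a ha b hb h1 h2 => ?_, Or.inr (hE A), fun u hu => ?_,
    fun h4 u hu hT ε hε => ?_⟩
  · rw [mem_comap, map_mul, ← C.cls]
    exact ⟨π p, by simp [← hp]⟩
  · rw [mem_comap, map_mul, ← C.cls] at hy
    obtain ⟨p, hp⟩ := hy
    obtain ⟨p, rfl⟩ := S.hπ p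
    have h1 : (p * t * p⁻¹)⁻¹ * y ∈ E := by
      rw [← S.ker, map_mul, ← hp, map_inv, map_mul, map_mul, map_inv, inv_mul_cancel]
    obtain ⟨x, hx⟩ := S.conj_te h1
    refine ⟨p * x, ?_⟩
    calc p * x * t * (p * x)⁻¹ = p * (x * t * x⁻¹) * p⁻¹ := by group
      _ = p * t * (((p * t * p⁻¹)⁻¹ * y) * p⁻¹) := by rw [hx]; group
      _ = y := by rw [← mem_center_iff.1 (S.cen h1)]; group
  · rw [S.card_comap, S.card_comap, C.card, S.card_nxt]
  · rw [mem_comap, ← S.ind]; exact C.hF _ hy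
  · obtain ⟨k, hk⟩ := C.tr _ ha _ hb h1 h2
    exact ⟨k, by rwa [mem_comap, map_mul, map_inv, ← ind_pow S.ind]⟩
  · obtain ⟨v, hv1, hv⟩ := ind u hu
    rw [S.tv_ind hu hv, C.triv v hv1, S.hπ.forall]
    simp [hv]
  · obtain ⟨v, hv1, hv⟩ := ind u hu
    have h1 := S.free_step h4 hu hT hv hε
    have h2 := C.free (S.card_nxt ▸ h4) v hv1 (by rwa [← S.tv_ind hu hv]) ε hε
    have h3 := S.card_comap ⊤
    rw [comap_top, card_top, card_top, h4] at h3
    calc _ ≤ (2 * {y | v y = y ^ ε}.ncard) ^ 2 := Nat.pow_le_pow_left h1 2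
      _ ≤ _ := by rw [h3]; nlinarith

end St

theorem tower (n : ℕ) : ∀ (P : Type u) [Group P] [Finite P], Nat.card P = n → IsPGroup 2 P →
    ∀ (t : P) (h : MulAut P) (E : Subgroup P), TW t h E → ∃ A F, TC t h E A F := by
  induction n using Nat.strong_induction_on with
  | _ n ih =>
  intro P _ _ hn hP t h E H
  by_cases hc : ∀ y, y * t = t * y
  · exact ⟨_, _, H.base hc⟩
  push Not at hc
  obtain ⟨y, hy⟩ := hc
  have hZ := H.le_center hP hy
  have : E.Normal := ⟨fun e he g => by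
    rwa [mem_center_iff.1 (hZ he) g, mul_inv_cancel_right]⟩
  obtain ⟨h', hh⟩ := exists_ind (QuotientGroup.mk' E) (QuotientGroup.mk'_surjective E) h
    fun y hy => (QuotientGroup.eq_one_iff _).2 (H.hE _ ((QuotientGroup.eq_one_iff _).1 hy))
  have S : St t h E (QuotientGroup.mk' E) h' :=
    { H with
      cen := hZ
      tZ := fun h => hy (mem_center_iff.1 h y)
      sur := fun e he => H.sur hP hy he
      hπ := QuotientGroup.mk'_surjective E
      ker := fun y => QuotientGroup.eq_one_iff y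
      ind := hh }
  have h3 := S.card_comap ⊤
  rw [comap_top, card_top, card_top] at h3
  obtain ⟨A, F, C⟩ := ih _ (by
    have := H.four
    have := Nat.card_pos (α := P ⧸ E)
    rw [← hn, h3]; nlinarith) (P ⧸ E) rfl (hP.to_quotient E) _ _ _ S.tw
  exact ⟨_, _, S.tc C⟩

end Cfsg.Agent.KSG.Z2L
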