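import Mathlib
import Cfsg.Agent.KSG.Z2LTower
import Cfsg.Agent.PLocal.AmbSyl
import Cfsg.Agent.Solv.Wielandt
import Cfsg.Agent.Inv.Basic
import Cfsg.Agent.Class.PGL2Action
import Cfsg.Agent.S0731

/-! A group `X` of automorphisms of an elementary abelian 2-group `W` fixing a hyperplane `V`,
2-transitive on `W ∖ V` with odd point stabilizers containing a normal Singer cycle, and with
`O₂(X) = 1`, is `PSL₂(K)` with `K` of odd characteristic. -/

set_option autoImplicit false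
set_option linter.unusedSectionVars false

namespace Cfsg.Agent.KSG.Z2L

open Subgroup

universe u

variable {W : Type u} [Group W]

structure ZH (V : Subgroup W) (a : W) (X : Subgroup (MulAut W)) (h : MulAut W) : Prop where
  sq : ∀ w : W, w * w = 1
  aV : a ∉ V
  idx : ∀ w, w ∈ V ∨ a * w ∈ V
  four : 4 ≤ Nat.card V
  XV : ∀ x ∈ X, ∀ v ∈ V, x v ∈ V
  odd : ∀ x ∈ X, x a = a → Odd (orderOf x)
  hX : h ∈ X
  ha : h a = a
  tr : ∀ v ∈ V, ∀ v' ∈ V, v ≠ 1 → v' ≠ 1 → ∃ k : ℕ, (h ^ k) v = v'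
  nrm : ∀ c ∈ X, c a = a → ∃ k : ℕ, c * h * c⁻¹ = h ^ k
  mv : ∃ x ∈ X, x a ≠ a

theorem eq_one_of_odd_sq {G : Type*} [Group G] {x : G} (hx : Odd (orderOf x)) (h : x * x = 1) :
    x = 1 := by
  obtain ⟨k, hk⟩ := hx
  have := pow_orderOf_eq_one x
  rwa [hk, pow_succ, pow_mul, pow_two, h, one_pow, one_mul] at this

namespace ZH

variable {V : Subgroup W} {a : W} {X : Subgroup (MulAut W)} {h : MulAut W} (H : ZH V a X h)
include H

theorem aa (w : W) : a * (a * w) = w := by rw [← mul_assoc, H.sq, one_mul]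

theorem comm (v w : W) : v * w = w * v := comm_of_sq (H.sq _) (H.sq _) (H.sq _)

theorem ext {x y : MulAut W} (h1 : x a = y a) (h2 : ∀ v ∈ V, x v = y v) : x = y := by
  ext w
  rcases H.idx w with h3 | h3
  · exact h2 w h3
  · rw [← H.aa w, map_mul x, map_mul y, h1, h2 _ h3]

theorem out {x : MulAut W} (hx : x ∈ X) {w : W} (hw : w ∉ V) : x w ∉ V := fun e =>
  hw (by simpa using H.XV _ (inv_mem hx) _ e)

theorem aout {v : W} (hv : v ∈ V) : a * v ∉ V := fun e =>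
  H.aV (by simpa using mul_mem e (inv_mem hv))

theorem stab {b c : W} (hb : b ∉ V) (hc : c ∉ V) (ab : b ≠ a) (ac : c ≠ a) :
    ∃ k : ℕ, (h ^ k) b = c := by
  have key : ∀ w, w ≠ a → a * w ≠ 1 := fun w hw e => hw (by rw [← H.aa w, e, mul_one])
  obtain ⟨k, hk⟩ := H.tr _ ((H.idx b).resolve_left hb) _ ((H.idx c).resolve_left hc)
    (key b ab) (key c ac)
  exact ⟨k, by rwa [map_mul, pow_fix H.ha, mul_right_inj] at hk⟩

theorem trans {b : W} (hb : b ∉ V) : ∃ x ∈ X, x a = b := by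
  by_cases ab : b = a
  · exact ⟨1, one_mem _, ab.symm⟩
  obtain ⟨x, hx, h1⟩ := H.mv
  obtain ⟨k, hk⟩ := H.stab (H.out hx H.aV) hb h1 ab
  exact ⟨h ^ k * x, mul_mem (pow_mem H.hX k) hx, hk⟩

theorem two {b c b' c' : W} (hb : b ∉ V) (hc : c ∉ V) (hb' : b' ∉ V) (hc' : c' ∉ V) (h1 : b ≠ c)
    (h2 : b' ≠ c') : ∃ x ∈ X, x b = b' ∧ x c = c' := by
  obtain ⟨x, hx, rfl⟩ := H.trans hb
  obtain ⟨y, hy, rfl⟩ := H.trans hb'
  obtain ⟨k, hk⟩ := H.stab (H.out (inv_mem hx) hc) (H.out (inv_mem hy) hc')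
    (fun e => h1 (by rw [← e]; simp)) (fun e => h2 (by rw [← e]; simp))
  exact ⟨y * h ^ k * x⁻¹, mul_mem (mul_mem hy (pow_mem H.hX k)) (inv_mem hx),
    by simp [pow_fix H.ha], by rw [MulAut.mul_apply, MulAut.mul_apply, hk]; simp⟩

theorem odd' {x : MulAut W} (hx : x ∈ X) {w : W} (hw : w ∉ V) (e : x w = w) : Odd (orderOf x) := by
  obtain ⟨y, hy, rfl⟩ := H.trans hw
  have := H.odd (y⁻¹ * x * y) (mul_mem (mul_mem (inv_mem hy) hx) hy) (by simp [e])
  rwa [show y⁻¹ * x * y = MulAut.conj y⁻¹ x by simp, MulEquiv.orderOf_eq] at this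

theorem reg {k : ℕ} {v : W} (hv : v ∈ V) (v1 : v ≠ 1) (e : (h ^ k) v = v) : h ^ k = 1 :=
  H.ext (pow_fix H.ha k) fun w hw => by
    by_cases w1 : w = 1
    · simp [w1]
    obtain ⟨m, rfl⟩ := H.tr v hv w hw v1 w1
    rw [← MulAut.mul_apply, pow_mul_comm, MulAut.mul_apply, e]
    rfl

theorem nrm' {c : MulAut W} (hc : c ∈ X) (ca : c a = a) :
    ∃ k : ℕ, ∀ m : ℕ, c * h ^ m * c⁻¹ = h ^ (k * m) := by
  obtain ⟨k, hk⟩ := H.nrm c hc ca
  exact ⟨k, fun m => by rw [pow_mul, ← hk, conj_pow]⟩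

variable [Finite W]

theorem reg' {k m : ℕ} {v : W} (hv : v ∈ V) (v1 : v ≠ 1) (e : (h ^ k) v = (h ^ m) v) :
    h ^ k = h ^ m := by
  obtain ⟨n, hn⟩ := (Submonoid.mem_powers_iff _ _).1 (mem_powers_iff_mem_zpowers.2
    (mul_mem (inv_mem (npow_mem_zpowers h m)) (npow_mem_zpowers h k)))
  have := H.reg (k := n) hv v1 (by rw [hn, MulAut.mul_apply, e]; simp)
  rw [hn, inv_mul_eq_one] at this
  exact this.symm

/-- an element of the two-point stabilizer fixing `h^m v` commutes with `h^m` -/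
theorem comm_of_fix {x : MulAut W} (hx : x ∈ X) (xa : x a = a) {v : W} (hv : v ∈ V) (v1 : v ≠ 1)
    (xv : x v = v) {m : ℕ} (e : x ((h ^ m) v) = (h ^ m) v) : x * h ^ m = h ^ m * x := by
  obtain ⟨k, hk⟩ := H.nrm' hx xa
  rw [← mul_inv_eq_iff_eq_mul, hk]
  refine H.reg' hv v1 ?_
  rw [← hk, MulAut.mul_apply, MulAut.mul_apply, ← e, MulAut.inv_apply,
    (MulEquiv.symm_apply_eq _).2 xv.symm]

omit [Finite W] in
theorem comm2 {x y : MulAut W} (hx : x ∈ X) (xa : x a = a) (hy : y ∈ X) (ya : y a = a) {v : W}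
    (hv : v ∈ V) (v1 : v ≠ 1) (xv : x v = v) (yv : y v = v) : x * y = y * x := by
  obtain ⟨k, hk⟩ := H.nrm' hx xa
  obtain ⟨l, hl⟩ := H.nrm' hy ya
  have key : ∀ {z : MulAut W} {n : ℕ}, z v = v → (∀ m : ℕ, z * h ^ m * z⁻¹ = h ^ (n * m)) →
      ∀ m : ℕ, z ((h ^ m) v) = (h ^ (n * m)) v := fun {z n} zv hz m => by
    rw [← hz, MulAut.mul_apply, MulAut.mul_apply, MulAut.inv_apply,
      (MulEquiv.symm_apply_eq _).2 zv.symm]
  refine H.ext (by simp [xa, ya]) fun w hw => ?_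
  by_cases w1 : w = 1
  · simp [w1]
  obtain ⟨m, rfl⟩ := H.tr v hv w hw v1 w1
  rw [MulAut.mul_apply, MulAut.mul_apply, key yv hl, key xv hk, key xv hk, key yv hl,
    mul_left_comm]

section

variable {s y : MulAut W} (hs : s ∈ X) (hy : y ∈ X) (s2 : s * s = 1) (s1 : s ≠ 1)
  (inv : s * y * s⁻¹ = y⁻¹) (ya : y a = a) (y1 : y ≠ 1)
include hs hy s2 s1 inv ya y1

omit [Finite W] hy inv ya y1 in
theorem sa : s a ≠ a := fun e => s1 (eq_one_of_odd_sq (H.odd s hs e) s2)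

omit [Finite W] H hs hy s2 s1 ya y1 in
theorem s_fix {w : W} (e : y w = w) : y (s w) = s w := by
  have h1 : y * s = s * y⁻¹ := by
    have h2 : s * y⁻¹ * s⁻¹ = y := by rw [← conj_inv, inv, inv_inv]
    rw [← mul_inv_eq_iff_eq_mul.1 h2]
  rw [← MulAut.mul_apply, h1, MulAut.mul_apply, MulAut.inv_apply,
    (MulEquiv.symm_apply_eq _).2 e.symm]

theorem fpf {k : ℕ} (e : y * h ^ k = h ^ k * y) : h ^ k = 1 := by
  by_contra h1
  have hb := H.out hs H.aV
  have hv := (H.idx _).resolve_left hb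
  have v1 : a * s a ≠ 1 := fun e => H.sa hs s2 s1 (by rw [← H.aa (s a), e, mul_one])
  have yb := s_fix inv ya
  have ssa : s (s a) = a := by rw [← MulAut.mul_apply, s2]; rfl
  have yc : y ((h ^ k) (s a)) = (h ^ k) (s a) := by
    rw [← MulAut.mul_apply, e, MulAut.mul_apply, yb]
  have hc := H.out (pow_mem H.hX k) hb
  have hd : s ((h ^ k) (s a)) ≠ a := fun e => h1 (H.reg hv v1 (by
    rw [map_mul, pow_fix H.ha, s.injective (e.trans ssa.symm)]))
  obtain ⟨m, hm⟩ := H.stab hb (H.out hs hc) (H.sa hs s2 s1) hd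
  have h2 := H.comm_of_fix hy ya hv v1 (by rw [map_mul, ya, yb]) (m := m) (by
    rw [map_mul, pow_fix H.ha, hm, map_mul, ya, s_fix inv yc])
  have h3 : (h ^ k)⁻¹ * s * h ^ m ∈ X :=
    mul_mem (mul_mem (inv_mem (pow_mem H.hX k)) hs) (pow_mem H.hX m)
  have h4 := H.odd' h3 hb (by
    have : ∀ w, s (s w) = w := fun w => by rw [← MulAut.mul_apply, s2]; rfl
    rw [MulAut.mul_apply, MulAut.mul_apply, hm, this]; simp)
  have h5 : (h ^ k)⁻¹ * s * h ^ m * y * ((h ^ k)⁻¹ * s * h ^ m)⁻¹ = y⁻¹ := by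
    calc _ = (h ^ k)⁻¹ * (s * (h ^ m * y * (h ^ m)⁻¹) * s⁻¹) * h ^ k := by group
      _ = ((h ^ k)⁻¹ * (y * h ^ k))⁻¹ := by rw [← h2, mul_inv_cancel_right, inv]; group
      _ = _ := by rw [e]; group
  generalize (h ^ k)⁻¹ * s * h ^ m = g at h4 h5
  have h6 : ∀ n : ℕ, g ^ (2 * n) * y * (g ^ (2 * n))⁻¹ = y := fun n => by
    induction n with
    | zero => simp
    | succ n ih =>
      calc _ = g * (g * (g ^ (2 * n) * y * (g ^ (2 * n))⁻¹) * g⁻¹) * g⁻¹ := by group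
        _ = (g * y * g⁻¹)⁻¹ := by rw [ih, conj_inv, h5]
        _ = y := by rw [h5, inv_inv]
  obtain ⟨n, hn⟩ := h4
  have h7 := h6 n
  rw [show g ^ (2 * n) = g⁻¹ from eq_inv_of_mul_eq_one_left (by
    rw [← pow_succ, ← hn, pow_orderOf_eq_one])] at h7
  refine y1 (eq_one_of_odd_sq (H.odd y hy ya) (mul_eq_one_iff_eq_inv.2 ?_))
  rw [← h5]
  conv_rhs => rw [← h7]
  group

theorem card_fix {r : ℕ} (hr : r.Prime) (yr : orderOf y = r) {x : MulAut W} (hx : x ∈ X)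
    (xa : x a = a) (xb : x (s a) = s a) {m : ℕ} (hm : h ^ m ≠ 1) (xm : x * h ^ m = h ^ m * x) :
    Nat.card ↥(V ⊓ x.toMonoidHom.eqLocus (MonoidHom.id W)) = 2 ^ r := by
  have : Fact (Nat.Prime 2) := ⟨Nat.prime_two⟩
  have hb := H.out hs H.aV
  have hv := (H.idx _).resolve_left hb
  have v1 : a * s a ≠ 1 := fun e => H.sa hs s2 s1 (by rw [← H.aa (s a), e, mul_one])
  have yv : y (a * s a) = a * s a := by rw [map_mul, ya, s_fix inv ya]
  have xv : x (a * s a) = a * s a := by rw [map_mul, xa, xb]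
  have xy := H.comm2 hx xa hy ya hv v1 xv yv
  let U := V ⊓ x.toMonoidHom.eqLocus (MonoidHom.id W)
  let A : Subgroup (MulAut W) := X ⊓ MulAction.stabilizer (MulAut W) a ⊓ centralizer {x}
  have hU : ∀ g : A, ∀ u ∈ U, (g : MulAut W) u ∈ U := fun g u hu => ⟨H.XV _ g.2.1.1 u hu.1, by
    change x _ = (g : MulAut W) u
    rw [← MulAut.mul_apply, ← mem_centralizer_singleton_iff.1 g.2.2, MulAut.mul_apply]
    exact congrArg _ hu.2⟩
  let _ : CommGroup U := { (inferInstance : Group U) with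
    mul_comm := fun u v => Subtype.ext (H.comm u v) }
  let ψ : A → U →* U := fun g => MonoidHom.mk' (fun u => ⟨(g : MulAut W) u, hU g u u.2⟩)
    fun u v => Subtype.ext (map_mul (g : MulAut W) _ _)
  have hyA : y ∈ A := ⟨⟨hy, ya⟩, mem_centralizer_singleton_iff.2 xy.symm⟩
  have hmA : h ^ m ∈ A := ⟨⟨pow_mem H.hX m, pow_fix H.ha m⟩, mem_centralizer_singleton_iff.2 xm.symm⟩
  have zp : ∀ g ∈ zpowers h, ∃ k : ℕ, h ^ k = g := fun g hg =>
    (Submonoid.mem_powers_iff _ _).1 (mem_powers_iff_mem_zpowers.2 hg)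
  have hn : ((zpowers h).subgroupOf A).Normal := ⟨fun u hu g => by
    obtain ⟨k, hk⟩ := zp u hu
    obtain ⟨l, hl⟩ := H.nrm' g.2.1.1 g.2.1.2
    rw [mem_subgroupOf]
    change (g : MulAut W) * u * (g : MulAut W)⁻¹ ∈ _
    rw [← hk, hl]
    exact npow_mem_zpowers h _⟩
  have h1 := Solv.Wielandt.formula_card 2 (A := A) (Q := U)
    (fun q => Subtype.ext (by rw [pow_two]; exact H.sq q)) ψ (fun _ => rfl) (fun _ _ _ => rfl)
    (fun hd => by
      obtain ⟨g, hg⟩ := exists_prime_orderOf_dvd_card' 2 hd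
      have := H.odd g g.2.1.1 g.2.1.2
      rw [orderOf_coe, hg] at this
      exact absurd this (by decide))
    ((zpowers h).subgroupOf A) (zpowers ⟨y, hyA⟩)
    (Group.isSolvable_of_comm fun u v => Subtype.ext (Subtype.ext (by
      obtain ⟨k, hk⟩ := zp u u.2
      obtain ⟨l, hl⟩ := zp v v.2
      change (u : MulAut W) * v = (v : MulAut W) * u
      rw [← hk, ← hl, pow_mul_comm])))
    (fun e he e1 u hu eu => by
      obtain ⟨k, hk⟩ := zp u hu
      have : Fact (orderOf (⟨y, hyA⟩ : A)).Prime := ⟨by rw [← orderOf_coe]; exact yr ▸ hr⟩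
      have h2 := mem_zpowers_of_prime_card (G := zpowers (⟨y, hyA⟩ : A)) (g := ⟨e, he⟩)
        (g' := ⟨_, mem_zpowers _⟩) (Nat.card_zpowers _) fun h => e1 (congrArg Subtype.val h)
      obtain ⟨i, hi⟩ := h2
      have h3 : (e : MulAut W) ^ i = y := congrArg (fun z : zpowers (⟨y, hyA⟩ : A) => ((z : A) : MulAut W)) hi
      have h4 : Commute (e : MulAut W) (h ^ k) := hk ▸ congrArg Subtype.val eu
      exact Subtype.ext (hk ▸ H.fpf hs hy s2 s1 inv ya y1 (h3 ▸ (h4.zpow_left i).eq)))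
  have h2 : ∀ K : Subgroup A, (zpowers h).subgroupOf A ≤ K →
      Nat.card {q : U | ∀ g ∈ K, ψ g q = q} = 1 := fun K hK => by
    rw [Nat.card_eq_one_iff_exists]
    refine ⟨⟨1, fun g _ => map_one _⟩, fun q => Subtype.ext (Subtype.ext ?_)⟩
    by_contra h3
    exact hm (H.reg q.1.2.1 h3 (congrArg Subtype.val
      (q.2 ⟨_, hmA⟩ (hK (npow_mem_zpowers h m)))))
  have h3 : Nat.card {q : U | ∀ g ∈ zpowers (⟨y, hyA⟩ : A), ψ g q = q} = 2 := by
    have h4 : {q : U | ∀ g ∈ zpowers (⟨y, hyA⟩ : A), ψ g q = q} = {1, ⟨_, hv, xv⟩} := by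
      ext q
      refine ⟨fun hq => ?_, ?_⟩
      · by_cases q1 : (q : W) = 1
        · exact Or.inl (Subtype.ext q1)
        obtain ⟨k, hk⟩ := H.tr _ hv q q.2.1 v1 q1
        have h5 := H.fpf hs hy s2 s1 inv ya y1 (H.comm_of_fix hy ya hv v1 yv (m := k) (by
          rw [hk]; exact congrArg Subtype.val (hq _ (mem_zpowers _))))
        exact Or.inr (Subtype.ext (by rw [← hk, h5]; rfl))
      · rintro (rfl | rfl) g hg
        · exact map_one _
        · exact Subtype.ext (smul_eq_self_of_mem_zpowers (a := a * s a) hg yv)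
    rw [h4, Nat.card_coe_set_eq, Set.ncard_pair fun e => v1 (congrArg Subtype.val e).symm]
  rw [h2 _ le_sup_left, h2 _ le_rfl, h3, Nat.card_zpowers, ← orderOf_coe, yr] at h1
  rwa [one_pow, one_mul, mul_one] at h1

theorem card_V {r : ℕ} (hr : r.Prime) (yr : orderOf y = r) : Nat.card V = 2 ^ r := by
  obtain ⟨v, hv, v1, -⟩ := exists_ne3 H.four 1 1
  obtain ⟨w, hw, w1, wv, -⟩ := exists_ne3 H.four v 1
  obtain ⟨k, hk⟩ := H.tr v hv w hw v1 w1
  rw [← H.card_fix hs hy s2 s1 inv ya y1 hr yr (one_mem X) rfl rfl (m := k)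
    (fun e => wv (by rw [← hk, e]; rfl)) (by simp), inf_eq_left.2 fun w _ => rfl]

theorem three {r : ℕ} (hr : r.Prime) (yr : orderOf y = r) {x : MulAut W} (hx : x ∈ X) {b c d : W}
    (hb : b ∉ V) (hc : c ∉ V) (hd : d ∉ V) (bc : b ≠ c) (cd : c ≠ d) (bd : b ≠ d) (xb : x b = b)
    (xc : x c = c) (xd : x d = d) : x = 1 := by
  have hsa := H.out hs H.aV
  obtain ⟨g, hg, gb, gc⟩ := H.two hb hc H.aV hsa bc (H.sa hs s2 s1).symm
  have hx' : g * x * g⁻¹ ∈ X := mul_mem (mul_mem hg hx) (inv_mem hg)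
  have key : ∀ w, x w = w → (g * x * g⁻¹) (g w) = g w := fun w e => by simp [e]
  have hv := (H.idx _).resolve_left hsa
  have v1 : a * s a ≠ 1 := fun e => H.sa hs s2 s1 (by rw [← H.aa (s a), e, mul_one])
  obtain ⟨m, hm⟩ := H.stab hsa (H.out hg hd) (H.sa hs s2 s1)
    fun e => bd (g.injective (gb.trans e.symm))
  have xa := gb ▸ key b xb
  have xs := gc ▸ key c xc
  have h1 := H.card_fix hs hy s2 s1 inv ya y1 hr yr hx' xa xs (m := m)
    (fun e => cd (g.injective (by rw [gc, ← hm, e]; rfl)))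
    (H.comm_of_fix hx' xa hv v1 (by rw [map_mul, xa, xs])
      (by rw [map_mul, pow_fix H.ha, hm, map_mul, xa, key d xd]))
  rw [← H.card_V hs hy s2 s1 inv ya y1 hr yr] at h1
  have h2 := eq_of_le_of_card_ge inf_le_left h1.ge
  exact conj_eq_one_iff.1 (H.ext xa fun v hv => (inf_eq_left.1 h2 hv :))

end

/-- the action on the complement of the hyperplane -/
@[reducible] def act : MulAction X {w : W // w ∉ V} where
  smul x w := ⟨(x : MulAut W) w, H.out x.2 w.2⟩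
  one_smul _ := rfl
  mul_smul _ _ _ := rfl

theorem card_om : Nat.card {w : W // w ∉ V} = Nat.card V :=
  Nat.card_congr ⟨fun w => ⟨a * w, (H.idx w).resolve_left w.2⟩, fun v => ⟨a * v, H.aout v.2⟩,
    fun w => Subtype.ext (H.aa w), fun v => Subtype.ext (H.aa v)⟩

theorem card_pow : ∃ n, Nat.card V = 2 ^ n :=
  have : Fact (Nat.Prime 2) := ⟨Nat.prime_two⟩
  IsPGroup.iff_card.1 fun v => ⟨1, Subtype.ext (by rw [pow_one, pow_two]; exact H.sq v)⟩

theorem pretr : letI := H.act; MulAction.IsPretransitive X {w : W // w ∉ V} := by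
  letI := H.act
  refine ⟨fun b c => ?_⟩
  obtain ⟨x, hx, e⟩ := H.trans b.2
  obtain ⟨y, hy, e'⟩ := H.trans c.2
  refine ⟨⟨y * x⁻¹, mul_mem hy (inv_mem hx)⟩, Subtype.ext ?_⟩
  change (y * x⁻¹) b = c
  rw [← e, ← e']; simp

theorem card_dvd : Nat.card V ∣ Nat.card X := by
  letI := H.act
  have := H.pretr
  rw [← H.card_om, ← MulAction.index_stabilizer_of_transitive X (⟨a, H.aV⟩ : {w : W // w ∉ V})]
  exact index_dvd_card _

theorem faith (hO : pCore 2 X = ⊥) {x : MulAut W} (hx : x ∈ X) (h1 : ∀ v ∈ V, x v = v) : x = 1 := by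
  let K : Subgroup X :=
    { carrier := {x | ∀ v ∈ V, (x : MulAut W) v = v}
      one_mem' := fun _ _ => rfl
      mul_mem' := fun {x y} hx hy v hv => by
        change (x : MulAut W) ((y : MulAut W) v) = v
        rw [hy v hv, hx v hv]
      inv_mem' := fun {x} hx v hv => (MulEquiv.symm_apply_eq _).2 (hx v hv).symm }
  have : K.Normal := ⟨fun x hx g v hv => by
    change (g : MulAut W) ((x : MulAut W) ((g : MulAut W)⁻¹ v)) = v
    rw [hx _ (H.XV _ (inv_mem g.2) v hv)]; simp⟩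
  have h2 : ∀ x ∈ K, x * x = 1 := fun x hx => by
    have h3 := (H.idx _).resolve_left (H.out x.2 H.aV)
    have h4 : (x : MulAut W) * x = 1 := H.ext (by
      rw [MulAut.mul_apply]
      conv_lhs => rw [← H.aa ((x : MulAut W) a), map_mul, hx _ h3, H.comm a, ← mul_assoc, H.sq,
        one_mul]
      rfl) fun v hv => by rw [MulAut.mul_apply, hx v hv, hx v hv]; rfl
    exact Subtype.ext h4
  have h3 := PLocal.Amb.le_pCore' (R := K) (p := 2) fun x => ⟨1, Subtype.ext (by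
    rw [pow_one, pow_two]; exact h2 x x.2)⟩
  rw [hO] at h3
  exact congrArg Subtype.val (mem_bot.1 (h3 (show ⟨x, hx⟩ ∈ K from h1)))

theorem main (hO : pCore 2 X = ⊥) : Nat.card V ≠ 4 ∧ ∃ (K : Type) (_ : Field K) (_ : Fintype K),
    ringChar K ≠ 2 ∧ Nonempty (X ≃* Matrix.ProjectiveSpecialLinearGroup (Fin 2) K) := by
  have : Fact (Nat.Prime 2) := ⟨Nat.prime_two⟩
  letI : MulAction X {w : W // w ∉ V} := H.act
  have : MulAction.IsPretransitive X {w : W // w ∉ V} := H.pretr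
  obtain ⟨n, hn⟩ := H.card_pow
  have h4 := H.four
  obtain ⟨s, hs⟩ := exists_prime_orderOf_dvd_card' (G := X) 2 (Dvd.dvd.trans (by
    rw [hn] at h4 ⊢; exact dvd_pow_self 2 (by rintro rfl; omega)) H.card_dvd)
  have s1 : s ≠ 1 := by rintro rfl; simp at hs
  obtain ⟨y, y1, yo, hy⟩ := Inv.exists_odd_inverted_of_not_mem_pCore hs (by rwa [hO, mem_bot])
  obtain ⟨r, hr, hd⟩ := Nat.exists_prime_and_dvd (mt orderOf_eq_one_iff.1 y1)
  have hro : Odd r := yo.of_dvd_nat hd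
  have := Fact.mk hr
  have yr := orderOf_pow_orderOf_div (orderOf_pos y).ne' hd
  have hy' : s * y ^ (orderOf y / r) * s⁻¹ = (y ^ (orderOf y / r))⁻¹ := by
    rw [← conj_pow, hy, inv_pow]
  generalize y ^ (orderOf y / r) = z at yr hy'
  obtain ⟨c, hc⟩ := (IsPGroup.of_card (G := zpowers z) (p := r) (n := 1) (by
    rw [Nat.card_zpowers, yr, pow_one])).nonempty_fixed_point_of_prime_not_dvd_card
    {w : W // w ∉ V} (by
      rw [H.card_om, hn]
      intro h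
      have := (Nat.prime_dvd_prime_iff_eq hr Nat.prime_two).1 (hr.dvd_of_dvd_pow h)
      exact absurd (this ▸ hro) (by decide))
  have zc : z • c = c := hc ⟨z, mem_zpowers z⟩
  obtain ⟨g, rfl⟩ := MulAction.exists_smul_eq X (⟨a, H.aV⟩ : {w : W // w ∉ V}) c
  have za : (g⁻¹ * z * g) • (⟨a, H.aV⟩ : {w : W // w ∉ V}) = ⟨a, H.aV⟩ := by
    rw [mul_smul, mul_smul, zc, inv_smul_smul]
  have e1 : g⁻¹ * s * g * (g⁻¹ * s * g) = 1 := by
    rw [show g⁻¹ * s * g * (g⁻¹ * s * g) = g⁻¹ * (s * s) * g by group, ← pow_two, ← hs, pow_orderOf_eq_one]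
    simp
  have e2 : g⁻¹ * s * g ≠ 1 := fun e => s1 (by simpa [mul_assoc] using congrArg (g * · * g⁻¹) e)
  have e3 : g⁻¹ * s * g * (g⁻¹ * z * g) * (g⁻¹ * s * g)⁻¹ = (g⁻¹ * z * g)⁻¹ := by
    rw [show g⁻¹ * s * g * (g⁻¹ * z * g) * (g⁻¹ * s * g)⁻¹ = g⁻¹ * (s * z * s⁻¹) * g by group, hy']
    group
  have e4 : orderOf (g⁻¹ * z * g) = r := by
    rw [show g⁻¹ * z * g = MulAut.conj g⁻¹ z by simp, MulEquiv.orderOf_eq, yr]
  generalize g⁻¹ * s * g = s' at e1 e2 e3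
  generalize g⁻¹ * z * g = y' at za e3 e4
  have y1' : y' ≠ 1 := by rintro rfl; exact hr.one_lt.ne (by simpa using e4)
  have f1 : (s' : MulAut W) * s' = 1 := congrArg Subtype.val e1
  have f2 : (s' : MulAut W) ≠ 1 := fun e => e2 (Subtype.ext e)
  have f3 : (s' : MulAut W) * y' * (s' : MulAut W)⁻¹ = (y' : MulAut W)⁻¹ := congrArg Subtype.val e3
  have f4 : (y' : MulAut W) a = a := congrArg Subtype.val za
  have f5 : (y' : MulAut W) ≠ 1 := fun e => y1' (Subtype.ext e)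
  have f6 : orderOf (y' : MulAut W) = r := by rw [orderOf_coe, e4]
  refine ⟨fun e => ?_, ?_⟩
  · rw [H.card_V s'.2 y'.2 f1 f2 f3 f4 f5 hr f6] at e
    have := Nat.pow_right_injective (le_refl 2) (e.trans (show 4 = 2 ^ 2 from rfl))
    exact absurd (this ▸ hro) (by decide)
  have hZ : IsZassenhausGroup X {w : W // w ∉ V} := by
    refine ⟨⟨fun {x y} e => Subtype.ext (H.ext (congrArg Subtype.val (e ⟨a, H.aV⟩)) fun v hv => ?_)⟩,
      MulAction.is_two_pretransitive_iff.2 fun {b c b' c'} h1 h2 => ?_,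
      fun x b c d bc cd bd xb xc xd => Subtype.ext (H.three s'.2 y'.2 f1 f2 f3 f4 f5 hr f6 x.2
        b.2 c.2 d.2 (Subtype.val_injective.ne bc) (Subtype.val_injective.ne cd) (Subtype.val_injective.ne bd)
        (congrArg Subtype.val xb) (congrArg Subtype.val xc) (congrArg Subtype.val xd)),
      ⟨y', y1', ⟨a, H.aV⟩, ⟨_, H.out s'.2 H.aV⟩, fun e => H.sa s'.2 f1 f2
        (congrArg Subtype.val e).symm, za, Subtype.ext (s_fix f3 f4)⟩, fun N hN hT => ?_⟩
    · have h1 : (x : MulAut W) a = (y : MulAut W) a := congrArg Subtype.val (e ⟨a, H.aV⟩)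
      have h2 : (x : MulAut W) (a * v) = (y : MulAut W) (a * v) :=
        congrArg Subtype.val (e ⟨_, H.aout hv⟩)
      rwa [map_mul, map_mul, h1, mul_right_inj] at h2
    · obtain ⟨x, hx, h3, h4⟩ := H.two b.2 c.2 b'.2 c'.2 (Subtype.val_injective.ne h1) (Subtype.val_injective.ne h2)
      exact ⟨⟨x, hx⟩, Subtype.ext h3, Subtype.ext h4⟩
    · refine ⟨⟨a, H.aV⟩, fun e => ?_⟩
      have h1 := MulAction.index_stabilizer_of_transitive N (⟨a, H.aV⟩ : {w : W // w ∉ V})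
      rw [e, index_bot, H.card_om] at h1
      have h2 := PLocal.Amb.le_pCore' (R := N) (IsPGroup.of_card (h1.trans hn))
      rw [hO, le_bot_iff] at h2
      rw [h2, card_bot] at h1
      omega
  have zp : ∀ g ∈ zpowers (⟨h, H.hX⟩ : X), ∃ k : ℕ, h ^ k = g := fun g hg => by
    obtain ⟨k, hk⟩ := (Submonoid.mem_powers_iff _ _).1 (mem_powers_iff_mem_zpowers.2 hg)
    exact ⟨k, congrArg Subtype.val hk⟩
  refine (S0731.result hZ ⟨a, H.aV⟩ (zpowers ⟨h, H.hX⟩) (zpowers_le.2 (Subtype.ext H.ha))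
    ⟨fun u hu g => ?_⟩ inferInstance fun b c hb hc => ?_).resolve_left fun h3 => ?_
  · obtain ⟨k, hk⟩ := zp u hu
    obtain ⟨l, hl⟩ := H.nrm' g.1.2 (congrArg Subtype.val g.2)
    rw [mem_subgroupOf]
    exact ⟨(l * k : ℕ), Subtype.ext (by
      change h ^ ((l * k : ℕ) : ℤ) = (g : MulAut W) * u * (g : MulAut W)⁻¹
      rw [zpow_natCast, ← hk, hl])⟩
  · obtain ⟨k, hk⟩ := H.stab b.2 c.2 (Subtype.val_injective.ne hb) (Subtype.val_injective.ne hc)
    refine ⟨⟨_, npow_mem_zpowers _ k⟩, Subtype.ext hk, fun u hu => ?_⟩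
    obtain ⟨l, hl⟩ := zp _ u.2
    refine Subtype.ext (Subtype.ext (hl ▸ H.reg' ((H.idx _).resolve_left b.2)
      (fun e => hb (Subtype.ext (by rw [← H.aa b, e, mul_one]))) ?_))
    rw [map_mul, map_mul, pow_fix H.ha, pow_fix H.ha, hk, hl]
    exact congrArg (a * Subtype.val ·) hu
  · obtain ⟨v, hv, v1, -⟩ := exists_ne3 H.four 1 1
    obtain ⟨w, hw, w1, wv, -⟩ := exists_ne3 H.four v 1
    have n1 : ∀ v (hv : v ∈ V), v ≠ 1 → (⟨a, H.aV⟩ : {w : W // w ∉ V}) ≠ ⟨_, H.aout hv⟩ :=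
      fun v hv v1 e => v1 (by simpa using e)
    have n2 : (⟨_, H.aout hv⟩ : {w : W // w ∉ V}) ≠ ⟨_, H.aout hw⟩ :=
      fun e => wv (by simpa using e.symm)
    obtain ⟨x, xa, xv, xw⟩ := Class.is_three_pretransitive_iff.1 h3.1 (n1 v hv v1) (n1 w hw w1) n2
      (n1 w hw w1) (n1 v hv v1) n2.symm
    obtain ⟨k, hk⟩ := H.odd x x.2 (congrArg Subtype.val xa)
    have h5 := pow_orderOf_eq_one x
    rw [← orderOf_coe, hk, pow_succ', pow_mul] at h5
    have h6 : ((x ^ 2) ^ k) • (⟨_, H.aout hv⟩ : {w : W // w ∉ V}) = ⟨_, H.aout hv⟩ :=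
      smul_eq_self_of_mem_zpowers (npow_mem_zpowers _ k) (by rw [pow_two, mul_smul, xv, xw])
    exact n2 (by rw [← xv, ← h6, ← mul_smul, h5, one_smul, h6])

end ZH

end Cfsg.Agent.KSG.Z2L
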