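import Mathlib
import Cfsg.Agent.KSG.Z2LZass
import Cfsg.Agent.Inv.CZ4Base

/-! 2-subgroups containing `⟨t⟩ × E` and normalized by an element transitive on `E#`. -/

set_option autoImplicit false
set_option linter.unusedSectionVars false

namespace Cfsg.Agent.KSG.Z2L

open Subgroup Cfsg.Agent.PLocal.Amb

universe u

variable {G : Type u} [Group G] [Finite G]

theorem idx_of_card {E K : Subgroup G} {t : G} (hE : E ≤ K) (ht : t ∈ K) (tE : t ∉ E)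
    (h : Nat.card K ≤ 2 * Nat.card E) {y : G} (hy : y ∈ K) : y ∈ E ∨ t * y ∈ E := by
  have h1 := Grp.card_mul_relIndex hE
  have h2 := card_le_half hE ht tE
  have h3 : E.relIndex K = 2 :=
    Nat.eq_of_mul_eq_mul_left (Nat.card_pos (α := E)) (by rw [h1]; omega)
  have := mul_mem_iff_of_index_two h3 (a := ⟨t, ht⟩) (b := ⟨y, hy⟩)
  simp only [mem_subgroupOf, coe_mul] at this
  tauto

omit [Finite G] in
theorem relIndex_two {E K : Subgroup G} {t : G} (ht : t ∈ K) (tE : t ∉ E)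
    (h : ∀ y ∈ K, y ∈ E ∨ t * y ∈ E) : E.relIndex K = 2 :=
  relIindex_eq_two_iff'.2 ⟨t, ht, fun b hb => by
    rcases h b hb with h | h
    · exact Or.inr ⟨h, fun h' => tE (by simpa using mul_mem h' (inv_mem h))⟩
    · exact Or.inl ⟨h, fun h' => tE (by simpa using mul_mem h (inv_mem h'))⟩⟩

theorem card_of_idx {E K : Subgroup G} {t : G} (hE : E ≤ K) (ht : t ∈ K) (tE : t ∉ E)
    (h : ∀ y ∈ K, y ∈ E ∨ t * y ∈ E) : Nat.card K = 2 * Nat.card E := by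
  rw [← Grp.card_mul_relIndex hE, relIndex_two ht tE h, mul_comm]

omit [Finite G] in
theorem mul_mem_out {E K : Subgroup G} {t : G} (ht : t ∈ K) (tE : t ∉ E)
    (h : ∀ y ∈ K, y ∈ E ∨ t * y ∈ E) {x y : G} (hx : x ∈ K) (hy : y ∈ K) (xE : x ∉ E)
    (yE : y ∉ E) : x * y ∈ E := by
  have := mul_mem_iff_of_index_two (relIndex_two ht tE h) (a := ⟨x, hx⟩) (b := ⟨y, hy⟩)
  simp only [mem_subgroupOf, coe_mul] at this
  tauto

theorem ncard_cls (K : Subgroup G) (x : G) :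
    {a | ∃ g ∈ K, g * x * g⁻¹ = a}.ncard * Nat.card (K ⊓ centralizer {x} : Subgroup G) =
      Nat.card K := by
  let : MulAction K G := MulAction.compHom G (MulAut.conj.comp K.subtype)
  have hs : ∀ (h : K) (x : G), h • x = h * x * (h : G)⁻¹ := fun _ _ => rfl
  have h1 : MulAction.stabilizer K x = (centralizer {x}).subgroupOf K := by
    ext h
    rw [MulAction.mem_stabilizer_iff, hs, mem_subgroupOf, mem_centralizer_singleton_iff,
      mul_inv_eq_iff_eq_mul]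
  have h2 : MulAction.orbit K x = {a | ∃ g ∈ K, g * x * g⁻¹ = a} :=
    Set.ext fun a => ⟨fun ⟨g, e⟩ => ⟨g, g.2, e⟩, fun ⟨g, hg, e⟩ => ⟨⟨g, hg⟩, e⟩⟩
  rw [← (MulAction.stabilizer K x).card_mul_index, MulAction.index_stabilizer, h1, h2,
    Grp.card_subgroupOf, inf_comm, mul_comm]

omit [Finite G] in
theorem ncard_coset (A : Subgroup G) (s : G) : {y | s⁻¹ * y ∈ A}.ncard = Nat.card A :=
  Nat.card_congr ⟨fun y => ⟨_, y.2⟩, fun a => ⟨s * a, by simp⟩, fun y => by simp, fun a => by simp⟩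

omit [Finite G] in
theorem comm_mem_of_sq {T M : Subgroup G} (h : ∀ x ∈ T, x * x ∈ M) {a b : G} (ha : a ∈ T)
    (hb : b ∈ T) : a * b * a⁻¹ * b⁻¹ ∈ M := by
  rw [show a * b * a⁻¹ * b⁻¹ = a * a * (a⁻¹ * b * (a⁻¹ * b)) * (b * b)⁻¹ by group]
  exact mul_mem (mul_mem (h a ha) (h _ (mul_mem (inv_mem ha) hb))) (inv_mem (h b hb))

theorem transfer (hG : ⁅(⊤ : Subgroup G), (⊤ : Subgroup G)⁆ = ⊤) {T M : Subgroup G}
    (hT : IsSyl 2 T ⊤) (h : ∀ a ∈ T, ∀ b ∈ T, a * b * a⁻¹ * b⁻¹ ∈ M) {t : G} (t2 : t * t = 1)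
    (ht : t ∈ T) (hJ : ∀ s ∈ T, IsConj t s → t * s ∈ M) : t ∈ M := by
  have := Inv.CZ4.ttq hG le_rfl hT h (x := t) (y := 1) (c := t) (d := 1) trivial trivial t2
    (by simp) trivial ht (one_mem _) (t2 ▸ one_mem _) (by simpa using one_mem M)
    (fun g _ hg => by
      rw [inv_eq_of_mul_eq_one_right t2]; exact hJ _ hg (isConj_iff.2 ⟨g, rfl⟩))
    (fun g _ _ => by simpa using one_mem M)
  simpa using this

omit [Finite G] in
theorem conj_J {t s : G} (h : IsConj t s) (g : G) : IsConj t (g * s * g⁻¹) :=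
  h.trans (isConj_iff.2 ⟨g, rfl⟩)

omit [Finite G] in
theorem sq_J {t s : G} (t2 : t * t = 1) (h : IsConj t s) : s * s = 1 := by
  obtain ⟨g, rfl⟩ := isConj_iff.1 h
  rw [conj_mul, t2]; simp

structure HA (M : Subgroup G) (t h : G) (E : Subgroup G) : Prop where
  t2 : t * t = 1
  tM : t ∈ M
  EM : E ≤ M
  hM : h ∈ M
  Et : ∀ e ∈ E, e * t = t * e
  sq : ∀ e ∈ E, e * e = 1
  four : 4 ≤ Nat.card E
  ht : h * t = t * h
  hE : ∀ e ∈ E, h * e * h⁻¹ ∈ E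
  tr : ∀ a ∈ E, ∀ b ∈ E, a ≠ 1 → b ≠ 1 → ∃ k : ℕ, h ^ k * a * (h ^ k)⁻¹ = b
  EJ : ∀ e ∈ E, ¬ IsConj t e
  loc : ∀ s ∈ M, IsConj t s → ∀ Q : Subgroup G, Q ≤ M → IsPGroup 2 Q → (∀ x ∈ Q, x * s = s * x) →
    Nat.card Q ≤ 2 * Nat.card E ∧ ∀ x ∈ Q, x * x = 1
  nrm : ∀ c ∈ M, c * t = t * c → (∀ e ∈ E, c * e * c⁻¹ ∈ E) →
    ∃ k : ℕ, ∀ e ∈ E, c * h * c⁻¹ * e * (c * h * c⁻¹)⁻¹ = h ^ k * e * (h ^ k)⁻¹

theorem conj_mem_inv {E : Subgroup G} {c : G} (h : ∀ e ∈ E, c * e * c⁻¹ ∈ E) : c ∈ 𝐍[E] :=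
  mem_normalizer_of_cj_le (cj_le_iff_forall.2 h)

omit [Finite G] in
theorem pow_act {E : Subgroup G} {h g : G} (hE : ∀ e ∈ E, h * e * h⁻¹ ∈ E)
    (gE : ∀ e ∈ E, g * e * g⁻¹ = h * e * h⁻¹) (k : ℕ) :
    ∀ e ∈ E, g ^ k * e * (g ^ k)⁻¹ = h ^ k * e * (h ^ k)⁻¹ := by
  induction k with
  | zero => simp
  | succ k ih =>
    intro e he
    rw [pow_succ, pow_succ, mul_inv_rev, mul_inv_rev, ← mul_assoc, ← mul_assoc,
      mul_assoc (g ^ k), mul_assoc (g ^ k), mul_assoc (h ^ k), mul_assoc (h ^ k), gE e he,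
      ih _ (hE e he)]

theorem HA.change {M E : Subgroup G} {t h g : G} (H : HA M t h E) (gM : g ∈ M) (gt : g * t = t * g)
    (gE : ∀ e ∈ E, g * e * g⁻¹ = h * e * h⁻¹) : HA M t g E := by
  have key := pow_act H.hE gE
  refine { H with
    hM := gM
    ht := gt
    hE := fun e he => gE e he ▸ H.hE e he
    tr := fun a ha b hb a1 b1 => ?_
    nrm := fun c hc ct cE => ?_ }
  · obtain ⟨k, hk⟩ := H.tr a ha b hb a1 b1
    exact ⟨k, by rw [key k a ha, hk]⟩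
  · obtain ⟨k, hk⟩ := H.nrm c hc ct cE
    refine ⟨k, fun e he => ?_⟩
    rw [key k e he, ← hk e he]
    have := gE _ (inv_conj_mem_of_mem_normalizer (conj_mem_inv cE) he)
    calc _ = c * (g * (c⁻¹ * e * c) * g⁻¹) * c⁻¹ := by group
      _ = _ := by rw [this]; group

theorem HA.tE {M E : Subgroup G} {t h : G} (H : HA M t h E) : t ∉ E := fun e => H.EJ t e (.refl t)

theorem HA.cent {M E Q : Subgroup G} {t h : G} (H : HA M t h E) (hQ : IsPGroup 2 Q) (QM : Q ≤ M)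
    (tQ : t ∈ Q) (EQ : E ≤ Q) {y : G} (hy : y ∈ Q) (yt : y * t = t * y) : y ∈ E ∨ t * y ∈ E :=
  idx_of_card (K := Q ⊓ centralizer {t})
    (fun e he => ⟨EQ he, mem_centralizer_singleton_iff.2 (H.Et e he)⟩)
    ⟨tQ, mem_centralizer_singleton_iff.2 rfl⟩ H.tE
    (H.loc t H.tM (.refl t) _ (inf_le_left.trans QM) (hQ.to_le inf_le_left)
      fun _ hx => mem_centralizer_singleton_iff.1 hx.2).1
    ⟨hy, mem_centralizer_singleton_iff.2 yt⟩

theorem HA.nonsq {M E Q : Subgroup G} {t h : G} (H : HA M t h E) (hQ : IsPGroup 2 Q) (QM : Q ≤ M)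
    {x : G} (hx : x ∈ Q) : ¬ IsConj t (x * x) := fun hJ => by
  have := (H.loc _ (QM (mul_mem hx hx)) hJ (zpowers x) ((zpowers_le.2 hx).trans QM)
    (hQ.to_le (zpowers_le.2 hx)) (by rintro _ ⟨k, rfl⟩; group)).2 x (mem_zpowers x)
  exact H.EJ _ (this ▸ one_mem _) hJ

structure GP (M : Subgroup G) (t h : G) (E P : Subgroup G) : Prop extends HA M t h E where
  pg : IsPGroup 2 P
  PM : P ≤ M
  tP : t ∈ P
  EP : E ≤ P
  hP : h ∈ 𝐍[P]

structure AC (t h : G) (E P A F : Subgroup G) : Prop where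
  nA : ∀ p ∈ P, ∀ a ∈ A, p * a * p⁻¹ ∈ A
  AF : A ≤ F
  FP : F ≤ P
  EF : E ≤ F
  tF : t ∉ F
  idx : ∀ y ∈ P, y ∈ F ∨ t * y ∈ F
  cls : ∀ y, (∃ p ∈ P, p * t * p⁻¹ = y) ↔ t * y ∈ A
  sq : ∀ y ∈ P, y * y ∈ A
  card : Nat.card F = Nat.card A * Nat.card E
  hF : ∀ y ∈ F, h * y * h⁻¹ ∈ F
  tr : ∀ a ∈ F, ∀ b ∈ F, a ∉ A → b ∉ A → ∃ k : ℕ, h ^ k * a * (h ^ k)⁻¹ * b⁻¹ ∈ A
  cen : A = ⊥ ∨ E ≤ A
  triv : ∀ g ∈ 𝐍[P], g * t = t * g → (∀ e ∈ E, g * e * g⁻¹ ∈ E) → ((∀ e ∈ E, g * e * g⁻¹ = e) ↔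
    ∀ y ∈ P, g * y * g⁻¹ * y⁻¹ ∈ A ∨ t * (g * y * g⁻¹ * y⁻¹) ∈ A)
  free : Nat.card E = 4 → ∀ g ∈ 𝐍[P], g * t = t * g → (∀ e ∈ E, g * e * g⁻¹ ∈ E) →
    (∃ e ∈ E, g * e * g⁻¹ ≠ e) → ∀ ε : ℤ, Odd ε →
    {y | y ∈ P ∧ g * y * g⁻¹ = y ^ ε}.ncard ^ 2 ≤ 2 * Nat.card P

variable {M E P A F : Subgroup G} {t h : G}

theorem GP.exists_ac (H : GP M t h E P) : ∃ A F, AC t h E P A F := by
  let ρ : ∀ g ∈ 𝐍[P], MulAut P := fun g hg => P.normalizerMonoidHom ⟨g, hg⟩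
  have hρ : ∀ g hg (y : P), (ρ g hg y : G) = g * y * g⁻¹ := fun _ _ _ => rfl
  have hρk : ∀ (k : ℕ) (y : P), ((ρ h H.hP ^ k) y : G) = h ^ k * y * (h ^ k)⁻¹ := fun k y => by
    change (((P.normalizerMonoidHom ⟨h, H.hP⟩) ^ k) y : G) = _
    rw [← map_pow]; rfl
  have ρt : ∀ g hg, g * t = t * g → ρ g hg ⟨t, H.tP⟩ = ⟨t, H.tP⟩ := fun g hg e =>
    Subtype.ext (by rw [hρ, e, mul_inv_cancel_right])
  have W : TW (⟨t, H.tP⟩ : P) (ρ h H.hP) (E.subgroupOf P) :=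
    ⟨Subtype.ext H.t2, H.tE, ρt h _ H.ht, fun y => ⟨fun e => H.cent H.pg H.PM H.tP H.EP y.2
      (congrArg Subtype.val e), fun e => Subtype.ext (by
        rcases e with e | e
        · exact H.Et _ e
        · have : t * y * t = t * (t * y) := H.Et _ e
          rwa [mul_assoc, mul_right_inj] at this)⟩,
      fun e he => Subtype.ext (H.sq _ he), by rw [Grp.card_subgroupOf_of_le H.EP]; exact H.four,
      fun e he => H.hE _ he, fun a ha b hb a1 b1 => by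
        obtain ⟨k, hk⟩ := H.tr _ ha _ hb (fun e => a1 (Subtype.ext e)) fun e => b1 (Subtype.ext e)
        exact ⟨k, Subtype.ext (by rw [hρk]; exact hk)⟩⟩
  obtain ⟨A, F, C⟩ := tower _ P rfl H.pg _ _ _ W
  have mem : ∀ (K : Subgroup P) (y : P), (y : G) ∈ K.map P.subtype ↔ y ∈ K := fun _ _ =>
    mem_map_subtype
  have tv : ∀ g hg, g * t = t * g → (∀ e ∈ E, g * e * g⁻¹ ∈ E) →
      (Tv ⟨t, H.tP⟩ (ρ g hg) ↔ ∀ e ∈ E, g * e * g⁻¹ = e) := fun g hg gt gE => by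
    refine ⟨fun hT e he => ?_, fun hT y hy => Or.inl ?_⟩
    · rcases hT ⟨e, H.EP he⟩ (Subtype.ext (H.Et e he)) with h1 | h1
      · exact congrArg Subtype.val h1
      · have h2 : g * e * g⁻¹ = t * e := congrArg Subtype.val h1
        exact absurd (by simpa [h2] using mul_mem (gE e he) (inv_mem he)) H.tE
    · rcases (W.cent y).1 hy with h1 | h1
      · exact Subtype.ext (hT _ h1)
      · have : ρ g hg (⟨t, H.tP⟩ * y) = ⟨t, H.tP⟩ * y := Subtype.ext (hT _ h1)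
        rwa [map_mul, ρt g hg gt, mul_right_inj] at this
  refine ⟨A.map P.subtype, F.map P.subtype, ?_, map_mono C.AF, map_subtype_le _,
    fun e he => (mem F ⟨e, H.EP he⟩).2 (C.EF he), fun e => C.tF ((mem F ⟨t, H.tP⟩).1 e),
    fun y hy => (C.idx ⟨y, hy⟩).imp (mem F _).2 (mem F _).2, fun y => ⟨?_, fun hy => ?_⟩,
    fun y hy => (mem A _).2 (C.sq ⟨y, hy⟩), ?_, ?_, ?_,
    C.cen.imp (fun e => by rw [e, Subgroup.map_bot]) fun e x hx => (mem A ⟨x, H.EP hx⟩).2 (e hx),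
    fun g hg gt gE => ?_, fun h4 g hg gt gE h1 ε hε => ?_⟩
  · rintro p hp _ ⟨a, ha, rfl⟩
    exact (mem A _).2 (C.nA.conj_mem a ha ⟨p, hp⟩)
  · rintro ⟨p, hp, rfl⟩
    exact (mem A _).2 ((C.cls _).1 ⟨⟨p, hp⟩, rfl⟩)
  · have h1 : y ∈ P := by simpa using mul_mem (inv_mem H.tP) (map_subtype_le _ hy)
    obtain ⟨p, hp⟩ := (C.cls ⟨y, h1⟩).2 ((mem A _).1 hy)
    exact ⟨p, p.2, congrArg Subtype.val hp⟩
  · rw [card_subtype, card_subtype, C.card, Grp.card_subgroupOf_of_le H.EP]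
  · rintro _ ⟨y, hy, rfl⟩
    exact (mem F _).2 (C.hF y hy)
  · rintro _ ⟨a, ha, rfl⟩ _ ⟨b, hb, rfl⟩ h1 h2
    obtain ⟨k, hk⟩ := C.tr a ha b hb (mt (mem A a).2 h1) (mt (mem A b).2 h2)
    refine ⟨k, ?_⟩
    have := (mem A _).2 hk
    rwa [coe_mul, hρk] at this
  · rw [← tv g hg gt gE, C.triv _ (ρt g hg gt)]
    exact ⟨fun h y hy => (h ⟨y, hy⟩).imp (mem A _).2 (mem A _).2,
      fun h y => (h y y.2).imp (mem A _).1 (mem A _).1⟩
  · have := C.free (by rw [Grp.card_subgroupOf_of_le H.EP, h4]) _ (ρt g hg gt) (by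
      rw [tv g hg gt gE]; push Not; exact h1) ε hε
    rw [← Set.ncard_image_of_injective _ P.subtype_injective] at this
    convert this
    ext y
    exact ⟨fun ⟨hy, e⟩ => ⟨⟨y, hy⟩, Subtype.ext e, rfl⟩,
      fun ⟨x, e, h⟩ => h ▸ ⟨x.2, congrArg Subtype.val e⟩⟩

namespace AC

variable (H : GP M t h E P) (C : AC t h E P A F)
include H C

theorem AP : A ≤ P := C.AF.trans C.FP

theorem cardP : Nat.card P = 2 * Nat.card F := card_of_idx C.FP H.tP C.tF C.idx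

theorem out {x y : G} (hx : x ∈ P) (hy : y ∈ P) (xF : x ∉ F) (yF : y ∉ F) : x * y ∈ F :=
  mul_mem_out H.tP C.tF C.idx hx hy xF yF

theorem JA {a : G} (ha : a ∈ A) : IsConj t (t * a) := by
  obtain ⟨p, -, hp⟩ := (C.cls (t * a)).2 (by rwa [← mul_assoc, H.t2, one_mul])
  exact isConj_iff.2 ⟨p, hp⟩

theorem nP {g : G} (hg : g ∈ 𝐍[P]) (gt : g * t = t * g) {a : G} (ha : a ∈ A) : g * a * g⁻¹ ∈ A := by
  obtain ⟨p, hp, e⟩ := (C.cls (t * a)).2 (by rwa [← mul_assoc, H.t2, one_mul])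
  have := (C.cls _).1 ⟨_, conj_mem_of_mem_normalizer hg hp, rfl⟩
  rwa [show g * p * g⁻¹ * t * (g * p * g⁻¹)⁻¹ = g * (p * (g⁻¹ * t * g) * p⁻¹) * g⁻¹ by group,
    mul_assoc g⁻¹, ← gt, inv_mul_cancel_left, e, ← mul_assoc g, gt, ← mul_assoc, ← mul_assoc,
    ← mul_assoc, H.t2, one_mul] at this

theorem clsJ {s : G} (hs : s ∈ P) (hJ : IsConj t s) {a : G} (ha : a ∈ A) : IsConj t (s * a) := by
  have h1 : {y | ∃ g ∈ P, g * s * g⁻¹ = y} ⊆ {y | s⁻¹ * y ∈ A} := by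
    rintro _ ⟨g, hg, rfl⟩
    have := comm_mem_of_sq C.sq (inv_mem hs) hg
    rw [Set.mem_setOf_eq]
    convert this using 1
    group
  have h2 := ncard_cls P s
  have h3 := (H.loc s (H.PM hs) hJ (P ⊓ centralizer {s}) (inf_le_left.trans H.PM)
    (H.pg.to_le inf_le_left) fun x hx => mem_centralizer_singleton_iff.1 hx.2).1
  have h4 := Set.eq_of_subset_of_ncard_le h1 (by
    rw [ncard_coset]
    rw [C.cardP H, C.card] at h2
    have := Nat.mul_le_mul_left {y | ∃ g ∈ P, g * s * g⁻¹ = y}.ncard h3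
    have h5 := Nat.card_pos (α := E)
    nlinarith)
  obtain ⟨g, -, e⟩ : s * a ∈ {y | ∃ g ∈ P, g * s * g⁻¹ = y} := by rw [h4]; simpa using ha
  exact e ▸ conj_J hJ g

theorem clsJ' {s : G} (hs : s ∈ P) (hJ : IsConj t s) {y : G} (ha : s * y⁻¹ ∈ A) : IsConj t y := by
  have := C.clsJ H hs hJ (C.nA _ (inv_mem hs) _ (inv_mem ha))
  rwa [show s * (s⁻¹ * (s * y⁻¹)⁻¹ * s⁻¹⁻¹) = y by group] at this

theorem invA {s : G} (hs : s ∈ P) (hJ : IsConj t s) {a : G} (ha : a ∈ A) : s * a * s⁻¹ = a⁻¹ := by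
  rw [inv_eq_of_mul_eq_one_right (sq_J H.t2 hJ), eq_inv_iff_mul_eq_one, mul_assoc]
  exact sq_J H.t2 (C.clsJ H hs hJ ha)

theorem hk (k : ℕ) {y : G} (hy : y ∈ P) : h ^ k * y * (h ^ k)⁻¹ ∈ P :=
  conj_mem_of_mem_normalizer (pow_mem H.hP k) hy

theorem noJF {s : G} (hs : s ∈ F) : ¬ IsConj t s := fun hJ => by
  by_cases sA : s ∈ A
  · have h1 := C.invA H H.tP (.refl t) sA
    rw [inv_eq_of_mul_eq_one_right (sq_J H.t2 hJ), mul_inv_eq_iff_eq_mul] at h1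
    rcases H.cent H.pg H.PM H.tP H.EP (C.FP hs) h1.symm with h2 | h2
    · exact H.EJ s h2 hJ
    · exact C.tF (by simpa using mul_mem (C.EF h2) (inv_mem hs))
  have h1 : ∀ f ∈ F, f ∉ A → IsConj t f := fun f hf fA => by
    obtain ⟨k, hk⟩ := C.tr s hs f hf sA fA
    exact C.clsJ' H (C.hk H k (C.FP hs)) (conj_J hJ _) hk
  obtain ⟨f, hf, fA, sf⟩ : ∃ f ∈ F, f ∉ A ∧ s * f ∉ A := by
    by_contra hc
    push Not at hc
    have := card_of_idx C.AF hs sA fun y hy => or_iff_not_imp_left.2 (hc y hy)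
    rw [C.card, mul_comm] at this
    have h2 := Nat.eq_of_mul_eq_mul_right Nat.card_pos this
    have := H.four
    omega
  have h2 : ∀ x ∈ F, x * x = 1 := fun x hx => by
    by_cases xA : x ∈ A
    · have h3 := C.invA H (C.FP (mul_mem hs hf)) (h1 _ (mul_mem hs hf) sf) xA
      rw [show s * f * x * (s * f)⁻¹ = s * (f * x * f⁻¹) * s⁻¹ by group,
        C.invA H (C.FP hf) (h1 f hf fA) xA, C.invA H (C.FP hs) hJ (inv_mem xA), inv_inv] at h3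
      exact mul_eq_one_iff_eq_inv.2 h3
    · exact sq_J H.t2 (h1 x hx xA)
  have h3 := (H.loc s (H.PM (C.FP hs)) hJ F (C.FP.trans H.PM) (H.pg.to_le C.FP)
    fun x hx => comm_of_sq (h2 x hx) (h2 s hs) (h2 _ (mul_mem hx hs))).1
  have h4 := H.four
  rcases C.cen with h5 | h5
  · refine H.EJ s ?_ hJ
    rwa [eq_of_le_of_card_ge C.EF (by rw [C.card, h5, card_bot, one_mul])]
  · have := card_le_of_le h5
    rw [C.card] at h3
    nlinarith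

theorem JP {s : G} (hs : s ∈ P) (hJ : IsConj t s) : t * s ∈ F :=
  (C.idx s hs).resolve_left fun e => C.noJF H e hJ

theorem dich : (∀ s ∈ P, IsConj t s → t * s ∈ A) ∨ ∀ f ∈ F, IsConj t (t * f) := by
  refine or_iff_not_imp_left.2 fun hc f hf => ?_
  push Not at hc
  obtain ⟨s, hs, hJ, sA⟩ := hc
  by_cases fA : f ∈ A
  · exact C.JA H fA
  obtain ⟨k, hk⟩ := C.tr _ (C.JP H hs hJ) f hf sA fA
  refine C.clsJ' H (C.hk H k hs) (conj_J hJ _) ?_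
  have h1 := C.nA _ (inv_mem H.tP) _ hk
  have h2 : h ^ k * t = t * h ^ k := (Commute.pow_left H.ht k).eq
  rw [← mul_assoc (h ^ k), h2] at h1
  convert h1 using 1
  rw [mul_inv_rev, inv_inv, inv_eq_of_mul_eq_one_right H.t2, ← mul_assoc t, ← mul_assoc t,
    ← mul_assoc t, ← mul_assoc t, H.t2]
  group

theorem stab {Q : Subgroup G} (hQ : IsPGroup 2 Q) (PQ : P ≤ Q) (QM : Q ≤ M) {x : G} (hx : x ∈ Q)
    (e : t * (x * t * x⁻¹) ∈ A) : x ∈ P := by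
  obtain ⟨p, hp, e1⟩ := (C.cls _).2 e
  have h1 : p⁻¹ * x ∈ P := by
    rcases H.cent hQ QM (PQ H.tP) (H.EP.trans PQ) (mul_mem (inv_mem (PQ hp)) hx) (by
      calc p⁻¹ * x * t = p⁻¹ * (x * t * x⁻¹) * x := by group
        _ = _ := by rw [← e1]; group) with h2 | h2
    · exact H.EP h2
    · simpa using mul_mem (inv_mem H.tP) (H.EP h2)
  simpa using mul_mem hp h1

theorem syl_of_cls (hJ : ∀ s ∈ P, IsConj t s → t * s ∈ A) : IsSyl 2 P M :=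
  ⟨H.PM, H.pg, fun _ hQ h1 h2 => (eq_of_inf_normalizer_le hQ h1 fun x hx => C.stab H hQ h1 h2 hx.1
    (hJ _ (conj_mem_of_mem_normalizer hx.2 H.tP) (conj_J (.refl t) x))).ge⟩

theorem not_syl (hG : ⁅(⊤ : Subgroup G), (⊤ : Subgroup G)⁆ = ⊤) : ¬ IsSyl 2 P ⊤ := fun hS =>
  C.tF (transfer hG hS (fun _ ha _ hb => comm_mem_of_sq (fun x hx => C.AF (C.sq x hx)) ha hb) H.t2
    H.tP fun _ hs hJ => C.JP H hs hJ)

end AC

end Cfsg.Agent.KSG.Z2L
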