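import Mathlib
import Cfsg.Agent.KSG.Z2LGood

/-! Maximal good 2-subgroups. -/

set_option autoImplicit false
set_option linter.unusedSectionVars false

namespace Cfsg.Agent.KSG.Z2L

open Subgroup Cfsg.Agent.PLocal.Amb

universe u

variable {G : Type u} [Group G] [Finite G] {M E P A F : Subgroup G} {t h : G}

structure Act (N P A : Subgroup G) {W : Type u} [Group W] (π : P →* W) (Φ : N →* MulAut W) :
    Prop where
  sur : Function.Surjective π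
  ker : ∀ y, π y = 1 ↔ (y : G) ∈ A
  act : ∀ (g : N) (y z : P), (z : G) = g * y * (g : G)⁻¹ → Φ g (π y) = π z

theorem exists_act {N : Subgroup G} (hN : N ≤ 𝐍[P]) (hA : ∀ g ∈ N, ∀ a ∈ A, g * a * g⁻¹ ∈ A)
    (hP : ∀ g ∈ P, ∀ a ∈ A, g * a * g⁻¹ ∈ A) :
    ∃ (W : Type u) (_ : Group W) (_ : Finite W) (π : P →* W) (Φ : N →* MulAut W),
      Act N P A π Φ := by
  have : (A.subgroupOf P).Normal := ⟨fun a ha g => hP g g.2 a ha⟩
  let π := QuotientGroup.mk' (A.subgroupOf P)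
  have hπ : Function.Surjective π := QuotientGroup.mk'_surjective _
  let ρ : N →* MulAut P := P.normalizerMonoidHom.comp (inclusion hN)
  choose e he using fun g : N => exists_ind π hπ (ρ g) fun y hy =>
    (QuotientGroup.eq_one_iff _).2 (hA g g.2 y ((QuotientGroup.eq_one_iff y).1 hy))
  refine ⟨_, inferInstance, inferInstance, π, MonoidHom.mk' e fun a b => ?_, hπ,
    fun y => QuotientGroup.eq_one_iff y, fun g y z hz => ?_⟩
  · ext w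
    obtain ⟨y, rfl⟩ := hπ w
    rw [MulAut.mul_apply, he, he, he, map_mul, MulAut.mul_apply]
  · exact (he g y).trans (congrArg π (Subtype.ext hz.symm))

/-- the second alternative: `tF` consists of conjugates of `t` -/
structure Two (M : Subgroup G) (t h : G) (E P A F : Subgroup G) : Prop where
  H : GP M t h E P
  C : AC t h E P A F
  J : ∀ f ∈ F, IsConj t (t * f)

namespace Two

variable (T : Two M t h E P A F)
include T

theorem tinv {f : G} (hf : f ∈ F) : t * f * t⁻¹ = f⁻¹ := by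
  rw [inv_eq_of_mul_eq_one_right T.H.t2, eq_inv_iff_mul_eq_one, mul_assoc]
  exact sq_J T.H.t2 (T.J f hf)

theorem comm {x y : G} (hx : x ∈ F) (hy : y ∈ F) : x * y = y * x := by
  have := T.tinv (mul_mem hx hy)
  rw [← conj_mul, T.tinv hx, T.tinv hy, ← mul_inv_rev, inv_inj] at this
  exact this.symm

theorem J' {y : G} (hy : y ∈ P) (yF : y ∉ F) : IsConj t y := by
  have := T.J _ ((T.C.idx y hy).resolve_left yF)
  rwa [← mul_assoc, T.H.t2, one_mul] at this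

theorem NF {g : G} (hg : g ∈ 𝐍[P]) {f : G} (hf : f ∈ F) : g * f * g⁻¹ ∈ F := by
  have h1 := T.C.out T.H (conj_mem_of_mem_normalizer hg T.H.tP)
    (conj_mem_of_mem_normalizer hg (mul_mem T.H.tP (T.C.FP hf)))
    (fun e => T.C.noJF T.H e (conj_J (.refl t) g)) fun e => T.C.noJF T.H e (conj_J (T.J f hf) g)
  rwa [conj_mul, ← mul_assoc t, T.H.t2, one_mul] at h1

theorem NA {g : G} (hg : g ∈ 𝐍[P]) {a : G} (ha : a ∈ A) : g * a * g⁻¹ ∈ A := by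
  obtain ⟨p, hp, e⟩ := (T.C.cls (t * a)).2 (by rwa [← mul_assoc, T.H.t2, one_mul])
  have key : ∀ f ∈ F, t * (f * t * f⁻¹) = f⁻¹ * f⁻¹ := fun f hf => by
    rw [← mul_assoc, ← mul_assoc, ← T.tinv hf, inv_eq_of_mul_eq_one_right T.H.t2]
  obtain ⟨f, hf, rfl⟩ : ∃ f ∈ F, a = f * f := by
    rcases T.C.idx p hp with h1 | h1
    · exact ⟨_, inv_mem h1, by rw [← key p h1, e, ← mul_assoc, T.H.t2, one_mul]⟩
    · refine ⟨_, h1, ?_⟩
      have := key _ h1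
      rw [show t * (t * p * t * (t * p)⁻¹) = t * t * (p * t * p⁻¹) * t⁻¹ by group, e, T.H.t2,
        one_mul, T.tinv (T.C.AF ha), ← mul_inv_rev, inv_inj] at this
      exact this
  rw [← conj_mul]
  exact T.C.sq _ (conj_mem_of_mem_normalizer hg (T.C.FP hf))

theorem NE {g : G} (hg : g ∈ 𝐍[P]) (gt : g * t = t * g) {e : G} (he : e ∈ E) :
    g * e * g⁻¹ ∈ E := by
  have h1 := T.NF hg (T.C.EF he)
  refine (T.H.cent T.H.pg T.H.PM T.H.tP T.H.EP (T.C.FP h1) ?_).resolve_right fun h2 =>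
    T.C.tF ((mul_mem_cancel_right h1).1 (T.C.EF h2))
  exact (((Commute.mul_left gt (T.H.Et e he))).mul_left (Commute.inv_left gt)).eq

variable {W : Type u} [Group W] [Finite W] {π : P →* W} {Φ : ↥(M ⊓ 𝐍[P]) →* MulAut W}
  (X : Act (M ⊓ 𝐍[P]) P A π Φ)
include X

theorem act' (g : ↥(M ⊓ 𝐍[P])) (y : P) :
    Φ g (π y) = π ⟨_, conj_mem_of_mem_normalizer g.2.2 y.2⟩ := X.act g y _ rfl

theorem sqW (w : W) : w * w = 1 := by
  obtain ⟨y, rfl⟩ := X.sur w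
  rw [← map_mul, X.ker]
  exact T.C.sq y y.2

theorem eq_iff {x y : P} : π x = π y ↔ (x : G) * (y : G)⁻¹ ∈ A := by
  rw [← mul_inv_eq_one, ← map_inv, ← map_mul, X.ker]; rfl

theorem fix_iff (g : ↥(M ⊓ 𝐍[P])) :
    Φ g (π ⟨t, T.H.tP⟩) = π ⟨t, T.H.tP⟩ ↔ t * (g * t * (g : G)⁻¹) ∈ A := by
  rw [T.act' X, eq_comm, T.eq_iff X, inv_eq_of_mul_eq_one_right
    (sq_J T.H.t2 (conj_J (.refl t) g))]

theorem memV (y : P) : π y ∈ (F.subgroupOf P).map π ↔ (y : G) ∈ F :=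
  ⟨fun ⟨x, hx, e⟩ => by simpa using mul_mem (inv_mem (T.C.AF ((T.eq_iff X).1 e))) hx,
    fun h => ⟨y, h, rfl⟩⟩

theorem cardV : Nat.card ((F.subgroupOf P).map π) = Nat.card E := by
  have h1 := Grp.card_map_mul_card_ker_inf π (F.subgroupOf P)
  rw [show π.ker = A.subgroupOf P from Subgroup.ext X.ker,
    inf_eq_left.2 (show A.subgroupOf P ≤ F.subgroupOf P from comap_mono T.C.AF), Grp.card_subgroupOf_of_le T.C.FP,
    Grp.card_subgroupOf_of_le (T.C.AP T.H), T.C.card, mul_comm] at h1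
  exact Nat.eq_of_mul_eq_mul_left Nat.card_pos h1

theorem of_P {g : ↥(M ⊓ 𝐍[P])} (hg : (g : G) ∈ P) : Φ g = 1 := by
  ext w
  obtain ⟨y, rfl⟩ := X.sur w
  rw [T.act' X, MulAut.one_apply, T.eq_iff X]
  exact comm_mem_of_sq T.C.sq hg y.2

theorem mem_P {g : ↥(M ⊓ 𝐍[P])} (hg : ∃ k : ℕ, (g : G) ^ 2 ^ k = 1)
    (e : Φ g (π ⟨t, T.H.tP⟩) = π ⟨t, T.H.tP⟩) : (g : G) ∈ P :=
  have : Fact (Nat.Prime 2) := ⟨Nat.prime_two⟩
  T.C.stab T.H (isPGroup_sup (isPGroup_zpowers hg) T.H.pg (zpowers_le.2 g.2.2)) le_sup_right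
    (sup_le (zpowers_le.2 g.2.1) T.H.PM) (mem_sup_left (mem_zpowers _)) ((T.fix_iff X g).1 e)

theorem adjust {g : ↥(M ⊓ 𝐍[P])} (e : Φ g (π ⟨t, T.H.tP⟩) = π ⟨t, T.H.tP⟩) :
    ∃ p : ↥(M ⊓ 𝐍[P]), (p : G) ∈ P ∧ Φ (p * g) = Φ g ∧ (p * g : G) * t = t * (p * g) := by
  obtain ⟨p, hp, e1⟩ := (T.C.cls _).2 ((T.fix_iff X g).1 e)
  refine ⟨⟨p⁻¹, inv_mem ⟨T.H.PM hp, le_normalizer hp⟩⟩, inv_mem hp, ?_, ?_⟩
  · rw [map_mul, T.of_P X (inv_mem hp), one_mul]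
  · calc p⁻¹ * g * t = p⁻¹ * (g * t * (g : G)⁻¹) * g := by group
      _ = _ := by rw [← e1]; group

theorem triv {g : ↥(M ⊓ 𝐍[P])} (gt : (g : G) * t = t * g) :
    Φ g = 1 ↔ ∀ e ∈ E, g * e * (g : G)⁻¹ = e := by
  rw [T.C.triv g g.2.2 gt fun e he => T.NE g.2.2 gt he]
  refine ⟨fun h1 y hy => Or.inl ?_, fun h1 => ?_⟩
  · have := T.act' X g ⟨y, hy⟩
    rw [h1, MulAut.one_apply, eq_comm, T.eq_iff X] at this
    exact this
  · have h2 : ∀ y : P, (y : G) ∈ F → Φ g (π y) = π y := fun y hy => by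
      rw [T.act' X, T.eq_iff X]
      refine (h1 y y.2).resolve_right fun h3 => T.C.tF ?_
      exact (mul_mem_cancel_right (mul_mem (T.NF g.2.2 hy) (inv_mem hy))).1 (T.C.AF h3)
    have h3 := X.act g ⟨t, T.H.tP⟩ ⟨t, T.H.tP⟩ (by rw [gt, mul_inv_cancel_right])
    ext w
    obtain ⟨y, rfl⟩ := X.sur w
    rcases T.C.idx y y.2 with h4 | h4
    · exact h2 y h4
    · have := h2 (⟨t, T.H.tP⟩ * y) h4
      rwa [map_mul, map_mul, h3, mul_right_inj] at this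

theorem mv (hS : ¬ IsSyl 2 P M) : ∃ x ∈ Φ.range, x (π ⟨t, T.H.tP⟩) ≠ π ⟨t, T.H.tP⟩ := by
  have : Fact (Nat.Prime 2) := ⟨Nat.prime_two⟩
  by_contra hc
  push Not at hc
  refine hS ⟨T.H.PM, T.H.pg, fun Q hQ h1 h2 => (eq_of_inf_normalizer_le hQ h1 fun x hx => ?_).ge⟩
  exact T.mem_P X (g := ⟨x, h2 hx.1, hx.2⟩) (isPGroup_iff.1 hQ x hx.1) (hc _ ⟨_, rfl⟩)

theorem zh (hS : ∃ x ∈ Φ.range, x (π ⟨t, T.H.tP⟩) ≠ π ⟨t, T.H.tP⟩) :
    ZH ((F.subgroupOf P).map π) (π ⟨t, T.H.tP⟩) Φ.range (Φ ⟨h, T.H.hM, T.H.hP⟩) := by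
  have : Fact (Nat.Prime 2) := ⟨Nat.prime_two⟩
  refine ⟨T.sqW X, fun e => T.C.tF ((T.memV X _).1 e), fun w => ?_, T.cardV X ▸ T.H.four, ?_, ?_,
    ⟨_, rfl⟩, X.act _ _ _ (by simp [T.H.ht]), fun v hv v' hv' v1 v1' => ?_, ?_, hS⟩
  · obtain ⟨y, rfl⟩ := X.sur w
    rw [← map_mul, T.memV X, T.memV X]
    exact T.C.idx y y.2
  · rintro _ ⟨g, rfl⟩ _ ⟨y, hy, rfl⟩
    rw [T.act' X, T.memV X]
    exact T.NF g.2.2 hy
  · rintro _ ⟨g, rfl⟩ e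
    obtain ⟨k, m, hm, h1⟩ := Nat.exists_eq_two_pow_mul_odd (orderOf_pos g).ne'
    refine hm.of_dvd_nat (orderOf_dvd_of_pow_eq_one ?_)
    rw [← map_pow]
    refine T.of_P X (T.mem_P X ⟨k, ?_⟩ (by rw [map_pow]; exact pow_fix e m))
    rw [← coe_pow, ← pow_mul, mul_comm, ← h1, pow_orderOf_eq_one, coe_one]
  · obtain ⟨x, hx, rfl⟩ := hv
    obtain ⟨y, hy, rfl⟩ := hv'
    obtain ⟨k, hk⟩ := T.C.tr x hx y hy (mt (X.ker x).2 v1) (mt (X.ker y).2 v1')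
    exact ⟨k, by rw [← map_pow, T.act' X, T.eq_iff X]; exact hk⟩
  · rintro _ ⟨g, rfl⟩ e
    obtain ⟨p, -, e1, e2⟩ := T.adjust X e
    rw [← e1]
    generalize_proofs hh
    rw [← coe_mul] at e2
    generalize p * g = c at e2
    obtain ⟨k, hk⟩ := T.H.nrm c c.2.1 e2 fun e he => T.NE c.2.2 e2 he
    refine ⟨k, ?_⟩
    rw [← mul_inv_eq_one, ← map_pow, ← map_inv, ← map_inv, ← map_mul, ← map_mul, ← map_mul,
      T.triv X]
    · intro e he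
      have := hk _ (inv_conj_mem_of_mem_normalizer (pow_mem (conj_mem_inv T.H.hE) k) he)
      change (c : G) * h * (c : G)⁻¹ * (h ^ k)⁻¹ * e * ((c : G) * h * (c : G)⁻¹ * (h ^ k)⁻¹)⁻¹ = e
      calc _ = c * h * (c : G)⁻¹ * ((h ^ k)⁻¹ * e * h ^ k) * (c * h * (c : G)⁻¹)⁻¹ := by group
        _ = _ := by rw [this]; group
    · have h1 : Commute h t := T.H.ht
      have h2 : Commute (c : G) t := e2
      exact (((h2.mul_left h1).mul_left h2.inv_left).mul_left (h1.pow_left k).inv_left).eq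

theorem fix_of_syl (hS : IsSyl 2 P M) (g : ↥(M ⊓ 𝐍[P])) : t * (g * t * (g : G)⁻¹) ∈ A := by
  have : Fact (Nat.Prime 2) := ⟨Nat.prime_two⟩
  by_contra hc
  have Z := T.zh X ⟨_, ⟨g, rfl⟩, mt (T.fix_iff X g).1 hc⟩
  obtain ⟨n, hn⟩ := Z.card_pow
  have h4 := Z.four
  obtain ⟨⟨_, x, rfl⟩, hx⟩ := exists_prime_orderOf_dvd_card' (G := Φ.range) 2 (Dvd.dvd.trans (by
    rw [hn] at h4 ⊢; exact dvd_pow_self 2 (by rintro rfl; omega)) Z.card_dvd)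
  replace hx : orderOf (Φ x) = 2 := (orderOf_coe _).trans hx
  obtain ⟨k, m, hm, h1⟩ := Nat.exists_eq_two_pow_mul_odd (orderOf_pos x).ne'
  have h2 := T.of_P X (g := x ^ m) (hS.max _ (isPGroup_sup (isPGroup_zpowers ⟨k, by
    rw [← coe_pow, ← pow_mul, mul_comm, ← h1, pow_orderOf_eq_one, coe_one]⟩) T.H.pg
    (zpowers_le.2 (x ^ m).2.2)) le_sup_right (sup_le (zpowers_le.2 (x ^ m).2.1) T.H.PM)
    (mem_sup_left (mem_zpowers _)))
  rw [map_pow, ← orderOf_dvd_iff_pow_eq_one, hx] at h2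
  exact absurd (hm.of_dvd_nat h2) (by decide)

theorem core (hmax : ∀ g Q, GP M t g E Q → (∀ e ∈ E, g * e * g⁻¹ = h * e * h⁻¹) →
    Nat.card Q ≤ Nat.card P) : pCore 2 Φ.range = ⊥ := by
  have : Fact (Nat.Prime 2) := ⟨Nat.prime_two⟩
  let f := Φ.rangeRestrict
  have hPN : P ≤ M ⊓ 𝐍[P] := le_inf T.H.PM le_normalizer
  obtain ⟨Q, hQ, PQ⟩ := exists_isSyl_ge (R := P.subgroupOf (M ⊓ 𝐍[P]))
    (L := (pCore 2 Φ.range).comap f) (isPGroup_subgroupOf T.H.pg _) fun x hx => by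
      rw [mem_comap, show f x = 1 from Subtype.ext (T.of_P X hx)]; exact one_mem _
  have h1 : Q.map f = pCore 2 Φ.range := by
    have := hQ.map f
    rw [map_comap_eq_self_of_surjective Φ.rangeRestrict_surjective] at this
    exact le_antisymm this.le (this.max _ (isPGroup_pCore' 2 _) this.le le_rfl)
  obtain ⟨n, hn, x, hx, e⟩ := hQ.frattini (g := ⟨h, T.H.hM, T.H.hP⟩)
    ((normalizer_eq_top _).ge trivial)
  obtain ⟨q, hq, e1⟩ : f n ∈ Q.map f := h1 ▸ hn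
  have e2 : Φ (q * x) = Φ ⟨h, T.H.hM, T.H.hP⟩ := by
    rw [e, map_mul, map_mul, show Φ q = Φ n from congrArg Subtype.val e1]
  obtain ⟨p, hp, e3, e4⟩ := T.adjust X (g := q * x) (by
    rw [e2]; exact X.act _ _ _ (by simp [T.H.ht]))
  have h2 : p * (q * x) ∈ 𝐍[Q] := mul_mem (le_normalizer (PQ hp)) (mul_mem (le_normalizer hq) hx)
  rw [← coe_mul] at e4
  rw [e2] at e3
  generalize p * (q * x) = g at e3 e4 h2
  have h3 : P ≤ Q.map (M ⊓ 𝐍[P]).subtype := fun y hy => ⟨⟨y, hPN hy⟩, PQ hy, rfl⟩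
  have h6 : ∀ e ∈ E, g * e * (g : G)⁻¹ = h * e * h⁻¹ := fun e he => by
    have h5 := (T.triv X (g := (⟨h, T.H.hM, T.H.hP⟩ : ↥(M ⊓ 𝐍[P]))⁻¹ * g)
      (Commute.mul_left (Commute.inv_left T.H.ht) e4).eq).1
      (by rw [map_mul, map_inv, e3, inv_mul_cancel]) e he
    conv_rhs => rw [← h5]
    change _ = h * (h⁻¹ * g * e * (h⁻¹ * g)⁻¹) * h⁻¹
    group
  have h4 := hmax g (Q.map (M ⊓ 𝐍[P]).subtype)
    { T.H.toHA.change g.2.1 e4 h6 with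
      pg := hQ.pgrp.map _
      PM := (map_subtype_le _).trans inf_le_left
      tP := h3 T.H.tP
      EP := T.H.EP.trans h3
      hP := le_normalizer_map _ ⟨g, h2, rfl⟩ } h6
  rw [← h1, eq_bot_iff]
  rintro _ ⟨y, hy, rfl⟩
  exact Subtype.ext (T.of_P X ((eq_of_le_of_card_ge h3 h4).ge ⟨y, hy, rfl⟩))

end Two

theorem exists_max (H : GP M t h E P) : ∃ h' P, GP M t h' E P ∧
    (∀ e ∈ E, h' * e * h'⁻¹ = h * e * h⁻¹) ∧ ∀ g Q, GP M t g E Q →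
      (∀ e ∈ E, g * e * g⁻¹ = h' * e * h'⁻¹) → Nat.card Q ≤ Nat.card P := by
  obtain ⟨Q, ⟨g, hQ, hg⟩, h1⟩ := Set.exists_max_image {Q : Subgroup G | ∃ g, GP M t g E Q ∧
    ∀ e ∈ E, g * e * g⁻¹ = h * e * h⁻¹} (fun Q => Nat.card Q) (Set.toFinite _)
    ⟨P, h, H, fun _ _ => rfl⟩
  exact ⟨g, Q, hQ, hg, fun g' Q' h h' => h1 Q' ⟨g', h, fun e he => (h' e he).trans (hg e he)⟩⟩

theorem exists_syl_four (H : GP M t h E P) (h4 : Nat.card E = 4) : ∃ h' P A F, GP M t h' E P ∧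
    AC t h' E P A F ∧ (∀ e ∈ E, h' * e * h'⁻¹ = h * e * h⁻¹) ∧ IsSyl 2 P M ∧
    ((∀ s ∈ P, IsConj t s → t * s ∈ A) ∨ ∀ g ∈ M ⊓ 𝐍[P], t * (g * t * g⁻¹) ∈ A) := by
  obtain ⟨h, P, H, hh, hmax⟩ := exists_max H
  obtain ⟨A, F, C⟩ := H.exists_ac
  refine ⟨h, P, A, F, H, C, hh, ?_⟩
  rcases C.dich H with h1 | h1
  · exact ⟨C.syl_of_cls H h1, Or.inl h1⟩
  have T : Two M t h E P A F := ⟨H, C, h1⟩
  obtain ⟨W, _, _, π, Φ, X⟩ := exists_act (N := M ⊓ 𝐍[P]) inf_le_right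
    (fun g hg a ha => T.NA hg.2 ha) C.nA
  have hS : IsSyl 2 P M := by_contra fun hS =>
    ((T.zh X (T.mv X hS)).main (T.core X hmax)).1 (by rw [T.cardV X, h4])
  exact ⟨hS, Or.inr fun g hg => T.fix_of_syl X hS ⟨g, hg⟩⟩

end Cfsg.Agent.KSG.Z2L
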