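import Mathlib
import Cfsg.Agent.KSG.Z2LMax
import Cfsg.Agent.JTW.PSLFactsAux
import Cfsg.Agent.Inv.RankOne

/-! The elementary abelian case: `⟨t⟩ × E` cannot be proper in a Sylow 2-subgroup. -/

set_option autoImplicit false
set_option linter.unusedSectionVars false

namespace Cfsg.Agent.KSG.Z2L

open Subgroup Cfsg.Agent.PLocal.Amb MatrixGroups

universe u

/-- `D` is dihedral over `⟨c⟩` -/
structure Dh {G : Type*} [Group G] (D : Subgroup G) (c : G) : Prop where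
  mem : c ∈ D
  ne : c ≠ 1
  ex : ∃ e ∈ D, e ∉ zpowers c
  sq : ∀ g ∈ D, g ∉ zpowers c → g * g = 1
  mul : ∀ g ∈ D, ∀ g' ∈ D, g ∉ zpowers c → g' ∉ zpowers c → g * g' ∈ zpowers c

theorem Dh.of_map {G H : Type*} [Group G] [Group H] {D : Subgroup G} {f : G →* H}
    (hf : ∀ x ∈ D, f x = 1 → x = 1) {c : H} (h : Dh (D.map f) c) : ∃ c, Dh D c := by
  obtain ⟨c, hc, rfl⟩ := h.mem
  have key : ∀ x ∈ D, f x ∈ zpowers (f c) ↔ x ∈ zpowers c := fun x hx =>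
    ⟨fun ⟨k, hk⟩ => ⟨k, mul_inv_eq_one.1 (hf _ (mul_mem (zpow_mem hc k) (inv_mem hx)) (by
      rw [map_mul, map_zpow, map_inv, ← hk, mul_inv_cancel]))⟩,
      fun ⟨k, hk⟩ => ⟨k, by rw [← hk, map_zpow]⟩⟩
  obtain ⟨_, ⟨e, he, rfl⟩, h1⟩ := h.ex
  exact ⟨c, hc, fun e => h.ne (by rw [e, map_one]), ⟨e, he, mt (key e he).2 h1⟩,
    fun g hg h2 => hf _ (mul_mem hg hg) (by
      rw [map_mul]; exact h.sq _ ⟨g, hg, rfl⟩ (mt (key g hg).1 h2)),
    fun g hg g' hg' h2 h3 => (key _ (mul_mem hg hg')).1 (by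
      rw [map_mul]
      exact h.mul _ ⟨g, hg, rfl⟩ _ ⟨g', hg', rfl⟩ (mt (key g hg).1 h2) (mt (key g' hg').1 h3))⟩

theorem dh_psl {F : Type*} [Field F] [Finite F] (h2 : (2 : F) ≠ 0) {D : Subgroup PSL(2, F)}
    (hD : IsSyl 2 D ⊤) : ∃ c, Dh D c := by
  have : Fact (Nat.Prime 2) := ⟨Nat.prime_two⟩
  obtain ⟨a, b, -, K, -⟩ := JTW.PA.exists_klein h2
  have pa : IsPGroup 2 (zpowers a) := isPGroup_zpowers ⟨1, by rw [pow_one, pow_two, K.sq_left]⟩
  have pb : IsPGroup 2 (zpowers b) := isPGroup_zpowers ⟨1, by rw [pow_one, pow_two, K.sq_right]⟩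
  obtain ⟨g, -, hg⟩ := hD.exists_cj_le (isPGroup_sup pa pb (zpowers_le.2
    (centralizer_le_normalizer' _ (by
      rw [centralizer_zpowers, mem_centralizer_singleton_iff]; exact K.comm)))) le_top
  have ha := hg (conj_mem_cj g (mem_sup_left (mem_zpowers a)))
  have hb := hg (conj_mem_cj g (mem_sup_right (mem_zpowers b)))
  obtain ⟨z, hz, z2, zc⟩ := Inv.exists_central_involution_of_isPGroup hD.pgrp
    fun e => K.ne_one_left (conj_eq_one_iff.1 (mem_bot.1 (e ▸ ha)))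
  obtain ⟨c, H⟩ := JTW.PA.exists_dih h2 (JTW.PA.ne_one_of z2) (JTW.PA.mul_self_of z2)
  have : IsCyclic ↥(D ⊓ zpowers c) := isCyclic_of_le inf_le_right
  obtain ⟨d, hd⟩ := (Subgroup.isCyclic_iff_exists_zpowers_eq_top _).1 this
  have key : ∀ x ∈ D, x ∈ zpowers d ↔ x ∈ zpowers c := fun x hx => by
    rw [hd]; exact ⟨fun h => h.2, fun h => ⟨hx, h⟩⟩
  refine ⟨d, (hd.le (mem_zpowers d)).1, fun e => JTW.PA.ne_one_of z2 ?_, ?_,
    fun x hx h => H.sq x trivial (zc x hx) (mt (key x hx).2 h), fun x hx y hy h h' =>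
      (key _ (mul_mem hx hy)).2 (H.mul x trivial y trivial (zc x hx) (mt (key x hx).2 h) (zc y hy)
        (mt (key y hy).2 h'))⟩
  · have := (key z hz).2 H.mem
    rwa [e, zpowers_one_eq_bot, mem_bot] at this
  · by_contra hc
    push Not at hc
    have h3 : ∀ x, x * x = 1 → x ≠ 1 → g * x * g⁻¹ ∈ D → g * x * g⁻¹ = z := fun x x2 x1 hx =>
      H.uniq _ ((key _ hx).1 (hc _ hx)) (mt conj_eq_one_iff.1 x1) (by rw [conj_mul, x2]; simp)
    have h4 := (h3 a K.sq_left K.ne_one_left ha).trans (h3 b K.sq_right K.ne_one_right hb).symm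
    exact K.ne (by simpa using h4)

variable {G : Type u} [Group G] [Finite G] {M E P A F : Subgroup G} {t h : G}

namespace Two

variable (T : Two M t h E P A F) {W : Type u} [Group W] [Finite W] {π : P →* W}
  {Φ : ↥(M ⊓ 𝐍[P]) →* MulAut W} (X : Act (M ⊓ 𝐍[P]) P A π Φ)
include T X

theorem J_mem (hS : ¬ IsSyl 2 P M) (hO : pCore 2 Φ.range = ⊥)
    (hc : ∀ a b : Φ.range, a ≠ 1 → b ≠ 1 → a * a = 1 → b * b = 1 → ∃ g, g * a * g⁻¹ = b)
    {s : ↥(M ⊓ 𝐍[P])} (hJ : IsConj t s) : (s : G) ∈ P := by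
  have : Fact (Nat.Prime 2) := ⟨Nat.prime_two⟩
  have Z := T.zh X (T.mv X hS)
  by_contra sP
  let f := Φ.rangeRestrict
  have hPN : P ≤ M ⊓ 𝐍[P] := le_inf T.H.PM le_normalizer
  have s2 : (s : G) * s = 1 := sq_J T.H.t2 hJ
  have s2' : s * s = 1 := Subtype.ext s2
  have s1 : Φ s ≠ 1 := fun e => sP (T.mem_P X ⟨1, by rw [pow_one, pow_two, s2]⟩ (by rw [e]; rfl))
  have p2 := isPGroup_subgroupOf T.H.pg (M ⊓ 𝐍[P])
  have hn : (P.subgroupOf (M ⊓ 𝐍[P])).Normal := normal_subgroupOf' inf_le_right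
  obtain ⟨S, hS, PS⟩ := exists_isSyl_ge p2 le_top
  have h1 := hS.map f
  rw [map_top_of_surjective _ Φ.rangeRestrict_surjective] at h1
  obtain ⟨n, hn⟩ := Z.card_pow
  have h2 : Nat.card E ≤ Nat.card (S.map f) := by
    rw [h1.card_eq_pow, ← T.cardV X, hn, card_top]
    exact Nat.pow_le_pow_right two_pos ((Nat.prime_two.pow_dvd_iff_le_factorization
      Nat.card_pos.ne').1 (hn ▸ Z.card_dvd))
  have h3 : Nat.card E * Nat.card P ≤ Nat.card S := by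
    rw [← Grp.card_map_mul_card_ker_inf f S, ← Grp.card_subgroupOf_of_le hPN]
    exact Nat.mul_le_mul h2 (card_le_of_le fun x hx => ⟨Subtype.ext (T.of_P X hx), PS hx⟩)
  obtain ⟨z, hz, z2, zc⟩ := Inv.exists_central_involution_of_isPGroup h1.pgrp fun e => by
    have := T.H.four
    rw [e, card_bot] at h2
    omega
  obtain ⟨x, hx⟩ := hc z (f s) (JTW.PA.ne_one_of z2) (fun e => s1 (congrArg Subtype.val e))
    (JTW.PA.mul_self_of z2) (by rw [← map_mul, s2', map_one])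
  obtain ⟨x, rfl⟩ := Φ.rangeRestrict_surjective x
  obtain ⟨Q, hQ, h4⟩ := exists_isSyl_ge (L := (centralizer {f s}).comap f)
    (isPGroup_sup (isPGroup_zpowers ⟨1, by rw [pow_one, pow_two, s2']⟩) p2
      ((normalizer_eq_top _).ge.trans' le_top))
    (sup_le (zpowers_le.2 (mem_centralizer_singleton_iff.2 rfl)) fun y hy => by
      rw [mem_comap, show f y = 1 from Subtype.ext (T.of_P X hy)]; exact one_mem _)
  have h5 := hQ.card_le (isPGroup_cj x hS.pgrp) (cj_le_iff_forall.2 fun y hy => by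
    rw [mem_comap, mem_centralizer_singleton_iff, ← hx, map_mul, map_mul, map_inv, conj_mul,
      conj_mul, zc _ ⟨y, hy, rfl⟩])
  rw [card_cj, ← card_subtype _ Q] at h5
  let I : Subgroup G :=
    { carrier := {x | x ∈ F ∧ s * x * (s : G)⁻¹ = x⁻¹}
      one_mem' := ⟨one_mem _, by simp⟩
      mul_mem' := fun {x y} hx hy => ⟨mul_mem hx.1 hy.1, by
        rw [← conj_mul, hx.2, hy.2, ← mul_inv_rev, T.comm hx.1 hy.1]⟩
      inv_mem' := fun {x} hx => ⟨inv_mem hx.1, by rw [← conj_inv, hx.2]⟩ }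
  have h6 : {a | ∃ g ∈ Q.map (M ⊓ 𝐍[P]).subtype, g * s * g⁻¹ = a} ⊆ {y | (s : G)⁻¹ * y ∈ I} := by
    rintro _ ⟨_, ⟨y, hy, rfl⟩, rfl⟩
    have e1 : Φ (s⁻¹ * (y * s * y⁻¹)) = 1 := by
      have : Φ y * Φ s = Φ s * Φ y :=
        congrArg Subtype.val (mem_centralizer_singleton_iff.1 (hQ.le hy))
      rw [map_mul, map_mul, map_mul, this, map_inv, map_inv]; group
    have e2 : s⁻¹ * (y * s * y⁻¹) ∈ Q :=
      have := h4 (mem_sup_left (mem_zpowers s))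
      mul_mem (inv_mem this) (mul_mem (mul_mem hy this) (inv_mem hy))
    have e3 := T.mem_P X (isPGroup_iff.1 (hQ.pgrp.map (M ⊓ 𝐍[P]).subtype) _ ⟨_, e2, rfl⟩)
      (by rw [e1]; rfl)
    have e4 : (s : G) * ((s : G)⁻¹ * (y * s * (y : G)⁻¹)) *
        (s * ((s : G)⁻¹ * (y * s * (y : G)⁻¹))) = 1 := by
      rw [mul_inv_cancel_left]; exact sq_J T.H.t2 (conj_J hJ _)
    change (s : G)⁻¹ * (y * s * (y : G)⁻¹) ∈ P at e3
    change (s : G)⁻¹ * (y * s * (y : G)⁻¹) ∈ F ∧ (s : G) * ((s : G)⁻¹ * (y * s * (y : G)⁻¹)) *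
      (s : G)⁻¹ = ((s : G)⁻¹ * (y * s * (y : G)⁻¹))⁻¹
    generalize (s : G)⁻¹ * (y * s * (y : G)⁻¹) = p at e3 e4
    have e5 : s * p * (s : G)⁻¹ = p⁻¹ := by
      rw [inv_eq_of_mul_eq_one_right s2, eq_inv_iff_mul_eq_one, mul_assoc, e4]
    refine ⟨by_contra fun pF => s1 (eq_one_of_odd_sq (Z.odd' ⟨s, rfl⟩ (w := π ⟨p, e3⟩)
      (mt (T.memV X _).1 pF) (X.act _ _ _ ?_)) (by rw [← map_mul, s2', map_one])), e5⟩
    rw [e5, inv_eq_of_mul_eq_one_right (sq_J T.H.t2 (T.J' e3 pF))]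
  obtain ⟨y, hy, yI⟩ : ∃ y ∈ F, y ∉ I := by
    by_contra hc
    push Not at hc
    refine s1 (Z.faith hO ⟨s, rfl⟩ ?_)
    rintro _ ⟨y, hy, rfl⟩
    rw [X.act s y y⁻¹ (hc y hy).2.symm, map_inv, inv_eq_of_mul_eq_one_right (Z.sq _)]
  have h7 := card_le_half (K := I) (fun _ hx => hx.1) hy yI
  have h8 := Set.ncard_le_ncard h6
  rw [ncard_coset] at h8
  have h9 := ncard_cls (Q.map (M ⊓ 𝐍[P]).subtype) s
  have h10 := (T.H.loc s s.2.1 hJ (Q.map (M ⊓ 𝐍[P]).subtype ⊓ centralizer {(s : G)})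
    (inf_le_left.trans ((map_subtype_le _).trans inf_le_left)) ((hQ.pgrp.map _).to_le inf_le_left)
    fun x hx => mem_centralizer_singleton_iff.1 hx.2).1
  have h11 := Nat.mul_le_mul h8 h10
  rw [T.C.cardP T.H] at h3
  have := Nat.card_pos (α := E)
  have := Nat.card_pos (α := F)
  nlinarith

end Two

theorem GP.false (hG : ⁅(⊤ : Subgroup G), (⊤ : Subgroup G)⁆ = ⊤) (H : GP ⊤ t h E P) : False := by
  have : Fact (Nat.Prime 2) := ⟨Nat.prime_two⟩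
  obtain ⟨h, P, H, -, hmax⟩ := exists_max H
  obtain ⟨A, F, C⟩ := H.exists_ac
  have hS := C.not_syl H hG
  have T : Two ⊤ t h E P A F := ⟨H, C, (C.dich H).resolve_left fun e => hS (C.syl_of_cls H e)⟩
  obtain ⟨W, _, _, π, Φ, X⟩ := exists_act (N := ⊤ ⊓ 𝐍[P]) inf_le_right
    (fun g hg a ha => T.NA hg.2 ha) C.nA
  have hO := T.core X hmax
  obtain ⟨-, K, _, _, hK, ⟨e⟩⟩ := (T.zh X (T.mv X hS)).main hO
  have h2 : (2 : K) ≠ 0 := Ring.two_ne_zero hK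
  have hJ := fun s => T.J_mem X hS hO (s := s) fun a b a1 b1 a2 b2 => by
    obtain ⟨g, hg⟩ := JTW.PA.exists_conj h2 (x := e a) (y := e b) (by simpa using a1)
      (by simpa using b1) (by rw [← map_mul, a2, map_one]) (by rw [← map_mul, b2, map_one])
    exact ⟨e.symm g, e.injective (by simpa using hg)⟩
  let f := Φ.rangeRestrict
  have hPN : P ≤ ⊤ ⊓ 𝐍[P] := le_inf le_top le_normalizer
  obtain ⟨S, hS1, PS⟩ := exists_isSyl_ge (isPGroup_subgroupOf H.pg (⊤ ⊓ 𝐍[P])) le_top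
  have h1 := hS1.map f
  rw [map_top_of_surjective _ Φ.rangeRestrict_surjective] at h1
  have h3 := h1.map e.toMonoidHom
  rw [map_top_of_surjective _ e.surjective] at h3
  obtain ⟨c, hc⟩ := dh_psl h2 h3
  obtain ⟨c, D⟩ := hc.of_map fun x _ hx => e.injective (hx.trans (map_one e).symm)
  obtain ⟨c, hc, rfl⟩ := D.mem
  have h4 := hS1.map (⊤ ⊓ 𝐍[P]).subtype
  rw [← MonoidHom.range_eq_map, range_subtype] at h4
  have PS' : P ≤ S.map (⊤ ⊓ 𝐍[P]).subtype := fun y hy => ⟨⟨y, hPN hy⟩, PS hy, rfl⟩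
  have h5 : IsSyl 2 (S.map (⊤ ⊓ 𝐍[P]).subtype) ⊤ := by
    refine isSyl_of_isSyl_normalizer ⟨le_inf le_top le_normalizer, h4.pgrp, fun R hR h5 h6 =>
      h4.max R hR h5 fun x hx => ⟨trivial, conj_mem_inv fun y hy => ?_⟩⟩
    have key : ∀ y ∈ P, y ∉ F → x * y * x⁻¹ ∈ P := fun y hy yF => by
      obtain ⟨s, -, e⟩ := conj_mem_of_mem_normalizer (h6 hx).2 (PS' hy)
      have e' : (s : G) = x * y * x⁻¹ := e
      exact e' ▸ hJ s (e' ▸ conj_J (T.J' hy yF) x)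
    by_cases yF : y ∈ F
    · have := mul_mem (key t H.tP C.tF) (key _ (mul_mem H.tP hy)
        (mt (mul_mem_cancel_right yF).1 C.tF))
      rwa [conj_mul, ← mul_assoc t, H.t2, one_mul] at this
    · exact key y hy yF
  have kP : ∀ x ∈ S, f x = 1 → (x : G) ∈ P := fun x hx e => T.mem_P X
    (isPGroup_iff.1 h4.pgrp _ ⟨x, hx, rfl⟩) (by rw [show Φ x = 1 from congrArg Subtype.val e]; rfl)
  have kF : ∀ x ∈ S, f (x * x) = 1 → (x : G) * x ∈ F := fun x hx e => by_contra fun h =>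
    H.nonsq h4.pgrp le_top ⟨x, hx, rfl⟩ (T.J' (kP _ (mul_mem hx hx) e) h)
  have cF : zpowers (c : G) ≤ 𝐍[F] := zpowers_le.2 (conj_mem_inv fun y hy => T.NF c.2.2 hy)
  have h6 := transfer hG h5 (M := F ⊔ zpowers (c : G)) (fun a ha b hb => comm_mem_of_sq ?_ ha hb)
    H.t2 (PS' H.tP) ?_
  · obtain ⟨y, hy, _, ⟨i, rfl⟩, e⟩ := (mem_sup_of_le_normalizer_left cF).1 h6
    have e1 : (c : G) ^ i = y⁻¹ * t := by rw [e]; simp
    have e2 : f (c ^ i) = 1 := Subtype.ext (T.of_P X (by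
      rw [coe_zpow, e1]; exact mul_mem (inv_mem (C.FP hy)) H.tP))
    obtain ⟨k, hk⟩ := IsPGroup.iff_orderOf.1 h1.pgrp ⟨_, D.mem⟩
    rw [orderOf_mk] at hk
    have e3 : (2 : ℤ) ∣ i := by
      refine Dvd.dvd.trans ?_ (orderOf_dvd_iff_zpow_eq_one.2 (map_zpow f c i ▸ e2))
      rw [hk]
      exact_mod_cast dvd_pow_self 2 (by rintro rfl; exact D.ne (orderOf_eq_one_iff.1 hk))
    obtain ⟨j, rfl⟩ := e3
    rw [two_mul, zpow_add] at e1 e2
    have := kF _ (zpow_mem hc j) e2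
    rw [coe_zpow, e1] at this
    exact C.tF ((mul_mem_cancel_left (inv_mem hy)).1 this)
  · rintro _ ⟨x, hx, rfl⟩
    by_cases hx' : f x ∈ zpowers (f c)
    · obtain ⟨i, hi⟩ := hx'
      have e1 := kP _ (mul_mem hx (inv_mem (zpow_mem hc i))) (by
        rw [map_mul, map_inv, map_zpow, ← hi, mul_inv_cancel])
      have hN : (c : G) ^ i ∈ 𝐍[P] := zpow_mem (show (c : G) ∈ 𝐍[P] from c.2.2) i
      change (x : G) * ((c : G) ^ i)⁻¹ ∈ P at e1
      have e2 : (x : G) * x = x * ((c : G) ^ i)⁻¹ * ((c : G) ^ i * (x * ((c : G) ^ i)⁻¹) *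
        ((c : G) ^ i)⁻¹) * ((c : G) ^ i * (c : G) ^ i) := by group
      rw [coe_subtype, e2]
      generalize (x : G) * ((c : G) ^ i)⁻¹ = p at e1
      refine mul_mem (mem_sup_left ?_) (mem_sup_right (mul_mem ⟨i, rfl⟩ ⟨i, rfl⟩))
      by_cases pF : p ∈ F
      · exact mul_mem pF (T.NF hN pF)
      · exact C.out H e1 (conj_mem_of_mem_normalizer hN e1) pF fun h => pF (by
          simpa [mul_assoc] using T.NF (inv_mem hN) h)
    · exact mem_sup_left (kF x hx (by rw [map_mul]; exact D.sq _ ⟨x, hx, rfl⟩ hx'))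
  · rintro _ ⟨s, -, rfl⟩ hs
    exact mem_sup_left (C.JP H (hJ s hs) hs)

end Cfsg.Agent.KSG.Z2L
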