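import Mathlib
import Cfsg.Agent.KSG.Z2LEndA

/-! Involutions `t` whose centralizer has Sylow 2-subgroup `⟨t⟩ × D` with one class of
involutions in `D`. -/

set_option autoImplicit false
set_option linter.unusedSectionVars false

namespace Cfsg.Agent.KSG.Z2L

open Subgroup Cfsg.Agent.PLocal.Amb Cfsg.Agent.Class.Dickson

universe u

variable {G : Type u} [Group G] [Finite G]

structure Loc (t : G) (D R : Subgroup G) : Prop where
  t2 : t * t = 1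
  tD : t ∉ D
  mem : ∀ x, x ∈ R ↔ x ∈ D ∨ t * x ∈ D
  syl : IsSyl 2 R (centralizer {t})
  fus : ∀ a ∈ D, ∀ b ∈ D, a ≠ 1 → b ≠ 1 → a * a = 1 → b * b = 1 →
    ∃ g, g * t = t * g ∧ g * a * g⁻¹ = b

omit [Finite G] in
theorem J_comm {t g x : G} (h : g * t = t * g) : g * (t * x) * g⁻¹ = t * (g * x * g⁻¹) := by
  rw [← mul_assoc g, h]; group

omit [Finite G] in
theorem J_iff {t s g : G} : IsConj t (g * s * g⁻¹) ↔ IsConj t s :=
  ⟨fun h => by simpa [mul_assoc] using conj_J h g⁻¹, fun h => conj_J h g⟩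

namespace Loc

variable {t : G} {D R : Subgroup G} (L : Loc t D R)
include L

theorem tt (x : G) : t * (t * x) = x := by rw [← mul_assoc, L.t2, one_mul]

theorem DR : D ≤ R := fun x hx => (L.mem x).2 (Or.inl hx)

theorem tR : t ∈ R := (L.mem t).2 (Or.inr (L.t2 ▸ one_mem _))

theorem t1 : t ≠ 1 := fun e => L.tD (e ▸ one_mem _)

theorem J1 : ¬ IsConj t 1 := fun e => L.t1 (isConj_one_left.1 e)

theorem ct {x : G} (hx : x ∈ R) : x * t = t * x := mem_centralizer_singleton_iff.1 (L.syl.le hx)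

theorem card : Nat.card R = 2 * Nat.card D := card_of_idx L.DR L.tR L.tD fun y hy => (L.mem y).1 hy

theorem sqD {x : G} (hx : x ∈ R) : x * x ∈ D := by
  rcases (L.mem x).1 hx with h | h
  · exact mul_mem h h
  · have := mul_mem h h
    rwa [mul_assoc, ← mul_assoc x, L.ct hx, mul_assoc, L.tt] at this

theorem into {s : G} (hJ : IsConj t s) {Q : Subgroup G} (hQ : IsPGroup 2 Q)
    (h : ∀ x ∈ Q, x * s = s * x) : ∃ k, k * s * k⁻¹ = t ∧ cj(k, Q) ≤ R := by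
  have : Fact (Nat.Prime 2) := ⟨Nat.prime_two⟩
  obtain ⟨g, rfl⟩ := isConj_iff.1 hJ.symm
  obtain ⟨n, hn, h1⟩ := L.syl.exists_cj_le (isPGroup_cj g hQ) (cj_le_iff_forall.2 fun x hx => by
    rw [mem_centralizer_singleton_iff, conj_mul, conj_mul, h x hx])
  refine ⟨n * g, ?_, by rwa [cj_mul]⟩
  rw [mul_inv_rev, ← mul_assoc, mul_assoc n g, mul_assoc n, mem_centralizer_singleton_iff.1 hn,
    mul_inv_cancel_right]

theorem card_le {s : G} (hJ : IsConj t s) {Q : Subgroup G} (hQ : IsPGroup 2 Q)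
    (h : ∀ x ∈ Q, x * s = s * x) : Nat.card Q ≤ Nat.card R := by
  obtain ⟨k, -, hk⟩ := L.into hJ hQ h
  exact card_cj k Q ▸ card_le_of_le hk

theorem nonsq (x : G) : ¬ IsConj t (x * x) := fun hJ => by
  obtain ⟨k, h1, h2⟩ := L.into hJ (Q := zpowers x) (isPGroup_zpowers ⟨2, by
    rw [← sq_J L.t2 hJ]; simp [pow_succ, mul_assoc]⟩) (by rintro _ ⟨k, rfl⟩; group)
  have := L.sqD (h2 (conj_mem_cj k (mem_zpowers x)))
  rw [conj_mul, h1] at this
  exact L.tD this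

theorem cent {T : Subgroup G} (hT : IsPGroup 2 T) (RT : R ≤ T) {x : G} (hx : x ∈ T)
    (xt : x * t = t * x) : x ∈ R :=
  L.syl.max (T ⊓ centralizer {t}) (hT.to_le inf_le_left) (le_inf RT L.syl.le) inf_le_right
    ⟨hx, mem_centralizer_singleton_iff.2 xt⟩

theorem cj {k : G} (hk : k * t = t * k) : Loc t cj(k, D) cj(k, R) := by
  have h1 : k⁻¹ * t * k = t := by rw [mul_assoc, ← hk, inv_mul_cancel_left]
  refine ⟨L.t2, by rw [mem_cj, h1]; exact L.tD, fun x => ?_,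
    L.syl.cj_of_mem (mem_centralizer_singleton_iff.2 hk), fun a ha b hb a1 b1 a2 b2 => ?_⟩
  · rw [mem_cj, mem_cj, mem_cj, L.mem, show k⁻¹ * (t * x) * k = k⁻¹ * t * k * (k⁻¹ * x * k) by group,
      h1]
  · obtain ⟨a, ha', rfl⟩ := mem_cj_iff_exists.1 ha
    obtain ⟨b, hb', rfl⟩ := mem_cj_iff_exists.1 hb
    rw [conj_mul, conj_eq_one_iff] at a2 b2
    obtain ⟨g, hg, rfl⟩ := L.fus a ha' b hb' (mt conj_eq_one_iff.2 a1) (mt conj_eq_one_iff.2 b1) a2 b2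
    exact ⟨k * g * k⁻¹, (((Commute.mul_left hk hg)).mul_left (Commute.inv_left hk)).eq, by group⟩

theorem not_cen {T : Subgroup G} (hT : IsPGroup 2 T) (RT : R < T) {u : G}
    (hu : ∀ x ∈ T, x * u = u * x) : ¬ IsConj t u := fun hJ =>
  RT.ne (eq_of_le_of_card_ge RT.le (L.card_le hJ hT hu))

theorem caseA (hG : ⁅(⊤ : Subgroup G), (⊤ : Subgroup G)⁆ = ⊤) (sq : ∀ e ∈ D, e * e = 1)
    (four : 4 ≤ Nat.card D) {h : G} (ht : h * t = t * h) (hE : ∀ e ∈ D, h * e * h⁻¹ ∈ D)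
    (tr : ∀ a ∈ D, ∀ b ∈ D, a ≠ 1 → b ≠ 1 → ∃ k : ℕ, h ^ k * a * (h ^ k)⁻¹ = b)
    (nrm : ∀ c, c * t = t * c → (∀ e ∈ D, c * e * c⁻¹ ∈ D) →
      ∃ k : ℕ, ∀ e ∈ D, c * h * c⁻¹ * e * (c * h * c⁻¹)⁻¹ = h ^ k * e * (h ^ k)⁻¹) :
    IsSyl 2 R ⊤ := by
  have : Fact (Nat.Prime 2) := ⟨Nat.prime_two⟩
  obtain ⟨T, hT, RT⟩ := exists_isSyl_ge L.syl.pgrp le_top
  by_contra hS
  have hlt : R < T := lt_of_le_of_ne RT fun e => hS (e ▸ hT)
  have sqR : ∀ x ∈ R, x * x = 1 := fun x hx => by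
    rcases (L.mem x).1 hx with h | h
    · exact sq x h
    · have := sq _ h
      rwa [mul_assoc, ← mul_assoc x, L.ct hx, mul_assoc, L.tt] at this
  have EJ : ∀ e ∈ D, ¬ IsConj t e := fun e he hJ => by
    have e1 : e ≠ 1 := fun h => L.J1 (h ▸ hJ)
    have h1 : ∀ a ∈ D, a ≠ 1 → IsConj t a := fun a ha a1 => by
      obtain ⟨k, rfl⟩ := tr e he a ha e1 a1
      exact conj_J hJ _
    obtain ⟨u, hu, u2, uc⟩ := Inv.exists_central_involution_of_isPGroup hT.pgrp hlt.ne_bot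
    have uJ := L.not_cen hT.pgrp hlt uc
    have h2 := ((L.mem u).1 (L.cent hT.pgrp RT hu (uc t (RT L.tR)).symm)).resolve_left
      fun h => uJ (h1 u h (JTW.PA.ne_one_of u2))
    have h3 : ∀ a ∈ R, IsConj t a → a ≠ t → a ∈ D := fun a ha aJ at' =>
      ((L.mem a).1 ha).resolve_right fun h => uJ (by
        obtain ⟨k, hk⟩ := tr _ h _ h2 (fun e => at' (by rw [← L.tt a, e, mul_one]))
          fun e => uJ (by rw [← L.tt u, e, mul_one])
        rw [J_comm (Commute.pow_left ht k).eq, mul_right_inj] at hk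
        exact hk ▸ conj_J aJ _)
    obtain ⟨x, hx, xR⟩ := SetLike.exists_of_lt (lt_inf_normalizer hT.pgrp hlt)
    have h4 := h3 _ (conj_mem_of_mem_normalizer hx.2 L.tR) (conj_J (.refl t) x) fun e =>
      xR (L.cent hT.pgrp RT hx.1 (mul_inv_eq_iff_eq_mul.1 e))
    obtain ⟨a, ha, a1, a2, -⟩ := exists_ne3 four (x * t * x⁻¹) 1
    have h5 : ∀ b ∈ D, b ≠ 1 → b ≠ x * t * x⁻¹ → x⁻¹ * b * x ∈ D := fun b hb b1 b2 =>
      h3 _ (inv_conj_mem_of_mem_normalizer hx.2 (L.DR hb)) (by simpa using conj_J (h1 b hb b1) x⁻¹)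
        fun e => b2 (by rw [← e]; group)
    have h6 := mul_mem (h5 _ (mul_mem h4 ha) (fun e => a2 (by
      rw [eq_inv_of_mul_eq_one_right e, inv_eq_of_mul_eq_one_right (sq _ h4)]))
      fun e => a1 (by simpa using e)) (inv_mem (h5 a ha a1 a2))
    exact L.tD (by convert h6 using 1; group)
  refine GP.false hG (h := h) (E := D) (P := R)
    { t2 := L.t2, tM := trivial, EM := le_top, hM := trivial, Et := fun e he => L.ct (L.DR he),
      sq := sq, four := four, ht := ht, hE := hE, tr := tr, EJ := EJ,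
      loc := fun s _ hJ Q _ hQ hs => ⟨L.card ▸ L.card_le hJ hQ hs, fun x hx => ?_⟩,
      nrm := fun c _ => nrm c, pg := L.syl.pgrp, PM := le_top, tP := L.tR, EP := L.DR,
      hP := conj_mem_inv fun x hx => ?_ }
  · obtain ⟨k, -, hk⟩ := L.into hJ hQ hs
    have := sqR _ (hk (conj_mem_cj k hx))
    rwa [conj_mul, conj_eq_one_iff] at this
  · rw [L.mem, ← J_comm ht]
    exact ((L.mem x).1 hx).imp (hE _) (hE _)

end Loc

section Klein

variable {a b h : G} (K : KleinPair a b) (h1 : h * a * h⁻¹ = b) (h2 : h * b * h⁻¹ = a * b)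
include K h1 h2

theorem klein_h3 : h * (a * b) * h⁻¹ = a := by
  rw [← conj_mul, h1, h2, K.comm, ← mul_assoc, K.sq_right, one_mul]

theorem klein_mem : ∀ e ∈ K.sub, h * e * h⁻¹ ∈ K.sub := by
  rintro _ (rfl | rfl | rfl | rfl) <;> simp [K.mem_sub, h1, h2, klein_h3 K h1 h2]

omit [Finite G] K h1 h2 in
theorem conj_two (x : G) : h ^ 2 * x * (h ^ 2)⁻¹ = h * (h * x * h⁻¹) * h⁻¹ := by
  simp [pow_succ, mul_assoc]

theorem klein_cube : ∀ e ∈ K.sub, h ^ 3 * e * (h ^ 3)⁻¹ = e := fun e he => by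
  rw [show h ^ 3 * e * (h ^ 3)⁻¹ = h * (h * (h * e * h⁻¹) * h⁻¹) * h⁻¹ by
    simp [pow_succ, mul_assoc]]
  rcases he with rfl | rfl | rfl | rfl <;> simp [h1, h2, klein_h3 K h1 h2]

theorem klein_tr : ∀ x ∈ K.sub, ∀ y ∈ K.sub, x ≠ 1 → y ≠ 1 →
    ∃ k : ℕ, h ^ k * x * (h ^ k)⁻¹ = y := by
  have h3 := klein_h3 K h1 h2
  rintro _ (rfl | rfl | rfl | rfl) _ (rfl | rfl | rfl | rfl) x1 y1
  all_goals first
    | exact absurd rfl x1
    | exact absurd rfl y1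
    | (refine ⟨0, ?_⟩; rw [pow_zero, one_mul, inv_one, mul_one]; done)
    | (refine ⟨1, ?_⟩; rw [pow_one]; assumption)
    | (refine ⟨2, ?_⟩; simp only [conj_two, h1, h2, h3])

theorem klein_nrm {c : G} (hc : ∀ e ∈ K.sub, c * e * c⁻¹ ∈ K.sub) :
    ∃ k : ℕ, ∀ e ∈ K.sub, c * h * c⁻¹ * e * (c * h * c⁻¹)⁻¹ = h ^ k * e * (h ^ k)⁻¹ := by
  have h3 := klein_h3 K h1 h2
  have hN := conj_mem_inv hc
  have f1 : ∀ e ∈ K.sub, c * h * c⁻¹ * e * (c * h * c⁻¹)⁻¹ = e → e = 1 := fun e he h4 => by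
    have h5 : h * (c⁻¹ * e * c) * h⁻¹ = c⁻¹ * e * c := by
      conv_rhs => rw [← h4]
      group
    have h6 : c⁻¹ * e * c = 1 := by
      rcases inv_conj_mem_of_mem_normalizer hN he with h6 | h6 | h6 | h6
      · exact h6
      · rw [h6, h1] at h5; exact absurd h5.symm K.ne
      · rw [h6, h2] at h5; exact absurd (by simpa using h5) K.ne_one_left
      · rw [h6, h3] at h5; exact absurd (by simpa using h5) K.ne_one_right
    simpa [mul_assoc] using congrArg (c * · * c⁻¹) h6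
  have f2 : c * h * c⁻¹ ∈ 𝐍[K.sub] :=
    mul_mem (mul_mem hN (conj_mem_inv (klein_mem K h1 h2))) (inv_mem hN)
  generalize c * h * c⁻¹ = g at f1 f2
  have ha : a ∈ K.sub := Or.inr (Or.inl rfl)
  have hb : b ∈ K.sub := Or.inr (Or.inr (Or.inl rfl))
  have fin : ∀ k : ℕ, g * a * g⁻¹ = h ^ k * a * (h ^ k)⁻¹ → g * b * g⁻¹ = h ^ k * b * (h ^ k)⁻¹ →
      ∃ k : ℕ, ∀ e ∈ K.sub, g * e * g⁻¹ = h ^ k * e * (h ^ k)⁻¹ := fun k e1 e2 => ⟨k, by
    rintro _ (rfl | rfl | rfl | rfl)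
    exacts [by simp, e1, e2, by rw [← conj_mul, ← conj_mul, e1, e2]]⟩
  rcases conj_mem_of_mem_normalizer f2 ha with e1 | e1 | e1 | e1
  · exact absurd (conj_eq_one_iff.1 e1) K.ne_one_left
  · exact absurd (f1 a ha e1) K.ne_one_left
  all_goals rcases conj_mem_of_mem_normalizer f2 hb with e2 | e2 | e2 | e2
  · exact absurd (conj_eq_one_iff.1 e2) K.ne_one_right
  · exact absurd (f1 _ (mul_mem ha hb) (by rw [← conj_mul, e1, e2, K.comm])) K.mul_ne_one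
  · exact absurd (f1 b hb e2) K.ne_one_right
  · exact fin 1 (by rw [pow_one, h1, e1]) (by rw [pow_one, h2, e2])
  · exact absurd (conj_eq_one_iff.1 e2) K.ne_one_right
  · exact fin 2 (by rw [conj_two, h1, h2, e1]) (by rw [conj_two, h2, h3, e2])
  · exact absurd (f1 b hb e2) K.ne_one_right
  · exact absurd (by simpa using e1.trans e2.symm) K.ne

end Klein

structure LB (t c z : G) (D R : Subgroup G) : Prop extends Loc t D R where
  dh : Dh D c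
  zc : ∃ y ∈ zpowers c, y * y = z
  z1 : z ≠ 1
  z2 : z * z = 1
  uniq : ∀ x ∈ zpowers c, x * x = 1 → x = 1 ∨ x = z

theorem Loc.exists_lb {t c : G} {D R : Subgroup G} (L : Loc t D R) (H : Dh D c) (h : c * c ≠ 1) :
    ∃ z, LB t c z D R := by
  have : Fact (Nat.Prime 2) := ⟨Nat.prime_two⟩
  obtain ⟨k, hk⟩ := IsPGroup.iff_orderOf.1 L.syl.pgrp ⟨c, L.DR H.mem⟩
  rw [orderOf_mk] at hk
  obtain ⟨k, rfl⟩ : ∃ m, k = m + 2 := ⟨k - 2, by
    by_contra hc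
    refine h (pow_two c ▸ orderOf_dvd_iff_pow_eq_one.1 (hk ▸ ?_))
    exact pow_dvd_pow 2 (show k ≤ 1 by omega)⟩
  have z2 : c ^ 2 ^ (k + 1) * c ^ 2 ^ (k + 1) = 1 := by
    rw [← pow_add, ← two_mul, ← pow_succ', ← hk, pow_orderOf_eq_one]
  refine ⟨c ^ 2 ^ (k + 1), L, H, ⟨_, npow_mem_zpowers c (2 ^ k), by
    rw [← pow_add, ← two_mul, ← pow_succ']⟩, fun e => ?_, z2, ?_⟩
  · have := Nat.le_of_dvd (by positivity) (orderOf_dvd_iff_pow_eq_one.2 e)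
    rw [hk] at this
    exact absurd this (not_le.2 (Nat.pow_lt_pow_right one_lt_two (by omega)))
  · intro x hx x2
    obtain ⟨i, rfl⟩ := (Submonoid.mem_powers_iff _ _).1 (mem_powers_iff_mem_zpowers.2 hx)
    rw [← pow_add, ← two_mul, ← orderOf_dvd_iff_pow_eq_one, hk, pow_succ'] at x2
    obtain ⟨j, rfl⟩ := Nat.dvd_of_mul_dvd_mul_left two_pos x2
    rw [pow_mul]
    rcases Nat.even_or_odd' j with ⟨j, rfl | rfl⟩
    · left; rw [pow_mul, pow_two, z2, one_pow]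
    · right; rw [pow_succ, pow_mul, pow_two, z2, one_pow, one_mul]

omit [Finite G] in
theorem Dh.cj {D : Subgroup G} {c : G} (H : Dh D c) (k : G) : Dh cj(k, D) (k * c * k⁻¹) := by
  have h1 : ∀ x, k * x * k⁻¹ ∈ zpowers (k * c * k⁻¹) ↔ x ∈ zpowers c := fun x =>
    ⟨fun ⟨i, hi⟩ => ⟨i, by simpa [conj_zpow] using hi⟩, fun ⟨i, hi⟩ => ⟨i, by
      simp [conj_zpow, ← hi]⟩⟩
  obtain ⟨e, he, h2⟩ := H.ex
  refine ⟨conj_mem_cj k H.mem, mt conj_eq_one_iff.1 H.ne, ⟨_, conj_mem_cj k he, mt (h1 e).1 h2⟩,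
    fun g hg h => ?_, fun g hg g' hg' h h' => ?_⟩
  · obtain ⟨g, hg1, rfl⟩ := mem_cj_iff_exists.1 hg
    rw [conj_mul, H.sq g hg1 (mt (h1 g).2 h)]; simp
  · obtain ⟨g, hg1, rfl⟩ := mem_cj_iff_exists.1 hg
    obtain ⟨g', hg2, rfl⟩ := mem_cj_iff_exists.1 hg'
    rw [conj_mul, h1]
    exact H.mul g hg1 g' hg2 (mt (h1 g).2 h) (mt (h1 g').2 h')

omit [Finite G] in
theorem Dh.le {D : Subgroup G} {c : G} (H : Dh D c) : zpowers c ≤ D := zpowers_le.2 H.mem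

omit [Finite G] in
theorem Dh.inv {D : Subgroup G} {c : G} (H : Dh D c) {g y : G} (hg : g ∈ D) (h : g ∉ zpowers c)
    (hy : y ∈ zpowers c) : g * y * g⁻¹ = y⁻¹ := by
  rw [inv_eq_of_mul_eq_one_right (H.sq g hg h), eq_inv_iff_mul_eq_one, mul_assoc]
  exact H.sq _ (mul_mem hg (H.le hy)) (mt (mul_mem_cancel_right hy).1 h)

omit [Finite G] in
theorem Dh.inv' {D : Subgroup G} {c : G} (H : Dh D c) {g y : G} (hg : g ∈ D) (h : g ∉ zpowers c)
    (hy : y ∈ zpowers c) : y * g * y⁻¹ = y * y * g := by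
  rw [← H.inv hg h hy, inv_eq_of_mul_eq_one_right (H.sq g hg h), ← mul_assoc, ← mul_assoc,
    mul_assoc y, H.sq g hg h, mul_one]

theorem Dh.card {D : Subgroup G} {c : G} (H : Dh D c) : Nat.card D = 2 * orderOf c := by
  obtain ⟨e, he, h⟩ := H.ex
  rw [card_of_idx H.le he h fun y hy => or_iff_not_imp_left.2 (H.mul e he y hy h), Nat.card_zpowers]

namespace LB

variable {t c z : G} {D R : Subgroup G} (L : LB t c z D R)
include L

theorem zmem : z ∈ zpowers c := by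
  obtain ⟨y, hy, rfl⟩ := L.zc
  exact mul_mem hy hy

theorem zD : z ∈ D := L.dh.le L.zmem

theorem zinv : z⁻¹ = z := inv_eq_of_mul_eq_one_right L.z2

theorem cj {k : G} (hk : k * t = t * k) : LB t (k * c * k⁻¹) (k * z * k⁻¹) cj(k, D) cj(k, R) := by
  obtain ⟨_, ⟨i, rfl⟩, hy⟩ := L.zc
  refine ⟨L.toLoc.cj hk, L.dh.cj k, ⟨_, ⟨i, rfl⟩, by simp only [conj_zpow, conj_mul, ← hy]⟩,
    mt conj_eq_one_iff.1 L.z1, by rw [conj_mul, L.z2]; simp, ?_⟩
  rintro _ ⟨j, rfl⟩ h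
  simp only [conj_zpow, conj_mul, conj_eq_one_iff] at h ⊢
  exact (L.uniq (c ^ j) ⟨j, rfl⟩ h).imp id fun e => by rw [e]

theorem DJ {d : G} (hd : d ∈ D) : ¬ IsConj t d := fun hJ => by
  obtain ⟨g, -, e⟩ := L.fus d hd z L.zD (fun h => L.toLoc.J1 (h ▸ hJ)) L.z1 (sq_J L.t2 hJ) L.z2
  obtain ⟨y, -, hy⟩ := L.zc
  exact L.toLoc.nonsq y (by rw [hy, ← e]; exact conj_J hJ g)

theorem zcen {x : G} (hx : x ∈ R) : x * z = z * x := by
  have key : ∀ x ∈ D, x * z = z * x := fun x hx => by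
    by_cases h : x ∈ zpowers c
    · obtain ⟨i, rfl⟩ := h
      obtain ⟨j, rfl⟩ := L.zmem
      exact zpow_mul_comm c i j
    · rw [← mul_inv_eq_iff_eq_mul, L.dh.inv hx h L.zmem, L.zinv]
  rcases (L.mem x).1 hx with h | h
  · exact key x h
  · have := key _ h
    rwa [← mul_assoc, L.toLoc.ct (L.toLoc.DR L.zD), mul_assoc, mul_assoc, mul_right_inj] at this

theorem c2 : c * c ≠ 1 := fun e => by
  obtain ⟨_, ⟨i, rfl⟩, h⟩ := L.zc
  exact L.z1 (by rw [← h, ← (Commute.refl c).mul_zpow, e, one_zpow])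

theorem cenD {x : G} (hx : x ∈ D) (h : ∀ y ∈ D, y * x = x * y) : x = 1 ∨ x = z := by
  obtain ⟨e, he, h1⟩ := L.dh.ex
  by_cases h2 : x ∈ zpowers c
  · refine L.uniq x h2 (mul_eq_one_iff_eq_inv.2 ?_)
    rw [← L.dh.inv he h1 h2, h e he, mul_inv_cancel_right]
  · refine absurd (mul_eq_one_iff_eq_inv.2 ?_) L.c2
    rw [← L.dh.inv hx h2 (mem_zpowers c), ← h c L.dh.mem, mul_inv_cancel_right]

theorem cenR {x : G} (hx : x ∈ R) (h : ∀ y ∈ R, y * x = x * y) :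
    x = 1 ∨ x = z ∨ x = t ∨ x = t * z := by
  rcases (L.mem x).1 hx with h1 | h1
  · rcases L.cenD h1 fun y hy => h y (L.toLoc.DR hy) with h2 | h2 <;> simp [h2]
  · rw [← L.toLoc.tt x]
    rcases L.cenD h1 fun y hy => (Commute.mul_right (L.toLoc.ct (L.toLoc.DR hy))
      (h y (L.toLoc.DR hy))).eq with h2 | h2 <;> simp [h2]

theorem not_syl (hG : ⁅(⊤ : Subgroup G), (⊤ : Subgroup G)⁆ = ⊤) : ¬ IsSyl 2 R ⊤ := fun hS =>
  L.tD (transfer hG hS (fun _ ha _ hb => comm_mem_of_sq (fun _ => L.toLoc.sqD) ha hb) L.t2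
    L.toLoc.tR fun s hs hJ => ((L.mem s).1 hs).resolve_left fun h => L.DJ h hJ)

theorem conj_cen {x u : G} (hx : x ∈ 𝐍[R]) (h : ∀ y ∈ R, y * u = u * y) :
    ∀ y ∈ R, y * (x * u * x⁻¹) = x * u * x⁻¹ * y := fun y hy => by
  calc _ = x * (x⁻¹ * y * x * u) * x⁻¹ := by group
    _ = _ := by rw [h _ (inv_conj_mem_of_mem_normalizer hx hy)]; group

theorem conj_t {x : G} (hx : x ∈ 𝐍[R]) (xt : x * t ≠ t * x) : x * t * x⁻¹ = t * z := by
  rcases L.cenR (conj_mem_of_mem_normalizer hx L.toLoc.tR) (L.conj_cen hx fun _ => L.toLoc.ct)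
    with h | h | h | h
  · exact absurd (conj_eq_one_iff.1 h) L.toLoc.t1
  · exact absurd (h ▸ conj_J (.refl t) x) (L.DJ L.zD)
  · exact absurd (mul_inv_eq_iff_eq_mul.1 h) xt
  · exact h

variable (hG : ⁅(⊤ : Subgroup G), (⊤ : Subgroup G)⁆ = ⊤)
include hG

theorem tdJ {d : G} (hd : d ∈ D) (d2 : d * d = 1) : IsConj t (t * d) := by
  have : Fact (Nat.Prime 2) := ⟨Nat.prime_two⟩
  by_cases d1 : d = 1
  · rw [d1, mul_one]
  obtain ⟨T, hT, RT⟩ := exists_isSyl_ge L.syl.pgrp le_top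
  obtain ⟨x, hx, xR⟩ := SetLike.exists_of_lt (lt_inf_normalizer hT.pgrp
    (lt_of_le_of_ne RT fun e => L.not_syl hG (e ▸ hT)))
  obtain ⟨g, hg, rfl⟩ := L.fus z L.zD d hd L.z1 d1 L.z2 d2
  rw [← J_comm hg, ← L.conj_t hx.2 (mt (L.toLoc.cent hT.pgrp RT hx.1) xR)]
  exact conj_J (conj_J (.refl t) x) g

theorem memD {y : G} (hy : y ∈ R) (y2 : y * y = 1) : y ∈ D ↔ ¬ IsConj t y :=
  ⟨L.DJ, fun h => ((L.mem y).1 hy).resolve_right fun h1 => h (by
    rw [← L.toLoc.tt y]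
    exact L.tdJ hG h1 (by rw [mul_assoc, ← mul_assoc y, L.toLoc.ct hy, mul_assoc, L.toLoc.tt, y2]))⟩

theorem star {s y : G} (hJ : IsConj t s) (y2 : y * y = 1) (h : y * s = s * y) :
    IsConj t y ↔ ¬ IsConj t (s * y) := by
  obtain ⟨k, h1, h2⟩ := L.toLoc.into hJ (Q := zpowers y)
    (isPGroup_zpowers ⟨1, by rw [pow_one, pow_two, y2]⟩)
    (by rintro _ ⟨k, rfl⟩; exact (Commute.zpow_left h k).eq)
  have h3 := h2 (conj_mem_cj k (mem_zpowers y))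
  have h4 : k * y * k⁻¹ * (k * y * k⁻¹) = 1 := by rw [conj_mul, y2]; simp
  rw [← J_iff (g := k), ← J_iff (g := k) (s := s * y), ← conj_mul, h1]
  generalize k * y * k⁻¹ = x at h3 h4
  refine ⟨fun h5 => L.DJ (((L.mem x).1 h3).resolve_left fun h => L.DJ h h5), fun h5 => ?_⟩
  by_contra h6
  exact h5 (L.tdJ hG ((L.memD hG h3 h4).2 h6) h4)

theorem conj_z {x : G} (hx : x ∈ 𝐍[R]) : x * z = z * x := by
  have h1 : ¬ IsConj t (x * z * x⁻¹) := by rw [J_iff]; exact L.DJ L.zD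
  rcases L.cenR (conj_mem_of_mem_normalizer hx (L.toLoc.DR L.zD)) (L.conj_cen hx fun _ => L.zcen)
    with h | h | h | h
  · exact absurd (conj_eq_one_iff.1 h) L.z1
  · exact mul_inv_eq_iff_eq_mul.1 h
  · exact absurd (h ▸ .refl t) h1
  · exact absurd (h ▸ L.tdJ hG L.zD L.z2) h1

theorem conj_D {x : G} (hx : x ∈ 𝐍[R]) {d : G} (hd : d ∈ D) : x * d * x⁻¹ ∈ D := by
  have key : ∀ d ∈ D, d ∉ zpowers c → x * d * x⁻¹ ∈ D := fun d hd h =>
    (L.memD hG (conj_mem_of_mem_normalizer hx (L.toLoc.DR hd))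
      (by rw [conj_mul, L.dh.sq d hd h]; simp)).2 (by rw [J_iff]; exact L.DJ hd)
  by_cases h : d ∈ zpowers c
  · obtain ⟨e, he, h1⟩ := L.dh.ex
    have := mul_mem (key _ (mul_mem hd he) (mt (mul_mem_cancel_left h).1 h1)) (key e he h1)
    rwa [conj_mul, mul_assoc d, L.dh.sq e he h1, mul_one] at this
  · exact key d hd h

end LB

end Cfsg.Agent.KSG.Z2L
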