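import Mathlib
import Cfsg.Agent.KSG.Z2LLoc

/-! The case `D ≅ D₈` with a four-subgroup of `D` normal in a Sylow 2-subgroup of `G`. -/

set_option autoImplicit false
set_option linter.unusedSectionVars false

namespace Cfsg.Agent.KSG.Z2L

open Subgroup Cfsg.Agent.PLocal.Amb Cfsg.Agent.Class.Dickson

universe u

variable {G : Type u} [Group G] [Finite G]

/-- the elements acting on `E` as a power of `h` -/
def actM (E : Subgroup G) (h : G) (hE : ∀ e ∈ E, h * e * h⁻¹ ∈ E)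
    (h3 : ∀ e ∈ E, h ^ 3 * e * (h ^ 3)⁻¹ = e) : Subgroup G where
  carrier := {g | ∃ k : ℕ, ∀ e ∈ E, g * e * g⁻¹ = h ^ k * e * (h ^ k)⁻¹}
  one_mem' := ⟨0, by simp⟩
  mul_mem' := by
    rintro a b ⟨k, hk⟩ ⟨l, hl⟩
    refine ⟨k + l, fun e he => ?_⟩
    rw [mul_inv_rev, ← mul_assoc, mul_assoc a, mul_assoc a, hl e he,
      hk _ (conj_mem_of_mem_normalizer (pow_mem (conj_mem_inv hE) l) he), pow_add]
    group
  inv_mem' := by
    rintro a ⟨k, hk⟩
    refine ⟨2 * k, fun e he => ?_⟩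
    have h1 := hk _ (conj_mem_of_mem_normalizer (pow_mem (conj_mem_inv hE) (2 * k)) he)
    have h2 := pow_act (h := 1) (by simp) (g := h ^ 3) (by simpa using h3) k e he
    rw [show h ^ k * (h ^ (2 * k) * e * (h ^ (2 * k))⁻¹) * (h ^ k)⁻¹ =
      (h ^ 3) ^ k * e * ((h ^ 3) ^ k)⁻¹ by rw [← pow_mul]; group, h2] at h1
    simp only [one_pow, one_mul, inv_one, mul_one] at h1
    conv_lhs => rw [← h1]
    group

theorem actM_cent {E : Subgroup G} {h : G} {hE : ∀ e ∈ E, h * e * h⁻¹ ∈ E}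
    {h3 : ∀ e ∈ E, h ^ 3 * e * (h ^ 3)⁻¹ = e} {g : G} (hg : g ∈ actM E h hE h3)
    (h2 : ∃ n : ℕ, g ^ 2 ^ n = 1) {e : G} (he : e ∈ E) : g * e = e * g := by
  obtain ⟨k, hk⟩ := hg
  obtain ⟨n, hn⟩ := h2
  have h4 := pow_act (fun e he => conj_mem_of_mem_normalizer (pow_mem (conj_mem_inv hE) k) he)
    hk 3 e he
  have h5 := pow_act (h := 1) (by simp) (g := h ^ 3) (by simpa using h3) k e he
  rw [← pow_mul, mul_comm k, pow_mul, h5, one_pow, one_mul, inv_one, mul_one,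
    mul_inv_eq_iff_eq_mul] at h4
  obtain ⟨m, hm⟩ := exists_pow_eq_self_of_coprime (x := g) (n := 3)
    (Nat.Coprime.coprime_dvd_right (orderOf_dvd_of_pow_eq_one hn)
      (Nat.Coprime.pow_right n (by norm_num)))
  rw [← hm]
  exact (Commute.pow_left h4 m).eq

/-- `F ∪ wF` -/
def ext2 (F : Subgroup G) (w : G) (hw : ∀ x ∈ F, w * x * w⁻¹ ∈ F) (w2 : w * w ∈ F) : Subgroup G where
  carrier := {x | x ∈ F ∨ w * x ∈ F}
  one_mem' := Or.inl (one_mem _)
  mul_mem' := by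
    rintro a b (ha | ha) (hb | hb)
    · exact Or.inl (mul_mem ha hb)
    · exact Or.inr (by simpa [mul_assoc] using mul_mem (hw a ha) hb)
    · exact Or.inr (by simpa [mul_assoc] using mul_mem ha hb)
    · exact Or.inl (by simpa [mul_assoc] using mul_mem (mul_mem (inv_mem w2) (hw _ ha)) hb)
  inv_mem' := by
    rintro a (ha | ha)
    · exact Or.inl (inv_mem ha)
    · exact Or.inr (by simpa [mul_assoc] using mul_mem (hw _ (inv_mem ha)) w2)

theorem count_aux {n m a b p : ℕ} (h1 : n * a = p) (h2 : m * b = p) (ha : a ^ 2 ≤ 2 * p)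
    (hb : b ^ 2 ≤ 2 * p) (hp : 0 < p) {i : ℕ} (hi : i ^ 2 ≤ 2 * p) : i ≤ n + m := by
  have k1 : ∀ {n a : ℕ}, n * a = p → a ^ 2 ≤ 2 * p → p ≤ 2 * n ^ 2 := fun {n a} h1 ha =>
    Nat.le_of_mul_le_mul_left (by
      calc p * p = n ^ 2 * a ^ 2 := by rw [← h1]; ring
        _ ≤ n ^ 2 * (2 * p) := Nat.mul_le_mul_left _ ha
        _ = _ := by ring) hp
  have h3 := k1 h1 ha
  have h4 := k1 h2 hb
  have h5 : p ≤ 2 * n * m := Nat.le_of_not_lt fun h => by
    nlinarith [Nat.mul_le_mul h3 h4, Nat.mul_lt_mul'' h h]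
  exact Nat.le_of_not_lt fun h => by nlinarith

namespace AC

variable {M E P A F : Subgroup G} {t h : G} (H : GP M t h E P) (C : AC t h E P A F)
include H C

theorem same {g : G} (hg : g ∈ 𝐍[P]) (hF : ∀ x ∈ F, g * x * g⁻¹ ∈ F) {p : G} (hp : p ∈ P) :
    g * p * g⁻¹ * p⁻¹ ∈ F := by
  by_cases pF : p ∈ F
  · exact mul_mem (hF p pF) (inv_mem pF)
  · exact C.out H (conj_mem_of_mem_normalizer hg hp) (inv_mem hp) (fun h => pF (by
      simpa [mul_assoc] using inv_conj_mem_of_mem_normalizer (conj_mem_inv hF) h))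
      (mt inv_mem_iff.1 pF)

theorem mem_syl (hS : IsSyl 2 P M) {g : G} (gM : g ∈ M) (gP : g ∈ 𝐍[P]) (h2 : ∃ k : ℕ, g ^ 2 ^ k = 1) :
    g ∈ P :=
  hS.max _ (isPGroup_sup (isPGroup_zpowers h2) H.pg (zpowers_le.2 gP)) le_sup_right
    (sup_le (zpowers_le.2 gM) H.PM) (mem_sup_left (mem_zpowers _))

theorem pres (hS : IsSyl 2 P M) {g : G} (gM : g ∈ M) (gP : g ∈ 𝐍[P]) (gt : g * t = t * g) {k : ℕ}
    (hk : ∀ e ∈ E, g * e * g⁻¹ = h ^ k * e * (h ^ k)⁻¹) {y : G} (hy : y ∈ F) : g * y * g⁻¹ ∈ F := by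
  have hN := pow_mem (conj_mem_inv H.hE) k
  have h1 : ∀ e ∈ E, g * (h ^ k)⁻¹ * e * (g * (h ^ k)⁻¹)⁻¹ = e := fun e he => by
    calc _ = g * ((h ^ k)⁻¹ * e * h ^ k) * g⁻¹ := by group
      _ = _ := by rw [hk _ (inv_conj_mem_of_mem_normalizer hN he)]; group
  have uM := mul_mem gM (inv_mem (pow_mem H.hM k))
  have uP := mul_mem gP (inv_mem (pow_mem H.hP k))
  have ut : g * (h ^ k)⁻¹ * t = t * (g * (h ^ k)⁻¹) :=
    (Commute.mul_left gt (Commute.pow_left H.ht k).inv_left).eq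
  have h2 := (C.triv _ uP ut fun e he => (h1 e he).symm ▸ he).1 h1
  have h3 := conj_mem_of_mem_normalizer (pow_mem (conj_mem_inv C.hF) k) hy
  rw [show g * y * g⁻¹ = g * (h ^ k)⁻¹ * (h ^ k * y * (h ^ k)⁻¹) * (g * (h ^ k)⁻¹)⁻¹ by group]
  generalize g * (h ^ k)⁻¹ = u at *
  generalize h ^ k * y * (h ^ k)⁻¹ = x at *
  refine (mul_mem_cancel_right (inv_mem h3)).1 (C.AF ((h2 x (C.FP h3)).resolve_right fun h4 => ?_))
  have h5 : ∀ n : ℕ, (t ^ n)⁻¹ * (u ^ n * x * (u ^ n)⁻¹ * x⁻¹) ∈ A := fun n => by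
    induction n with
    | zero => simp
    | succ n ih =>
      have h6 := mul_mem (C.nA _ (inv_mem H.tP) _ (C.nP H uP ut ih)) h4
      have h7 : u * (t ^ n)⁻¹ = (t ^ n)⁻¹ * u := ((Commute.pow_right ut n).inv_right).eq
      rw [← mul_assoc u, h7, inv_inv, inv_eq_of_mul_eq_one_right H.t2] at h6
      convert h6 using 1
      rw [pow_succ t, mul_inv_rev, inv_eq_of_mul_eq_one_right H.t2, pow_succ' u, mul_assoc _ t,
        ← mul_assoc t t, H.t2]
      group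
  obtain ⟨i, m, ⟨j, rfl⟩, h6⟩ := Nat.exists_eq_two_pow_mul_odd (orderOf_pos u).ne'
  have h7 := comm_mem_of_sq C.sq (C.mem_syl H hS (pow_mem uM (2 * j + 1)) (pow_mem uP _)
    ⟨i, by rw [← pow_mul, mul_comm, ← h6, pow_orderOf_eq_one]⟩) (C.FP h3)
  have h8 := (mul_mem_cancel_right h7).1 (h5 (2 * j + 1))
  rw [pow_succ, pow_mul, pow_two, H.t2, one_pow, one_mul, inv_mem_iff] at h8
  exact C.tF (C.AF h8)

theorem exists_out (h4 : Nat.card E = 4) {K : Subgroup G} (hK : A ≤ K) (KF : K ≤ F) {f : G}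
    (h : ∀ y ∈ F, y ∈ K ∨ f * y ∈ K) : ∃ x ∈ K, x ∉ A := by
  by_contra hc
  push Not at hc
  have h1 : Nat.card F ≤ 2 * Nat.card A := by
    by_cases h2 : F ≤ A
    · have := card_le_of_le h2; omega
    obtain ⟨y, hy, yA⟩ := SetLike.not_le_iff_exists.1 h2
    have h3 := hc _ ((h y hy).resolve_left fun e => yA (hc y e))
    exact (card_of_idx C.AF ((mul_mem_cancel_right hy).1 (C.AF h3))
      (fun e => yA ((mul_mem_cancel_left e).1 h3)) fun y hy => (h y hy).imp (hc _) (hc _)).le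
  rw [C.card, h4] at h1
  have := Nat.card_pos (α := A)
  omega

end AC

namespace LB

variable {t c z : G} {D R : Subgroup G} (L : LB t c z D R)
include L

theorem klein {e : G} (he : e ∈ D) (ec : e ∉ zpowers c) : KleinPair z e :=
  ⟨L.z1, fun h => ec (h ▸ one_mem _), fun h => ec (h ▸ L.zmem), L.z2, L.dh.sq e he ec,
    (L.zcen (L.toLoc.DR he)).symm⟩

theorem sub_le {e : G} (he : e ∈ D) (ec : e ∉ zpowers c) : (L.klein he ec).sub ≤ D := by
  rintro _ (rfl | rfl | rfl | rfl)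
  exacts [one_mem _, L.zD, he, mul_mem L.zD he]

theorem sq_of_comm {e : G} (he : e ∈ D) (ec : e ∉ zpowers c) {x : G} (hx : x ∈ R)
    (h : x * e = e * x) : x * x = 1 := by
  have key : ∀ x ∈ D, x * e = e * x → x * x = 1 := fun x hx h => by
    by_cases h1 : x ∈ zpowers c
    · refine mul_eq_one_iff_eq_inv.2 ?_
      rw [← L.dh.inv he ec h1, ← h, mul_inv_cancel_right]
    · exact L.dh.sq x hx h1
  rcases (L.mem x).1 hx with h1 | h1
  · exact key x h1 h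
  · have := key _ h1 (Commute.mul_left (L.toLoc.ct (L.toLoc.DR he)).symm h).eq
    rwa [mul_assoc, ← mul_assoc x, L.toLoc.ct hx, mul_assoc, L.toLoc.tt] at this

theorem cardR (c4 : c * c = z) : Nat.card R = 16 := by
  have : Fact (Nat.Prime 2) := ⟨Nat.prime_two⟩
  rw [L.toLoc.card, L.dh.card, orderOf_eq_prime_pow (p := 2) (n := 1) (x := c)
    (by rw [pow_one, pow_two]; exact L.c2)
    (by rw [← L.z2, ← c4]; simp [pow_succ, mul_assoc])]
  rfl

variable (hG : ⁅(⊤ : Subgroup G), (⊤ : Subgroup G)⁆ = ⊤)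
include hG

theorem exists_h (c4 : c * c = z) {e : G} (he : e ∈ D) (ec : e ∉ zpowers c) :
    ∃ h, h * t = t * h ∧ h * z * h⁻¹ = e ∧ h * e * h⁻¹ = z * e := by
  have : Fact (Nat.Prime 2) := ⟨Nat.prime_two⟩
  have K := L.klein he ec
  obtain ⟨g, gt, hg⟩ := L.fus z L.zD e he L.z1 K.ne_one_right L.z2 K.sq_right
  have h1 : IsSyl 2 cj(g, R) (centralizer {t} ⊓ centralizer {e}) :=
    (L.syl.cj_of_mem (mem_centralizer_singleton_iff.2 gt)).mono (le_inf
      (L.syl.cj_of_mem (mem_centralizer_singleton_iff.2 gt)).le (cj_le_iff_forall.2 fun x hx => by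
        rw [mem_centralizer_singleton_iff, ← hg, conj_mul, conj_mul, L.zcen hx])) inf_le_left
  obtain ⟨n, hn, h2⟩ := h1.exists_le_cj (R := zpowers z)
    (isPGroup_zpowers ⟨1, by rw [pow_one, pow_two, L.z2]⟩) (zpowers_le.2
      ⟨mem_centralizer_singleton_iff.2 (L.toLoc.ct (L.toLoc.DR L.zD)),
        mem_centralizer_singleton_iff.2 K.comm⟩)
  rw [← cj_mul] at h2
  have h3 : n * g * z * (n * g)⁻¹ = e := by
    rw [mul_inv_rev, ← mul_assoc, mul_assoc n, mul_assoc n, hg,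
      mem_centralizer_singleton_iff.1 hn.2, mul_inv_cancel_right]
  have L' := L.cj (k := n * g) (Commute.mul_left (mem_centralizer_singleton_iff.1 hn.1) gt).eq
  have h4 : n * g * c * (n * g)⁻¹ * (n * g * c * (n * g)⁻¹) = e := by rw [conj_mul, c4, h3]
  rw [h3] at L'
  generalize n * g * c * (n * g)⁻¹ = d at L' h4
  have h5 := L'.dh.inv' ((L'.memD hG (h2 (mem_zpowers z)) L.z2).2 (L.DJ L.zD))
    (fun h => (L'.uniq z h L.z2).elim L.z1 K.ne) (mem_zpowers d)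
  have h6 := L.dh.inv' he ec (mem_zpowers c)
  have h7 : c * z * c⁻¹ = z := by rw [L.zcen (L.toLoc.DR L.dh.mem), mul_inv_cancel_right]
  have h8 : d * e * d⁻¹ = e := by rw [L'.zcen (L'.toLoc.DR L'.dh.mem), mul_inv_cancel_right]
  refine ⟨c * d, (Commute.mul_left (L.toLoc.ct (L.toLoc.DR L.dh.mem))
    (L'.toLoc.ct (L'.toLoc.DR L'.dh.mem))).eq, ?_, ?_⟩
  · rw [mul_inv_rev, ← mul_assoc, mul_assoc c, mul_assoc c, h5, h4, ← conj_mul, h6, h7, c4, K.comm,
      mul_assoc, L.z2, mul_one]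
  · rw [mul_inv_rev, ← mul_assoc, mul_assoc c, mul_assoc c, h8, h6, c4]

theorem ha (c4 : c * c = z) {e : G} (he : e ∈ D) (ec : e ∉ zpowers c) {h : G} (ht : h * t = t * h)
    (h1 : h * z * h⁻¹ = e) (h2 : h * e * h⁻¹ = z * e) :
    HA (actM (L.klein he ec).sub h (klein_mem _ h1 h2) (klein_cube _ h1 h2)) t h
      (L.klein he ec).sub := by
  have : Fact (Nat.Prime 2) := ⟨Nat.prime_two⟩
  have K := L.klein he ec
  have le := L.sub_le he ec
  have sq : ∀ x ∈ K.sub, x * x = 1 := fun x hx =>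
    congrArg Subtype.val (K.isKleinFour.mul_self ⟨x, hx⟩)
  have Et : ∀ x ∈ K.sub, x * t = t * x := fun x hx => L.toLoc.ct (L.toLoc.DR (le hx))
  refine ⟨L.t2, ⟨0, fun x hx => by simp [← Et x hx]⟩, fun y hy => ⟨0, fun x hx => by
      simp [comm_of_sq (sq y hy) (sq x hx) (sq _ (mul_mem hy hx))]⟩, ⟨1, by simp⟩, Et, sq,
    K.isKleinFour.card_four.ge, ht, klein_mem K h1 h2, klein_tr K h1 h2,
    fun x hx => L.DJ (le hx), fun s hs hJ Q QM hQ hc => ?_, fun _ _ _ => klein_nrm K h1 h2⟩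
  have q1 : ∀ x ∈ Q, ∀ y ∈ K.sub, x * y = y * x := fun x hx y hy =>
    actM_cent (QM hx) (isPGroup_iff.1 hQ x hx) hy
  obtain ⟨k, -, hk⟩ := L.toLoc.into hJ (Q := Q ⊔ K.sub) (isPGroup_sup hQ (L.syl.pgrp.to_le
    (le.trans L.toLoc.DR)) fun x hx => centralizer_le_normalizer' _
      (mem_centralizer_iff.2 fun y hy => (q1 x hx y hy).symm)) fun x hx =>
    mem_centralizer_singleton_iff.1 ((sup_le (fun x hx => mem_centralizer_singleton_iff.2 (hc x hx))
      fun y hy => mem_centralizer_singleton_iff.2 (actM_cent hs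
        ⟨1, by rw [pow_one, pow_two, sq_J L.t2 hJ]⟩ hy).symm : _ ≤ centralizer {s}) hx)
  have q2 : ∀ y ∈ K.sub, k * y * k⁻¹ * (k * y * k⁻¹) = 1 := fun y hy => by
    rw [conj_mul, sq y hy]; simp
  have q3 : ∀ y ∈ K.sub, k * y * k⁻¹ ∈ D := fun y hy =>
    (L.memD hG (hk (conj_mem_cj k (mem_sup_right hy))) (q2 y hy)).2 (by
      rw [J_iff]; exact L.DJ (le hy))
  obtain ⟨y, hy, yc⟩ : ∃ y ∈ K.sub, k * y * k⁻¹ ∉ zpowers c := by
    by_contra hc
    push Not at hc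
    have q4 : ∀ y ∈ K.sub, y ≠ 1 → k * y * k⁻¹ = z := fun y hy y1 =>
      (L.uniq _ (hc y hy) (q2 y hy)).resolve_left (mt conj_eq_one_iff.1 y1)
    have := (q4 z (Or.inr (Or.inl rfl)) L.z1).trans
      (q4 e (Or.inr (Or.inr (Or.inl rfl))) K.ne_one_right).symm
    exact K.ne (by simpa using this)
  have q4 : cj(k, Q) ≤ R ⊓ centralizer {k * y * k⁻¹} := le_inf ((cj_mono k le_sup_left).trans hk)
    (cj_le_iff_forall.2 fun x hx => by
      rw [mem_centralizer_singleton_iff, conj_mul, conj_mul, q1 x hx y hy])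
  refine ⟨?_, fun x hx => ?_⟩
  · have q5 := card_le_half (K := R ⊓ centralizer {k * y * k⁻¹}) inf_le_left
      (L.toLoc.DR L.dh.mem) fun h => L.c2 (L.sq_of_comm (q3 y hy) yc h.1
        (mem_centralizer_singleton_iff.1 h.2))
    have q6 := card_le_of_le q4
    rw [card_cj] at q6
    rw [L.cardR c4] at q5
    rw [K.isKleinFour.card_four]
    omega
  · have := q4 (conj_mem_cj k hx)
    have := L.sq_of_comm (q3 y hy) yc this.1 (mem_centralizer_singleton_iff.1 this.2)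
    rwa [conj_mul, conj_eq_one_iff] at this

theorem b2 (c4 : c * c = z) {e : G} (he : e ∈ D) (ec : e ∉ zpowers c) {T : Subgroup G}
    (hT : IsSyl 2 T ⊤) (hz : ∀ y ∈ T, y * z = z * y)
    (hTe : ∀ y ∈ T, y * e * y⁻¹ = e ∨ y * e * y⁻¹ = z * e) : False := by
  have : Fact (Nat.Prime 2) := ⟨Nat.prime_two⟩
  obtain ⟨h₀, ht, h1, h2⟩ := L.exists_h hG c4 he ec
  have K := L.klein he ec
  have H₀ : HA (actM K.sub h₀ (klein_mem _ h1 h2) (klein_cube _ h1 h2)) t h₀ K.sub :=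
    L.ha hG c4 he ec ht h1 h2
  have le : K.sub ≤ D := L.sub_le he ec
  have nrm := fun c => klein_nrm K h1 h2 (c := c)
  have mE : ∀ x, x * z = z * x → x * e * x⁻¹ = e → ∀ y ∈ K.sub, x * y * x⁻¹ = y := by
    rintro x e1 e2 _ (rfl | rfl | rfl | rfl)
    exacts [by simp, by simp [e1], e2, by rw [← conj_mul, e2, e1]; simp]
  have TN : T ≤ 𝐍[K.sub] := fun x hx => conj_mem_inv (by
    have e1 : x * z * x⁻¹ = z := by simp [hz x hx]
    rintro _ (rfl | rfl | rfl | rfl)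
    · simp
    · rw [e1]; exact Or.inr (Or.inl rfl)
    · rcases hTe x hx with h | h <;> simp [h, K.mem_sub]
    · rcases hTe x hx with h | h <;> rw [← conj_mul, h, e1] <;>
        simp [K.mem_sub, ← mul_assoc, L.z2])
  have h4 := K.isKleinFour.card_four
  set M := actM K.sub h₀ (klein_mem _ h1 h2) (klein_cube _ h1 h2) with hM
  have memM : ∀ g, g ∈ M ↔ ∃ k : ℕ, ∀ e ∈ K.sub, g * e * g⁻¹ = h₀ ^ k * e * (h₀ ^ k)⁻¹ :=
    fun _ => Iff.rfl
  have cM : ∀ g ∈ M, (∃ n : ℕ, g ^ 2 ^ n = 1) → ∀ e ∈ K.sub, g * e = e * g :=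
    fun g hg h e he => actM_cent hg h he
  clear_value M
  clear hM
  have MN : M ≤ 𝐍[K.sub] := fun g hg => conj_mem_inv fun e he => by
    obtain ⟨k, hk⟩ := (memM g).1 hg
    rw [hk e he]
    exact conj_mem_of_mem_normalizer (pow_mem (conj_mem_inv H₀.hE) k) he
  have TM : ∀ x ∈ T, x * e * x⁻¹ = e → x ∈ M := fun x hx h =>
    (memM x).2 ⟨0, fun y hy => by rw [mE x (hz x hx) h y hy]; simp⟩
  generalize K.sub = E at *
  obtain ⟨h, P, A, F, H, C, hh, hS, hfix⟩ := exists_syl_four (P := E ⊔ zpowers t)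
    { H₀ with
      pg := L.syl.pgrp.to_le (sup_le (le.trans L.toLoc.DR) (zpowers_le.2 L.toLoc.tR))
      PM := sup_le H₀.EM (zpowers_le.2 H₀.tM)
      tP := mem_sup_right (mem_zpowers t)
      EP := le_sup_left
      hP := le_normalizer_sup (L := zpowers h₀) (zpowers_le.2 (conj_mem_inv H₀.hE))
        (zpowers_le.2 (centralizer_le_normalizer' _ (by
          rw [centralizer_zpowers]; exact mem_centralizer_singleton_iff.2 ht))) (mem_zpowers _) } h4
  have nM : ∀ x ∈ 𝐍[E], x * h * x⁻¹ ∈ M := fun x hx => by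
    obtain ⟨k, hk⟩ := nrm x fun e he => conj_mem_of_mem_normalizer hx he
    refine (memM _).2 ⟨k, fun e he => ?_⟩
    rw [← hk e he]
    calc _ = x * (h * (x⁻¹ * e * x) * h⁻¹) * x⁻¹ := by group
      _ = _ := by rw [hh _ (inv_conj_mem_of_mem_normalizer hx he)]; group
  obtain ⟨S, hS1, PS⟩ := exists_isSyl_ge H.pg (H.PM.trans MN)
  have hS2 : IsSyl 2 S ⊤ := hS1.of_le_of_isSyl le_top hT TN
  have c1 : Nat.card S ≤ 2 * Nat.card P := by
    have q1 := hS.card_le (hT.pgrp.to_le (inf_le_left : T ⊓ M ≤ T)) inf_le_right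
    rw [hS2.card_eq hT]
    by_cases q2 : T ≤ M
    · rw [inf_eq_left.2 q2] at q1; omega
    obtain ⟨x, hx, xM⟩ := SetLike.not_le_iff_exists.1 q2
    rw [card_of_idx (E := T ⊓ M) inf_le_left hx (fun h => xM h.2) fun y hy => ?_]
    · omega
    refine (hTe y hy).imp (fun h => ⟨hy, TM y hy h⟩) fun h => ⟨mul_mem hx hy, TM _ (mul_mem hx hy) ?_⟩
    rw [mul_inv_rev, ← mul_assoc, mul_assoc x, mul_assoc x, h, ← conj_mul,
      (hTe x hx).resolve_left (mt (TM x hx) xM), hz x hx, mul_inv_cancel_right, ← mul_assoc, L.z2,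
      one_mul]
  obtain ⟨x, hx, xP⟩ := SetLike.exists_of_lt (lt_of_le_of_ne PS fun e => C.not_syl H hG (e ▸ hS2))
  have idx : ∀ x ∈ S, x ∉ P → ∀ y ∈ S, y ∈ P ∨ x * y ∈ P := fun x hx xP y hy =>
    idx_of_card PS hx xP c1 hy
  have SP : S ≤ 𝐍[P] := (normal_subgroupOf_iff_le_normalizer PS).1
    (normal_of_index_eq_two (relIndex_two hx xP (idx x hx xP)))
  have fix : t * (x * t * x⁻¹) ∈ A := by
    have q1 := conj_mem_of_mem_normalizer (SP hx) H.tP
    rcases hfix with h5 | h5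
    · exact h5 _ q1 (conj_J (.refl t) x)
    have q2 := nM x⁻¹ (inv_mem (hS1.le hx))
    obtain ⟨p, hp, q3⟩ := (C.cls _).2 (h5 _ (mem_inf.2 ⟨q2, mul_mem (mul_mem (inv_mem (SP hx)) H.hP)
      (inv_mem (inv_mem (SP hx)))⟩))
    have q4 : h * (x * t * x⁻¹) * h⁻¹ = x * p * x⁻¹ * (x * t * x⁻¹) * (x * p * x⁻¹)⁻¹ := by
      calc _ = x * (x⁻¹ * h * x⁻¹⁻¹ * t * (x⁻¹ * h * x⁻¹⁻¹)⁻¹) * x⁻¹ := by group
        _ = _ := by rw [← q3]; group
    have q5 : h * (t * (x * t * x⁻¹)) * h⁻¹ * (t * (x * t * x⁻¹))⁻¹ ∈ A := by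
      rw [J_comm H.ht, q4]
      convert C.nA t H.tP _ (comm_mem_of_sq C.sq (conj_mem_of_mem_normalizer (SP hx) hp) q1) using 1
      group
    have q6 := C.JP H q1 (conj_J (.refl t) x)
    generalize t * (x * t * x⁻¹) = f at q5 q6
    by_contra fA
    have q7 : ∀ k : ℕ, h ^ k * f * (h ^ k)⁻¹ * f⁻¹ ∈ A := fun k => by
      induction k with
      | zero => simp
      | succ k ih =>
        convert mul_mem (C.nP H H.hP H.ht ih) q5 using 1
        rw [pow_succ']; group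
    obtain ⟨y, hy, yA⟩ := C.exists_out H h4 le_rfl C.AF (f := f⁻¹) fun y hy => by
      by_cases yA : y ∈ A
      · exact Or.inl yA
      obtain ⟨k, hk⟩ := C.tr f q6 y hy fA yA
      right
      convert C.nA _ (inv_mem (C.FP q6)) _ (mul_mem (inv_mem hk) (q7 k)) using 1
      group
    exact yA hy
  obtain ⟨p, hp, q1⟩ := (C.cls _).2 fix
  have q2 : p⁻¹ * x ∈ S ⊓ centralizer {t} := mem_inf.2 ⟨mul_mem (inv_mem (PS hp)) hx,
    mem_centralizer_singleton_iff.2 (by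
      calc p⁻¹ * x * t = p⁻¹ * (x * t * x⁻¹) * x := by group
        _ = _ := by rw [← q1]; group)⟩
  have q3 : IsSyl 2 (S ⊓ centralizer {t}) (centralizer {t}) :=
    L.syl.of_card_ge (hS1.pgrp.to_le inf_le_left) inf_le_right (by
      have q3 := card_le_half (K := P ⊓ centralizer {t}) (inf_le_inf_right _ PS) q2
        fun h => xP ((mul_mem_cancel_left (inv_mem hp)).1 h.1)
      have q4 := card_le_half (L := P ⊓ centralizer {t})
        (fun e he => ⟨H.EP he, mem_centralizer_singleton_iff.2 (H.Et e he)⟩)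
        ⟨H.tP, mem_centralizer_singleton_iff.2 rfl⟩ H.tE
      rw [L.cardR c4]
      omega)
  obtain ⟨k, hk, q4⟩ := q3.exists_cj_eq L.syl
  have L' := L.cj (mem_centralizer_singleton_iff.1 hk)
  rw [q4] at L'
  generalize cj(k, D) = D' at L'
  generalize k * c * k⁻¹ = c' at L'
  obtain ⟨δ, hδ, δc, δP⟩ : ∃ δ ∈ D', δ ∉ zpowers c' ∧ δ ∉ P := by
    by_contra hc
    push Not at hc
    have q5 : D' ≤ P := fun y hy => by
      by_cases h : y ∈ zpowers c'
      · obtain ⟨e, he, h1⟩ := L'.dh.ex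
        exact (mul_mem_cancel_right (hc e he h1)).1
          (hc _ (mul_mem hy he) (mt (mul_mem_cancel_left h).1 h1))
      · exact hc y hy h
    refine xP ((mul_mem_cancel_left (inv_mem hp)).1 ?_)
    rcases (L'.mem _).1 q2 with h | h
    · exact q5 h
    · exact (mul_mem_cancel_left H.tP).1 (q5 h)
  have δ2 := L'.dh.sq δ hδ δc
  have δJ := L'.DJ hδ
  have δJ' := L'.tdJ hG hδ δ2
  have δt := L'.toLoc.ct (L'.toLoc.DR hδ)
  have δS := (L'.toLoc.DR hδ).1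
  have δi := inv_eq_of_mul_eq_one_right δ2
  have δE : ∃ e ∈ E, δ * e * δ⁻¹ ≠ e := by
    by_contra hc
    push Not at hc
    exact δP (C.mem_syl H hS ((memM δ).2 ⟨0, fun e he => by rw [hc e he]; simp⟩) (SP δS)
      ⟨1, by rw [pow_one, pow_two, δ2]⟩)
  have δF : ∀ y ∈ F, δ * y * δ⁻¹ ∈ F := by
    have g1 : δ * h * δ⁻¹ ∈ 𝐍[P] := mul_mem (mul_mem (SP δS) H.hP) (inv_mem (SP δS))
    have g2 : δ * h * δ⁻¹ * t = t * (δ * h * δ⁻¹) :=
      ((Commute.mul_left δt H.ht).mul_left (Commute.inv_left δt)).eq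
    obtain ⟨i, hi⟩ := (memM _).1 (nM δ (hS1.le δS))
    have g3 : ∀ y ∈ F, δ * h * δ⁻¹ * y * (δ * h * δ⁻¹)⁻¹ ∈ F := fun y hy =>
      C.pres H hS (nM δ (hS1.le δS)) g1 g2 (k := i)
        (fun e he => by rw [hi e he, pow_act H₀.hE hh i e he]) hy
    have g4 : ∀ a ∈ A, δ * a * δ⁻¹ ∈ A := fun a ha => C.nP H (SP δS) δt ha
    obtain ⟨f, g6⟩ : ∃ f, ∀ y ∈ F, y ∈ F ⊓ cj(δ⁻¹, F) ∨ f * y ∈ F ⊓ cj(δ⁻¹, F) := by
      by_cases g6 : ∀ y ∈ F, δ * y * δ⁻¹ ∈ F
      · exact ⟨1, fun y hy => Or.inl ⟨hy, mem_cj.2 (by simpa using g6 y hy)⟩⟩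
      push Not at g6
      obtain ⟨f, hf, g6⟩ := g6
      refine ⟨f, fun y hy => or_iff_not_imp_left.2 fun g7 => ⟨mul_mem hf hy, mem_cj.2 ?_⟩⟩
      have := C.out H (conj_mem_of_mem_normalizer (SP δS) (C.FP hf))
        (conj_mem_of_mem_normalizer (SP δS) (C.FP hy)) g6
        fun h => g7 ⟨hy, mem_cj.2 (by simpa using h)⟩
      simpa [mul_assoc] using this
    obtain ⟨x, ⟨hx1, hx2⟩, xA⟩ := C.exists_out H h4 (K := F ⊓ cj(δ⁻¹, F))
      (fun a ha => ⟨C.AF ha, mem_cj.2 (by simpa using C.AF (g4 a ha))⟩) inf_le_left g6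
    intro y hy
    by_cases yA : y ∈ A
    · exact C.AF (g4 y yA)
    obtain ⟨k, hk⟩ := C.tr x hx1 y hy xA yA
    have := mul_mem (inv_mem (C.AF (g4 _ hk))) (conj_mem_of_mem_normalizer
      (pow_mem (conj_mem_inv g3) k) (mem_cj.1 hx2))
    rw [conj_pow] at this
    convert this using 1
    group
  have δN : ∀ e ∈ E, δ * e * δ⁻¹ ∈ E := fun e he => conj_mem_of_mem_normalizer (hS1.le δS) he
  have bd : ∀ g ∈ 𝐍[P], g * t = t * g → (∀ e ∈ E, g * e * g⁻¹ = δ * e * δ⁻¹) →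
      Nat.card ↥(P ⊓ centralizer {g}) ^ 2 ≤ 2 * Nat.card P := fun g hg gt ge => by
    have := C.free h4 g hg gt (fun e he => ge e he ▸ δN e he)
      (by obtain ⟨e, he, h⟩ := δE; exact ⟨e, he, ge e he ▸ h⟩) 1 odd_one
    convert this using 2
    refine congrArg Set.ncard (Set.ext fun y => and_congr_right fun _ => ?_)
    rw [zpow_one, mul_inv_eq_iff_eq_mul, eq_comm]
    exact mem_centralizer_singleton_iff
  have b1 := bd δ (SP δS) δt fun _ _ => rfl
  have b2 := bd (t * δ) (mul_mem (le_normalizer H.tP) (SP δS)) (Commute.mul_left rfl δt).eq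
    fun e he => by
      rw [mul_inv_rev, ← mul_assoc, mul_assoc t, mul_assoc t, ← H.Et _ (δN e he),
        mul_inv_cancel_right]
  have b3 := C.free h4 δ (SP δS) δt δN δE (-1) (by decide)
  rw [← Set.ncard_image_of_injective _ (mul_right_injective δ)] at b3
  have sub : ∀ s ∈ S, s ∉ P → s * s = 1 →
      s ∈ (δ * ·) '' {y | y ∈ P ∧ δ * y * δ⁻¹ = y ^ (-1 : ℤ)} := fun s hs sP s2 =>
    ⟨δ * s, ⟨(idx δ δS δP s hs).resolve_left sP, by
      rw [zpow_neg_one, mul_inv_rev, ← mul_assoc, δ2, one_mul, inv_eq_of_mul_eq_one_right s2]⟩,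
      by simp [← mul_assoc, δ2]⟩
  have sub' : ∀ s ∈ S, s ∉ P → s * s = 1 → {a | ∃ g ∈ P, g * s * g⁻¹ = a} ⊆
      (δ * ·) '' {y | y ∈ P ∧ δ * y * δ⁻¹ = y ^ (-1 : ℤ)} := by
    rintro s hs sP s2 _ ⟨g, hg, rfl⟩
    exact sub _ (mul_mem (mul_mem (PS hg) hs) (inv_mem (PS hg)))
      (by rwa [mul_mem_cancel_right (inv_mem hg), mul_mem_cancel_left hg])
      (by rw [conj_mul, s2]; simp)
  have b4 := Set.eq_of_subset_of_ncard_le (Set.union_subset (sub' δ δS δP δ2)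
    (sub' (t * δ) (mul_mem (PS H.tP) δS) (by rwa [mul_mem_cancel_left H.tP]) (sq_J L.t2 δJ'))) (by
      rw [Set.ncard_union_eq (Set.disjoint_left.2 (by
        rintro _ ⟨g, -, rfl⟩ ⟨g', -, e⟩
        exact δJ (J_iff.1 (e ▸ conj_J δJ' g'))))]
      exact count_aux (ncard_cls P δ) (ncard_cls P (t * δ)) b1 b2 Nat.card_pos b3)
  have tF : ∀ y ∈ F, t * y * t⁻¹ ∈ F := fun y hy => by
    have := C.out H H.tP (mul_mem (C.FP hy) (inv_mem H.tP)) C.tF
      (by rw [mul_mem_cancel_left hy, inv_mem_iff]; exact C.tF)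
    rwa [← mul_assoc] at this
  refine (transfer hG hS2 (M := ext2 F δ δF (δ2 ▸ one_mem _)) (fun a ha b hb =>
    comm_mem_of_sq (fun y hy => Or.inl ?_) ha hb) L.t2 (PS H.tP) fun s hs hJ => ?_).elim C.tF
    fun h => δP ((mul_mem_cancel_right H.tP).1 (C.FP h))
  · rcases idx δ δS δP y hy with h | h
    · exact C.AF (C.sq y h)
    · have := mul_mem (C.same H (SP δS) δF h) (C.AF (C.sq _ h))
      convert this using 1
      rw [δi, ← mul_assoc δ δ, δ2]
      calc _ = y * (δ * δ) * y := by rw [δ2, mul_one]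
        _ = _ := by group
  · by_cases sP : s ∈ P
    · exact Or.inl (C.JP H sP hJ)
    rcases b4.ge (sub s hs sP (sq_J L.t2 hJ)) with ⟨g, -, rfl⟩ | ⟨g, hg, rfl⟩
    · exact absurd (J_iff.1 hJ) δJ
    · right
      have := C.same H (mul_mem (SP δS) (le_normalizer H.tP)) (fun y hy => by
        simpa [mul_assoc] using δF _ (tF y hy)) hg
      convert this using 1
      rw [mul_inv_rev, δi, inv_eq_of_mul_eq_one_right L.t2]
      group

end LB

end Cfsg.Agent.KSG.Z2L
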