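import Mathlib
import Cfsg.Agent.KSG.Z2LB2
import Cfsg.Agent.Transfer.ThompsonExtremal
import Cfsg.Agent.Inv.NormalFour

/-! The case of a non-abelian dihedral `D` is impossible in a perfect group. -/

set_option autoImplicit false
set_option linter.unusedSectionVars false

namespace Cfsg.Agent.KSG.Z2L

open Subgroup Cfsg.Agent.PLocal.Amb Cfsg.Agent.Class.Dickson

universe u

variable {G : Type u} [Group G] [Finite G]

theorem Loc.extremal {t : G} {D R T Q : Subgroup G} (L : Loc t D R)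
    (hG : ⁅(⊤ : Subgroup G), (⊤ : Subgroup G)⁆ = ⊤) (hT : IsSyl 2 T ⊤) (QT : Q ≤ T)
    (h : Q.relIndex T = 2) : ∃ g, g * t * g⁻¹ ∈ Q ∧ cj(g, R) ≤ T := by
  have : Fact (Nat.Prime 2) := ⟨Nat.prime_two⟩
  refine (Transfer.thompson_transfer_extremal (Nat.not_even_iff_odd.1 fun e =>
    hT.not_dvd_relIndex (by rw [relIndex_top_right]; exact e.two_dvd)) QT h
    (by rw [pow_two, L.t2]) L.syl.pgrp fun _ => L.ct).resolve_left ?_
  rintro ⟨M, -, h1, h2⟩
  exact h2 ((commutator_le.2 fun a _ b _ => comm_mem_of_sq (T := ⊤)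
    (fun x _ => mul_self_mem_of_index_two h1 x) trivial trivial).trans' hG.ge trivial)

namespace LB

variable {t c z : G} {D R : Subgroup G} (L : LB t c z D R)
  (hG : ⁅(⊤ : Subgroup G), (⊤ : Subgroup G)⁆ = ⊤)
include L hG

omit hG in
theorem tz_mul {a b y : G} (ha : a * z = z * a) (h1 : a * y * a⁻¹ = y ∨ a * y * a⁻¹ = z * y)
    (h2 : b * y * b⁻¹ = y ∨ b * y * b⁻¹ = z * y) :
    a * b * y * (a * b)⁻¹ = y ∨ a * b * y * (a * b)⁻¹ = z * y := by
  rw [mul_inv_rev, ← mul_assoc, mul_assoc a, mul_assoc a]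
  rcases h2 with h2 | h2 <;> rw [h2]
  · exact h1
  · rw [← conj_mul, ha, mul_inv_cancel_right]
    rcases h1 with h1 | h1 <;> simp [h1, ← mul_assoc, L.z2]

theorem fin (c4 : c * c ≠ z) {e : G} (he : e ∈ D) (ec : e ∉ zpowers c) {s r : G}
    (sJ : IsConj t s) (rJ : IsConj t r) (sz : s * z = z * s) (st : s * t * s⁻¹ = t * z)
    (rt : r * t * r⁻¹ = t * z) (hs : ∀ y ∈ D, s * y * s⁻¹ = y ∨ s * y * s⁻¹ = z * y)
    (hr : ∀ y ∈ D, r * y * r⁻¹ = y ∨ r * y * r⁻¹ = z * y) (hd : s * t * r ∈ D) :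
    r * e * r⁻¹ = z * (s * e * s⁻¹) ∧ s * e * s⁻¹ ≠ e := by
  have s2 := sq_J L.t2 sJ
  have si := inv_eq_of_mul_eq_one_right s2
  have ti := inv_eq_of_mul_eq_one_right L.t2
  have tD : ∀ y ∈ D, t * y * t⁻¹ = y := fun y hy => by
    rw [← L.toLoc.ct (L.toLoc.DR hy), mul_inv_cancel_right]
  have tz := L.zcen L.toLoc.tR
  have h1 : ∀ y ∈ D, s * t * r * y * (s * t * r)⁻¹ = y ∨ s * t * r * y * (s * t * r)⁻¹ = z * y :=
    fun y hy => L.tz_mul (Commute.mul_left sz tz).eq (L.tz_mul sz (hs y hy) (Or.inl (tD y hy)))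
      (hr y hy)
  have h2 : r = t * s * (s * t * r) := by
    rw [← mul_assoc, ← mul_assoc, mul_assoc t, s2, mul_one, L.t2, one_mul]
  have r2 := sq_J L.t2 rJ
  generalize s * t * r = d at h1 h2 hd
  subst h2
  have dc : d ∈ zpowers c := by
    by_contra dc
    rcases h1 c L.dh.mem with h | h <;> rw [L.dh.inv hd dc (mem_zpowers c)] at h
    · exact L.c2 (mul_eq_one_iff_eq_inv.2 h.symm)
    · exact c4 (by rw [← L.zinv, eq_inv_iff_mul_eq_one, L.zcen (L.toLoc.DR (mul_mem L.dh.mem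
        L.dh.mem)), ← mul_assoc, ← h, inv_mul_cancel])
  have h3 : t * s * t = s * z := by
    rw [← mul_right_inj s, ← mul_assoc, ← mul_assoc, ← mul_assoc, s2, one_mul]
    nth_rw 2 [← si]
    rw [st, mul_assoc, ← tz, L.toLoc.tt]
  have dt := L.toLoc.ct (L.toLoc.DR hd)
  have h4 : z * (s * d * s⁻¹) * d = 1 := by
    rw [← r2, si, ← mul_assoc, ← mul_assoc, ← sz, ← h3, mul_assoc _ t d, ← dt]; group
  have h5 : d * d = z := by
    have h5 := h1 e he
    rw [L.dh.inv' he ec dc, mul_left_inj, mul_eq_right] at h5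
    refine h5.resolve_left fun h6 => L.z1 ?_
    rcases L.uniq d dc h6 with rfl | rfl
    · simpa using h4
    · rwa [sz, mul_inv_cancel_right, L.z2, one_mul] at h4
  have h6 : s * d * s⁻¹ = d := (hs d hd).resolve_right fun h => L.z1 (by
    rwa [h, ← mul_assoc, L.z2, one_mul, h5] at h4)
  have h7 : t * s * d * e * (t * s * d)⁻¹ = z * (s * e * s⁻¹) := by
    calc _ = t * (s * (d * e * d⁻¹) * s⁻¹) * t⁻¹ := by group
      _ = t * (z * (s * e * s⁻¹)) * t⁻¹ := by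
        rw [L.dh.inv' he ec dc, h5, ← conj_mul (a := z), sz, mul_inv_cancel_right]
      _ = _ := tD _ (mul_mem L.zD (by
        rcases hs e he with h | h <;> rw [h]
        exacts [he, mul_mem L.zD he]))
  refine ⟨h7, fun h8 => ?_⟩
  have e2 := L.dh.sq e he ec
  have h9 := (L.star hG rJ (y := t * e) (sq_J L.t2 (L.tdJ hG he e2)) (by
    rw [eq_comm, ← mul_inv_eq_iff_eq_mul, ← conj_mul, rt, h7, h8, mul_assoc, ← mul_assoc z, L.z2,
      one_mul])).1 (L.tdJ hG he e2)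
  have yD : z * d * e ∈ D := mul_mem (mul_mem L.zD hd) he
  refine h9 (by_contra fun h10 => L.DJ yD ((L.star hG sJ (L.dh.sq _ yD
    (mt (mul_mem_cancel_left (mul_mem L.zmem dc)).1 ec)) ?_).2 ?_))
  · rw [eq_comm, ← mul_inv_eq_iff_eq_mul, ← conj_mul, ← conj_mul, h6, h8, sz, mul_inv_cancel_right]
  · rwa [← mul_assoc, ← mul_assoc, ← h3, mul_assoc _ t d, ← dt, ← mul_assoc, mul_assoc _ t e]

theorem b1 {T : Subgroup G} (hT : IsSyl 2 T ⊤) (RT : R ≤ T) (hc : Nat.card T ≤ 2 * Nat.card R) :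
    False := by
  obtain ⟨x, hx, xR⟩ := SetLike.exists_of_lt (lt_of_le_of_ne RT fun e => L.not_syl hG (e ▸ hT))
  have idx : ∀ x ∈ T, x ∉ R → ∀ y ∈ T, y ∈ R ∨ x * y ∈ R := fun x hx xR y hy =>
    idx_of_card RT hx xR hc hy
  have TN : T ≤ 𝐍[R] := (normal_subgroupOf_iff_le_normalizer RT).1
    (normal_of_index_eq_two (relIndex_two hx xR (idx x hx xR)))
  have ct : ∀ x ∈ T, x ∉ R → x * t * x⁻¹ = t * z := fun x hx xR =>
    L.conj_t (TN hx) (mt (L.toLoc.cent hT.pgrp RT hx) xR)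
  have cz : ∀ x ∈ T, x * z = z * x := fun x hx => L.conj_z hG (TN hx)
  have cD : ∀ x ∈ T, ∀ d ∈ D, x * d * x⁻¹ ∈ D := fun x hx d => L.conj_D hG (TN hx)
  have tT := RT L.toLoc.tR
  by_cases hJ : ∀ s ∈ T, IsConj t s → s ∈ R
  · have h1 : ∀ r ∈ R, ∀ a ∈ T, r * a * r⁻¹ * a⁻¹ ∈ D := fun r hr a ha => by
      have h2 : ∀ r ∈ D, r * a * r⁻¹ * a⁻¹ ∈ D := fun r hr => by
        simpa [mul_assoc] using mul_mem hr (cD a ha _ (inv_mem hr))
      rcases (L.mem r).1 hr with h | h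
      · exact h2 r h
      have h3 : t⁻¹ * (a * t * a⁻¹) ∈ D := by
        by_cases aR : a ∈ R
        · rw [L.toLoc.ct aR]; simp
        · rw [ct a ha aR]; simpa using L.zD
      convert mul_mem (cD _ (inv_mem tT) _ (h2 _ h)) h3 using 1
      group
    refine L.tD (transfer hG hT (fun a ha b hb => ?_) L.t2 tT fun s hs h =>
      ((L.mem s).1 (hJ s hs h)).resolve_left fun h' => L.DJ h' h)
    by_cases aR : a ∈ R
    · exact h1 a aR b hb
    rcases idx a ha aR b⁻¹ (inv_mem hb) with h | h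
    · convert inv_mem (h1 b (inv_mem_iff.1 h) a ha) using 1
      group
    · convert h1 _ h b hb using 1
      group
  push Not at hJ
  obtain ⟨s, hs, sJ, sR⟩ := hJ
  have key : ∀ w ∈ T, w ∉ R → w * w ∈ D → ∃ r ∈ T, r ∉ R ∧ IsConj t r ∧ w * r ∈ D ∧
      ∀ y ∈ D, r * y * r⁻¹ = y ∨ r * y * r⁻¹ = z * y := fun w hw wR w2 => by
    obtain ⟨g, h1, h2⟩ := L.toLoc.extremal hG hT (Q := ext2 D w (cD w hw) w2)
      (fun y hy => hy.elim (fun h => RT (L.toLoc.DR h))
        fun h => (mul_mem_cancel_left hw).1 (RT (L.toLoc.DR h)))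
      (relIndex_two tT (fun h => h.elim L.tD fun h =>
        wR ((mul_mem_cancel_right L.toLoc.tR).1 (L.toLoc.DR h))) fun y hy => by
          rcases idx w hw wR y hy with h | h <;> rcases (L.mem _).1 h with h | h
          · exact Or.inl (Or.inl h)
          · exact Or.inr (Or.inl h)
          · exact Or.inl (Or.inr h)
          · refine Or.inr (Or.inr ?_)
            convert mul_mem L.zD h using 1
            rw [← mul_assoc z, ← L.zcen L.toLoc.tR, ← ct w hw wR]; group)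
    have h3 := h1.resolve_left fun h => L.DJ h (conj_J (.refl t) g)
    have h4 : g * t * g⁻¹ ∉ R := fun h => wR ((mul_mem_cancel_right h).1 (L.toLoc.DR h3))
    have h5 := h2 (conj_mem_cj g L.toLoc.tR)
    have h6 : ∀ y ∈ cj(g, R), g * t * g⁻¹ * y * (g * t * g⁻¹)⁻¹ = y := by
      rintro _ ⟨y, hy, rfl⟩
      change g * t * g⁻¹ * (g * y * g⁻¹) * _ = g * y * g⁻¹
      rw [conj_mul, ← L.toLoc.ct hy, ← conj_mul, mul_inv_cancel_right]
    refine ⟨_, h5, h4, conj_J (.refl t) g, h3, fun y hy => ?_⟩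
    refine (idx_of_card h2 tT (fun h => h4 (L.toLoc.cent hT.pgrp RT h5
      (mul_inv_eq_iff_eq_mul.1 (h6 t h)))) (by rwa [card_cj]) (RT (L.toLoc.DR hy))).imp (h6 y)
      fun h => ?_
    have := h6 _ h
    rw [← conj_mul, ct _ h5 h4, mul_assoc, mul_right_inj] at this
    conv_rhs => rw [← this, ← mul_assoc, L.z2, one_mul]
  have s2 := sq_J L.t2 sJ
  obtain ⟨a, ha, aR, aJ, a1, a2⟩ := key s hs sR (s2 ▸ one_mem _)
  obtain ⟨b, hb, bR, bJ, b1, b2⟩ := key (s * t) (mul_mem hs tT)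
    (mt (mul_mem_cancel_right L.toLoc.tR).1 sR) (by
      rw [← mul_assoc]
      nth_rw 2 [← inv_eq_of_mul_eq_one_right s2]
      rw [ct s hs sR, mul_assoc, ← L.zcen L.toLoc.tR, L.toLoc.tt]
      exact L.zD)
  have ai := inv_eq_of_mul_eq_one_right (sq_J L.t2 aJ)
  have hd : a * t * b ∈ D := by
    convert mul_mem (inv_mem a1) b1 using 1
    rw [mul_inv_rev, ai]; group
  obtain ⟨e, he, ec⟩ := L.dh.ex
  by_cases c4 : c * c = z
  · have h1 : ∀ y ∈ D, y * e * y⁻¹ = e ∨ y * e * y⁻¹ = z * e := fun y hy => by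
      have h2 : ∀ y ∈ zpowers c, y * e * y⁻¹ = e ∨ y * e * y⁻¹ = z * e := fun y hy => by
        rw [L.dh.inv' he ec hy, mul_left_inj, mul_eq_right]
        refine L.uniq _ (mul_mem hy hy) ?_
        obtain ⟨i, rfl⟩ := hy
        rw [← (Commute.refl c).mul_zpow, c4, ← (Commute.refl z).mul_zpow, L.z2, one_zpow]
      by_cases h : y ∈ zpowers c
      · exact h2 y h
      · convert h2 _ (L.dh.mul y hy e he h ec) using 2 <;> group
    have h2 : ∀ y ∈ R, y * e * y⁻¹ = e ∨ y * e * y⁻¹ = z * e := fun y hy => by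
      rcases (L.mem y).1 hy with h | h
      · exact h1 y h
      · rw [← L.toLoc.tt y]
        exact L.tz_mul (L.zcen L.toLoc.tR) (Or.inl (by
          rw [← L.toLoc.ct (L.toLoc.DR he), mul_inv_cancel_right])) (h1 _ h)
    refine L.b2 hG c4 he ec hT cz fun y hy => ?_
    rcases idx a ha aR y hy with h | h
    · exact h2 y h
    · rw [← inv_mul_cancel_left a y, ai]
      exact L.tz_mul (cz a ha) (a2 e he) (h2 _ h)
  · obtain ⟨h1, h2⟩ := L.fin hG c4 he ec aJ bJ (cz a ha) (ct a ha aR) (ct b hb bR) a2 b2 hd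
    refine (L.fin hG c4 he ec bJ aJ (cz b hb) (ct b hb bR) (ct a ha aR) b2 a2 ?_).2 ?_
    · convert inv_mem hd using 1
      rw [mul_inv_rev, mul_inv_rev, ai, inv_eq_of_mul_eq_one_right (sq_J L.t2 bJ),
        inv_eq_of_mul_eq_one_right L.t2, mul_assoc]
    · rw [h1, (a2 e he).resolve_left h2, ← mul_assoc, L.z2, one_mul]

omit L hG in
theorem four_struct {T U : Subgroup G} (hT : IsPGroup 2 T) (UT : U ≤ T) (TU : T ≤ 𝐍[U])
    (hU : IsKleinFour U) : ∃ v u, ∃ K : KleinPair v u, K.sub = U ∧ (∀ x ∈ T, x * v = v * x) ∧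
      (∀ x ∈ T, x * u * x⁻¹ = u ∨ x * u * x⁻¹ = v * u) ∧
      (T ≤ centralizer {u} ∨ (T ⊓ centralizer {u}).relIndex T = 2) := by
  have : Fact (Nat.Prime 2) := ⟨Nat.prime_two⟩
  obtain ⟨⟨v, hv⟩, v1⟩ := ne_bot_iff_exists_ne_one.1 (inf_centralizer_ne_bot hT (hT.to_le UT) TU
    fun e => by have := hU.card_four; rw [e, card_bot] at this; omega)
  have v1' : v ≠ 1 := fun e => v1 (Subtype.ext e)
  obtain ⟨u, hu, u1, uv, -⟩ := exists_ne3 hU.card_four.ge v 1
  have K := kleinPair_of_mem hU hv.1 hu v1' u1 uv.symm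
  have h1 := K.sub_eq hU hv.1 hu
  have h2 : ∀ x ∈ T, x * v = v * x := fun x hx => mem_centralizer_iff.1 hv.2 x hx
  have h3 : ∀ x ∈ T, x * u * x⁻¹ = u ∨ x * u * x⁻¹ = v * u := fun x hx => by
    rcases h1.ge (conj_mem_of_mem_normalizer (TU hx) hu) with h | h | h | h
    · exact absurd (conj_eq_one_iff.1 h) u1
    · rw [mul_inv_eq_iff_eq_mul, ← h2 x hx, mul_right_inj] at h
      exact absurd h uv
    · exact Or.inl h
    · exact Or.inr h
  refine ⟨v, u, K, h1, h2, h3, or_iff_not_imp_left.2 fun h => ?_⟩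
  obtain ⟨x, hx, h⟩ := SetLike.not_le_iff_exists.1 h
  refine relIndex_two hx (fun e => h e.2) fun y hy => (h3 y hy).imp
    (fun e => ⟨hy, mem_centralizer_singleton_iff.2 (mul_inv_eq_iff_eq_mul.1 e)⟩) fun e =>
      ⟨mul_mem hx hy, mem_centralizer_singleton_iff.2 (mul_inv_eq_iff_eq_mul.1 ?_)⟩
  rw [mul_inv_rev, ← mul_assoc, mul_assoc x, mul_assoc x, e, ← conj_mul, (h3 x hx).resolve_left
    fun e => h (mem_centralizer_singleton_iff.2 (mul_inv_eq_iff_eq_mul.1 e)), h2 x hx,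
    mul_inv_cancel_right, ← mul_assoc, K.sq_left, one_mul]

theorem exists_four : ∃ T U : Subgroup G, IsSyl 2 T ⊤ ∧ R ≤ T ∧ U ≤ R ∧ T ≤ 𝐍[U] ∧
    IsKleinFour U := by
  have : Fact (Nat.Prime 2) := ⟨Nat.prime_two⟩
  obtain ⟨T, hT, RT⟩ := exists_isSyl_ge L.syl.pgrp le_top
  obtain ⟨e, he, ec⟩ := L.dh.ex
  have K := L.klein he ec
  have le : K.sub ≤ D := L.sub_le he ec
  have h0 : ∀ x ∈ K.sub, t * x * t⁻¹ = x := fun x hx => by
    rw [← L.toLoc.ct (L.toLoc.DR (le hx)), mul_inv_cancel_right]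
  let E := ext2 K.sub t (fun x hx => (h0 x hx).symm ▸ hx) (L.t2 ▸ one_mem _)
  have ER : E ≤ R := fun x hx => (L.mem x).2 (hx.imp (@le _) (@le _))
  obtain ⟨U, hn, hU⟩ := Inv.exists_normal_kleinFour hT.pgrp (E := E.subgroupOf T) (by
    rw [Grp.card_subgroupOf_of_le (ER.trans RT), card_of_idx (E := K.sub) (fun x hx => Or.inl hx)
      (Or.inr (L.t2 ▸ one_mem _)) (mt (@le t) L.tD) fun y hy => hy, K.isKleinFour.card_four])
    fun x hx => Subtype.ext (by
      have sq : ∀ x ∈ K.sub, x * x = 1 := fun x hx =>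
        congrArg Subtype.val (K.isKleinFour.mul_self ⟨x, hx⟩)
      rw [pow_two]
      rcases hx with h | h
      · exact sq _ h
      · have : t * x * (t * x) = 1 := sq _ h
        rwa [mul_assoc, ← mul_assoc (x : G), L.toLoc.ct (x := x) (ER (Or.inr h)), mul_assoc,
          L.toLoc.tt] at this)
  have hU' : IsKleinFour (U.map T.subtype) :=
    ⟨by rw [card_subtype, hU.card_four], (Monoid.exponent_eq_of_mulEquiv
      (U.equivMapOfInjective _ T.subtype_injective)).symm.trans hU.exponent_two⟩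
  have TU := le_normalizer_map_subtype U
  have UT := map_subtype_le U
  generalize U.map T.subtype = V at hU' TU UT
  obtain ⟨v, u, K', rfl, h1, -, h3⟩ := four_struct hT.pgrp UT TU hU'
  obtain ⟨g, h4, h5⟩ : ∃ g, g * t * g⁻¹ ∈ T ⊓ centralizer {u} ∧ cj(g, R) ≤ T := by
    rcases h3 with h3 | h3
    · exact ⟨1, by simpa using ⟨RT L.toLoc.tR, h3 (RT L.toLoc.tR)⟩, by rwa [cj_one]⟩
    · exact L.toLoc.extremal hG hT inf_le_left h3
  have h6 : IsSyl 2 cj(g⁻¹, T) ⊤ := hT.cj_of_mem trivial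
  refine ⟨_, cj(g⁻¹, K'.sub), h6, cj_le_iff.1 h5, fun x hx => L.toLoc.cent h6.pgrp (cj_le_iff.1 h5)
    (cj_mono _ UT hx) ?_, normalizer_cj g⁻¹ _ ▸ cj_mono _ TU,
    ⟨by rw [card_cj, hU'.card_four], (Monoid.exponent_eq_of_mulEquiv
      (K'.sub.equivMapOfInjective _ (MulAut.conj g⁻¹).injective)).symm.trans hU'.exponent_two⟩⟩
  obtain ⟨y, hy, rfl⟩ := mem_cj_iff_exists.1 hx
  have h7 : y * (g * t * g⁻¹) = g * t * g⁻¹ * y := by
    have a1 : Commute v (g * t * g⁻¹) := (h1 _ h4.1).symm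
    have a2 : Commute u (g * t * g⁻¹) := (mem_centralizer_singleton_iff.1 h4.2).symm
    rcases hy with rfl | rfl | rfl | rfl
    exacts [by simp, a1, a2, a1.mul_left a2]
  calc _ = g⁻¹ * (y * (g * t * g⁻¹)) * g := by group
    _ = _ := by rw [h7]; group

theorem false : False := by
  obtain ⟨T, U, hT, RT, UR, TU, hU⟩ := L.exists_four hG
  obtain ⟨v, u, K, rfl, h1, h2, h3⟩ := four_struct hT.pgrp (UR.trans RT) TU hU
  have hlt : R < T := lt_of_le_of_ne RT fun e => L.not_syl hG (e ▸ hT)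
  have vJ := L.toLoc.not_cen hT.pgrp hlt h1
  obtain rfl : v = z := (L.cenD ((L.memD hG (UR (Or.inr (Or.inl rfl))) K.sq_left).2 vJ)
    fun y hy => h1 y (RT (L.toLoc.DR hy))).resolve_left K.ne_one_left
  by_cases uJ : IsConj t u
  · have h4 := L.toLoc.card_le uJ (hT.pgrp.to_le (inf_le_left : T ⊓ centralizer {u} ≤ T))
      fun x hx => mem_centralizer_singleton_iff.1 hx.2
    refine L.b1 hG hT RT ?_
    rcases h3 with h3 | h3
    · rw [inf_eq_left.2 h3] at h4; omega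
    · rw [← Grp.card_mul_relIndex (inf_le_left : T ⊓ centralizer {u} ≤ T), h3]; omega
  have hu := (L.memD hG (UR (Or.inr (Or.inr (Or.inl rfl)))) K.sq_right).2 uJ
  have uc : u ∉ zpowers c := fun h => (L.uniq u h K.sq_right).elim K.ne_one_right K.ne.symm
  refine L.b2 hG ?_ hu uc hT h1 h2
  have := h2 c (RT (L.toLoc.DR L.dh.mem))
  rw [L.dh.inv' hu uc (mem_zpowers c), mul_left_inj, mul_eq_right] at this
  exact this.resolve_left L.c2

end LB

end Cfsg.Agent.KSG.Z2L
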