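import Mathlib
import Cfsg.Agent.KSG.SylowPairing
import Cfsg.Agent.KSG.PartStab
import Cfsg.Agent.KSG.AutSym
import Cfsg.Agent.Grp.PFrattini

/-!
# Overgroups of a Sylow 2-subgroup of `A_n` or `S_n`

A Sylow 2-subgroup lies in a unique maximal subgroup iff `n = 2 ^ k + 1`.
-/

set_option autoImplicit false

namespace Cfsg.Agent.KSG

open Equiv Equiv.Perm Subgroup Cfsg.Agent.PLocal.Amb
open scoped Pointwise

variable {Ω : Type*} [DecidableEq Ω] [Fintype Ω] {G R L : Subgroup (Perm Ω)} {z : Perm Ω}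

theorem le_of_alt_le_of_isSyl (hR : IsSyl 2 R G) (hRL : R ≤ L) (hA : alternatingGroup Ω ≤ L) :
    G ≤ L := by
  intro g hg
  rcases Int.units_eq_one_or (sign g) with h | h
  · exact hA h
  have h1 : R ⊔ alternatingGroup Ω ≤ L := sup_le hRL hA
  have h2 : (alternatingGroup Ω).relIndex G ∣ 2 := by
    have : Nontrivial Ω := by
      by_contra e
      rw [not_nontrivial_iff_subsingleton] at e
      rw [Subsingleton.elim g 1] at h
      simp at h
    rw [← alternatingGroup.index_eq_two (α := Ω)]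
    exact relIndex_dvd_index_of_normal _ _
  have h3 : L.relIndex G = 1 := by
    rcases (Nat.dvd_prime Nat.prime_two).1 ((relIndex_dvd_of_le_left G hA).trans h2) with e | e
    · exact e
    · exact absurd (e ▸ relIndex_dvd_of_le_left G hRL) hR.not_dvd_relIndex
  exact relIndex_eq_one.1 h3 hg

theorem isSyl_trans_of_card {p k : ℕ} [Fact p.Prime] (hA : alternatingGroup Ω ≤ G)
    (hR : IsSyl p R G) (h3 : 3 ≤ Fintype.card Ω) (hn : Fintype.card Ω = p ^ k) (x y : Ω) :
    ∃ r ∈ R, r x = y := by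
  have key : ∀ y, ∃ g ∈ G, g x = y := by
    intro y
    by_cases e : x = y
    · exact ⟨1, one_mem _, e⟩
    obtain ⟨w, hw⟩ := exists_notMem_list [x, y] (by simp; omega)
    simp only [List.mem_cons, List.not_mem_nil, or_false, not_or] at hw
    exact ⟨_, hA (c3_mem_alternatingGroup e (Ne.symm hw.2)), c3_apply_fst e (Ne.symm hw.1)⟩
  have : MulAction.orbit G x = Set.univ := Set.eq_univ_of_forall fun y => by
    obtain ⟨g, hg, h⟩ := key y
    exact ⟨⟨g, hg⟩, h⟩
  obtain ⟨g, hg, rfl⟩ := key y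
  exact isSyl_exists_smul_eq hR (by rw [this, Set.ncard_univ, Nat.card_eq_fintype_card, hn]) hg

theorem isSyl_trans_of_card_succ {p k : ℕ} [Fact p.Prime] (hA : alternatingGroup Ω ≤ G)
    (hR : IsSyl p R G) (h4 : 4 ≤ Fintype.card Ω) (hn : Fintype.card Ω = p ^ k + 1) {i : Ω}
    (hi : ∀ r ∈ R, r i = i) {x y : Ω} (hx : x ≠ i) (hy : y ≠ i) : ∃ r ∈ R, r x = y := by
  have key : ∀ y, y ≠ i → ∃ g ∈ G ⊓ MulAction.stabilizer (Perm Ω) i, g x = y := by
    intro y hy
    by_cases e : x = y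
    · exact ⟨1, one_mem _, e⟩
    obtain ⟨w, hw⟩ := exists_notMem_list [x, y, i] (by simp; omega)
    simp only [List.mem_cons, List.not_mem_nil, or_false, not_or] at hw
    exact ⟨_, ⟨hA (c3_mem_alternatingGroup e (Ne.symm hw.2.1)),
      c3_apply_of_ne hx.symm hy.symm (Ne.symm hw.2.2)⟩, c3_apply_fst e (Ne.symm hw.1)⟩
  have : MulAction.orbit ↥(G ⊓ MulAction.stabilizer (Perm Ω) i) x = {i}ᶜ := by
    ext y
    refine ⟨?_, fun hy => ?_⟩
    · rintro ⟨⟨g, hg⟩, rfl⟩ e
      exact hx (g.injective (e.trans hg.2.symm))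
    · obtain ⟨g, hg, h⟩ := key y hy
      exact ⟨⟨g, hg⟩, h⟩
  obtain ⟨g, hg, rfl⟩ := key y hy
  refine isSyl_exists_smul_eq (k := k) (hR.mono (le_inf hR.le hi) inf_le_left) ?_ hg
  rw [this, Set.ncard_compl, Nat.card_eq_fintype_card, hn]
  simp

theorem alt_le_of_five (h5 : Fintype.card Ω = 5) (hA : alternatingGroup Ω ≤ G) (hR : IsSyl 2 R G)
    (hRL : R ≤ L) {i : Ω} (htr : ∀ x, ∃ g ∈ L, g i = x) : alternatingGroup Ω ≤ L := by
  have : Nontrivial Ω := Fintype.one_lt_card_iff_nontrivial.1 (by omega)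
  have hc : Nat.card (alternatingGroup Ω) = 60 := by
    rw [nat_card_alternatingGroup, Nat.card_eq_fintype_card, h5]; rfl
  have h4 : 4 ∣ Nat.card ↥(L ⊓ alternatingGroup Ω) := by
    refine dvd_trans ?_ (card_dvd_of_le (inf_le_inf_right _ hRL))
    rw [(hR.inf_of_le hA le_normalizer_of_normal).card_eq_pow, hc,
      show (60 : ℕ).factorization 2 = 2 by decide +kernel]
    rfl
  have h5' : 5 ∣ Nat.card ↥(L ⊓ alternatingGroup Ω) := by
    have : MulAction.IsPretransitive L Ω := ⟨fun x y => by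
      obtain ⟨g, hg, rfl⟩ := htr x
      obtain ⟨h, hh, rfl⟩ := htr y
      exact ⟨⟨h * g⁻¹, mul_mem hh (inv_mem hg)⟩, by simp [Subgroup.smul_def]⟩⟩
    have h1 : 5 ∣ Nat.card L := by
      rw [← h5, ← Nat.card_eq_fintype_card, ← MulAction.index_stabilizer_of_transitive L i]
      exact index_dvd_card _
    have h2 : (alternatingGroup Ω).relIndex L ∣ 2 := by
      rw [← alternatingGroup.index_eq_two (α := Ω)]
      exact relIndex_dvd_index_of_normal _ _
    rw [← ((alternatingGroup Ω).subgroupOf L).card_mul_index, ← relIndex,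
      ← inf_subgroupOf_right, Nat.card_congr (subgroupOfEquivOfLe inf_le_right).toEquiv,
      inf_comm] at h1
    exact (Nat.Coprime.coprime_dvd_right h2 (by norm_num)).dvd_of_dvd_mul_right h1
  by_contra h
  have h6 := le_index_alt h5.ge (L.subgroupOf _) (by rwa [ne_eq, subgroupOf_eq_top])
  have h7 := (L.subgroupOf (alternatingGroup Ω)).card_mul_index
  rw [hc, ← inf_subgroupOf_right, Nat.card_congr (subgroupOfEquivOfLe inf_le_right).toEquiv,
    inf_subgroupOf_right] at h7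
  have h8 := Nat.le_of_dvd Nat.card_pos
    ((by norm_num : Nat.Coprime 4 5).mul_dvd_of_dvd_of_dvd h4 h5')
  rw [h5] at h6
  nlinarith

theorem exists_fix_of_two_pow_succ {k : ℕ} (hk : 2 ≤ k) (hn : Fintype.card Ω = 2 ^ k + 1)
    (hA : alternatingGroup Ω ≤ G) (hR : IsSyl 2 R G) :
    ∃ i, (∀ r ∈ R, r i = i) ∧ ∀ L, R ≤ L → ¬ alternatingGroup Ω ≤ L → ∀ g ∈ L, g i = i := by
  obtain ⟨z, hz, hc, -⟩ := exists_pairing hA hR
  have h4 : 2 ^ 2 ≤ 2 ^ k := Nat.pow_le_pow_right (by norm_num) hk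
  obtain ⟨i, hi⟩ := exists_fixed_point_of_prime (p := 2) (n := 1) (σ := z) (by
    obtain ⟨k, rfl⟩ := Nat.exists_eq_add_of_le' hk
    rw [hn, pow_succ]; omega) hz.sq
  have hR' : ∀ r ∈ R, r i = i := fun r hr => hz.fix _ _ (by rw [← hc r hr, hi]) hi
  refine ⟨i, hR', fun L hRL hL g hg => ?_⟩
  by_contra e
  apply hL
  have tr := fun x y => isSyl_trans_of_card_succ hA hR (by omega) hn hR' (x := x) (y := y)
  have htr : ∀ x, ∃ g ∈ L, g i = x := by
    intro x
    by_cases h : x = i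
    · exact ⟨1, one_mem _, h.symm⟩
    obtain ⟨r, hr, h1⟩ := tr _ _ e h
    exact ⟨r * g, mul_mem (hRL hr) hg, h1⟩
  rcases hk.eq_or_lt with rfl | hk
  · exact alt_le_of_five hn hA hR hRL htr
  have h8 : 2 ^ 3 ≤ 2 ^ k := Nat.pow_le_pow_right (by norm_num) hk
  obtain ⟨t, ht, h3⟩ := (hz.of_le hRL).exists_threeCycle_of_fix (by omega)
    ((hz.of_le hRL).conj (inv_mem hg)) hi (fun h => e (hz.fix _ _ (by
      simpa [Perm.inv_eq_iff_eq, Equiv.symm_apply_eq] using h) hi))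
  obtain ⟨a, b, c, hab, hac, hbc, rfl⟩ := isThreeCycle_iff_exists_c3.1 h3
  obtain ⟨h, hh, rfl⟩ := htr a
  have h5 := c3_mem_conj (inv_mem hh) ht
  have e1 : h⁻¹ (h i) = i := by simp
  have n1 := h⁻¹.injective.ne hab
  have n2 := h⁻¹.injective.ne hac
  have n3 := h⁻¹.injective.ne hbc
  rw [e1] at h5 n1 n2
  obtain ⟨D, h6, h7, -, h9⟩ := (altFull_triple n1 n2 n3 h5).exists_block
    (Finset.card_eq_three.2 ⟨_, _, _, n1, n2, n3, rfl⟩).ge
  have hiD : i ∈ D := h6 (by simp)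
  refine h7.alternatingGroup_le fun x => ?_
  by_cases hx : x = i
  · exact hx ▸ hiD
  obtain ⟨r, hr, rfl⟩ := tr _ _ n1.symm hx
  exact (h9 r (hRL hr) i hiD ((hR' r hr).symm ▸ hiD) _).2 (h6 (by simp))

theorem swap_mul_swap_mem_alt {a b c d : Ω} (h1 : a ≠ b) (h2 : c ≠ d) :
    swap a b * swap c d ∈ alternatingGroup Ω := by
  rw [mem_alternatingGroup, map_mul, sign_swap h1, sign_swap h2]; rfl

theorem altFull_setStab_inf (B : Finset Ω) : AltFull (setStab B ⊓ alternatingGroup Ω) B :=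
  fun _ ha _ hb _ hc h1 _ h3 => ⟨mul_mem (swap_mem_setStab (iff_of_true ha hb))
    (swap_mem_setStab (iff_of_true hb hc)), c3_mem_alternatingGroup h1 h3⟩

/-- If a full set `B` for `J ≥ Stab(B) ∩ Alt` is moved by an element fixing one of its points, then
`J` contains the alternating group. -/
theorem alt_le_of_setStab_le {B : Finset Ω} (h3 : 3 ≤ B.card) {J : Subgroup (Perm Ω)}
    (hJ : setStab B ⊓ alternatingGroup Ω ≤ J) {g : Perm Ω} (hg : g ∈ J) {w x : Ω} (hw : w ∈ B)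
    (hw' : g w ∈ B) (hx : x ∈ B) (hx' : g x ∉ B) : alternatingGroup Ω ≤ J := by
  obtain ⟨D, h6, h7, -, h9⟩ := ((altFull_setStab_inf B).of_le hJ).exists_block h3
  have hy : g x ∈ D := (h9 g hg w (h6 hw) (h6 hw') x).2 (h6 hx)
  refine h7.alternatingGroup_le fun y => ?_
  by_cases e : y ∈ B
  · exact h6 e
  by_cases e' : g x = y
  · exact e' ▸ hy
  obtain ⟨a, ha, b, hb, hab, -⟩ := exists_two_ne_of_card h3 w
  have h1 : swap (g x) y * swap a b ∈ setStab B :=
    mul_mem (swap_mem_setStab (iff_of_false hx' e)) (swap_mem_setStab (iff_of_true ha hb))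
  have := (h9 _ (hJ ⟨h1, swap_mul_swap_mem_alt e' hab⟩) w (h6 hw) (h6 ((h1 w).2 hw)) _).2 hy
  have ne : ∀ u ∈ B, g x ≠ u := fun u hu h => hx' (h ▸ hu)
  rwa [Perm.mul_apply, swap_apply_of_ne_of_ne (ne a ha) (ne b hb), swap_apply_left] at this

omit [Fintype Ω] in
theorem exists_mem_notMem_list {B : Finset Ω} (l : List Ω) (h : l.length < B.card) :
    ∃ x ∈ B, x ∉ l := by
  by_contra! hc
  have := (Finset.card_le_card fun x hx => List.mem_toFinset.2 (hc x hx) :
    B.card ≤ _).trans l.toFinset_card_le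
  omega

theorem alt_le_setStab_sup_centralizer {H : Subgroup (Perm Ω)} (hz : IsPairing H z) {B : Finset Ω}
    (h4 : 4 ≤ B.card) (h2 : 2 ≤ Bᶜ.card) : alternatingGroup Ω ≤
      (setStab B ⊓ alternatingGroup Ω) ⊔ (centralizer {z} ⊓ alternatingGroup Ω) := by
  have : Nonempty Ω := (Finset.card_pos.1 (by omega : 0 < B.card)).to_type
  obtain ⟨i, hi⟩ := hz.exists_fix
  obtain ⟨y, hy, hy'⟩ := exists_mem_notMem_list (B := Bᶜ) [i] (by simp; omega)
  obtain ⟨x, hx, hx'⟩ := exists_mem_notMem_list (B := B) [i, z y] (by simp; omega)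
  obtain ⟨w, hw, hw'⟩ := exists_mem_notMem_list (B := B) [x, z x, z y] (by simp; omega)
  simp only [List.mem_cons, List.not_mem_nil, or_false, not_or, Finset.mem_compl] at hy hy' hx' hw'
  have hxy : x ≠ y := fun e => hy (e ▸ hx)
  have h1 : z x ≠ x := fun e => hx'.1 (hi _ e)
  have h3 : z y ≠ y := fun e => hy' (hi _ e)
  have h5 : z x ≠ y := fun e => hx'.2 (hz.eq_iff.1 e)
  refine alt_le_of_setStab_le (by omega) le_sup_left (g := swap x y * swap (z x) (z y))
    (mem_sup_right ⟨mem_centralizer_singleton_iff.2 ?_, swap_mul_swap_mem_alt hxy (z.injective.ne hxy)⟩) hw ?_ hx ?_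
  · rw [eq_comm, ← mul_assoc, mul_swap_eq_swap_mul z, mul_assoc,
      mul_swap_eq_swap_mul z, hz.invol, hz.invol, ← mul_assoc]
    congr 1
    exact (commute_swap_of_fix (swap_apply_of_ne_of_ne h1.symm hx'.2)
      (swap_apply_of_ne_of_ne h5.symm h3.symm)).eq
  · rwa [Perm.mul_apply, swap_apply_of_ne_of_ne hw'.2.1 hw'.2.2,
      swap_apply_of_ne_of_ne hw'.1 fun e : w = y => hy (e ▸ hw)]
  · rwa [Perm.mul_apply, swap_apply_of_ne_of_ne h1.symm hx'.2, swap_apply_left]

theorem not_alt_le_centralizer {H : Subgroup (Perm Ω)} (hz : IsPairing H z)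
    (h4 : 4 ≤ Fintype.card Ω) : ¬ alternatingGroup Ω ≤ centralizer {z} := by
  intro h
  have : Nonempty Ω := Fintype.card_pos_iff.1 (by omega)
  obtain ⟨i, hi⟩ := hz.exists_fix
  obtain ⟨x, hx⟩ := exists_notMem_list [i] (by simp; omega)
  obtain ⟨y, hy⟩ := exists_notMem_list [x, z x] (by simp; omega)
  obtain ⟨w, hw⟩ := exists_notMem_list [x, z x, y] (by simp; omega)
  simp only [List.mem_cons, List.not_mem_nil, or_false, not_or] at hx hy hw
  have h1 := congrArg (fun f : Perm Ω => f x)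
    (mem_centralizer_singleton_iff.1 (h (c3_mem_alternatingGroup (Ne.symm hy.1) (Ne.symm hw.2.2))))
  simp only [Perm.mul_apply] at h1
  rw [c3_apply_fst (Ne.symm hy.1) (Ne.symm hw.1), c3_apply_of_ne (fun e => hx (hi _ e))
    (Ne.symm hy.2) (Ne.symm hw.2.1)] at h1
  exact hy.1 (z.injective h1).symm

theorem not_alt_le_partStab {B : Finset Ω} (h3 : 3 ≤ B.card) {y : Ω} (hy : y ∉ B) :
    ¬ alternatingGroup Ω ≤ partStab (· ∈ B) := by
  intro h
  obtain ⟨w, hw⟩ := Finset.card_pos.1 (by omega : 0 < B.card)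
  obtain ⟨a, ha, b, hb, hab, haw, hbw⟩ := exists_two_ne_of_card h3 w
  have ne : ∀ u ∈ B, u ≠ y := fun u hu e => hy (e ▸ hu)
  have := (h (c3_mem_alternatingGroup (ne a ha) (ne b hb).symm) a w).1 (by simp [ha, hw])
  rw [c3_apply_fst (ne a ha) hab, c3_apply_of_ne haw.symm (ne w hw) hbw.symm] at this
  exact hy (this.mpr hw)

omit [DecidableEq Ω] [Fintype Ω] in
theorem setStab_le_partStab (B : Finset Ω) : setStab B ≤ partStab (· ∈ B) :=
  fun g hg x y => by simp only [hg x, hg y]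

theorem exists_setStab_of_not_dvd_choose {p : ℕ} [Fact p.Prime] (hR : IsPGroup p R) {m : ℕ}
    (h : ¬ p ∣ (Fintype.card Ω).choose m) : ∃ B : Finset Ω, B.card = m ∧ R ≤ setStab B := by
  obtain ⟨B, hB⟩ := hR.nonempty_fixed_point_of_prime_not_dvd_card (Set.powersetCard Ω m)
    (by rwa [Set.powersetCard.card, Nat.card_eq_fintype_card])
  refine ⟨B, B.2, fun r hr x => ?_⟩
  have : r • (B : Finset Ω) = B := congrArg Subtype.val (hB ⟨r, hr⟩)
  conv_lhs => rw [← this]
  exact Finset.smul_mem_smul_finset_iff r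

theorem not_dvd_choose_pow {p a r : ℕ} (hp : p.Prime) (j : ℕ) (hj : 0 < j) (hjp : j < p)
    (h : r < p ^ a) : ¬ p ∣ (r + j * p ^ a).choose (j * p ^ a) := by
  have h1 : r + j * p ^ a < p ^ (a + 1) := by
    have : (j + 1) * p ^ a ≤ p * p ^ a := Nat.mul_le_mul_right _ hjp
    rw [pow_succ']; nlinarith
  have h0 : 0 < j * p ^ a := Nat.mul_pos hj (pow_pos hp.pos a)
  have := Nat.factorization_choose' (n := r) (k := j * p ^ a) (b := a + 1) hp
    (Nat.log_lt_of_lt_pow (by omega) h1)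
  rw [Finset.filter_eq_empty_iff.2, Finset.card_empty] at this
  · rw [hp.dvd_iff_one_le_factorization (Nat.choose_pos (Nat.le_add_left _ _)).ne', this]
    omega
  · intro i hi
    rw [Finset.mem_Ico] at hi
    rw [Nat.mod_eq_zero_of_dvd ((pow_dvd_pow p (by omega)).mul_left j), zero_add, not_le]
    exact Nat.mod_lt _ (pow_pos hp.pos i)

theorem exists_halves (hR : IsPGroup 2 R) (h2 : 2 ≤ Fintype.card Ω)
    (htr : ∀ x y, ∃ r ∈ R, r x = y) :
    ∃ B : Finset Ω, B.card = Bᶜ.card ∧ R ≤ partStab (· ∈ B) := by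
  classical
  have : Nontrivial Ω := Fintype.one_lt_card_iff_nontrivial.1 h2
  obtain ⟨x, y, hxy⟩ := exists_pair_ne Ω
  obtain ⟨M, hM, hle⟩ := (eq_top_or_exists_le_coatom (MulAction.stabilizer R x)).resolve_left (by
    intro e
    obtain ⟨r, hr, rfl⟩ := htr x y
    exact hxy (e.ge (mem_top (⟨r, hr⟩ : R))).symm)
  have hi := Grp.PFrattini.index_of_isCoatom hR hM
  set B := Finset.univ.filter fun y => ∃ m ∈ M, m.1 x = y
  have key : ∀ r : R, r.1 x ∈ B ↔ r ∈ M := by
    intro r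
    simp only [B, Finset.mem_filter, Finset.mem_univ, true_and]
    refine ⟨fun ⟨m, hm, h⟩ => ?_, fun h => ⟨r, h, rfl⟩⟩
    have : m⁻¹ * r ∈ M := hle (by
      change (m.1⁻¹ * r.1) x = x
      rw [Perm.mul_apply, ← h]; simp)
    exact (mul_mem_cancel_left (inv_mem hm)).1 this
  have key2 : ∀ r : R, ∀ y, r.1 y ∈ B ↔ (r ∈ M ↔ y ∈ B) := by
    intro r y
    obtain ⟨s, hs, rfl⟩ := htr x y
    rw [key ⟨s, hs⟩, ← mul_mem_iff_of_index_two hi, ← key]
    rfl
  refine ⟨B, ?_, fun r hr u v => ?_⟩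
  · obtain ⟨s, hs⟩ : ∃ s, s ∉ M := by
      by_contra! e
      exact hM.1 ((eq_top_iff' M).2 e)
    refine Finset.card_bijective s.1 s.1.bijective fun y => ?_
    rw [Finset.mem_compl, key2]
    tauto
  · simp only [eq_iff_iff, key2 ⟨r, hr⟩]
    tauto

theorem exists_partStab_of_ne (h5 : 5 ≤ Fintype.card Ω) (hA : alternatingGroup Ω ≤ G)
    (hR : IsSyl 2 R G) (hn : ¬ ∃ k, 2 ≤ k ∧ Fintype.card Ω = 2 ^ k + 1) :
    ∃ B : Finset Ω, 4 ≤ B.card ∧ 2 ≤ Bᶜ.card ∧ R ≤ partStab (· ∈ B) := by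
  set a := Nat.log 2 (Fintype.card Ω)
  have h1 : 2 ^ a ≤ Fintype.card Ω := Nat.pow_log_le_self 2 (by omega)
  have h2 : Fintype.card Ω < 2 ^ (a + 1) := Nat.lt_pow_succ_log_self (by norm_num) _
  have ha : 2 ≤ a := Nat.le_log_of_pow_le (by norm_num) (by omega)
  have h4 : 2 ^ 2 ≤ 2 ^ a := Nat.pow_le_pow_right (by norm_num) ha
  rcases h1.eq_or_lt with h | h
  · obtain ⟨B, h3, h6⟩ := exists_halves hR.pgrp (by omega)
      (isSyl_trans_of_card hA hR (by omega) h.symm)
    have := Finset.card_add_card_compl B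
    have h8 : 2 ^ 3 ≤ 2 ^ a := Nat.pow_le_pow_right (by norm_num) (by
      by_contra e
      rw [show a = 2 by omega] at h
      omega)
    exact ⟨B, by omega, by omega, h6⟩
  · obtain ⟨B, h3, h6⟩ := exists_setStab_of_not_dvd_choose hR.pgrp (m := 2 ^ a) (by
      have := not_dvd_choose_pow (r := Fintype.card Ω - 2 ^ a) (a := a) Nat.prime_two 1 one_pos
        one_lt_two (by omega)
      rwa [one_mul, Nat.sub_add_cancel h1] at this)
    have := Finset.card_add_card_compl B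
    have : Fintype.card Ω ≠ 2 ^ a + 1 := fun e => hn ⟨a, ha, e⟩
    exact ⟨B, by omega, by omega, h6.trans (setStab_le_partStab B)⟩

theorem unique_coatom_sylow_two_iff {X : Type*} [Group X] [Finite X] (ρ : X →* Perm Ω)
    (hρ : Function.Injective ρ) (hA : alternatingGroup Ω ≤ ρ.range) (h5 : 5 ≤ Fintype.card Ω)
    (P : Sylow 2 X) : (∃! M : Subgroup X, IsCoatom M ∧ (P : Subgroup X) ≤ M) ↔
      ∃ k, 2 ≤ k ∧ Fintype.card Ω = 2 ^ k + 1 := by
  have hR : IsSyl 2 ((P : Subgroup X).map ρ) ρ.range := by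
    rw [MonoidHom.range_eq_map]; exact (isSyl_top P).map ρ
  have top : ∀ M : Subgroup X, (P : Subgroup X) ≤ M → alternatingGroup Ω ≤ M.map ρ → M = ⊤ := by
    intro M h1 h2
    have := le_of_alt_le_of_isSyl hR (map_mono h1) h2
    rw [MonoidHom.range_eq_map, map_le_map_iff_of_injective hρ] at this
    exact top_le_iff.1 this
  constructor
  · rintro ⟨M, hM, hu⟩
    by_contra hn
    obtain ⟨B, h1, h2, h3⟩ := exists_partStab_of_ne h5 hA hR hn
    obtain ⟨z, hz, hc, -⟩ := exists_pairing hA hR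
    have key : ∀ K : Subgroup (Perm Ω), (P : Subgroup X).map ρ ≤ K → ¬ alternatingGroup Ω ≤ K →
        K ⊓ alternatingGroup Ω ≤ M.map ρ := by
      intro K h4 h6
      obtain ⟨M', h7, h8⟩ := (eq_top_or_exists_le_coatom (K.comap ρ)).resolve_left fun e => h6 (by
        refine hA.trans ?_
        rw [MonoidHom.range_eq_map, map_le_iff_le_comap, e])
      rw [← hu M' ⟨h7, (map_le_iff_le_comap.1 h4).trans h8⟩]
      refine le_trans ?_ (map_mono h8)
      rw [map_comap_eq, inf_comm]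
      exact inf_le_inf_right _ hA
    obtain ⟨y, hy⟩ := Finset.card_pos.1 (by omega : 0 < Bᶜ.card)
    refine hM.1.1 (top M hM.2 ((alt_le_setStab_sup_centralizer hz h1 h2).trans (sup_le
      ((inf_le_inf_right _ (setStab_le_partStab B)).trans
        (key _ h3 (not_alt_le_partStab (by omega) (Finset.mem_compl.1 hy))))
      (key _ (fun r hr => mem_centralizer_singleton_iff.2 (Equiv.ext (hc r hr)))
        (not_alt_le_centralizer hz (by omega))))))
  · rintro ⟨k, hk, hn⟩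
    obtain ⟨i, h1, h2⟩ := exists_fix_of_two_pow_succ hk hn hA hR
    set M := (MulAction.stabilizer (Perm Ω) i).comap ρ
    have h3 : (P : Subgroup X) ≤ M := fun g hg => h1 _ (mem_map_of_mem ρ hg)
    have h4 : M ≠ ⊤ := by
      intro e
      obtain ⟨y, hy⟩ := exists_notMem_list [i] (by simp; omega)
      obtain ⟨w, hw⟩ := exists_notMem_list [i, y] (by simp; omega)
      simp only [List.mem_cons, List.not_mem_nil, or_false, not_or] at hy hw
      obtain ⟨g, hg⟩ := hA (c3_mem_alternatingGroup (Ne.symm hy) (Ne.symm hw.2))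
      have : ρ g i = i := e.ge (mem_top g)
      rw [hg, c3_apply_fst (Ne.symm hy) (Ne.symm hw.1)] at this
      exact hy this
    have h6 : ∀ K : Subgroup X, (P : Subgroup X) ≤ K → K ≠ ⊤ → K ≤ M := fun K h7 h8 g hg =>
      h2 _ (map_mono h7) (fun e => h8 (top K h7 e)) _ (mem_map_of_mem ρ hg)
    refine ⟨M, ⟨⟨h4, fun K hK => ?_⟩, h3⟩, fun K hK => ?_⟩
    · by_contra e
      exact hK.not_ge (h6 K (h3.trans hK.le) e)
    · exact ((hK.1.le_iff.1 (h6 K hK.2 hK.1.1)).resolve_left h4).symm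

end Cfsg.Agent.KSG
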