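import Mathlib
import Cfsg.Agent.KSG.SylowTwoMax
import Cfsg.Agent.PLocal.FStar
import Cfsg.Agent.Char.Burnside

/-!
# Permutation groups with a three-cycle and quasisimple generalized Fitting subgroup
-/

set_option autoImplicit false

namespace Cfsg.Agent.KSG

open Equiv Equiv.Perm Subgroup Cfsg.Agent.PLocal.Amb
open scoped commutatorElement

variable {Ω : Type*} [DecidableEq Ω] [Fintype Ω] {H K : Subgroup (Perm Ω)} {z : Perm Ω}

omit [DecidableEq Ω] [Fintype Ω] in
/-- A perfect permutation group has no central cycle. -/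
theorem not_isCycle_of_central [Finite Ω] (hK : ⁅K, K⁆ = K) {c : Perm Ω} (hc : c ∈ K)
    (h : ∀ k ∈ K, k * c = c * k) : ¬ IsCycle c := by
  intro h3
  obtain ⟨x, hx, -⟩ := id h3
  have h1 : ∀ k ∈ K, ∃ i : ℤ, (c ^ i) x = k x := fun k hk => h3.exists_zpow_eq hx (by
    rw [← Perm.mul_apply, ← h k hk, Perm.mul_apply]
    exact k.injective.ne hx)
  have h2 : ∀ k ∈ K, ∀ l ∈ K, k (l x) = l (k x) := by
    intro k hk l hl
    obtain ⟨i, hi⟩ := h1 k hk
    obtain ⟨j, hj⟩ := h1 l hl
    have e : ∀ k ∈ K, ∀ i : ℤ, k ((c ^ i) x) = (c ^ i) (k x) := fun k hk i => by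
      rw [← Perm.mul_apply, ((show Commute k c from h k hk).zpow_right i).eq, Perm.mul_apply]
    rw [← hj, e k hk, ← hi, e l hl, ← hj, ← Perm.mul_apply, ← Perm.mul_apply, zpow_mul_comm]
  have h4 : ⁅K, K⁆ ≤ MulAction.stabilizer (Perm Ω) x := commutator_le.2 fun k hk l hl => by
    change (k * l * k⁻¹ * l⁻¹) x = x
    simp only [Perm.mul_apply]
    rw [h2 _ (inv_mem hk) _ (inv_mem hl)]
    simp
  exact hx (h4 (hK.ge hc))

theorem isSolvable_altOn {D : Finset Ω} (h : D.card ≤ 4) : Group.IsSolvable (altOn D) := by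
  obtain ⟨e⟩ := nonempty_altOn_equiv D
  refine Char.isSolvable_of_card_dvd_pow_mul_pow (p := 2) (q := 3) (a := 3) (b := 1)
    Nat.prime_two Nat.prime_three _ ?_
  rw [Nat.card_congr e.toEquiv]
  refine (card_subgroup_dvd_card _).trans ?_
  rw [Nat.card_perm, Nat.card_eq_fintype_card, Fintype.card_fin]
  exact Nat.factorial_dvd_factorial h

omit [Fintype Ω] in
theorem altOn_le_of_normalizes {D : Finset Ω} (h : 5 ≤ D.card) (h1 : K ≤ altOn D) (h2 : K ≠ ⊥)
    (h3 : altOn D ≤ normalizer (K : Set (Perm Ω))) : altOn D ≤ K := by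
  obtain ⟨e⟩ := nonempty_altOn_equiv D
  have := alternatingGroup.isSimpleGroup (α := Fin D.card) (by simpa using h)
  have := e.isSimpleGroup
  rcases (normal_subgroupOf_of_le_normalizer h3).eq_bot_or_eq_top with e | e
  · rw [subgroupOf_eq_bot, disjoint_iff, inf_of_le_left h1] at e
    exact absurd e h2
  · exact subgroupOf_eq_top.1 e

/-- If `K ⊴ H` is quasisimple and self-centralizing and `H` contains a three-cycle, then `K` is the
alternating group on an `H`-invariant set. -/
theorem exists_eq_altOn_of_threeCycle (hK : IsQuasisimple K) (hKH : K ≤ H)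
    (hn : H ≤ normalizer (K : Set (Perm Ω))) (hC : H ⊓ centralizer (K : Set (Perm Ω)) ≤ K)
    {t : Perm Ω} (ht : t ∈ H) (h3 : IsThreeCycle t) :
    ∃ D : Finset Ω, 5 ≤ D.card ∧ K = altOn D ∧ H ≤ setStab D := by
  obtain ⟨a, b, c, hab, hac, hbc, rfl⟩ := isThreeCycle_iff_exists_c3.1 h3
  obtain ⟨D, h1, h2, -, h4⟩ := (altFull_triple hab hac hbc ht).exists_block
    (Finset.card_eq_three.2 ⟨_, _, _, hab, hac, hbc, rfl⟩).ge
  have hA := h2.altOn_le
  have haD : a ∈ D := h1 (by simp)
  have hc : c3 a b c ∈ altOn D := c3_mem_altOn haD (h1 (by simp)) (h1 (by simp)) hab hbc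
  have h5 : ⁅K, altOn D⁆ = K := by
    refine (PLocal.qsS_commutator_eq_self_or_bot hK (hA.trans hn)).resolve_right fun e => ?_
    rw [commutator_comm, commutator_eq_bot_iff_le_centralizer] at e
    exact not_isCycle_of_central (PLocal.qsS_commutator hK) (hC ⟨ht, e hc⟩) (e hc) h3.isCycle
  have hs : altOn D ≤ setStab D := fun g hg => apply_mem_of_fix_compl (mem_altOn.1 hg).2
  have h6 : K ≤ setStab D := by
    rw [← h5, commutator_le]
    intro k hk g hg
    rw [commutatorElement_def]
    refine mul_mem ?_ (inv_mem (hs hg))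
    by_cases e : ∃ w ∈ D, k⁻¹ w ∈ D
    · obtain ⟨w, h7, h8⟩ := e
      have : k⁻¹ ∈ setStab D := h4 _ (inv_mem (hKH hk)) w h7 h8
      exact mul_mem (mul_mem (inv_mem_iff.1 this) (hs hg)) this
    · have key : ∀ x ∈ D, (k * g * k⁻¹) x = x := fun x hx => by
        rw [Perm.mul_apply, Perm.mul_apply, (mem_altOn.1 hg).2 _ fun h => e ⟨x, hx, h⟩]
        simp
      intro x
      refine ⟨fun h => ?_, fun h => (key x h).symm ▸ h⟩
      rwa [(k * g * k⁻¹).injective (key _ h)] at h
  have h7 : K ≤ altOn D := by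
    rw [← h5, commutator_le]
    intro k hk g hg
    exact mul_mem (conj_mem_altOn hg (h6 hk)) (inv_mem hg)
  have h8 : 5 ≤ D.card := by
    by_contra e
    exact PLocal.qsS_not_le_solvable hK (isSolvable_altOn (by omega)) h7
  have h9 := le_antisymm h7 (altOn_le_of_normalizes h8 h7 (PLocal.qsS_ne_bot hK) (hA.trans hn))
  refine ⟨D, h8, h9, fun g hg => h4 g hg a haD ?_⟩
  by_contra e
  have := (mem_altOn.1 (h9 ▸ (mem_normalizer_iff.1 (hn hg) _).1 (h9 ▸ hc))).2 _ e
  rw [conj_c3, c3_apply_fst (g.injective.ne hab) (g.injective.ne hac)] at this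
  exact hab (g.injective this).symm

theorem commute_of_mem_altOn {D : Finset Ω} {g t : Perm Ω} (hg : g ∈ altOn D)
    (ht : ∀ x ∈ D, t x = x) : g * t = t * g := by
  refine (Perm.Disjoint.commute fun x => ?_).eq
  by_cases h : x ∈ D
  · exact Or.inr (ht x h)
  · exact Or.inl ((mem_altOn.1 hg).2 x h)

/-- With `K = Alt(D)` self-centralizing in `H`, a Sylow subgroup of `G ≥ Alt(Ω)` inside `H` forbids
elements of order `p` of `G` fixing `D` pointwise. -/
theorem eq_one_of_fix_of_isSyl {D : Finset Ω} (hC : H ⊓ centralizer (altOn D : Set (Perm Ω)) ≤ altOn D)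
    (hD : H ≤ setStab D) {p : ℕ} [Fact p.Prime] {G R : Subgroup (Perm Ω)} (hR : IsSyl p R G)
    (hRH : R ≤ H) {t : Perm Ω} (ht : t ∈ G) (htp : t ^ p = 1) (hf : ∀ x ∈ D, t x = x) : t = 1 := by
  have h1 : t ∈ setStab D := fun x =>
    ⟨fun h => by rwa [t.injective (hf _ h)] at h, fun h => (hf x h).symm ▸ h⟩
  obtain ⟨g, hg, h2⟩ := isSyl_exists_conj_mem (hR.mono (le_inf hR.le (hRH.trans hD)) inf_le_left)
    ⟨ht, h1⟩ htp
  have h3 : ∀ x ∈ D, (g * t * g⁻¹) x = x := fun x hx => by
    rw [Perm.mul_apply, Perm.mul_apply, hf _ (((setStab D).inv_mem hg.2 x).2 hx)]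
    simp
  have h4 := (mem_altOn.1 (hC ⟨hRH h2, fun k hk => commute_of_mem_altOn hk h3⟩)).2
  have : g * t * g⁻¹ = 1 := Equiv.ext fun x => (em (x ∈ D)).elim (h3 x) (h4 x)
  simpa using this

/-- A permutation group of degree at least `8` with a normal quasisimple
subgroup containing a Sylow 2-subgroup of the alternating group has a three-cycle. -/
theorem exists_threeCycle_of_sylow_two (h8 : 8 ≤ Fintype.card Ω) (hK : IsQuasisimple K)
    (hKH : K ≤ H) (hn : H ≤ normalizer (K : Set (Perm Ω))) {R : Subgroup (Perm Ω)}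
    (hR : IsSyl 2 R (alternatingGroup Ω)) (hRH : R ≤ H) : ∃ t ∈ H, IsThreeCycle t := by
  by_contra! h3
  obtain ⟨z, hz, -, hzR⟩ := exists_pairing le_rfl hR
  replace hz := hz.of_le hRH
  have dich : ∀ u ∈ H, ∀ C : Subgroup (Perm Ω), (∀ k ∈ K, k * u * k⁻¹ ∈ C) →
      K ≤ C ∨ ∀ k ∈ K, k * u = u * k := by
    intro u hu C hC
    rcases PLocal.qsS_commutator_eq_self_or_bot hK ((zpowers_le.2 hu).trans hn) with e | e
    · left
      rw [← e, commutator_le]
      rintro k hk _ ⟨i, rfl⟩
      rw [commutatorElement_def]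
      refine mul_mem ?_ (inv_mem (zpow_mem (by simpa using hC 1 (one_mem _)) i))
      simp only [← conj_zpow]
      exact zpow_mem (hC k hk) i
    · right
      rw [commutator_comm, commutator_eq_bot_iff_le_centralizer] at e
      exact e (mem_zpowers u)
  have h1 : ∀ k ∈ K, k * z = z * k := by
    by_cases h10 : 10 ≤ Fintype.card Ω
    · intro k hk
      rw [← mul_inv_eq_iff_eq_mul]
      exact ((hz.eq_of_ten h10 (hz.conj (hKH hk))) h3).symm
    have hs : sign z = 1 := by
      have h4 := two_dvd_card_support hz.sq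
      have h5 : Fintype.card (Function.fixedPoints z) ≤ 1 := Fintype.card_le_one_iff.2
        fun x y => Subtype.ext (hz.fix _ _ x.2 y.2)
      have h6 := z.card_fixedPoints
      have h7 := z.support.card_le_univ
      rw [← sum_cycleType] at h4 h7
      rw [sign_of_pow_two_eq_one hz.sq,
        show (Fintype.card Ω - Fintype.card (Function.fixedPoints z)) / 2 = 4 by omega]
      rfl
    rcases dich z (hRH (hzR hs)) (centralizer {z}) (fun k hk => mem_centralizer_singleton_iff.2
      ((hz.conj (hKH hk)).commute_of_eight h8 hz h3)) with e | e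
    · exact fun k hk => mem_centralizer_singleton_iff.1 (e hk)
    · exact e
  have h2 : ∀ k ∈ K, ∀ x, k (z x) = z (k x) := fun k hk x => congrArg (· x) (h1 k hk)
  let F : Subgroup (Perm Ω) :=
    { carrier := {g | ∀ x, g x = x ∨ g x = z x}
      one_mem' := fun x => Or.inl rfl
      mul_mem' := fun {g h} hg hh x => by
        rw [Perm.mul_apply]
        rcases hh x with e | e <;> rw [e]
        · exact hg x
        · exact (hg (z x)).symm.imp_left fun e => e.trans (hz.invol x)
      inv_mem' := fun {g} hg x => by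
        obtain ⟨x, rfl⟩ := g.surjective x
        rcases hg x with e | e
        · left; simp [e, Equiv.symm_apply_eq]
        · right; rw [Perm.inv_eq_iff_eq, e, hz.invol, e] }
  have sw : ∀ a, swap a (z a) ∈ F := fun a x => by
    rw [swap_apply_def]
    split_ifs with e1 e2
    · exact Or.inr (e1 ▸ rfl)
    · exact Or.inr (by rw [e2, hz.invol])
    · exact Or.inl rfl
  have h4 : K ≤ F := by
    by_contra e
    have h5 : ∀ a b, z a ≠ a → z b ≠ b → ∀ k ∈ K, k * (swap a (z a) * swap b (z b)) =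
        (swap a (z a) * swap b (z b)) * k := fun a b ha hb =>
      (dich _ (hz.mem a b ha hb) F fun k hk => by
        have := mul_mem (sw (k a)) (sw (k b))
        rw [← h2 k hk, ← h2 k hk, swap_apply_apply, swap_apply_apply] at this
        convert this using 1
        group).resolve_left e
    refine e fun k hk x => ?_
    by_cases hx : z x = x
    · exact Or.inl (hz.fix _ _ (by rw [← h2 k hk, hx]) hx)
    by_contra! h6
    have : Nonempty Ω := ⟨x⟩
    obtain ⟨i, hi⟩ := hz.exists_fix
    obtain ⟨b, hb⟩ := exists_notMem_list [x, z x, k x, z (k x), i] (by simp; omega)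
    simp only [List.mem_cons, List.not_mem_nil, or_false, not_or] at hb
    obtain ⟨b1, b2, b3, b4, b5⟩ := hb
    have h7 := congrArg (· x) (h5 x b hx (fun e => b5 (hi _ e)) k hk)
    simp only [Perm.mul_apply] at h7
    rw [swap_apply_of_ne_of_ne (Ne.symm b1) (fun e => b2 (hz.eq_iff.2 e).symm), swap_apply_left,
      swap_apply_of_ne_of_ne (Ne.symm b3) (fun e => b4 (hz.eq_iff.2 e).symm),
      swap_apply_of_ne_of_ne h6.1 h6.2] at h7
    exact hx (k.injective h7)
  refine PLocal.qsS_not_le_centralizer hK fun k hk l hl => Equiv.ext fun x => ?_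
  simp only [Perm.mul_apply]
  rcases h4 hk x with e | e <;> rcases h4 hl x with e' | e'
  · rw [e, e', e]
  · rw [e, e', h2 k hk, e]
  · rw [e, e', h2 l hl, e', e]
  · rw [e, e', h2 k hk, h2 l hl, e, e']

theorem fstar_map_subtype_facts {G : Type*} [Group G] [Finite G] (H : Subgroup G)
    (hF : IsQuasisimple (generalizedFittingSubgroup H)) :
    ∃ K : Subgroup G, IsQuasisimple K ∧ K ≤ H ∧ H ≤ normalizer (K : Set G) ∧
      H ⊓ centralizer (K : Set G) ≤ K ∧ Nonempty (generalizedFittingSubgroup H ≃* K) := by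
  have e := equivMapOfInjective (generalizedFittingSubgroup H) H.subtype H.subtype_injective
  refine ⟨_, PLocal.qs_congr hF e, map_subtype_le _, le_normalizer_map_subtype _, ?_, ⟨e⟩⟩
  rintro g ⟨h1, h2⟩
  exact ⟨⟨g, h1⟩, PLocal.centralizer_fstar_le H fun k hk =>
    Subtype.ext (h2 k.1 (mem_map_of_mem _ hk)), rfl⟩

end Cfsg.Agent.KSG
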