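import Mathlib

/-!
# Abelian subgroups of symmetric groups: order bounds through orbits
-/

set_option autoImplicit false

namespace Cfsg.Agent.KSG.AbelSym

open Equiv Equiv.Perm Finset

/-- Largest product of positive integers with sum `n`. -/
def fmax : ℕ → ℕ
  | 0 => 1
  | 1 => 1
  | 2 => 2
  | 3 => 3
  | 4 => 4
  | n + 5 => 3 * fmax (n + 2)

theorem fmax_add_three {n : ℕ} (h : 2 ≤ n) : fmax (n + 3) = 3 * fmax n := by
  obtain ⟨m, rfl⟩ : ∃ m, n = m + 2 := ⟨n - 2, by omega⟩
  rfl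

theorem fmax_pos (n : ℕ) : 0 < fmax n := by
  induction n using Nat.strong_induction_on with
  | _ n ih =>
    match n with
    | 0 | 1 | 2 | 3 | 4 => decide
    | n + 5 => have := ih (n + 2) (by omega); simp only [fmax]; omega

theorem mul_fmax_le (m r : ℕ) : m * fmax r ≤ fmax (m + r) := by
  induction h : m + r using Nat.strong_induction_on generalizing m r with
  | _ n ih =>
    subst h
    by_cases hr : 5 ≤ r
    · obtain ⟨s, rfl⟩ : ∃ s, r = s + 3 := ⟨r - 3, by omega⟩
      have := ih (m + s) (by omega) m s rfl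
      rw [← add_assoc, fmax_add_three (by omega), fmax_add_three (by omega)]
      nlinarith
    by_cases hm : 5 ≤ m
    · obtain ⟨s, rfl⟩ : ∃ s, m = s + 3 := ⟨m - 3, by omega⟩
      have := ih (s + r) (by omega) s r rfl
      rw [show s + 3 + r = s + r + 3 by omega, fmax_add_three (by omega)]
      have h2 : s + 3 ≤ 3 * s := by omega
      nlinarith [Nat.mul_le_mul_right (fmax r) h2]
    · have h1 : m ≤ 4 := by omega
      have h2 : r ≤ 4 := by omega
      interval_cases m <;> interval_cases r <;> decide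

theorem fmax_three_mul (k : ℕ) : fmax (3 * k) = 3 ^ k := by
  induction k with
  | zero => rfl
  | succ k ih =>
    rcases Nat.eq_zero_or_pos k with rfl | hk
    · rfl
    · rw [mul_add, mul_one, fmax_add_three (by omega), ih, pow_succ, mul_comm]

theorem fmax_three_mul_add_four (k : ℕ) : fmax (3 * k + 4) = 4 * 3 ^ k := by
  induction k with
  | zero => rfl
  | succ k ih =>
    rw [show 3 * (k + 1) + 4 = 3 * k + 4 + 3 by ring, fmax_add_three (by omega), ih, pow_succ]
    ring

theorem fmax_three_mul_add_two (k : ℕ) : fmax (3 * k + 2) = 2 * 3 ^ k := by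
  induction k with
  | zero => rfl
  | succ k ih =>
    rw [show 3 * (k + 1) + 2 = 3 * k + 2 + 3 by ring, fmax_add_three (by omega), ih, pow_succ]
    ring

variable {α : Type*} [Fintype α] [DecidableEq α]

open Classical in
/-- The orbit of a point under a permutation group, as a finset. -/
noncomputable def orb (A : Subgroup (Perm α)) (x : α) : Finset α := {y | ∃ g ∈ A, g x = y}

theorem mem_orb {A : Subgroup (Perm α)} {x y : α} : y ∈ orb A x ↔ ∃ g ∈ A, g x = y := by
  simp [orb]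

theorem self_mem_orb (A : Subgroup (Perm α)) (x : α) : x ∈ orb A x :=
  mem_orb.2 ⟨1, A.one_mem, rfl⟩

theorem apply_mem_orb {A : Subgroup (Perm α)} {x y : α} {g : Perm α} (hg : g ∈ A)
    (hy : y ∈ orb A x) : g y ∈ orb A x := by
  obtain ⟨h, hh, rfl⟩ := mem_orb.1 hy
  exact mem_orb.2 ⟨g * h, A.mul_mem hg hh, rfl⟩

theorem apply_mem_orb_iff {A : Subgroup (Perm α)} {x y : α} {g : Perm α} (hg : g ∈ A) :
    g y ∈ orb A x ↔ y ∈ orb A x :=
  ⟨fun h => by simpa using apply_mem_orb (A.inv_mem hg) h, apply_mem_orb hg⟩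

theorem orb_eq_of_mem {A : Subgroup (Perm α)} {x y : α} (h : y ∈ orb A x) :
    orb A y = orb A x := by
  obtain ⟨g, hg, rfl⟩ := mem_orb.1 h
  ext z
  simp only [mem_orb]
  constructor
  · rintro ⟨k, hk, rfl⟩; exact ⟨k * g, A.mul_mem hk hg, rfl⟩
  · rintro ⟨k, hk, rfl⟩; exact ⟨k * g⁻¹, A.mul_mem hk (A.inv_mem hg), by simp⟩

theorem orb_eq_iff {A : Subgroup (Perm α)} {x y : α} : orb A y = orb A x ↔ y ∈ orb A x :=
  ⟨fun h => h ▸ self_mem_orb A y, orb_eq_of_mem⟩

theorem orb_mono {A B : Subgroup (Perm α)} (h : B ≤ A) (x : α) : orb B x ⊆ orb A x := by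
  intro y hy
  obtain ⟨g, hg, rfl⟩ := mem_orb.1 hy
  exact mem_orb.2 ⟨g, h hg, rfl⟩

theorem disjoint_orb {A : Subgroup (Perm α)} {x y : α} (h : orb A x ≠ orb A y) :
    Disjoint (orb A x) (orb A y) := by
  rw [Finset.disjoint_left]
  intro z h1 h2
  exact h ((orb_eq_of_mem h1).symm.trans (orb_eq_of_mem h2))

/-- Pointwise stabiliser of a finset inside `A`. -/
def fixOn (A : Subgroup (Perm α)) (S : Finset α) : Subgroup (Perm α) where
  carrier := {g | g ∈ A ∧ ∀ x ∈ S, g x = x}
  mul_mem' := fun {a b} ha hb => ⟨A.mul_mem ha.1 hb.1, fun x hx => by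
    rw [Perm.mul_apply, hb.2 x hx, ha.2 x hx]⟩
  one_mem' := ⟨A.one_mem, fun _ _ => rfl⟩
  inv_mem' := fun {a} ha => ⟨A.inv_mem ha.1, fun x hx => by
    rw [Perm.inv_eq_iff_eq, ha.2 x hx]⟩

omit [Fintype α] [DecidableEq α] in
theorem mem_fixOn {A : Subgroup (Perm α)} {S : Finset α} {g : Perm α} :
    g ∈ fixOn A S ↔ g ∈ A ∧ ∀ x ∈ S, g x = x := Iff.rfl

omit [Fintype α] [DecidableEq α] in
theorem fixOn_le (A : Subgroup (Perm α)) (S : Finset α) : fixOn A S ≤ A := fun _ h => h.1

theorem card_eq_orb_mul (A : Subgroup (Perm α)) (x : α) :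
    Nat.card A = #(orb A x) * Nat.card (fixOn A {x}) := by
  have h1 := (MulAction.stabilizer A x).card_mul_index
  have h2 : (MulAction.stabilizer A x).index = #(orb A x) := by
    rw [MulAction.index_stabilizer, ← Set.ncard_coe_finset]
    congr 1
    ext y
    simp only [MulAction.mem_orbit_iff, mem_coe, mem_orb]
    exact ⟨fun ⟨g, hg⟩ => ⟨g.1, g.2, hg⟩, fun ⟨g, h, hg⟩ => ⟨⟨g, h⟩, hg⟩⟩
  have h3 : Nat.card (MulAction.stabilizer A x) = Nat.card (fixOn A {x}) := by
    refine Nat.card_congr ⟨fun g => ⟨g.1.1, g.1.2, fun y hy => by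
        rw [mem_singleton.1 hy]; exact g.2⟩,
      fun g => ⟨⟨g.1, g.2.1⟩, g.2.2 x (by simp)⟩, fun _ => rfl, fun _ => rfl⟩
  rw [← h1, h2, h3, mul_comm]

/-- `A` is abelian. -/
def Ab (A : Subgroup (Perm α)) : Prop := ∀ a ∈ A, ∀ b ∈ A, a * b = b * a

omit [Fintype α] [DecidableEq α] in
theorem Ab.mono {A B : Subgroup (Perm α)} (h : Ab A) (hB : B ≤ A) : Ab B :=
  fun a ha b hb => h a (hB ha) b (hB hb)

omit [Fintype α] [DecidableEq α] in
theorem ab_iff {A : Subgroup (Perm α)} : Ab A ↔ IsMulCommutative A :=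
  ⟨fun h => ⟨⟨fun a b => Subtype.ext (h a a.2 b b.2)⟩⟩,
    fun h a ha b hb => congrArg Subtype.val (h.1.1 ⟨a, ha⟩ ⟨b, hb⟩)⟩

theorem Ab.apply_eq {A : Subgroup (Perm α)} (h : Ab A) {g : Perm α} (hg : g ∈ A) {x y : α}
    (hx : g x = x) (hy : y ∈ orb A x) : g y = y := by
  obtain ⟨k, hk, rfl⟩ := mem_orb.1 hy
  rw [← Perm.mul_apply, h g hg k hk, Perm.mul_apply, hx]

theorem Ab.apply_eq_apply {A : Subgroup (Perm α)} (h : Ab A) {g k : Perm α} (hg : g ∈ A)
    (hk : k ∈ A) {x y : α} (hx : g x = k x) (hy : y ∈ orb A x) : g y = k y := by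
  have := h.apply_eq (A.mul_mem (A.inv_mem hk) hg) (x := x) (by simp [hx]) hy
  rwa [Perm.mul_apply, Perm.inv_eq_iff_eq] at this

omit [DecidableEq α] in
theorem card_le_of_le {A B : Subgroup (Perm α)} (h : A ≤ B) : Nat.card A ≤ Nat.card B :=
  Subgroup.card_le_of_le h

theorem Ab.card_le_fmax_mul {A : Subgroup (Perm α)} (h : Ab A) (S : Finset α)
    (hS : ∀ g ∈ A, ∀ x ∈ S, g x ∈ S) : Nat.card A ≤ fmax #S * Nat.card (fixOn A S) := by
  induction hn : #S using Nat.strong_induction_on generalizing A S with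
  | _ n ih =>
    subst hn
    rcases S.eq_empty_or_nonempty with rfl | ⟨x, hx⟩
    · simp only [card_empty, fmax, one_mul]
      exact card_le_of_le fun g hg => ⟨hg, by simp⟩
    have hO : orb A x ⊆ S := by
      intro y hy
      obtain ⟨g, hg, rfl⟩ := mem_orb.1 hy
      exact hS g hg x hx
    have hc : #(orb A x) + #(S \ orb A x) = #S := by
      rw [add_comm, card_sdiff_add_card_eq_card hO]
    have hpos : 0 < #(orb A x) := card_pos.2 ⟨x, self_mem_orb A x⟩
    have h1 := ih #(S \ orb A x) (by omega) (h.mono (fixOn_le A {x})) (S \ orb A x) (by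
      intro g hg y hy
      rw [mem_sdiff] at hy ⊢
      exact ⟨hS g hg.1 y hy.1, fun e => hy.2 ((apply_mem_orb_iff hg.1).1 e)⟩) rfl
    have h2 : Nat.card (fixOn (fixOn A {x}) (S \ orb A x)) ≤ Nat.card (fixOn A S) := by
      apply card_le_of_le
      intro g hg
      refine ⟨hg.1.1, fun y hy => ?_⟩
      by_cases e : y ∈ orb A x
      · exact h.apply_eq hg.1.1 (hg.1.2 x (by simp)) e
      · exact hg.2 y (mem_sdiff.2 ⟨hy, e⟩)
    have h3 := mul_fmax_le #(orb A x) #(S \ orb A x)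
    rw [hc] at h3
    rw [card_eq_orb_mul A x]
    calc #(orb A x) * Nat.card (fixOn A {x})
        ≤ #(orb A x) * (fmax #(S \ orb A x) * Nat.card (fixOn A S)) :=
          Nat.mul_le_mul_left _ (h1.trans (Nat.mul_le_mul_left _ h2))
      _ = (#(orb A x) * fmax #(S \ orb A x)) * Nat.card (fixOn A S) := by ring
      _ ≤ _ := Nat.mul_le_mul_right _ h3

theorem Ab.card_le_of_fix {A : Subgroup (Perm α)} (h : Ab A) (U : Finset α)
    (hU : ∀ g ∈ A, ∀ x ∈ U, g x = x) : Nat.card A ≤ fmax (Fintype.card α - #U) := by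
  have h1 := h.card_le_fmax_mul Uᶜ (by
    intro g hg x hx
    rw [mem_compl] at hx ⊢
    intro e
    have := g.injective (hU g hg _ e)
    exact hx (this ▸ e))
  have h2 : fixOn A Uᶜ = ⊥ := by
    rw [eq_bot_iff]
    intro g hg
    rw [Subgroup.mem_bot]
    ext x
    by_cases e : x ∈ U
    · exact hU g hg.1 x e
    · exact hg.2 x (mem_compl.2 e)
  rwa [h2, Subgroup.card_bot, mul_one, card_compl] at h1

theorem Ab.card_le {A : Subgroup (Perm α)} (h : Ab A) : Nat.card A ≤ fmax (Fintype.card α) := by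
  simpa using h.card_le_of_fix ∅ (by simp)

theorem Ab.card_le_orb_mul {A : Subgroup (Perm α)} (h : Ab A) (x : α) :
    Nat.card A ≤ #(orb A x) * fmax (Fintype.card α - #(orb A x)) := by
  rw [card_eq_orb_mul A x]
  exact Nat.mul_le_mul_left _ ((h.mono (fixOn_le A {x})).card_le_of_fix _
    fun g hg y hy => h.apply_eq hg.1 (hg.2 x (by simp)) hy)

theorem Ab.card_le_orb_mul_three {A : Subgroup (Perm α)} (h : Ab A) (x y z : α) :
    Nat.card A ≤ #(orb A x) * #(orb A y) * #(orb A z) *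
      fmax (Fintype.card α - #(orb A x ∪ orb A y ∪ orb A z)) := by
  have l1 := fixOn_le A {x}
  have l2 := (fixOn_le (fixOn A {x}) {y}).trans l1
  have l3 := (fixOn_le (fixOn (fixOn A {x}) {y}) {z}).trans l2
  rw [card_eq_orb_mul A x, card_eq_orb_mul (fixOn A {x}) y,
    card_eq_orb_mul (fixOn (fixOn A {x}) {y}) z, mul_assoc, mul_assoc]
  refine Nat.mul_le_mul_left _ (Nat.mul_le_mul (card_le_card (orb_mono l1 y))
    (Nat.mul_le_mul (card_le_card (orb_mono l2 z)) ((h.mono l3).card_le_of_fix _ ?_)))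
  intro g hg w hw
  simp only [mem_union] at hw
  rcases hw with (hw | hw) | hw
  · exact h.apply_eq (l3 hg) (hg.1.1.2 x (by simp)) hw
  · exact h.apply_eq (l3 hg) (hg.1.2 y (by simp)) hw
  · exact h.apply_eq (l3 hg) (hg.2 z (by simp)) hw

/-- The elements of `A` supported on the orbit of `x` bound the order of `A`. -/
theorem Ab.card_le_mul_orb_fixOn {A : Subgroup (Perm α)} (h : Ab A) (x : α) :
    Nat.card A ≤ fmax (Fintype.card α - #(orb A x)) * #(orb (fixOn A (orb A x)ᶜ) x) := by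
  have h1 := h.card_le_fmax_mul (orb A x)ᶜ (by
    intro g hg y hy
    rwa [mem_compl, apply_mem_orb_iff hg, ← mem_compl])
  rw [card_compl, card_eq_orb_mul (fixOn A (orb A x)ᶜ) x] at h1
  have h2 : fixOn (fixOn A (orb A x)ᶜ) {x} = ⊥ := by
    rw [eq_bot_iff]
    intro g hg
    rw [Subgroup.mem_bot]
    ext y
    by_cases e : y ∈ orb A x
    · exact h.apply_eq hg.1.1 (hg.2 x (by simp)) e
    · exact hg.1.2 y (mem_compl.2 e)
  rwa [h2, Subgroup.card_bot, mul_one] at h1

/-- Sum of orbit lengths. -/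
theorem sum_card_orb (A : Subgroup (Perm α)) :
    ∑ O ∈ univ.image (orb A), #O = Fintype.card α := by
  rw [← Finset.card_univ, Finset.card_eq_sum_card_image (orb A) univ]
  apply Finset.sum_congr rfl
  intro O hO
  obtain ⟨x, -, rfl⟩ := mem_image.1 hO
  congr 1
  ext y
  simp [orb_eq_iff]

/-! ### Constructions -/

/-- There is an abelian permutation group of degree `n` and order `c` (even if `e`). -/
def Ex (e : Bool) (n c : ℕ) : Prop :=
  ∃ (β : Type) (_ : Fintype β) (_ : DecidableEq β) (G : Type) (_ : CommGroup G),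
    Fintype.card β = n ∧ Nat.card G = c ∧
      ∃ φ : G →* Perm β, Function.Injective φ ∧ (e → ∀ g, sign (φ g) = 1)

theorem Ex.mul {e : Bool} {n c m d : ℕ} (h1 : Ex e n c) (h2 : Ex e m d) : Ex e (n + m) (c * d) := by
  obtain ⟨β, _, _, G, _, rfl, rfl, φ, hφ, sφ⟩ := h1
  obtain ⟨γ, _, _, H, _, rfl, rfl, ψ, hψ, sψ⟩ := h2
  refine ⟨β ⊕ γ, inferInstance, inferInstance, G × H, inferInstance, by simp, by simp,
    (sumCongrHom β γ).comp (φ.prodMap ψ), sumCongrHom_injective.comp (hφ.prodMap hψ), ?_⟩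
  intro he g
  simp [sumCongrHom, sign_sumCongr, sφ he, sψ he]

theorem ex_regular (e : Bool) (G : Type) [CommGroup G] [Fintype G] [DecidableEq G]
    (h : e → ∀ g : G, sign (MulAction.toPermHom G G g) = 1) :
    Ex e (Fintype.card G) (Fintype.card G) :=
  ⟨G, inferInstance, inferInstance, G, inferInstance, rfl, Nat.card_eq_fintype_card,
    MulAction.toPermHom G G, MulAction.toPerm_injective, h⟩

theorem ex_zero (e : Bool) : Ex e 0 1 :=
  ⟨Empty, inferInstance, inferInstance, Unit, inferInstance, rfl, by simp, 1,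
    Function.injective_of_subsingleton _, by simp⟩

theorem ex_three (e : Bool) : Ex e 3 3 :=
  ex_regular e (Multiplicative (ZMod 3)) fun _ => by decide +kernel

theorem ex_five (e : Bool) : Ex e 5 5 :=
  ex_regular e (Multiplicative (ZMod 5)) fun _ => by decide +kernel

theorem ex_four (e : Bool) : Ex e 4 4 :=
  ex_regular e (Multiplicative (ZMod 2 × ZMod 2)) fun _ => by decide +kernel

theorem ex_two : Ex false 2 2 :=
  ex_regular false (Multiplicative (ZMod 2)) (by simp)

theorem ex_three_mul (e : Bool) (k : ℕ) : Ex e (3 * k) (3 ^ k) := by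
  induction k with
  | zero => exact ex_zero e
  | succ k ih => exact ih.mul (ex_three e)

theorem Ex.exists_perm {e : Bool} {c : ℕ} (h : Ex e (Fintype.card α) c) :
    ∃ A : Subgroup (Perm α), IsMulCommutative A ∧ Nat.card A = c ∧
      (e → A ≤ alternatingGroup α) := by
  obtain ⟨β, _, _, G, _, hβ, rfl, φ, hφ, sφ⟩ := h
  let q := Fintype.equivOfCardEq hβ
  let ψ : G →* Perm α := q.permCongrHom.toMonoidHom.comp φ
  have hψ : Function.Injective ψ := q.permCongrHom.injective.comp hφ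
  refine ⟨ψ.range, inferInstance, (Nat.card_congr (MonoidHom.ofInjective hψ).toEquiv).symm, ?_⟩
  rintro he _ ⟨g, rfl⟩
  rw [mem_alternatingGroup, ← sφ he g]
  exact sign_permCongr q (φ g)

theorem Ex.exists_alt {c : ℕ} (h : Ex true (Fintype.card α) c) :
    ∃ A : Subgroup (alternatingGroup α), IsMulCommutative A ∧ Nat.card A = c := by
  obtain ⟨A, h1, h2, h3⟩ := h.exists_perm
  refine ⟨A.subgroupOf _, inferInstance, ?_⟩
  rw [← h2]
  exact Nat.card_congr (Subgroup.subgroupOfEquivOfLe (h3 rfl)).toEquiv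

end Cfsg.Agent.KSG.AbelSym
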