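import Mathlib
import Cfsg.Agent.KSG.AbelSym

/-!
# Largest abelian subgroups of alternating groups
-/

set_option autoImplicit false

namespace Cfsg.Agent.KSG.AbelSym

open Equiv Equiv.Perm Finset

/-- Largest order of an abelian subgroup of `A_n`. -/
def talt : ℕ → ℕ
  | 0 => 1
  | 1 => 1
  | 2 => 1
  | 3 => 3
  | 4 => 4
  | 5 => 5
  | 6 => 9
  | 7 => 12
  | 8 => 16
  | n + 9 => 3 * talt (n + 6)

theorem talt_add_three {n : ℕ} (h : 6 ≤ n) : talt (n + 3) = 3 * talt n := by
  obtain ⟨m, rfl⟩ : ∃ m, n = m + 6 := ⟨n - 6, by omega⟩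
  rfl

theorem mul_fmax_lt_talt (m r : ℕ) (h0 : m ≠ 0) (h2 : m ≠ 2) (h3 : m ≠ 3) (h4 : m ≠ 4)
    (n1 : m + r ≠ 1) (n2 : m + r ≠ 2) (n5 : m + r ≠ 5) : m * fmax r < talt (m + r) := by
  induction h : m + r using Nat.strong_induction_on generalizing m r with
  | _ n ih =>
    subst h
    by_cases hr : 5 ≤ r ∧ 9 ≤ m + r
    · obtain ⟨s, rfl⟩ : ∃ s, r = s + 3 := ⟨r - 3, by omega⟩
      have := ih (m + s) (by omega) m s h0 h2 h3 h4 (by omega) (by omega) (by omega) rfl
      rw [← add_assoc, fmax_add_three (by omega), talt_add_three (by omega)]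
      nlinarith
    by_cases hm : 9 ≤ m
    · obtain ⟨s, rfl⟩ : ∃ s, m = s + 3 := ⟨m - 3, by omega⟩
      have := ih (s + r) (by omega) s r (by omega) (by omega) (by omega) (by omega) (by omega)
        (by omega) (by omega) rfl
      rw [show s + 3 + r = s + r + 3 by omega, talt_add_three (by omega)]
      have h2 : s + 3 ≤ 3 * s := by omega
      nlinarith [Nat.mul_le_mul_right (fmax r) h2]
    · have h1 : m ≤ 8 := by omega
      have h2 : r ≤ 7 := by omega
      interval_cases m <;> interval_cases r <;> first | decide | omega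

theorem fmax_lt_talt_two (r : ℕ) (h : r ≠ 0) : fmax r < talt (r + 2) := by
  induction r using Nat.strong_induction_on with
  | _ r ih =>
    by_cases hr : 7 ≤ r
    · obtain ⟨s, rfl⟩ : ∃ s, r = s + 3 := ⟨r - 3, by omega⟩
      have := ih s (by omega) (by omega)
      rw [fmax_add_three (by omega), show s + 3 + 2 = s + 2 + 3 by omega, talt_add_three (by omega)]
      omega
    · have h2 : r ≤ 6 := by omega
      interval_cases r <;> first | decide | omega

theorem four_mul_fmax_le_talt (r : ℕ) : 4 * fmax r ≤ talt (r + 4) ∧ 3 * fmax r < talt (r + 4) := by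
  induction r using Nat.strong_induction_on with
  | _ r ih =>
    by_cases hr : 5 ≤ r
    · obtain ⟨s, rfl⟩ : ∃ s, r = s + 3 := ⟨r - 3, by omega⟩
      have := ih s (by omega)
      rw [fmax_add_three (by omega), show s + 3 + 4 = s + 4 + 3 by omega, talt_add_three (by omega)]
      omega
    · have h2 : r ≤ 4 := by omega
      interval_cases r <;> decide

theorem fmax_lt_talt_twelve (r : ℕ) : 64 * fmax r < talt (r + 12) := by
  induction r using Nat.strong_induction_on with
  | _ r ih =>
    by_cases hr : 5 ≤ r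
    · obtain ⟨s, rfl⟩ : ∃ s, r = s + 3 := ⟨r - 3, by omega⟩
      have := ih s (by omega)
      rw [fmax_add_three (by omega), show s + 3 + 12 = s + 12 + 3 by omega,
        talt_add_three (by omega)]
      omega
    · have h2 : r ≤ 4 := by omega
      interval_cases r <;> decide

theorem talt_three_mul (k : ℕ) : talt (3 * k) = 3 ^ k := by
  induction k with
  | zero => rfl
  | succ k ih =>
    by_cases hk : 2 ≤ k
    · rw [mul_add, mul_one, talt_add_three (by omega), ih, pow_succ, mul_comm]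
    · have : k ≤ 1 := by omega
      interval_cases k <;> rfl

theorem talt_three_mul_add_four (k : ℕ) : talt (3 * k + 4) = 4 * 3 ^ k := by
  induction k with
  | zero => rfl
  | succ k ih =>
    rcases Nat.eq_zero_or_pos k with rfl | hk
    · rfl
    rw [show 3 * (k + 1) + 4 = 3 * k + 4 + 3 by ring, talt_add_three (by omega), ih, pow_succ]
    ring

theorem talt_three_mul_add_eight (k : ℕ) : talt (3 * k + 8) = 16 * 3 ^ k := by
  induction k with
  | zero => rfl
  | succ k ih =>
    rw [show 3 * (k + 1) + 8 = 3 * k + 8 + 3 by ring, talt_add_three (by omega), ih, pow_succ]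
    ring

theorem ex_one (e : Bool) (n : ℕ) : Ex e n 1 :=
  ⟨Fin n, inferInstance, inferInstance, Unit, inferInstance, by simp, by simp, 1,
    Function.injective_of_subsingleton _, by simp⟩

theorem ex_talt (n : ℕ) : Ex true n (talt n) := by
  induction n using Nat.strong_induction_on with
  | _ n ih =>
    match n with
    | 0 | 1 | 2 => exact ex_one _ _
    | 3 => exact ex_three _
    | 4 => exact ex_four _
    | 5 => exact ex_five _
    | 6 => exact (ex_three _).mul (ex_three _)
    | 7 => exact (ex_three _).mul (ex_four _)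
    | 8 => exact (ex_four _).mul (ex_four _)
    | n + 9 =>
      have := (ih (n + 6) (by omega)).mul (ex_three _)
      rwa [mul_comm] at this

variable {α : Type*} [Fintype α] [DecidableEq α]

theorem card_orb_pos (A : Subgroup (Perm α)) (x : α) : 0 < #(orb A x) :=
  card_pos.2 ⟨x, self_mem_orb A x⟩

theorem support_subset_of_mem_fixOn {A : Subgroup (Perm α)} {S : Finset α} {k : Perm α}
    (hk : k ∈ fixOn A Sᶜ) : k.support ⊆ S := by
  intro y hy
  by_contra e
  exact mem_support.1 hy (hk.2 y (mem_compl.2 e))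

theorem Ab.card_le_of_orb_two {A : Subgroup (Perm α)} (h : Ab A) (hA : A ≤ alternatingGroup α)
    {x : α} (hx : #(orb A x) = 2) : Nat.card A ≤ fmax (Fintype.card α - 2) := by
  have h1 := h.card_le_mul_orb_fixOn x
  have h2 : orb (fixOn A (orb A x)ᶜ) x = {x} := by
    ext y
    rw [mem_singleton, mem_orb]
    refine ⟨?_, fun e => ⟨1, one_mem _, e.symm⟩⟩
    rintro ⟨k, hk, rfl⟩
    have c := card_le_card (support_subset_of_mem_fixOn hk)
    rw [hx] at c
    rcases c.lt_or_eq with c | c
    · rw [card_support_le_one.1 (by omega : #k.support ≤ 1)]; rfl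
    · have := (card_support_eq_two.1 c).sign_eq
      rw [mem_alternatingGroup.1 (hA hk.1)] at this
      exact absurd this (by decide)
  rwa [h2, hx, card_singleton, mul_one] at h1

theorem sq_eq_one_of_card_support_eq_four {k : Perm α} (hk : sign k = 1) (h4 : #k.support = 4) :
    k * k = 1 := by
  have hs := k.sum_cycleType
  have h2 : ∀ a ∈ k.cycleType, 2 ≤ a := fun a ha => two_le_of_mem_cycleType ha
  have hc := Multiset.card_nsmul_le_sum h2
  rw [h4] at hs
  rw [hs, smul_eq_mul] at hc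
  rw [sign_of_cycleType, hs] at hk
  rw [← pow_two, pow_prime_eq_one_iff]
  obtain c | c | c : k.cycleType.card = 0 ∨ k.cycleType.card = 1 ∨ k.cycleType.card = 2 := by omega
  · rw [Multiset.card_eq_zero] at c; simp [c]
  · rw [c] at hk; exact absurd hk (by decide)
  · obtain ⟨a, b, e⟩ := Multiset.card_eq_two.1 c
    rw [e] at h2 hs ⊢
    have := h2 a (by simp)
    have := h2 b (by simp)
    simp at hs ⊢
    omega

theorem Ab.sq_apply_of_orb_four {A : Subgroup (Perm α)} (h : Ab A) (hA : A ≤ alternatingGroup α)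
    {x : α} (hx : #(orb A x) = 4) (hc : 3 * fmax (Fintype.card α - 4) < Nat.card A)
    {g : Perm α} (hg : g ∈ A) : g (g x) = x := by
  have h1 := h.card_le_mul_orb_fixOn x
  rw [hx] at h1
  have h2 : orb (fixOn A (orb A x)ᶜ) x = orb A x := by
    apply eq_of_subset_of_card_le (orb_mono (fixOn_le _ _) x)
    rw [hx]
    by_contra! hlt
    have := Nat.mul_le_mul_left (fmax (Fintype.card α - 4)) (Nat.le_of_lt_succ hlt)
    omega
  have h3 : g x ∈ orb A x := apply_mem_orb hg (self_mem_orb A x)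
  obtain ⟨k, hk, e⟩ := mem_orb.1 (h2.symm ▸ h3)
  by_cases hgx : g x = x
  · rw [hgx, hgx]
  have hs : k.support = orb A x := by
    apply Subset.antisymm (support_subset_of_mem_fixOn hk)
    intro y hy
    rw [mem_support]
    intro e'
    have := h.apply_eq hk.1 e' (orb_eq_of_mem hy ▸ self_mem_orb A x)
    exact hgx (e ▸ this)
  have := sq_eq_one_of_card_support_eq_four (hA hk.1) (hs ▸ hx)
  rw [← h.apply_eq_apply hk.1 hg e h3, ← e, ← Perm.mul_apply, this]; rfl

theorem Ab.card_le_talt {A : Subgroup (Perm α)} (h : Ab A) (hA : A ≤ alternatingGroup α) :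
    Nat.card A ≤ talt (Fintype.card α) := by
  by_cases h3 : ∀ x, #(orb A x) = 3
  · have h1 := sum_card_orb A
    rw [Finset.sum_congr rfl (g := fun _ => 3) (by
      intro O hO
      obtain ⟨x, -, rfl⟩ := mem_image.1 hO
      exact h3 x), sum_const, smul_eq_mul, mul_comm] at h1
    have := h.card_le
    rwa [← h1, fmax_three_mul, ← talt_three_mul, h1] at this
  push Not at h3
  obtain ⟨x, hx⟩ := h3
  have hle : #(orb A x) ≤ Fintype.card α := card_le_univ _
  have hpos := card_orb_pos A x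
  have h1 := h.card_le_orb_mul x
  by_cases h2 : #(orb A x) = 2
  · have h4 := h.card_le_of_orb_two hA h2
    obtain ⟨r, hr⟩ : ∃ r, Fintype.card α = r + 2 := ⟨Fintype.card α - 2, by omega⟩
    rw [hr] at h4 ⊢
    rcases Nat.eq_zero_or_pos r with rfl | h0
    · exact h4
    · exact h4.trans (fmax_lt_talt_two r h0.ne').le
  obtain ⟨r, hr⟩ : ∃ r, Fintype.card α = #(orb A x) + r := ⟨_, (Nat.add_sub_cancel' hle).symm⟩
  rw [hr, Nat.add_sub_cancel_left] at h1
  rw [hr]
  generalize #(orb A x) = m at *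
  by_cases h4 : m = 4
  · subst h4
    rw [add_comm]
    exact h1.trans (four_mul_fmax_le_talt r).1
  by_cases h5 : m + r = 1 ∨ m + r = 2 ∨ m + r = 5
  · refine h1.trans ?_
    have : m ≤ 5 := by omega
    have : r ≤ 5 := by omega
    interval_cases m <;> interval_cases r <;> first | decide | omega
  · exact h1.trans (mul_fmax_lt_talt m r (by omega) h2 hx h4 (by omega) (by omega) (by omega)).le

/-- Orbit structure of a largest abelian subgroup of the alternating group. -/
theorem Ab.orb_cases {A : Subgroup (Perm α)} (h : Ab A) (hA : A ≤ alternatingGroup α)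
    (hc : talt (Fintype.card α) ≤ Nat.card A) (n1 : Fintype.card α ≠ 1) (n2 : Fintype.card α ≠ 2)
    (n5 : Fintype.card α ≠ 5) (x : α) :
    #(orb A x) = 3 ∨ (#(orb A x) = 4 ∧ ∀ g ∈ A, g (g x) = x) := by
  have hle : #(orb A x) ≤ Fintype.card α := card_le_univ _
  have hpos := card_orb_pos A x
  have h1 := h.card_le_orb_mul x
  by_cases h3 : #(orb A x) = 3
  · exact Or.inl h3
  by_cases h4 : #(orb A x) = 4
  · refine Or.inr ⟨h4, fun g hg => h.sq_apply_of_orb_four hA h4 ?_ hg⟩
    have := (four_mul_fmax_le_talt (Fintype.card α - 4)).2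
    rw [Nat.sub_add_cancel (by omega)] at this
    omega
  exfalso
  by_cases h2 : #(orb A x) = 2
  · have h4 := h.card_le_of_orb_two hA h2
    have := fmax_lt_talt_two (Fintype.card α - 2) (by omega)
    rw [Nat.sub_add_cancel (by omega)] at this
    omega
  have := mul_fmax_lt_talt #(orb A x) (Fintype.card α - #(orb A x)) (by omega) h2 h3 h4
    (by omega) (by omega) (by omega)
  rw [Nat.add_sub_cancel' hle] at this
  omega

theorem Ab.card_four_orbs_le {A : Subgroup (Perm α)} (h : Ab A)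
    (hc : talt (Fintype.card α) ≤ Nat.card A) :
    #{O ∈ univ.image (orb A) | #O = 4} ≤ 2 := by
  by_contra! hlt
  obtain ⟨a, b, c, ha, hb, hc', hab, hac, hbc⟩ := two_lt_card_iff.1 hlt
  simp only [mem_filter, mem_image, mem_univ, true_and] at ha hb hc'
  obtain ⟨⟨x, rfl⟩, ha⟩ := ha
  obtain ⟨⟨y, rfl⟩, hb⟩ := hb
  obtain ⟨⟨z, rfl⟩, hc'⟩ := hc'
  have h1 := h.card_le_orb_mul_three x y z
  have h2 : #(orb A x ∪ orb A y ∪ orb A z) = 12 := by
    rw [card_union_of_disjoint, card_union_of_disjoint (disjoint_orb hab), ha, hb, hc']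
    exact disjoint_union_left.2 ⟨disjoint_orb hac, disjoint_orb hbc⟩
  have h3 : 12 ≤ Fintype.card α := h2 ▸ card_le_univ _
  have := fmax_lt_talt_twelve (Fintype.card α - 12)
  rw [Nat.sub_add_cancel h3] at this
  rw [h2, ha, hb, hc'] at h1
  omega

theorem card_orbs_eq {A : Subgroup (Perm α)} (h : ∀ x, #(orb A x) = 3 ∨ #(orb A x) = 4) :
    3 * #{O ∈ univ.image (orb A) | #O = 3} + 4 * #{O ∈ univ.image (orb A) | #O = 4} =
      Fintype.card α := by
  rw [← sum_card_orb A, card_filter, card_filter, mul_sum, mul_sum, ← sum_add_distrib]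
  apply sum_congr rfl
  intro O hO
  obtain ⟨x, -, rfl⟩ := mem_image.1 hO
  rcases h x with e | e <;> simp [e]

/-- Two permutation groups with the same number of orbits of each length have orbit partitions
that are conjugate. -/
theorem exists_perm_map_orb {A B : Subgroup (Perm α)}
    (h : ∀ k, #{O ∈ univ.image (orb A) | #O = k} = #{O ∈ univ.image (orb B) | #O = k}) :
    ∃ σ : Perm α, ∀ x y, y ∈ orb A x ↔ σ y ∈ orb B (σ x) := by
  have e1 : ∀ k, {O : univ.image (orb A) // #O.1 = k} ≃ {O : univ.image (orb B) // #O.1 = k} := by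
    intro k
    refine Fintype.equivOfCardEq ?_
    rw [Fintype.card_congr (Equiv.subtypeSubtypeEquivSubtypeInter _ fun O : Finset α => #O = k),
      Fintype.card_congr (Equiv.subtypeSubtypeEquivSubtypeInter _ fun O : Finset α => #O = k),
      Fintype.card_of_subtype {O ∈ univ.image (orb A) | #O = k} (by simp),
      Fintype.card_of_subtype {O ∈ univ.image (orb B) | #O = k} (by simp), h]
  let e := Equiv.ofFiberEquiv e1
  have he : ∀ O, #(e O).1 = #O.1 := Equiv.ofFiberEquiv_map e1
  let fA : α → univ.image (orb B) := fun x => e ⟨orb A x, mem_image_of_mem _ (mem_univ x)⟩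
  let fB : α → univ.image (orb B) := fun x => ⟨orb B x, mem_image_of_mem _ (mem_univ x)⟩
  have e2 : ∀ O, {x // fA x = O} ≃ {x // fB x = O} := by
    intro O
    refine Fintype.equivOfCardEq ?_
    obtain ⟨O, rfl⟩ := e.surjective O
    rw [Fintype.card_of_subtype O.1, Fintype.card_of_subtype (e O).1, he]
    · generalize e O = P
      obtain ⟨P, hP⟩ := P
      obtain ⟨y, -, rfl⟩ := mem_image.1 hP
      intro x
      simp [fB, orb_eq_iff]
    · obtain ⟨P, hP⟩ := O
      obtain ⟨y, -, rfl⟩ := mem_image.1 hP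
      intro x
      simp [fA, orb_eq_iff]
  refine ⟨Equiv.ofFiberEquiv e2, fun x y => ?_⟩
  have h1 := Equiv.ofFiberEquiv_map e2 x
  have h2 := Equiv.ofFiberEquiv_map e2 y
  rw [← orb_eq_iff, ← orb_eq_iff]
  have : fA y = fA x ↔ orb A y = orb A x := by simp [fA]
  rw [← this, ← h1, ← h2]
  simp [fB]

omit [Fintype α] in
theorem comm_of_card_three {O : Finset α} (hO : #O = 3) {g h : Perm α}
    (g1 : ∀ y ∈ O, g y ∈ O) (h1 : ∀ y ∈ O, h y ∈ O)
    (g2 : ∀ y ∈ O, ∀ z ∈ O, g y = y → g z = z) (h2 : ∀ y ∈ O, ∀ z ∈ O, h y = y → h z = z)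
    {x : α} (hx : x ∈ O) : g (h x) = h (g x) := by
  obtain ⟨a, b, c, hab, hac, hbc, rfl⟩ := card_eq_three.1 hO
  simp only [mem_insert, mem_singleton, forall_eq_or_imp, forall_eq] at g1 h1 g2 h2 hx
  have ig := g.injective
  have ih := h.injective
  have g3 : g a ≠ g b ∧ g a ≠ g c ∧ g b ≠ g c := ⟨ig.ne hab, ig.ne hac, ig.ne hbc⟩
  have h3 : h a ≠ h b ∧ h a ≠ h c ∧ h b ≠ h c := ⟨ih.ne hab, ih.ne hac, ih.ne hbc⟩
  clear ig ih hO
  grind

omit [Fintype α] in
theorem comm_of_card_four {O : Finset α} (hO : #O = 4) {g h : Perm α}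
    (g1 : ∀ y ∈ O, g y ∈ O) (h1 : ∀ y ∈ O, h y ∈ O)
    (g2 : ∀ y ∈ O, ∀ z ∈ O, g y = y → g z = z) (h2 : ∀ y ∈ O, ∀ z ∈ O, h y = y → h z = z)
    {x : α} (hx : x ∈ O) (g3 : g (g x) = x) (h3 : h (h x) = x) : g (h x) = h (g x) := by
  by_cases e1 : g x = x
  · rw [e1, g2 x hx _ (h1 x hx) e1]
  by_cases e2 : h x = x
  · rw [e2, h2 x hx _ (g1 x hx) e2]
  by_cases e3 : g x = h x
  · rw [← e3, g3, e3, h3]
  by_contra e4
  have a1 : g (h x) ≠ h x := fun e => e1 (g2 _ (h1 x hx) x hx e)
  have a2 : g (h x) ≠ g x := fun e => e2 (g.injective e)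
  have a3 : g (h x) ≠ x := fun e => e3 (g.injective (e.trans g3.symm)).symm
  have b1 : h (g x) ≠ g x := fun e => e2 (h2 _ (g1 x hx) x hx e)
  have b2 : h (g x) ≠ h x := fun e => e1 (h.injective e)
  have b3 : h (g x) ≠ x := fun e => e3 (h.injective (e.trans h3.symm))
  have : ({x, g x, h x, g (h x), h (g x)} : Finset α) ⊆ O := by
    intro y hy
    simp only [mem_insert, mem_singleton] at hy
    rcases hy with rfl | rfl | rfl | rfl | rfl
    exacts [hx, g1 _ hx, h1 _ hx, g1 _ (h1 _ hx), h1 _ (g1 _ hx)]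
  have c := card_le_card this
  rw [card_insert_of_notMem (by simp; grind), card_insert_of_notMem (by simp; grind),
    card_insert_of_notMem (by simp; grind), card_pair e4] at c
  omega

/-- Largest abelian subgroups of the alternating group are conjugate (generic degrees). -/
theorem exists_conj_comm {A B : Subgroup (Perm α)} (hA : Ab A) (hB : Ab B)
    (eA : A ≤ alternatingGroup α) (eB : B ≤ alternatingGroup α)
    (cA : talt (Fintype.card α) ≤ Nat.card A) (cB : talt (Fintype.card α) ≤ Nat.card B)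
    (n1 : Fintype.card α ≠ 1) (n2 : Fintype.card α ≠ 2) (n5 : Fintype.card α ≠ 5) :
    ∃ σ ∈ alternatingGroup α, ∀ a ∈ A, ∀ b ∈ B, σ * a * σ⁻¹ * b = b * (σ * a * σ⁻¹) := by
  have oA := hA.orb_cases eA cA n1 n2 n5
  have oB := hB.orb_cases eB cB n1 n2 n5
  have a1 := card_orbs_eq fun x => (oA x).imp id And.left
  have b1 := card_orbs_eq fun x => (oB x).imp id And.left
  have a2 := hA.card_four_orbs_le cA
  have b2 := hB.card_four_orbs_le cB
  obtain ⟨σ, hσ⟩ := exists_perm_map_orb (A := A) (B := B) (by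
    intro k
    by_cases h3 : k = 3
    · subst h3; omega
    by_cases h4 : k = 4
    · subst h4; omega
    rw [card_eq_zero.2, card_eq_zero.2]
    · rw [filter_eq_empty_iff]
      intro O hO
      obtain ⟨x, -, rfl⟩ := mem_image.1 hO
      have := oB x
      omega
    · rw [filter_eq_empty_iff]
      intro O hO
      obtain ⟨x, -, rfl⟩ := mem_image.1 hO
      have := oA x
      omega)
  obtain ⟨σ, hs, hσ⟩ : ∃ σ ∈ alternatingGroup α, ∀ x y, y ∈ orb A x ↔ σ y ∈ orb B (σ x) := by
    rcases Int.units_eq_one_or (sign σ) with hs | hs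
    · exact ⟨σ, hs, hσ⟩
    obtain ⟨p, -⟩ : ∃ p, σ p ≠ p := by
      by_contra! e
      rw [show σ = 1 from Equiv.ext e, map_one] at hs
      exact absurd hs (by decide)
    obtain ⟨q, hq, hpq⟩ := exists_mem_ne (s := orb A p) (by have := oA p; omega) p
    have key : ∀ y, orb A (swap p q y) = orb A y := by
      intro y
      rw [swap_apply_def]
      split_ifs with c1 c2
      · rw [c1, orb_eq_of_mem hq]
      · rw [c2, orb_eq_of_mem hq]
      · rfl
    refine ⟨σ * swap p q, by simp [mem_alternatingGroup, hs, hpq.symm], fun x y => ?_⟩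
    rw [Perm.mul_apply, Perm.mul_apply, ← hσ, ← orb_eq_iff, ← orb_eq_iff, key, key]
  refine ⟨σ, hs, fun a ha b hb => ?_⟩
  ext x
  obtain ⟨x, rfl⟩ := σ.surjective x
  have hcard : #(orb A x) = #(orb B (σ x)) :=
    card_bijective σ σ.bijective (hσ x)
  have g1 : ∀ y ∈ orb B (σ x), (σ * a * σ⁻¹) y ∈ orb B (σ x) := by
    intro y hy
    obtain ⟨y, rfl⟩ := σ.surjective y
    simpa [← hσ, apply_mem_orb_iff ha] using hy
  have g2 : ∀ y ∈ orb B (σ x), ∀ z ∈ orb B (σ x), (σ * a * σ⁻¹) y = y → (σ * a * σ⁻¹) z = z := by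
    intro y hy z hz
    obtain ⟨y, rfl⟩ := σ.surjective y
    obtain ⟨z, rfl⟩ := σ.surjective z
    rw [← hσ] at hy hz
    simpa using fun e => hA.apply_eq ha e (orb_eq_of_mem hy ▸ hz)
  have h1 : ∀ y ∈ orb B (σ x), b y ∈ orb B (σ x) := fun y hy => apply_mem_orb hb hy
  have h2 : ∀ y ∈ orb B (σ x), ∀ z ∈ orb B (σ x), b y = y → b z = z :=
    fun y hy z hz e => hB.apply_eq hb e (orb_eq_of_mem hy ▸ hz)
  rw [Perm.mul_apply, Perm.mul_apply b]
  rcases oB (σ x) with c | ⟨c, d⟩
  · exact comm_of_card_three c g1 h1 g2 h2 (self_mem_orb _ _)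
  · refine comm_of_card_four c g1 h1 g2 h2 (self_mem_orb _ _) ?_ (d b hb)
    rcases oA x with c' | ⟨-, d'⟩
    · omega
    · simpa using d' a ha

end Cfsg.Agent.KSG.AbelSym
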