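import Mathlib

/-! Two-central involutions that are products of squares of elements of their centraliser. -/

set_option autoImplicit false

namespace Cfsg.Agent.KSG.C2

open Subgroup

variable {G H : Type*} [Group G] [Group H]

/-- the subgroup generated by the squares of the elements of `R` -/
def sqs (R : Subgroup G) : Subgroup G := closure {x | ∃ a ∈ R, x = a * a}

theorem sq_mem {R : Subgroup G} {a : G} (ha : a ∈ R) : a * a ∈ sqs R := subset_closure ⟨a, ha, rfl⟩

theorem comm_mem {R : Subgroup G} {a b : G} (ha : a ∈ R) (hb : b ∈ R) :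
    a * b * a⁻¹ * b⁻¹ ∈ sqs R := by
  rw [show a * b * a⁻¹ * b⁻¹ = a * a * (a⁻¹ * b * (a⁻¹ * b)) * (b⁻¹ * b⁻¹) by group]
  exact mul_mem (mul_mem (sq_mem ha) (sq_mem (mul_mem (inv_mem ha) hb))) (sq_mem (inv_mem hb))

theorem sqs_le {R K : Subgroup G} (h : ∀ a ∈ R, a * a ∈ K) : sqs R ≤ K :=
  (closure_le _).2 (by rintro _ ⟨a, ha, rfl⟩; exact h a ha)

theorem map_mem_sqs (f : G →* H) {R : Subgroup G} {K : Subgroup H} (h : ∀ a ∈ R, f a ∈ K) {x : G}
    (hx : x ∈ sqs R) : f x ∈ sqs K :=
  sqs_le (K := (sqs K).comap f) (fun a ha => by rw [mem_comap, map_mul]; exact sq_mem (h a ha)) hx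

/-- every involution centralising a suitable `2`-subgroup is a product of squares of elements of
its centraliser -/
def KF (G : Type*) [Group G] : Prop :=
  ∃ P : Subgroup G, IsPGroup 2 P ∧
    ∀ v, v * v = 1 → (∀ a ∈ P, a * v = v * a) → v ∈ sqs (centralizer {v})

theorem KF.congr (h : KF G) (e : H ≃* G) : KF H := by
  obtain ⟨P, h1, h2⟩ := h
  refine ⟨P.comap e.toMonoidHom, h1.comap_of_injective _ e.injective, fun v hv hc => ?_⟩
  have := map_mem_sqs e.symm.toMonoidHom (K := centralizer {v}) (fun a ha => ?_)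
    (h2 (e v) (by rw [← map_mul, hv, map_one]) fun a ha => ?_)
  · simpa using this
  · rw [mem_centralizer_singleton_iff] at ha ⊢
    apply e.injective
    simpa using ha
  · obtain ⟨a, rfl⟩ := e.surjective a
    rw [← map_mul, hc a ha, map_mul]

/-- the version modulo the centre -/
def KQ (G : Type*) [Group G] : Prop :=
  ∃ R : Subgroup G, IsPGroup 2 R ∧ ∀ U, U * U ∈ center G →
    (∀ a ∈ R, U * a * U⁻¹ * a⁻¹ ∈ center G) → ∃ t ∈ sqs R, U * t⁻¹ ∈ center G

theorem KQ.kf (h : KQ G) (e : H ≃* G ⧸ center G) : KF H := by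
  refine KF.congr ?_ e
  obtain ⟨R, h1, h2⟩ := h
  refine ⟨R.map (QuotientGroup.mk' _), h1.map _, fun v hv hc => ?_⟩
  obtain ⟨U, rfl⟩ := QuotientGroup.mk'_surjective _ v
  obtain ⟨t, ht, e⟩ := h2 U ((QuotientGroup.eq_one_iff _).1 hv) fun a ha =>
    (QuotientGroup.eq_one_iff _).1 (by
      change QuotientGroup.mk' _ _ = _
      rw [map_mul, map_mul, map_mul, ← hc _ ⟨a, ha, rfl⟩, map_inv, map_inv]
      group)
  have e' : QuotientGroup.mk' (center G) (U * t⁻¹) = 1 := (QuotientGroup.eq_one_iff _).2 e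
  rw [map_mul, map_inv, mul_inv_eq_one] at e'
  have := map_mem_sqs (QuotientGroup.mk' (center G)) (K := centralizer {QuotientGroup.mk' _ U})
    (fun a ha => mem_centralizer_singleton_iff.2 (hc _ ⟨a, ha, rfl⟩)) ht
  rwa [← e'] at this

theorem KQ.congr (h : KQ G) (e : H ≃* G) : KQ H := by
  obtain ⟨P, h1, h2⟩ := h
  have hc : ∀ x, x ∈ center H ↔ e x ∈ center G := fun x => by
    simp only [mem_center_iff]
    exact ⟨fun h g => by obtain ⟨g, rfl⟩ := e.surjective g; rw [← map_mul, h, map_mul],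
      fun h g => e.injective (by rw [map_mul, h, map_mul])⟩
  refine ⟨P.comap e.toMonoidHom, h1.comap_of_injective _ e.injective, fun v hv hv' => ?_⟩
  obtain ⟨t, ht, e'⟩ := h2 (e v) (by rw [← map_mul, ← hc]; exact hv) fun a ha => by
    obtain ⟨a, rfl⟩ := e.surjective a
    simpa using (hc _).1 (hv' a ha)
  exact ⟨e.symm t, map_mem_sqs e.symm.toMonoidHom (fun a ha => by simpa using ha) ht,
    (hc _).2 (by simpa using e')⟩

/-- generators of order dividing four with central squares and commutators -/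
theorem two_of_gens {S : Set G} (h1 : ∀ a ∈ S, ∀ b ∈ S, ∀ c ∈ S, Commute c (a * b * a⁻¹ * b⁻¹))
    (h2 : ∀ a ∈ S, ∀ c ∈ S, Commute c (a * a)) (h3 : ∀ a ∈ S, a ^ 4 = 1) :
    IsPGroup 2 (closure S) := by
  have cen : ∀ {z : G}, (∀ c ∈ S, Commute c z) → ∀ c ∈ closure S, Commute c z := fun h c hc =>
    mem_centralizer_singleton_iff.1
      ((closure_le _).2 (fun c hc => mem_centralizer_singleton_iff.2 (h c hc)) hc)
  have k1 : ∀ a ∈ closure S, ∀ b ∈ closure S, ∀ c ∈ closure S, Commute c (a * b * a⁻¹ * b⁻¹) := by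
    intro a ha
    induction ha using closure_induction with
    | one => intro b _ c _; simp
    | mem a ha =>
      intro b hb
      induction hb using closure_induction with
      | mem b hb => exact cen (h1 a ha b hb)
      | one => intro c _; simp
      | mul b b' hb hb' ih ih' =>
        intro c hc
        rw [show a * (b * b') * a⁻¹ * (b * b')⁻¹ =
          a * b * a⁻¹ * b⁻¹ * (b * (a * b' * a⁻¹ * b'⁻¹) * b⁻¹) by group, (ih' b hb).eq,
          mul_inv_cancel_right]
        exact (ih c hc).mul_right (ih' c hc)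
      | inv b hb ih =>
        intro c hc
        rw [show a * b⁻¹ * a⁻¹ * b⁻¹⁻¹ = b⁻¹ * (a * b * a⁻¹ * b⁻¹)⁻¹ * b by group,
          (ih b hb).inv_inv.eq, inv_mul_cancel_right]
        exact (ih c hc).inv_right
    | inv a ha ih =>
      intro b hb c hc
      rw [show a⁻¹ * b * a⁻¹⁻¹ * b⁻¹ = a⁻¹ * (a * b * a⁻¹ * b⁻¹)⁻¹ * a by group,
        (ih b hb a ha).inv_inv.eq, inv_mul_cancel_right]
      exact (ih b hb c hc).inv_right
    | mul a a' ha ha' ih ih' =>
      intro b hb c hc
      rw [show a * a' * b * (a * a')⁻¹ * b⁻¹ =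
        a * (a' * b * a'⁻¹ * b⁻¹) * a⁻¹ * (a * b * a⁻¹ * b⁻¹) by group, (ih' b hb a ha).eq,
        mul_inv_cancel_right]
      exact (ih' b hb c hc).mul_right (ih b hb c hc)
  have k2 : ∀ a ∈ closure S, (∀ c ∈ closure S, Commute c (a * a)) ∧ a * a * (a * a) = 1 := by
    intro a ha
    induction ha using closure_induction with
    | one => simp
    | mem a ha => exact ⟨cen (h2 a ha), by rw [← h3 a ha]; simp only [pow_succ, pow_zero]; group⟩
    | inv a ha ih =>
      rw [← mul_inv_rev, ← mul_inv_rev, ih.2, inv_one]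
      exact ⟨fun c hc => (ih.1 c hc).inv_right, rfl⟩
    | mul a b ha hb ih ih' =>
      obtain ⟨k, hk⟩ : ∃ k, k = a⁻¹ * b * a⁻¹⁻¹ * b⁻¹ := ⟨_, rfl⟩
      have hc := hk ▸ k1 _ (inv_mem ha) b hb
      have e : a * b * (a * b) = a * a * k * (b * b) := by rw [hk]; group
      have e2 : k * k = 1 := by
        have e3 : b * a * b⁻¹ = a * k := by rw [hk]; group
        have e4 : b * (a * a) * b⁻¹ = a * a := by rw [(ih.1 b hb).eq, mul_inv_cancel_right]
        rw [← conj_mul, e3, mul_assoc, ← mul_assoc k, ← (hc a ha).eq, mul_assoc, ← mul_assoc,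
          mul_eq_left] at e4
        exact e4
      have hkC : k ∈ closure S := hk ▸ mul_mem (mul_mem (mul_mem (inv_mem ha) hb)
        (inv_mem (inv_mem ha))) (inv_mem hb)
      rw [e]
      refine ⟨fun c h => ((ih.1 c h).mul_right (hc c h)).mul_right (ih'.1 c h), ?_⟩
      rw [((ih'.1 _ (mul_mem (mul_mem ha ha) hkC)).symm).mul_mul_mul_comm,
        ((ih.1 _ hkC)).mul_mul_mul_comm, ih.2, ih'.2, e2, mul_one, mul_one]
  exact fun g => ⟨2, Subtype.ext (by
    rw [SubmonoidClass.coe_pow, show 2 ^ 2 = 2 + 2 by rfl, pow_add, sq]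
    exact (k2 g g.2).2)⟩

open Equiv in
/-- Alternating groups. -/
theorem alt_sq {α : Type*} [Fintype α] [DecidableEq α] (h6 : 6 ≤ Fintype.card α)
    (v : alternatingGroup α) (hv : v * v = 1) : v ∈ sqs (centralizer {v}) := by
  have hT : ∀ x, v.1 (v.1 x) = x := fun x => congrArg (·.1 x) hv
  have key : ∀ x y, v.1 x ≠ x → v.1 y ≠ y → y ≠ x → y ≠ v.1 x → ∃ c ∈ sqs (centralizer {v}),
      ∀ z, c.1 z = if z = x ∨ z = v.1 x ∨ z = y ∨ z = v.1 y then v.1 z else z := by
    intro x y hx hy h1 h2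
    obtain ⟨a, b, hab, ha, hb, h⟩ : ∃ a b, a ≠ b ∧ a ∉ ({x, v.1 x, y, v.1 y} : Finset α) ∧
        b ∉ ({x, v.1 x, y, v.1 y} : Finset α) ∧ (b = v.1 a ∨ v.1 a = a ∧ v.1 b = b) := by
      have h4 : ({x, v.1 x, y, v.1 y} : Finset α).card ≤ 4 := Finset.card_le_four
      obtain ⟨a, ha, b, hb, hab⟩ := Finset.one_lt_card.1
        (show 1 < ({x, v.1 x, y, v.1 y} : Finset α)ᶜ.card by rw [Finset.card_compl]; omega)
      simp only [Finset.mem_compl, Finset.mem_insert, Finset.mem_singleton] at ha hb ⊢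
      by_cases h3 : v.1 a = a
      · by_cases h5 : v.1 b = b
        · exact ⟨a, b, hab, ha, hb, .inr ⟨h3, h5⟩⟩
        · exact ⟨b, v.1 b, Ne.symm h5, hb, by grind, .inl rfl⟩
      · exact ⟨a, v.1 a, Ne.symm h3, ha, by grind, .inl rfl⟩
    simp only [Finset.mem_insert, Finset.mem_singleton, not_or] at ha hb
    have h3 : v.1 x ≠ v.1 y := v.1.injective.ne h1.symm
    let c : alternatingGroup α := ⟨swap x (v.1 x) * (swap x y * swap (v.1 x) (v.1 y)) * swap a b, by
      simp [hx.symm, h1.symm, h3, hab]⟩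
    have hc : ∀ z, c.1 z = if z = x then y else if z = y then v.1 x else if z = v.1 x then v.1 y
        else if z = v.1 y then x else if z = a then b else if z = b then a else z := fun z => by
      simp only [c, Perm.mul_apply, swap_apply_def]
      grind
    refine ⟨c * c, sq_mem (mem_centralizer_singleton_iff.2 (Subtype.ext (Equiv.ext fun z => ?_))),
      fun z => ?_⟩
    · change c.1 (v.1 z) = v.1 (c.1 z)
      have := hT z
      have := hT x
      have := hT y
      have := hT a
      rw [hc, hc]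
      clear_value c
      grind (splits := 30)
    · change c.1 (c.1 z) = _
      have := hT x
      have := hT y
      rw [hc, hc]
      clear_value c
      grind (splits := 40)
  suffices ∀ n, ∀ w : alternatingGroup α, w.1.support.card = n →
      (∀ z, w.1 z = z ∨ w.1 z = v.1 z) → w ∈ sqs (centralizer {v}) from
    this _ v rfl fun _ => .inr rfl
  intro n
  induction n using Nat.strong_induction_on with
  | _ n ih =>
  intro w hn hw
  by_cases h1 : w = 1
  · exact h1 ▸ one_mem _
  obtain ⟨x, hx⟩ : ∃ x, w.1 x ≠ x := by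
    by_contra! h
    exact h1 (Subtype.ext (Equiv.ext h))
  have inj : ∀ a b, w.1 a = w.1 b → a = b := fun a b h => w.1.injective h
  obtain ⟨y, hy, h2, h3⟩ : ∃ y, w.1 y ≠ y ∧ y ≠ x ∧ y ≠ v.1 x := by
    by_contra! h
    have h4 : w.1 = swap x (v.1 x) := Equiv.ext fun z => by
      have := hw z
      have := hw x
      have := h z
      have := inj x (v.1 x)
      rw [swap_apply_def]
      grind
    have h5 := Perm.mem_alternatingGroup.1 w.2
    rw [h4, Perm.sign_swap (by have := hw x; grind)] at h5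
    exact absurd h5 (by decide)
  obtain ⟨c, hc, e⟩ := key x y (by have := hw x; grind) (by have := hw y; grind) h2 h3
  have h4 : ∀ z, (c * w).1 z = if z = x ∨ z = v.1 x ∨ z = y ∨ z = v.1 y then z else w.1 z :=
    fun z => by
      change c.1 (w.1 z) = _
      have := hw z
      have := hw x
      have := hw y
      have := inj x (v.1 x)
      have := inj y (v.1 y)
      rw [e]
      grind
  have h5 : (c * w).1.support ⊂ w.1.support := by
    refine Finset.ssubset_iff_subset_ne.2 ⟨fun z => ?_, fun h => ?_⟩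
    · simp only [Perm.mem_support, h4]
      grind
    · have := h.ge (Perm.mem_support.2 hx)
      simp only [Perm.mem_support, h4] at this
      simp at this
  refine (Subgroup.mul_mem_cancel_left _ hc).1 (ih _ (hn ▸ Finset.card_lt_card h5) _ rfl fun z => ?_)
  have := hw z
  rw [h4]
  grind

end Cfsg.Agent.KSG.C2
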