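import Mathlib
import Cfsg.Prelude.Def_LieTypeChar
import Cfsg.Agent.KSG.C2Def
import Cfsg.Agent.Class.U.Simple
import Cfsg.Agent.Class.Sp.Basic

/-! Commuting quaternion subgroups of linear, unitary and symplectic groups. -/

set_option autoImplicit false

namespace Cfsg.Agent.KSG.C2

open Subgroup Matrix

/-- A commuting family of quaternion groups. -/
structure QF {G I : Type*} [Group G] (s : I → Bool → G) (z : I → G) : Prop where
  sq : ∀ i b, s i b * s i b = z i
  z2 : ∀ i, z i * z i = 1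
  anti : ∀ i, s i true * s i false = z i * (s i false * s i true)
  comm : ∀ i j, i ≠ j → ∀ b c, Commute (s i b) (s j c)

namespace QF

variable {G I : Type*} [Group G] {s : I → Bool → G} {z : I → G} (h : QF s z)
include h

theorem cz (i j : I) (b : Bool) : Commute (s i b) (z j) := by
  by_cases e : i = j
  · rw [← e, ← h.sq i b]; exact (Commute.refl _).mul_right (.refl _)
  · rw [← h.sq j b]; exact (h.comm i j e b b).mul_right (h.comm i j e b b)

theorem cmt (i : I) : s i true * s i false * (s i true)⁻¹ * (s i false)⁻¹ = z i := by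
  rw [h.anti]; group

theorem two : IsPGroup 2 (closure {x | ∃ i b, x = s i b}) := by
  refine two_of_gens ?_ ?_ ?_
  · rintro _ ⟨i, b, rfl⟩ _ ⟨j, c, rfl⟩ _ ⟨k, d, rfl⟩
    by_cases e : i = j
    · subst e
      cases b <;> cases c
      · simp
      · rw [show ∀ x y : G, x * y * x⁻¹ * y⁻¹ = (y * x * y⁻¹ * x⁻¹)⁻¹ by intros; group, h.cmt]
        exact (h.cz k i d).inv_right
      · rw [h.cmt]; exact h.cz k i d
      · simp
    · rw [(h.comm i j e b c).eq]; simp
  · rintro _ ⟨i, b, rfl⟩ _ ⟨k, d, rfl⟩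
    rw [h.sq]; exact h.cz k i d
  · rintro _ ⟨i, b, rfl⟩
    rw [show 4 = 2 + 2 by rfl, pow_add, pow_two, h.sq, h.z2]

theorem of_injective {H : Type*} [Group H] (f : H →* G) (hf : Function.Injective f)
    {s' : I → Bool → H} (e : ∀ i b, f (s' i b) = s i b) : QF s' fun i => s' i true * s' i true where
  sq i b := hf (by rw [map_mul, map_mul, e, e, h.sq, h.sq])
  z2 i := hf (by rw [map_mul, map_mul, e, h.sq, h.z2, map_one])
  anti i := hf (by simp only [map_mul, e, h.sq, h.anti])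
  comm i j hij b c := hf (by rw [map_mul, map_mul, e, e, (h.comm i j hij b c).eq])

end QF

variable {F : Type*} [Field F] {ι : Type*} [Fintype ι] [DecidableEq ι]

/-- the generators of the quaternion group -/
def q8 (a b : F) : Bool → Matrix (Fin 2) (Fin 2) F
  | true => !![0, 1; -1, 0]
  | false => !![a, b; b, -a]

theorem q8_sq {a b : F} (h : a ^ 2 + b ^ 2 = -1) (c : Bool) : q8 a b c * q8 a b c = -1 := by
  cases c <;> ext i j <;> fin_cases i <;> fin_cases j <;> simp [q8, Matrix.mul_apply, Fin.sum_univ_two] <;>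
    first | linear_combination h | ring

theorem q8_det {a b : F} (h : a ^ 2 + b ^ 2 = -1) (c : Bool) : (q8 a b c).det = 1 := by
  cases c <;> simp [q8, det_fin_two]
  linear_combination -h

theorem q8_anti (a b : F) : q8 a b true * q8 a b false = -1 * (q8 a b false * q8 a b true) := by
  ext i j; fin_cases i <;> fin_cases j <;> simp [q8, Matrix.mul_apply, Fin.sum_univ_two]

theorem q8_scal (h2 : (2 : F) ≠ 0) {a b : F} (h : a ≠ 0 ∨ b ≠ 0) {M : Matrix (Fin 2) (Fin 2) F}
    (hM : ∀ c, M * q8 a b c = q8 a b c * M) : ∃ μ : F, M = μ • 1 := by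
  have h1 := congrFun (congrFun (hM true) 0) 0
  have h3 := congrFun (congrFun (hM true) 0) 1
  have h4 := congrFun (congrFun (hM false) 0) 0
  have h5 := congrFun (congrFun (hM false) 0) 1
  simp [q8, Matrix.mul_apply, Fin.sum_univ_two] at h1 h3 h4 h5
  have h6 : M 0 1 = 0 := by
    rcases h with h | h
    · exact mul_left_cancel₀ (mul_ne_zero h2 h) (by linear_combination -h5 + b * h3)
    · exact mul_left_cancel₀ (mul_ne_zero h2 h) (by linear_combination h4 - b * h1)
  refine ⟨M 0 0, ?_⟩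
  ext i j; fin_cases i <;> fin_cases j <;> simp [h6, ← h1, h3]

theorem ne_of_sq {a b : F} (h : a ^ 2 + b ^ 2 = -1) : a ≠ 0 ∨ b ≠ 0 := by
  by_contra! e
  simp [e.1, e.2] at h

/-- a two-dimensional block -/
def blk (P : Matrix ι (Fin 2) F) (m : Matrix (Fin 2) (Fin 2) F) : Matrix ι ι F :=
  1 + P * (m - 1) * Pᵀ

theorem blk_mul {P : Matrix ι (Fin 2) F} (hP : Pᵀ * P = 1) (m m' : Matrix (Fin 2) (Fin 2) F) :
    blk P m * blk P m' = blk P (m * m') := by
  have : P * (m - 1) * Pᵀ * (P * (m' - 1) * Pᵀ) = P * ((m - 1) * (m' - 1)) * Pᵀ := by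
    simp only [Matrix.mul_assoc]
    rw [← Matrix.mul_assoc Pᵀ, hP, Matrix.one_mul]
  rw [blk, blk, blk, add_mul, mul_add, mul_add, this, one_mul, one_mul, mul_one,
    show m * m' - 1 = m' - 1 + (m - 1 + (m - 1) * (m' - 1)) by noncomm_ring, Matrix.mul_add,
    Matrix.add_mul, Matrix.mul_add, Matrix.add_mul, add_assoc]

theorem blk_one (P : Matrix ι (Fin 2) F) : blk P 1 = 1 := by simp [blk]

theorem blk_comm {P P' : Matrix ι (Fin 2) F} (h : Pᵀ * P' = 0) (h' : P'ᵀ * P = 0)
    (m m' : Matrix (Fin 2) (Fin 2) F) : Commute (blk P m) (blk P' m') := by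
  have : ∀ {P P' : Matrix ι (Fin 2) F} (_ : Pᵀ * P' = 0) (m m' : Matrix (Fin 2) (Fin 2) F),
      P * m * Pᵀ * (P' * m' * P'ᵀ) = 0 := fun h m m' => by
    simp only [Matrix.mul_assoc]
    rw [← Matrix.mul_assoc _ᵀ, h, Matrix.zero_mul, Matrix.mul_zero, Matrix.mul_zero]
  refine (Commute.one_left _).add_left ((Commute.one_right _).add_right ?_)
  rw [Commute, SemiconjBy, this h, this h']

theorem det_blk {P : Matrix ι (Fin 2) F} (hP : Pᵀ * P = 1) (m : Matrix (Fin 2) (Fin 2) F) :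
    (blk P m).det = m.det := by
  rw [blk, det_one_add_mul_comm, ← Matrix.mul_assoc, hP, Matrix.one_mul, add_sub_cancel]

theorem blk_transpose (P : Matrix ι (Fin 2) F) (m : Matrix (Fin 2) (Fin 2) F) :
    (blk P m)ᵀ = blk P mᵀ := by simp [blk, Matrix.mul_assoc]

theorem kq_of {X : Type*} [Group X] (ρ : X →* Matrix ι ι F) (hρ : Function.Injective ρ)
    (h2 : (2 : F) ≠ 0) (hZ : ∀ z ∈ center X, ∃ c : F, ρ z = c • 1) {I : Type*} [Fintype I]
    (P : I → Matrix ι (Fin 2) F) (hP : ∀ i, (P i)ᵀ * P i = 1)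
    (hP' : ∀ i j, i ≠ j → (P i)ᵀ * P j = 0)
    (hE : ∀ M, ∃ ν : F, (1 - ∑ i, P i * (P i)ᵀ) * M * (1 - ∑ i, P i * (P i)ᵀ) =
      ν • (1 - ∑ i, P i * (P i)ᵀ)) (h3 : 3 ≤ Fintype.card ι) {a b : F}
    (hab : a ^ 2 + b ^ 2 = -1) (s : I → Bool → X) (hs : ∀ i c, ρ (s i c) = blk (P i) (q8 a b c)) :
    KQ X := by
  classical
  have hz : ∀ i c, ρ (s i c * s i c) = 1 - 2 • (P i * (P i)ᵀ) := fun i c => by
    rw [map_mul, hs, blk_mul (hP i), q8_sq hab, blk, ← neg_add', Matrix.mul_neg, Matrix.neg_mul,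
      Matrix.mul_add, Matrix.mul_one, Matrix.add_mul, two_smul, sub_eq_add_neg]
  have Q : QF s fun i => s i true * s i true :=
    { sq := fun i c => hρ (by rw [hz, hz])
      z2 := fun i => hρ (by simp only [map_mul, hs, blk_mul (hP i), q8_sq hab, neg_mul_neg,
        mul_one, blk_one, map_one])
      anti := fun i => hρ (by simp only [map_mul, hs, blk_mul (hP i), q8_sq hab, q8_anti])
      comm := fun i j hij c d => hρ (by
        rw [map_mul, map_mul, hs, hs, (blk_comm (hP' i j hij) (hP' j i hij.symm) _ _).eq]) }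
  refine ⟨_, Q.two, fun U hU hc => ?_⟩
  have mem : ∀ i c, s i c ∈ closure {x | ∃ i b, x = s i b} := fun i c => subset_closure ⟨i, c, rfl⟩
  obtain ⟨e, he⟩ : ∃ e : I → Matrix ι ι F, ∀ i, e i = P i * (P i)ᵀ := ⟨_, fun _ => rfl⟩
  simp only [← he] at hE hz
  have eP : ∀ i, e i * P i = P i := fun i => by rw [he, Matrix.mul_assoc, hP, Matrix.mul_one]
  have Pe : ∀ i, (P i)ᵀ * e i = (P i)ᵀ := fun i => by rw [he, ← Matrix.mul_assoc, hP, Matrix.one_mul]
  have ee : ∀ i j, e i * e j = if i = j then e i else 0 := fun i j => by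
    split_ifs with h
    · rw [← h, he i, Matrix.mul_assoc, ← he, Pe, he]
    · rw [he, he, Matrix.mul_assoc, ← Matrix.mul_assoc _ᵀ, hP' i j h, Matrix.zero_mul,
        Matrix.mul_zero]
  have can : ∀ N : Matrix ι ι F, ρ U * N = 0 → N = 0 := fun N h => by
    rw [← one_mul N, ← map_one ρ, ← inv_mul_cancel U, map_mul, mul_assoc, h, mul_zero]
  have ce : ∀ i, ρ U * e i = e i * ρ U := fun i => by
    have h1 : U * (s i true * s i true) = s i true * s i true * U := by
      have h4 := mem_center_iff.1 (hc _ (mem i true))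
      have h5 := mem_center_iff.1 (hc _ (mem i false))
      generalize hx : U * s i true * U⁻¹ * (s i true)⁻¹ = x at h4
      generalize hy : U * s i false * U⁻¹ * (s i false)⁻¹ = y at h5
      have h6 : U * s i true * U⁻¹ = x * s i true := by rw [← hx]; group
      have h7 : U * s i false * U⁻¹ = y * s i false := by rw [← hy]; group
      rw [← Q.cmt i, ← mul_inv_eq_iff_eq_mul, ← conj_mul, ← conj_mul, ← conj_mul, ← conj_inv,
        ← conj_inv, h6, h7, ← h4 (s i true), ← h5 (s i false)]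
      calc _ = s i true * (x * (s i false * y) * x⁻¹) * (s i true)⁻¹ * y⁻¹ * (s i false)⁻¹ := by group
        _ = s i true * s i false * (y * (s i true)⁻¹ * y⁻¹) * (s i false)⁻¹ := by
          rw [← h4]; group
        _ = _ := by rw [← h5]; group
    have h4 := congrArg ρ h1
    rw [map_mul, map_mul ρ _ U, hz, mul_sub, sub_mul, mul_one, one_mul, sub_right_inj,
      mul_smul_comm, smul_mul_assoc, two_smul, two_smul, ← two_smul F, ← two_smul F] at h4
    exact smul_right_injective _ h2 h4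
  have cs : ∀ i c, ρ U * blk (P i) (q8 a b c) = blk (P i) (q8 a b c) * ρ U := fun i c => by
    obtain ⟨κ, hκ⟩ := hZ _ (hc _ (mem i c))
    have h4 : ρ U * blk (P i) (q8 a b c) = κ • (blk (P i) (q8 a b c) * ρ U) := by
      rw [← hs, ← map_mul, ← map_mul, ← one_mul (ρ (s i c * U)), ← smul_mul_assoc, ← hκ, ← map_mul]
      congr 1; group
    have h5 : blk (P i) (q8 a b c) * (1 - e i) = 1 - e i := by
      rw [blk, add_mul, one_mul, Matrix.mul_assoc, Matrix.mul_sub _ᵀ, Pe, Matrix.mul_one, sub_self,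
        Matrix.mul_zero, add_zero]
    have h6 : ρ U * (1 - e i) = (1 - e i) * ρ U := by rw [mul_sub, sub_mul, ce, mul_one, one_mul]
    have h7 : ρ U * ((1 - κ) • (1 - e i)) = 0 := by
      rw [mul_smul_comm, sub_smul, one_smul, sub_eq_zero]
      conv_lhs => rw [← h5, ← mul_assoc, h4, smul_mul_assoc, mul_assoc, h6, ← mul_assoc, h5, ← h6]
    rcases smul_eq_zero.1 (can _ h7) with h | h
    · rw [h4, ← sub_eq_zero.1 h, one_smul]
    · have h8 := (rank_mul_le_left (P i) (P i)ᵀ).trans (rank_le_card_width (P i))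
      rw [← he, ← sub_eq_zero.1 h, rank_one, Fintype.card_fin] at h8
      omega
  have sc : ∀ i, ∃ μ : F, ρ U * e i = μ • e i := fun i => by
    obtain ⟨μ, hμ⟩ := q8_scal h2 (ne_of_sq hab) (M := (P i)ᵀ * ρ U * P i) fun c => by
      have h4 : blk (P i) (q8 a b c) * P i = P i * q8 a b c := by
        rw [blk, Matrix.add_mul, Matrix.mul_assoc, hP, Matrix.mul_one, Matrix.one_mul,
          Matrix.mul_sub, Matrix.mul_one, add_sub_cancel]
      have h5 : (P i)ᵀ * blk (P i) (q8 a b c) = q8 a b c * (P i)ᵀ := by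
        rw [blk, Matrix.mul_add, Matrix.mul_assoc, ← Matrix.mul_assoc _ᵀ, hP, Matrix.mul_one,
          Matrix.one_mul, Matrix.sub_mul, Matrix.one_mul, add_sub_cancel]
      rw [Matrix.mul_assoc, ← h4, ← Matrix.mul_assoc, Matrix.mul_assoc _ᵀ, cs, ← Matrix.mul_assoc,
        h5]
      simp only [Matrix.mul_assoc]
    refine ⟨μ, ?_⟩
    calc _ = e i * ρ U * e i := by rw [← ce, mul_assoc, ee, if_pos rfl]
      _ = P i * ((P i)ᵀ * ρ U * P i) * (P i)ᵀ := by rw [he]; simp only [Matrix.mul_assoc]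
      _ = _ := by rw [hμ, Matrix.mul_smul, Matrix.mul_one, Matrix.smul_mul, he]
  choose μ hμ using sc
  obtain ⟨l, hl⟩ := hZ _ hU
  have sq : ∀ (N : Matrix ι ι F) (c : F), N ≠ 0 → ρ U * N = c • N → c * c = l := fun N c h0 h => by
    have : (c * c - l) • N = 0 := by
      rw [sub_smul, ← smul_smul, ← h, ← mul_smul_comm, ← h, ← mul_assoc, ← map_mul, hl,
        smul_mul_assoc, one_mul, sub_self]
    exact sub_eq_zero.1 ((smul_eq_zero.1 this).resolve_right h0)
  have sμ : ∀ i, μ i * μ i = l := fun i => sq _ _ (fun h => by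
    have := hP i
    rw [← eP, h, Matrix.zero_mul, Matrix.mul_zero] at this
    exact zero_ne_one this) (hμ i)
  obtain ⟨ν, h4, h5⟩ : ∃ ν : F, ρ U * (1 - ∑ i, e i) = ν • (1 - ∑ i, e i) ∧
      ∀ i, μ i * μ i = ν * ν := by
    by_cases h : 1 - ∑ i, e i = 0
    · rcases isEmpty_or_nonempty I with h' | ⟨⟨j⟩⟩
      exacts [⟨0, by rw [h, mul_zero, smul_zero], fun i => h'.elim i⟩,
        ⟨μ j, by rw [h, mul_zero, smul_zero], fun i => by rw [sμ, sμ]⟩]
    obtain ⟨ν, hν⟩ := hE (ρ U)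
    have h6 : ρ U * (1 - ∑ i, e i) = ν • (1 - ∑ i, e i) := by
      rw [← hν, sub_mul, one_mul, sub_mul, Finset.sum_mul, Finset.sum_mul, eq_comm, sub_eq_self]
      refine Finset.sum_eq_zero fun i _ => ?_
      rw [← ce, mul_assoc, mul_sub, Finset.mul_sum]
      simp [ee]
    exact ⟨ν, h6, fun i => by rw [sμ, sq _ _ h h6]⟩
  have ex : ∀ S : Finset I, ∃ t ∈ sqs (closure {x | ∃ i b, x = s i b}),
      ρ t = 1 - 2 • ∑ i ∈ S, e i := fun S => by
    induction S using Finset.induction with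
    | empty => exact ⟨1, one_mem _, by simp⟩
    | insert i S hi ih =>
      obtain ⟨t, ht, h⟩ := ih
      refine ⟨_, mul_mem (sq_mem (mem i true)) ht, ?_⟩
      have h0 : e i * ∑ j ∈ S, e j = 0 := by
        rw [Finset.mul_sum]
        exact Finset.sum_eq_zero fun j hj => by rw [ee, if_neg (by rintro rfl; exact hi hj)]
      rw [map_mul, hz, h, Finset.sum_insert hi, sub_mul, mul_sub (2 • e i), smul_mul_smul_comm, h0,
        smul_zero, sub_zero, one_mul, mul_one, smul_add]
      abel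
  obtain ⟨t, ht, h6⟩ := ex (Finset.univ.filter fun i => μ i ≠ ν)
  have h7 : ρ U = ν • ρ t := by
    rw [mul_sub, mul_one, sub_eq_iff_eq_add] at h4
    rw [h6, h4, smul_sub, smul_sub, sub_add, sub_right_inj, Finset.mul_sum, Finset.smul_sum,
      Finset.sum_filter, Finset.smul_sum, Finset.smul_sum, ← Finset.sum_sub_distrib]
    refine Finset.sum_congr rfl fun i _ => ?_
    rw [hμ]
    split_ifs with h
    · rw [(mul_self_eq_mul_self_iff.1 (h5 i)).resolve_left h, neg_smul, sub_neg_eq_add, two_smul,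
        smul_add]
    · simp [not_not.1 h]
  refine ⟨t, ht, mem_center_iff.2 fun g => hρ ?_⟩
  have h8 : ρ (U * t⁻¹) = ν • 1 := by
    rw [map_mul, h7, smul_mul_assoc, ← map_mul, mul_inv_cancel, map_one]
  rw [map_mul, map_mul ρ _ g, h8, mul_smul_comm, smul_mul_assoc, mul_one, one_mul]

variable (F) in
/-- coordinate planes -/
def pm (γ : Fin 2 → ι) : Matrix ι (Fin 2) F := of fun a k => if a = γ k then 1 else 0

theorem pm_mul (γ δ : Fin 2 → ι) :
    (pm F γ)ᵀ * pm F δ = of fun k l => if γ k = δ l then (1 : F) else 0 := by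
  ext k l
  simp [pm, Matrix.mul_apply, eq_comm]

theorem kq_coord {X : Type*} [Group X] (ρ : X →* Matrix ι ι F) (hρ : Function.Injective ρ)
    (h2 : (2 : F) ≠ 0) (hZ : ∀ z ∈ center X, ∃ c : F, ρ z = c • 1) {I : Type*} [Fintype I]
    (γ : I → Fin 2 → ι) (hγ : ∀ i k j l, γ i k = γ j l → i = j ∧ k = l)
    (hs : ∀ a b, (∀ i k, a ≠ γ i k) → (∀ i k, b ≠ γ i k) → a = b) (h3 : 3 ≤ Fintype.card ι) {a b : F}
    (hab : a ^ 2 + b ^ 2 = -1)
    (h : ∀ i c, (pm F (γ i))ᵀ * pm F (γ i) = 1 →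
      ∃ x, ρ x = blk (pm F (γ i)) (q8 a b c)) :
    KQ X := by
  classical
  have h1 : ∀ i, (pm F (γ i))ᵀ * pm F (γ i) = 1 := fun i => by
    ext k l
    rw [pm_mul, of_apply, one_apply]
    exact if_congr ⟨fun e => (hγ _ _ _ _ e).2, congrArg _⟩ rfl rfl
  choose s hs' using fun i c => h i c (h1 i)
  refine kq_of ρ hρ h2 hZ (fun i => pm F (γ i)) h1 (fun i j hij => ?_) (fun M => ?_) h3 hab s hs'
  · ext k l
    rw [pm_mul, of_apply, if_neg fun e => hij (hγ _ _ _ _ e).1, Matrix.zero_apply]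
  have e : (1 - ∑ i, pm F (γ i) * (pm F (γ i))ᵀ : Matrix ι ι F) =
      diagonal fun a => if ∀ i k, a ≠ γ i k then 1 else 0 := by
    ext x y
    simp only [pm, Matrix.sub_apply, Matrix.sum_apply, Matrix.mul_apply, of_apply, transpose_apply, one_apply,
      diagonal_apply, ← Fintype.sum_prod_type']
    by_cases hx : ∀ i k, x ≠ γ i k
    · simp [hx]
    · obtain ⟨i, k, rfl⟩ : ∃ i k, x = γ i k := by
        by_contra! h0
        exact hx h0
      rw [if_neg hx, ite_self, Finset.sum_eq_single (i, k)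
        (fun p _ hp => by rw [if_neg fun e => hp (Prod.ext (hγ _ _ _ _ e).1.symm
          (hγ _ _ _ _ e).2.symm), zero_mul]) (by simp)]
      simp [eq_comm]
  rw [e]
  by_cases h0 : ∃ a, ∀ i k, a ≠ γ i k
  · obtain ⟨x, hx⟩ := h0
    refine ⟨M x x, ?_⟩
    ext y z
    simp only [mul_diagonal, diagonal_mul, Matrix.smul_apply, diagonal_apply, smul_eq_mul]
    by_cases hy : ∀ i k, y ≠ γ i k
    · by_cases hz : ∀ i k, z ≠ γ i k
      · simp [hs y x hy hx, hs z x hz hx, hx]
      · rw [if_neg hz, if_neg (show y ≠ z by rintro rfl; exact hz hy), mul_zero, mul_zero]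
    · simp only [if_neg hy, ite_self, zero_mul, mul_zero]
  · refine ⟨0, ?_⟩
    simp only [not_exists] at h0
    simp only [if_neg (h0 _), diagonal_zero, mul_zero, smul_zero]

/-- consecutive coordinates -/
def pr (n : ℕ) (i : Fin (n / 2)) (k : Fin 2) : Fin n := ⟨2 * i + k, by omega⟩

theorem pr_inj {n : ℕ} (i : Fin (n / 2)) (k : Fin 2) (j : Fin (n / 2)) (l : Fin 2)
    (h : pr n i k = pr n j l) : i = j ∧ k = l := by
  simp only [pr, Fin.ext_iff] at h ⊢
  omega

theorem pr_sub {n : ℕ} (a b : Fin n) (ha : ∀ i k, a ≠ pr n i k) (hb : ∀ i k, b ≠ pr n i k) :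
    a = b := by
  have : ∀ a : Fin n, (∀ i k, a ≠ pr n i k) → a.1 = 2 * (n / 2) := fun a ha => by
    by_contra h
    exact ha ⟨a / 2, by omega⟩ ⟨a % 2, by omega⟩ (Fin.ext (by simp only [pr]; omega))
  exact Fin.ext ((this a ha).trans (this b hb).symm)

theorem exists_ab [Finite F] : ∃ a b : ℤ, (a : F) ^ 2 + (b : F) ^ 2 = -1 := by
  obtain ⟨p, hp⟩ := CharP.exists F
  have : NeZero p := ⟨CharP.char_ne_zero_of_finite F p⟩
  obtain ⟨x, y, h⟩ := CharP.sq_add_sq F p (-1)
  exact ⟨x, y, by simpa using h⟩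

theorem kq_SL [Finite F] (h2 : (2 : F) ≠ 0) {n : ℕ} (hn : 3 ≤ n) :
    KQ (SpecialLinearGroup (Fin n) F) := by
  obtain ⟨a, b, hab⟩ := exists_ab (F := F)
  refine kq_coord (slToMat n F) (fun _ _ h => Subtype.ext h) h2
    (fun (z : SpecialLinearGroup (Fin n) F) hz => ?_) (pr n) pr_inj pr_sub
    (by simpa using hn) hab fun i c h => ⟨⟨_, (det_blk h _).trans (q8_det hab c)⟩, rfl⟩
  obtain ⟨r, -, hr⟩ := Matrix.SpecialLinearGroup.mem_center_iff.1 hz
  exact ⟨r, hr.symm.trans (by rw [scalar_apply, smul_one_eq_diagonal])⟩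

theorem kq_Sp [Finite F] (h2 : (2 : F) ≠ 0) {m : ℕ} (hm : 2 ≤ m) :
    KQ (symplecticGroup (Fin m) F) := by
  obtain ⟨a, b, hab⟩ := exists_ab (F := F)
  refine kq_coord (symplecticGroup (Fin m) F).subtype (fun _ _ h => Subtype.ext h) h2
    (fun z hz => ?_) (fun i => ![.inl i, .inr i]) (fun i k j l => ?_) (fun x y hx => ?_)
    (by simp; omega) hab fun i c h => ⟨⟨blk _ (q8 (a : F) b c), ?_⟩, rfl⟩
  · rcases Class.Sp.mem_center_iff.1 hz with rfl | rfl
    exacts [⟨1, by simp⟩, ⟨-1, by simp [Class.Sp.negOne]⟩]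
  · fin_cases k <;> fin_cases l <;> simp
  · rcases x with x | x
    exacts [(hx x 0 rfl).elim, (hx x 1 rfl).elim]
  have h1 : J (Fin m) F * pm F ![Sum.inl i, Sum.inr i] = pm F ![Sum.inl i, Sum.inr i] * (!![0, -1; 1, 0] : Matrix _ _ F) := by
    ext (x | x) k <;> fin_cases k <;>
      simp [J, pm, Matrix.mul_apply, Fin.sum_univ_two, Fintype.sum_sum_type, one_apply] <;>
      split_ifs <;> simp
  have h3 : (pm F ![Sum.inl i, Sum.inr i])ᵀ * J (Fin m) F =
      (!![0, -1; 1, 0] : Matrix _ _ F) * (pm F ![Sum.inl i, Sum.inr i])ᵀ := by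
    ext k (x | x) <;> fin_cases k <;>
      simp [J, pm, Matrix.mul_apply, Fin.sum_univ_two, Fintype.sum_sum_type, one_apply,
        eq_comm] <;> split_ifs <;> simp
  have h4 : q8 (a : F) b c * !![0, -1; 1, 0] * (q8 (a : F) b c)ᵀ = !![0, -1; 1, 0] := by
    cases c <;> ext k l <;> fin_cases k <;> fin_cases l <;>
      simp [q8, Matrix.mul_apply, Fin.sum_univ_two] <;> first | linear_combination hab | linear_combination -hab | ring
  rw [SymplecticGroup.mem_iff, blk_transpose]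
  generalize pm F ![Sum.inl i, Sum.inr i] = P at h h1 h3
  generalize q8 (a : F) b c = g at h4
  generalize (!![0, -1; 1, 0] : Matrix (Fin 2) (Fin 2) F) = j at h1 h3 h4
  have h5 : P * (g - 1) * Pᵀ * J (Fin m) F * (P * (gᵀ - 1) * Pᵀ) =
      P * ((g - 1) * j * (gᵀ - 1)) * Pᵀ := by
    simp only [Matrix.mul_assoc]
    rw [← Matrix.mul_assoc (J _ _), h1, Matrix.mul_assoc, ← Matrix.mul_assoc Pᵀ, h, Matrix.one_mul]
  rw [blk, blk, add_mul, add_mul, mul_add, mul_add, h5, one_mul, mul_one, mul_one,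
    ← Matrix.mul_assoc, ← Matrix.mul_assoc, h1, Matrix.mul_assoc (P * (g - 1)), h3, add_assoc,
    add_eq_left, ← Matrix.mul_assoc, Matrix.mul_assoc P j, Matrix.mul_assoc P (g - 1), ← Matrix.add_mul,
    ← Matrix.add_mul, ← Matrix.mul_add, ← Matrix.mul_add,
    show j * (gᵀ - 1) + ((g - 1) * j + (g - 1) * j * (gᵀ - 1)) = g * j * gᵀ - j by noncomm_ring,
    h4, sub_self, Matrix.mul_zero, Matrix.zero_mul]

theorem kq_SU [Fintype F] (h2 : (2 : F) ≠ 0) {n q : ℕ} (hq : Fintype.card F = q ^ 2) (hn : 3 ≤ n) :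
    KQ (SU n F q) := by
  have := Class.U.UF.of_card hq
  obtain ⟨a, b, hab, ha, hb⟩ : ∃ a b : F, a ^ 2 + b ^ 2 = -1 ∧ Class.U.conj F q a = -a ∧
      Class.U.conj F q b = -b := by
    obtain ⟨i, hi⟩ : IsSquare (-1 : F) := FiniteField.isSquare_neg_one_iff.2 (by
      rw [hq, Nat.pow_mod]
      have : q % 4 < 4 := Nat.mod_lt _ (by decide)
      interval_cases q % 4 <;> decide)
    have h1 : Class.U.conj F q i * Class.U.conj F q i = i * i := by
      rw [← map_mul, ← hi, map_neg, map_one]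
    rcases mul_self_eq_mul_self_iff.1 h1 with h | h
    · obtain ⟨s, h0, hs⟩ := Class.U.exists_trace_zero F q
      replace hs := (neg_eq_of_add_eq_zero_right hs).symm
      refine ⟨(s - s⁻¹) / 2, i * (s + s⁻¹) / 2, ?_, ?_, ?_⟩
      · field_simp
        linear_combination (-(s ^ 2 + 1) ^ 2) * hi
      · simp only [map_div₀, map_sub, map_inv₀, hs, map_ofNat, inv_neg]; ring
      · simp only [map_div₀, map_mul, map_add, map_inv₀, hs, map_ofNat, inv_neg, h]; ring
    · exact ⟨i, 0, by linear_combination -hi, h, by simp⟩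
  refine kq_coord ((slToMat n F).comp (SU n F q).subtype) (fun _ _ h => Subtype.ext (Subtype.ext h))
    h2 (fun z hz => ?_) (pr n) pr_inj pr_sub (by simpa using hn) hab fun i c h =>
      ⟨Class.U.mkSU _ (Class.U.pres_iff.2 ?_) ((det_blk h _).trans (q8_det hab c)), rfl⟩
  · obtain ⟨e, he⟩ := (Class.U.mem_center_iff (by omega)).1 hz
    exact ⟨e, ext_of_mulVec_single fun j => (he _).trans (by rw [smul_mulVec, one_mulVec])⟩
  have h1 : ∀ m, (blk (pm F (pr n i)) m).map (Class.U.conj F q) =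
      blk (pm F (pr n i)) (m.map (Class.U.conj F q)) := fun m => by
    have h3 : (pm F (pr n i)).map (Class.U.conj F q) = pm F (pr n i) := by
      ext x k; simp [pm, apply_ite (Class.U.conj F q)]
    rw [blk, blk, Matrix.map_add _ (map_add _), Matrix.map_mul, Matrix.map_mul, transpose_map, h3,
      Matrix.map_sub _ (map_sub _), Matrix.map_one _ (map_zero _) (map_one _),
      Matrix.map_one _ (map_zero _) (map_one _)]
  rw [h1, blk_transpose, blk_mul h, ← blk_one (pm F (pr n i))]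
  congr 1
  cases c <;> ext k l <;> fin_cases k <;> fin_cases l <;>
    simp [q8, Matrix.mul_apply, Fin.sum_univ_two, ha, hb] <;> first | linear_combination -hab | ring

theorem two_ne {p : ℕ} (F : Type*) [Field F] [CharP F p] (hp : p.Prime) (h2 : p ≠ 2) :
    (2 : F) ≠ 0 := fun h => h2 ((Nat.prime_dvd_prime_iff_eq hp Nat.prime_two).1
  ((CharP.cast_eq_zero_iff F p 2).1 (by exact_mod_cast h)))

end Cfsg.Agent.KSG.C2
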