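import Mathlib
import Cfsg.Agent.KSG.C2Lin
import Cfsg.Agent.Lang.RedLang
import Cfsg.Agent.Chev.SL2Hom
import Cfsg.Agent.Chev.StCent

/-! Commuting fundamental subgroups of a Chevalley group in odd characteristic. -/

set_option autoImplicit false
set_option linter.unusedSectionVars false

namespace Cfsg.Agent.KSG.C2

open Subgroup Cfsg.Lie Cfsg.Agent.Chev Cfsg.Agent.Lang Cfsg.Agent.RootSub
open scoped MatrixGroups

variable {K : Type*} [Field K] {G : Type*} [Group G] {D : ChevalleyDatum} {x : ℕ → K → G}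
  {T : RootTable D} {L : List ℕ} {φ : ℕ → SL(2, K) →* G}

/-- quaternion generators in `SL₂` -/
def sq8 {a b : K} (h : a ^ 2 + b ^ 2 = -1) (c : Bool) : SL(2, K) := ⟨q8 a b c, q8_det h c⟩

theorem sq8_sq {a b : K} (h : a ^ 2 + b ^ 2 = -1) (c : Bool) : sq8 h c * sq8 h c = -1 :=
  Subtype.ext (q8_sq h c)

theorem sq8_anti {a b : K} (h : a ^ 2 + b ^ 2 = -1) :
    sq8 h true * sq8 h false = -1 * (sq8 h false * sq8 h true) := Subtype.ext (q8_anti a b)

variable (x T L φ) in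
/-- a maximal family of strongly orthogonal roots -/
structure Dat : Prop where
  nd : IsND x T
  st : IsSt D x
  r3 : IsR3 D x
  top : Gs D x = ⊤
  cent : ∀ g ∈ Hs D x, (∀ i : Fin D.rank, g * x (D.simple i) 1 * g⁻¹ = x (D.simple i) 1) → g = 1
  h2 : (2 : K) ≠ 0
  pos : ∀ r ∈ L, T.N ≤ r ∧ r < 2 * T.N
  fx : ∀ r ∈ L, ∀ t, φ r (xx t) = x r t
  fy : ∀ r ∈ L, ∀ t, φ r (yy t) = x (D.neg r) t
  comm : ∀ r ∈ L, ∀ s ∈ L, r ≠ s → ∀ a b, Commute (φ r a) (φ s b)
  ev : ∀ s, T.N ≤ s → s < 2 * T.N → ((∀ r ∈ L, Even (D.pairing r s)) ↔ s ∈ L)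
  odd : ∀ r ∈ L, ∃ j : Fin D.rank, Odd (D.pairing r (D.simple j))
  reg : ∃ R : List (ℕ × ℤ), (∀ p ∈ R, p.1 ∈ L) ∧ ∀ i : Fin D.rank, 0 < lamN D R (D.simple i)
  sp : ∀ m < 2 ^ D.rank, (∀ r ∈ L, r ∈ psiM T m) → ∃ e : List ℕ, (∀ r ∈ e, r ∈ L) ∧
    ∀ j : Fin D.rank, 2 ∣ bitv m j - (e.map fun r => D.pairing r (D.simple j)).sum

variable (L φ) in
/-- `g` permutes the fundamental subgroups -/
def Mv (g : G) : Prop := ∀ r ∈ L, ∃ s ∈ L, ∃ m : Matrix (Fin 2) (Fin 2) K, m.det ≠ 0 ∧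
  ∀ a : SL(2, K), ∃ b : SL(2, K), b.1 * m = m * a.1 ∧ g * φ r a * g⁻¹ = φ s b

theorem Mv.mul {g g' : G} (h : Mv L φ g) (h' : Mv L φ g') : Mv L φ (g * g') := fun r hr => by
  obtain ⟨s, hs, m, hm, e⟩ := h' r hr
  obtain ⟨s', hs', m', hm', e'⟩ := h s hs
  refine ⟨s', hs', m' * m, by rw [Matrix.det_mul]; exact mul_ne_zero hm' hm, fun a => ?_⟩
  obtain ⟨b, h1, h2⟩ := e a
  obtain ⟨b', h3, h4⟩ := e' b
  exact ⟨b', by rw [← mul_assoc, h3, mul_assoc, h1, mul_assoc], by rw [← h4, ← h2]; group⟩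

theorem mv_gen {g : G} {r s : ℕ} {m : Matrix (Fin 2) (Fin 2) K}
    (h1 : ∀ t, ∃ b : SL(2, K), b.1 * m = m * (xx t).1 ∧ g * φ r (xx t) * g⁻¹ = φ s b)
    (h2 : ∀ t, ∃ b : SL(2, K), b.1 * m = m * (yy t).1 ∧ g * φ r (yy t) * g⁻¹ = φ s b)
    (a : SL(2, K)) : ∃ b : SL(2, K), b.1 * m = m * a.1 ∧ g * φ r a * g⁻¹ = φ s b := by
  let H : Subgroup SL(2, K) :=
    { carrier := {a | ∃ b : SL(2, K), b.1 * m = m * a.1 ∧ g * φ r a * g⁻¹ = φ s b}
      one_mem' := ⟨1, by simp, by simp⟩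
      mul_mem' := by
        rintro a a' ⟨b, e1, e2⟩ ⟨b', e3, e4⟩
        exact ⟨b * b', by simp only [Matrix.SpecialLinearGroup.coe_mul]; rw [mul_assoc, e3,
          ← mul_assoc, e1, mul_assoc], by rw [map_mul, map_mul, ← e2, ← e4]; group⟩
      inv_mem' := by
        rintro a ⟨b, e1, e2⟩
        refine ⟨b⁻¹, ?_, by rw [map_inv, map_inv, ← e2]; group⟩
        calc _ = (b⁻¹).1 * (m * a.1) * (a⁻¹).1 := by
              rw [mul_assoc, mul_assoc, ← Matrix.SpecialLinearGroup.coe_mul, mul_inv_cancel]; simp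
          _ = _ := by
            rw [← e1, ← mul_assoc, ← Matrix.SpecialLinearGroup.coe_mul, inv_mul_cancel]; simp }
  exact (sl2_eq_top (H := H) h1 h2).ge (mem_top a)

namespace Dat

variable (d : Dat x T L φ)
include d

theorem z_eq {r : ℕ} (hr : r ∈ L) : φ r (-1) = hh D x r (-1) := by
  have : (-1 : SL(2, K)) = xx (-1) * yy 1 * xx (-1) * (xx (-1) * yy 1 * xx (-1)) := by
    apply sl2_ext <;> simp [sl2_mul_apply]
  rw [this]
  simp [d.fx r hr, d.fy r hr, hh, nn]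

theorem z_mem {r : ℕ} (hr : r ∈ L) : φ r (-1) ∈ Hs D x :=
  d.z_eq hr ▸ hh_mem_Hs (T.lt_iff.2 (d.pos r hr).2) (by simp)

theorem z_conj {r : ℕ} (hr : r ∈ L) {s : ℕ} (hs : s < 2 * T.N) (t : K) :
    φ r (-1) * x s t * (φ r (-1))⁻¹ = x s ((-1) ^ D.pairing r s * t) := by
  rw [d.z_eq hr, d.st.hh_conj T (d.pos r hr).2 hs (by simp)]

theorem even {r : ℕ} (hr : r ∈ L) {s : ℕ} (hs : s < 2 * T.N) {t : K} (ht : t ≠ 0)
    (h : φ r (-1) * x s t * (φ r (-1))⁻¹ = x s t) : Even (D.pairing r s) := by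
  rw [d.z_conj hr hs] at h
  have := d.nd.x_inj d.st.toIsSt0 hs h
  by_contra e
  rw [(Int.not_even_iff_odd.1 e).neg_one_zpow, mul_eq_right₀ ht, neg_eq_iff_add_eq_zero,
    one_add_one_eq_two] at this
  exact d.h2 this

theorem z_ne {r : ℕ} (hr : r ∈ L) : φ r (-1) ≠ 1 := fun e => by
  obtain ⟨j, hj⟩ := d.odd r hr
  exact Int.not_even_iff_odd.2 hj (d.even hr (T.simple_lt j) one_ne_zero (by simp [e]))

theorem inj {r : ℕ} (hr : r ∈ L) : Function.Injective (φ r) := by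
  have h0 := d.st.toIsSt0
  have hr' := (d.pos r hr).2
  refine (injective_iff_map_eq_one _).2 fun g hg => ?_
  by_cases hc : g 1 0 = 0
  · have h1 := sl2_det g
    rw [hc, mul_zero, sub_zero] at h1
    have h2 : g * xx 1 = xx (g 0 0 * g 0 0) * g := by
      apply sl2_ext <;> simp [sl2_mul_apply, hc]
      linear_combination (-g 0 0) * h1
    have h3 := congrArg (φ r) h2
    rw [map_mul, map_mul, hg, one_mul, mul_one, d.fx r hr, d.fx r hr] at h3
    rcases mul_self_eq_one_iff.1 (d.nd.x_inj h0 hr' h3).symm with h4 | h4 <;> rw [h4] at h1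
    · have h5 : g = xx (g 0 1) := by apply sl2_ext <;> simp [hc, h4, (one_mul _).symm.trans h1]
      rw [h5, d.fx r hr] at hg
      rw [h5, d.nd.eq_zero_of_x_eq_one hr' hg, xx_zero]
    · have h6 : g 1 1 = -1 := by linear_combination -h1
      have h5 : g * g = xx (-2 * g 0 1) := by
        apply sl2_ext <;> simp [sl2_mul_apply, hc, h4, h6]
        ring
      have h7 := congrArg (φ r) h5
      rw [map_mul, hg, one_mul, d.fx r hr] at h7
      have h8 := (mul_eq_zero.1 (d.nd.eq_zero_of_x_eq_one hr' h7.symm)).resolve_left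
        (neg_ne_zero.2 d.h2)
      refine (d.z_ne hr (hg ▸ congrArg _ ?_)).elim
      apply sl2_ext <;> simp [hc, h4, h6, h8]
  · rw [sl2_bruhat g hc, map_mul, map_mul, d.fx r hr, d.fx r hr, d.fy r hr, mul_assoc,
      mul_eq_one_comm, mul_assoc, h0.add r (T.lt_iff.2 hr'), mul_eq_one_iff_eq_inv,
      ← h0.x_neg (T.lt_iff.2 hr')] at hg
    exact (T.neg_ne hr' (d.nd.root_eq_of_x_eq h0 (T.neg_lt hr') hr' hc hg)).elim

theorem qf {a b : K} (h : a ^ 2 + b ^ 2 = -1) :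
    QF (fun (r : {r // r ∈ L}) c => φ r (sq8 h c)) fun r => φ r (-1) where
  sq r c := by rw [← map_mul, sq8_sq]
  z2 r := by rw [← map_mul]; simp
  anti r := by rw [← map_mul, sq8_anti, map_mul, map_mul]
  comm r s e _ _ := d.comm r r.2 s s.2 (fun e' => e (Subtype.ext e')) _ _

theorem cz {r s : ℕ} (hr : r ∈ L) (hs : s ∈ L) (a : SL(2, K)) : Commute (φ r a) (φ s (-1)) := by
  by_cases e : r = s
  · exact e ▸ (Commute.neg_one_right a).map _
  · exact d.comm r hr s hs e _ _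

theorem dec {u : G} (hu : ∀ r ∈ L, Commute u (φ r (-1))) : ∃ a ∈ XS x {r | r ∈ L}, ∃ n ∈ Ns D x,
    ∃ w, Acts x T n w ∧ ∃ a' ∈ XS x {r | r ∈ L}, u = a * n * a' ∧ ∀ r ∈ L, Commute n (φ r (-1)) := by
  obtain ⟨a, ha, n, hn, w, hw, a', ha', rfl⟩ := exists_bruhat' d.st T (d.top.ge (mem_top u))
  have h1 := fun r : {r // r ∈ L} => stab_conj d.st T (d.z_mem r.2)
  have h2 := fun r : {r // r ∈ L} => Stab.fix_bruhat d.nd (h1 r) ha hn hw ha'
    (mul_inv_eq_iff_eq_mul.2 (hu r r.2).symm.eq)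
  have h3 : ∀ u ∈ Us D x, (∀ r : {r // r ∈ L}, (MulAut.conj (φ r (-1))).toMonoidHom u = u) →
      u ∈ XS x {r | r ∈ L} := fun u hu e =>
    mem_of_fix_XS d.nd d.st h1 T.nil_pos' (fun s hs t e => by
      by_cases ht : t = 0
      · rw [ht, d.st.toIsSt0.x_zero (T.lt_iff.2 hs.2)]; exact one_mem _
      · exact mem_XS ((d.ev s hs.1 hs.2).1 fun r hr => d.even hr hs.2 ht (e ⟨r, hr⟩)) t)
      ((T.Us_eq (x := x)).le hu) e
  exact ⟨a, h3 a ha fun r => (h2 r).1, n, hn, w, hw, a',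
    h3 a' (T.XS_invSet_le_Us w ha') fun r => (h2 r).2.2, rfl,
    fun r hr => (mul_inv_eq_iff_eq_mul.1 (h2 ⟨r, hr⟩).2.1).symm⟩

theorem mv_phi {r : ℕ} (hr : r ∈ L) (g : SL(2, K)) : Mv L φ (φ r g) := fun s hs => by
  by_cases e : r = s
  · subst e
    refine ⟨r, hr, g.1, by simp, fun a => ⟨g * a * g⁻¹, ?_, by simp⟩⟩
    rw [← Matrix.SpecialLinearGroup.coe_mul, inv_mul_cancel_right,
      Matrix.SpecialLinearGroup.coe_mul]
  · exact ⟨s, hs, 1, by simp, fun a => ⟨a, by simp, by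
      rw [(d.comm r hr s hs e g a).eq, mul_inv_cancel_right]⟩⟩

theorem mv_XS {a : G} (ha : a ∈ XS x {r | r ∈ L}) : Mv L φ a := by
  induction ha using closure_induction'' with
  | one => exact fun r hr => ⟨r, hr, 1, by simp, fun a => ⟨a, by simp, by simp⟩⟩
  | mem a ha => obtain ⟨r, hr, t, rfl⟩ := ha; exact d.fx r hr t ▸ d.mv_phi hr _
  | inv_mem a ha =>
    obtain ⟨r, hr, t, rfl⟩ := ha
    rw [← d.fx r hr, ← map_inv]
    exact d.mv_phi hr _
  | mul a b _ _ h1 h2 => exact h1.mul h2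

theorem mv {u : G} (hu : ∀ r ∈ L, Commute u (φ r (-1))) : Mv L φ u := by
  obtain ⟨a, ha, n, -, w, ⟨c, hc⟩, a', ha', rfl, h1⟩ := d.dec hu
  refine ((d.mv_XS ha).mul fun r hr => ?_).mul (d.mv_XS ha')
  have hr' := (d.pos r hr).2
  obtain ⟨h2, h3, h4⟩ := hc r hr'
  have h5 := (hc _ (T.neg_lt hr')).2.2
  rw [h3, T.act_neg w hr'] at h5
  have h6 := T.act_lt w hr'
  have h7 : ∀ s ∈ L, Even (D.pairing s (T.act w r)) := fun s hs => d.even hs h6 h2 (by
    rw [← mul_one (c r), ← h4, ← d.fx r hr, mul_inv_eq_iff_eq_mul]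
    exact (((h1 s hs).mul_left (d.cz hr hs _)).mul_left (h1 s hs).inv_left).symm.eq)
  rcases le_or_gt T.N (T.act w r) with h | h
  · have h8 := (d.ev _ h h6).1 h7
    refine ⟨_, h8, !![c r, 0; 0, 1], by simp [h2], mv_gen
      (fun t => ⟨xx (c r * t), by simp, by rw [d.fx r hr, d.fx _ h8, h4]⟩)
      fun t => ⟨yy ((c r)⁻¹ * t), by simp; field_simp, by rw [d.fy r hr, d.fy _ h8, h5]⟩⟩
  · have h8 := (d.ev _ (T.N_le_neg h) (T.neg_lt h6)).1 fun s hs => by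
      rw [T.pairing_neg_right s h6]; exact (h7 s hs).neg
    refine ⟨_, h8, !![0, 1; c r, 0], by simp [h2], mv_gen
      (fun t => ⟨yy (c r * t), by simp, by rw [d.fx r hr, d.fy _ h8, h4, T.neg_neg h6]⟩)
      fun t => ⟨xx ((c r)⁻¹ * t), by simp; field_simp, by rw [d.fy r hr, d.fx _ h8, h5]⟩⟩

theorem not_comm {a b : K} (h : a ^ 2 + b ^ 2 = -1) {r : ℕ} (hr : r ∈ L) :
    ¬ Commute (φ r (sq8 h true)) (φ r (sq8 h false)) := fun e => by
  have := (d.qf h).anti ⟨r, hr⟩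
  rw [e.eq, eq_comm, mul_eq_right] at this
  exact d.z_ne hr this

theorem cent_of {a b : K} (h : a ^ 2 + b ^ 2 = -1) {u : G} (hu : Mv L φ u) {r : ℕ} (hr : r ∈ L)
    (hc : ∀ c, Commute u (φ r (sq8 h c))) (g : SL(2, K)) : Commute u (φ r g) := by
  obtain ⟨s, hs, m, hm, e⟩ := hu r hr
  have h1 : ∀ c, ∃ b' : SL(2, K), b'.1 * m = m * q8 a b c ∧ φ r (sq8 h c) = φ s b' := fun c => by
    obtain ⟨b', h1, h2⟩ := e (sq8 h c)
    exact ⟨b', h1, by rw [← h2, (hc c).eq, mul_inv_cancel_right]⟩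
  obtain rfl : s = r := by
    by_contra h2
    obtain ⟨b', -, h3⟩ := h1 true
    exact d.not_comm h hr (h3 ▸ d.comm s hs r hr h2 _ _)
  obtain ⟨μ, rfl⟩ := q8_scal d.h2 (ne_of_sq h) (M := m) fun c => by
    obtain ⟨b', h2, h3⟩ := h1 c
    rw [← h2, ← d.inj hr h3]; rfl
  obtain ⟨b', h2, h3⟩ := e g
  rw [mul_smul_comm, smul_mul_assoc, mul_one, one_mul] at h2
  rw [Subtype.ext (smul_right_injective _ (by rintro rfl; simp at hm) h2), mul_inv_eq_iff_eq_mul]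
    at h3
  exact h3

theorem mem_Hs {u : G} (hu : ∀ r ∈ L, ∀ g, Commute u (φ r g)) : u ∈ Hs D x := by
  have h0 := d.st.toIsSt0
  obtain ⟨a, ha, n, hn, w, hw, a', ha', rfl, -⟩ := d.dec fun r hr => hu r hr _
  have h1 : ∀ r ∈ L, ∀ t, ∀ a ∈ XS x {r | r ∈ L}, Commute a (x r t) := fun r hr t a ha =>
    mem_centralizer_singleton_iff.1 ((XS_le (K := centralizer {x r t})).2 (fun s hs t' => by
      rw [mem_centralizer_singleton_iff]
      by_cases e : s = r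
      · rw [e, h0.x_comm (T.lt_iff.2 (d.pos r hr).2)]
      · rw [← d.fx r hr, ← d.fx s hs, (d.comm s hs r hr e _ _).eq]) ha)
  have h2 : ∀ r ∈ L, T.act w r = r := fun r hr => by
    obtain ⟨c, h3, h4⟩ := hw.conj (d.pos r hr).2
    have h5 : Commute n (x r 1) := by
      have := ((h1 r hr 1 a ha).inv_left.mul_left
        (d.fx r hr 1 ▸ hu r hr (xx 1))).mul_left (h1 r hr 1 a' ha').inv_left
      rwa [show a⁻¹ * (a * n * a') * a'⁻¹ = n by group] at this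
    refine (d.nd.root_eq_of_x_eq h0 (d.pos r hr).2 (T.act_lt w (d.pos r hr).2) one_ne_zero
      (b := c * 1) ?_).symm
    rw [← h4, h5.eq, mul_inv_cancel_right]
  obtain rfl : w = 1 := T.eq_one_of_act_pos fun i => by
    obtain ⟨R, h3, h4⟩ := d.reg
    have h5 := T.act_lt w (T.simple_lt i)
    have h6 := h4 i
    rw [← T.lamN_act (w := w) (fun p hp => ⟨(d.pos _ (h3 p hp)).2, h2 _ (h3 p hp)⟩) (T.simple_lt i),
      ← T.lamHom_vec R h5, T.vec_eq_sum (T.vec _), map_sum] at h6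
    by_contra h7
    refine h6.not_ge (Finset.sum_nonpos fun j _ => ?_)
    rw [map_zsmul, T.lamHom_vec R (T.simple_lt j)]
    exact mul_nonpos_of_nonpos_of_nonneg (T.vec_nonpos (not_le.1 h7) j) (h4 j).le
  have hk := d.nd.mem_Hs_of_acts_one d.st hn hw
  have key : ∀ l : List ℕ, (∀ r ∈ l, r ∈ L) → ∀ v ∈ XS x {r | r ∈ l}, a * n * a' = v * n → v = 1 := by
    intro l
    induction l with
    | nil => intro _ v hv _; simpa [XS_empty] using hv
    | cons r l ih =>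
      intro hl v hv e
      have hr := hl r (by simp)
      have hr' := T.lt_iff.2 (d.pos r hr).2
      have hl' : ∀ s ∈ l, s ∈ L := fun s hs => hl s (by simp [hs])
      refine ih hl' v ?_ e
      by_cases h3 : r ∈ l
      · exact XS_mono (fun s hs => by simp at hs ⊢; grind) hv
      obtain ⟨t, v', h4, rfl⟩ : ∃ t, ∃ v' ∈ XS x {r | r ∈ l}, v = x r t * v' := by
        clear e
        induction hv using closure_induction with
        | one => exact ⟨0, 1, one_mem _, by simp [h0.x_zero hr']⟩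
        | mem a ha =>
          obtain ⟨s, hs, t, rfl⟩ := ha
          rcases List.mem_cons.1 hs with rfl | hs
          exacts [⟨t, 1, one_mem _, by simp⟩, ⟨0, _, mem_XS hs t, by simp [h0.x_zero hr']⟩]
        | inv a _ ih =>
          obtain ⟨t, v, hv, rfl⟩ := ih
          exact ⟨-t, v⁻¹, inv_mem hv, by
            rw [mul_inv_rev, ← h0.x_neg hr', (h1 r hr _ _ (XS_mono hl' (inv_mem hv))).eq]⟩
        | mul a b _ _ ih ih' =>
          obtain ⟨t, v, hv, rfl⟩ := ih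
          obtain ⟨t', v', hv', rfl⟩ := ih'
          exact ⟨t + t', v * v', mul_mem hv hv', by
            rw [← h0.add r hr', mul_assoc, mul_assoc, ← mul_assoc v,
              (h1 r hr _ _ (XS_mono hl' hv)).eq, mul_assoc]⟩
      have h5 : φ r ww ∈ Ns D x := by
        have := nn_one_mem_Ns (x := x) hr'
        rwa [nn, ← d.fx r hr, ← d.fy r hr, ← map_mul, ← map_mul, inv_one] at this
      have h6 : Commute v' (φ r ww) :=
        mem_centralizer_singleton_iff.1 ((XS_le (K := centralizer {φ r ww})).2 (fun s hs t' => by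
          rw [mem_centralizer_singleton_iff, ← d.fx s (hl' s hs),
            (d.comm s (hl' s hs) r hr (by rintro rfl; exact h3 hs) _ _).eq]) h4)
      have hU : ∀ v ∈ XS x {r | r ∈ L}, v ∈ Bs D x := fun v hv =>
        Us_le_Bs (T.Us_eq.ge (XS_mono d.pos hv))
      have h7 : x (D.neg r) (-t) = x r t * v' * n * (φ r ww * n * (φ r ww)⁻¹)⁻¹ * v'⁻¹ := by
        rw [← d.fy r hr, ← ww_conj_xx, map_mul, map_mul, map_inv, d.fx r hr, ← e,
          ← mul_inv_eq_iff_eq_mul.2 (hu r hr ww).symm.eq, e, ← conj_mul, ← conj_mul,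
          mul_inv_eq_iff_eq_mul.2 h6.symm.eq]
        group
      have h8 := d.nd.x_not_mem_Bs (T.neg_lt_N (d.pos r hr).1 (d.pos r hr).2) (h7 ▸ mul_mem (mul_mem
        (mul_mem (mul_mem (hU _ (mem_XS hr t)) (hU _ (XS_mono hl' h4))) (Hs_le_Bs hk))
        (inv_mem (Hs_le_Bs (d.st.conj_mem_Hs T h5 hk)))) (inv_mem (hU _ (XS_mono hl' h4))))
      rwa [neg_eq_zero.1 h8, h0.x_zero hr', one_mul]
  have h3 := key L (fun _ h => h) _ (mul_mem ha (hw.conj_mem_XS (fun s hs => (d.pos s hs).2)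
    (fun s hs => (T.act_one s).symm ▸ hs) ha')) (by group)
  rwa [show a * n * a' = a * (n * a' * n⁻¹) * n by group, h3, one_mul]

theorem mem_z {u : G} (h1 : u * u = 1) (hu : ∀ r ∈ L, ∀ g, Commute u (φ r g)) {M : Subgroup G}
    (hM : ∀ r ∈ L, φ r (-1) ∈ M) : u ∈ M := by
  have hH := d.mem_Hs hu
  obtain ⟨m, hm, e⟩ := exists_psiM d.nd d.st d.r3 d.h2 hH ((pow_two u).trans h1)
  obtain ⟨l, h2, h3⟩ := d.sp m hm fun r hr => e ▸ ⟨(d.pos r hr).2, fun t ht a => by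
    rw [ht, ← d.fx r hr, (hu r hr _).eq, mul_inv_cancel_right]⟩
  have h4 : ∀ l : List ℕ, (∀ r ∈ l, r ∈ L) → ∃ k ∈ Hs D x, k ∈ M ∧ ∀ (j : Fin D.rank) t,
      k * x (D.simple j) t * k⁻¹ =
        x (D.simple j) ((-1) ^ (l.map fun r => D.pairing r (D.simple j)).sum * t) := fun l hl => by
    induction l with
    | nil => exact ⟨1, one_mem _, one_mem _, by simp⟩
    | cons r l ih =>
      obtain ⟨k, h4, h5, h6⟩ := ih fun s hs => hl s (by simp [hs])
      have hr := hl r (by simp)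
      refine ⟨_, mul_mem (d.z_mem hr) h4, mul_mem (hM r hr) h5, fun j t => ?_⟩
      rw [List.map_cons, List.sum_cons, zpow_add₀ (by simp), mul_assoc ((-1 : K) ^ _),
        ← d.z_conj hr (T.simple_lt j), ← h6]
      group
  obtain ⟨k, h5, h6, h7⟩ := h4 l h2
  suffices k * u = 1 from (mul_mem_cancel_left h6).1 (this ▸ one_mem M)
  refine d.cent _ (mul_mem h5 hH) fun j => ?_
  obtain ⟨c, -, h8⟩ := (d.st.acts_of_mem_Hs T hH).conj (T.simple_lt j)
  rw [T.act_one] at h8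
  have h9 := conj_pow_x h8 2 1
  rw [pow_two, h1, one_mul, inv_one, mul_one, mul_one] at h9
  have h10 : D.simple j ∈ psiS x T {u} ↔ Even (bitv m j) := by
    rw [e, even_iff_two_dvd]
    simp [psiM, T.simple_lt j, T.vec_simple, fb_apply, sroot, Pi.single_apply]
  rw [mul_inv_rev, mul_assoc k, mul_assoc k, ← mul_assoc _ u⁻¹, ← mul_assoc, h8, h7]
  congr 1
  have h11 := Int.even_sub.1 (even_iff_two_dvd.2 (h3 j))
  rcases sq_eq_one_iff.1 (d.nd.x_inj d.st.toIsSt0 (T.simple_lt j) h9).symm with rfl | rfl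
  · rw [(h11.1 (h10.1 ⟨T.simple_lt j, fun t ht a => by rw [ht, h8, one_mul]⟩)).neg_one_zpow]
    simp
  · rw [(Int.not_even_iff_odd.1 fun h => ?_).neg_one_zpow]
    · simp
    have := d.nd.x_inj d.st.toIsSt0 (T.simple_lt j) ((h8 1).symm.trans ((h10.2 (h11.2 h)).2 u rfl 1))
    rw [mul_one, neg_eq_iff_add_eq_zero, one_add_one_eq_two] at this
    exact d.h2 this

theorem main {a b : K} (h : a ^ 2 + b ^ 2 = -1) {u : G} (h1 : u * u = 1)
    (hu : ∀ r ∈ L, ∀ c, Commute u (φ r (sq8 h c))) {M : Subgroup G}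
    (hM : ∀ r ∈ L, φ r (-1) ∈ M) : u ∈ M :=
  d.mem_z h1 (fun r hr => d.cent_of h (d.mv fun s hs => by
    rw [← sq8_sq h true, map_mul]
    exact (hu s hs _).mul_right (hu s hs _)) hr (hu r hr)) hM

end Dat

end Cfsg.Agent.KSG.C2
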