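import Mathlib
import Cfsg.Agent.KSG.C2Exc
import Cfsg.Agent.Chev.TwistE6F
import Cfsg.Agent.Chev.TwistD4F

/-! The exceptional groups in odd characteristic. -/

set_option autoImplicit false
set_option linter.unusedSectionVars false

namespace Cfsg.Agent.KSG.C2

open Subgroup Cfsg.Lie Cfsg.Agent.Chev Cfsg.Agent.Lang Cfsg.Agent.RootSub
open scoped MatrixGroups

variable {K : Type*} [Field K] {G : Type*} [Group G] {D : ChevalleyDatum} {x : ℕ → K → G}
  {T : RootTable D} {L : List ℕ} {φ : ℕ → SL(2, K) →* G}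

theorem kf_of_qf {Y I : Type*} [Group Y] (j : Y →* G) (hj : Function.Injective j) {s : I → Bool → G}
    {z : I → G} (Q : QF s z) (hr : ∀ i c, s i c ∈ j.range)
    (h : ∀ v, j v * j v = 1 → (∀ i c, Commute (j v) (s i c)) → ∀ M : Subgroup G, (∀ i, z i ∈ M) →
      j v ∈ M) : KF Y := by
  choose s' hs using hr
  refine ⟨_, (Q.of_injective j hj hs).two, fun v hv hc => ?_⟩
  have h1 : ∀ i c, s' i c * v = v * s' i c := fun i c => hc _ (subset_closure ⟨i, c, rfl⟩)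
  exact (mem_map_iff_mem hj).1 (h v (by rw [← map_mul, hv, map_one])
    (fun i c => hs i c ▸ Commute.map (h1 i c).symm j) _ fun i =>
      ⟨_, sq_mem (mem_centralizer_singleton_iff.2 (h1 i true)), by rw [map_mul, hs, Q.sq]⟩)

theorem Dat.kf (d : Dat x T L φ) {a b : K} (h : a ^ 2 + b ^ 2 = -1) {Y : Type*} [Group Y]
    (j : Y →* G) (hj : Function.Injective j) (hr : ∀ r ∈ L, ∀ c, φ r (sq8 h c) ∈ j.range) : KF Y :=
  kf_of_qf j hj (d.qf h) (fun r => hr r r.2) fun _ h1 h2 _ h3 =>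
    d.main h h1 (fun r hr => h2 ⟨r, hr⟩) fun r hr => h3 ⟨r, hr⟩

theorem tw_phi {σ : G →* G} {f : K →+* K} {r s : ℕ} (d : Dat x T L φ) (hr : r ∈ L) (hs : s ∈ L)
    (h1 : ∀ t, σ (x r t) = x s (f t)) (h2 : ∀ t, σ (x (D.neg r) t) = x (D.neg s) (f t))
    (m : SL(2, K)) : σ (φ r m) = φ s (Matrix.SpecialLinearGroup.map f m) :=
  (sl2_eq_top (H := (σ.comp (φ r)).eqLocus ((φ s).comp (Matrix.SpecialLinearGroup.map f)))
    (fun t => show σ (φ r _) = φ s (Matrix.SpecialLinearGroup.map f _) by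
      rw [map_xx, d.fx r hr, d.fx s hs, h1])
    fun t => show σ (φ r _) = φ s (Matrix.SpecialLinearGroup.map f _) by
      rw [map_yy, d.fy r hr, d.fy s hs, h2]).ge (mem_top m)

theorem map_sq8 (f : K →+* K) {a b : ℤ} (h : (a : K) ^ 2 + (b : K) ^ 2 = -1) (c : Bool) :
    Matrix.SpecialLinearGroup.map f (sq8 h c) = sq8 h c := by
  refine Subtype.ext (show (q8 (a : K) b c).map f = q8 (a : K) b c from ?_)
  cases c <;> ext i j <;> fin_cases i <;> fin_cases j <;> simp [q8]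

theorem Dat.kf_tri {r₀ r₁ r₂ r₃ : ℕ} (d : Dat x T [r₀, r₁, r₂, r₃] φ)
    (hn : [r₀, r₁, r₂, r₃].Nodup) (hz : ∀ r ∈ [r₀, r₁, r₂, r₃], ∀ i : Fin D.rank,
      Even (D.pairing r (D.simple i) + D.pairing r₀ (D.simple i)))
    {a b : K} (h : a ^ 2 + b ^ 2 = -1) {σ : G →* G} {f : SL(2, K) →* SL(2, K)}
    (hf : Function.Surjective f) (hf' : ∀ c, f (sq8 h c) = sq8 h c) (s0 : ∀ m, σ (φ r₀ m) = φ r₀ (f m))
    (s1 : ∀ m, σ (φ r₁ m) = φ r₂ (f m)) (s2 : ∀ m, σ (φ r₂ m) = φ r₃ (f m))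
    (s3 : ∀ m, σ (φ r₃ m) = φ r₁ (f m)) {Y : Type*} [Group Y] (j : Y →* G)
    (hj : Function.Injective j) (hr : ∀ g, g ∈ j.range ↔ σ g = g) : KF Y := by
  have m0 : r₀ ∈ [r₀, r₁, r₂, r₃] := by simp
  have m1 : r₁ ∈ [r₀, r₁, r₂, r₃] := by simp
  have m2 : r₂ ∈ [r₀, r₁, r₂, r₃] := by simp
  have m3 : r₃ ∈ [r₀, r₁, r₂, r₃] := by simp
  simp only [List.nodup_cons, List.mem_cons, List.not_mem_nil, or_false, not_or] at hn
  obtain ⟨⟨n01, n02, n03⟩, ⟨n12, n13⟩, n23, -⟩ := hn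
  have c01 := d.comm _ m0 _ m1 n01
  have c12 := d.comm _ m1 _ m2 n12
  have c13 := d.comm _ m1 _ m3 n13
  have c23 := d.comm _ m2 _ m3 n23
  have z2 : φ r₀ (-1) * φ r₀ (-1) = 1 := by rw [← map_mul]; simp
  have ez : ∀ r ∈ [r₀, r₁, r₂, r₃], φ r (-1) = φ r₀ (-1) := fun r hr => by
    rw [← mul_inv_eq_one, inv_eq_of_mul_eq_one_right z2]
    refine d.cent _ (mul_mem (d.z_mem hr) (d.z_mem m0)) fun i => ?_
    rw [mul_inv_rev, mul_assoc (φ r _), mul_assoc (φ r _), ← mul_assoc _ _⁻¹,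
      d.z_conj m0 (T.simple_lt i), ← mul_assoc, d.z_conj hr (T.simple_lt i), ← mul_assoc,
      ← zpow_add₀ (by simp), (hz r hr i).neg_one_zpow, one_mul]
  let Δ : SL(2, K) →* G := MonoidHom.mk' (fun m => φ r₁ m * (φ r₂ m * φ r₃ m)) fun m m' => by
    rw [map_mul, map_mul, map_mul, (c23 m' m).mul_mul_mul_comm,
      ((c12 m' m).mul_right (c13 m' m)).mul_mul_mul_comm]
  have hΔ : ∀ m, Δ m = φ r₁ m * (φ r₂ m * φ r₃ m) := fun _ => rfl
  have c0 : ∀ m m', Commute (φ r₀ m) (Δ m') := fun m m' =>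
    (c01 m m').mul_right ((d.comm _ m0 _ m2 n02 m m').mul_right (d.comm _ m0 _ m3 n03 m m'))
  have Q : QF (fun i c => (Bool.rec (φ r₀) Δ i : SL(2, K) →* G) (sq8 h c))
      fun i => (Bool.rec (φ r₀) Δ i : SL(2, K) →* G) (-1) :=
    { sq := fun r c => by rw [← map_mul, sq8_sq]
      z2 := fun r => by rw [← map_mul]; simp
      anti := fun r => by rw [← map_mul, sq8_anti, map_mul, map_mul]
      comm := fun r s e _ _ => by
        cases r <;> cases s
        exacts [(e rfl).elim, c0 _ _, (c0 _ _).symm, (e rfl).elim] }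
  refine kf_of_qf j hj Q (fun i c => (hr _).2 ?_) fun v h1 h2 M h3 => ?_
  · cases i
    · exact (s0 _).trans (congrArg _ (hf' c))
    · change σ (Δ _) = Δ _
      rw [hΔ, map_mul, map_mul, s1, s2, s3, hf', ← mul_assoc, ← ((c12 _ _).mul_right (c13 _ _)).eq]
  have hσ := (hr _).1 ⟨v, rfl⟩
  generalize j v = u at h1 h2 hσ
  have hu : Mv _ φ u := d.mv fun r hr => by
    rw [ez r hr, ← sq8_sq h true, map_mul]
    exact (h2 false _).mul_right (h2 false _)
  have app : ∀ {g g' : G}, u * g * u⁻¹ = g' → u * σ g * u⁻¹ = σ g' := fun e => by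
    rw [← e, map_mul, map_mul, map_inv, hσ]
  have uu : ∀ {g g' g'' : G}, u * g * u⁻¹ = g' → u * g' * u⁻¹ = g'' → g = g'' := fun e e' => by
    rw [← e', ← e, show ∀ g, u * (u * g * u⁻¹) * u⁻¹ = u * u * g * (u * u)⁻¹ by intro; group, h1]
    simp
  obtain ⟨s, hs, _, -, e⟩ := hu r₁ m1
  replace e : ∀ a, ∃ b, u * φ r₁ a * u⁻¹ = φ s b := fun a => (e a).imp fun _ h => h.2
  have k1 : ∀ c, Commute u (φ r₁ (sq8 h c)) := fun c => by
    simp only [List.mem_cons, List.not_mem_nil, or_false] at hs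
    rcases hs with rfl | rfl | rfl | rfl
    · obtain ⟨g, hg⟩ := e (sq8 h true)
      have := uu hg (mul_inv_eq_iff_eq_mul.2 (d.cent_of h hu m0 (h2 false) g).eq)
      exact (d.not_comm h m1 (this ▸ c01 _ _)).elim
    · obtain ⟨g, hg⟩ := e (sq8 h c)
      have h4 := app hg
      rw [s1, s1, hf'] at h4
      have h5 := app h4
      rw [s2, s2, hf'] at h5
      have h6 := mul_inv_eq_iff_eq_mul.2 (h2 true c).eq
      change u * Δ _ * u⁻¹ = Δ _ at h6
      rw [hΔ, ← conj_mul, ← conj_mul, hg, h4, h5, ← eq_mul_inv_iff_mul_eq, mul_assoc,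
        ← inv_mul_eq_iff_eq_mul, ← map_inv, ← map_mul] at h6
      obtain ⟨r, h7, h8⟩ := Matrix.SpecialLinearGroup.mem_center_iff.1
        (show (sq8 h c)⁻¹ * g ∈ center _ from mem_center_iff.2 fun m => d.inj m1 (by
          rw [map_mul, map_mul _ _ m, h6]
          exact (((c12 _ _).mul_right (c13 _ _)).mul_right
            ((c12 _ _).mul_right (c13 _ _)).inv_right).eq))
      rcases sq_eq_one_iff.1 h7 with rfl | rfl
      · have h9 : (sq8 h c)⁻¹ * g = 1 := Subtype.ext (h8.symm.trans (map_one _))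
        rw [← inv_mul_eq_one.1 h9, mul_inv_eq_iff_eq_mul] at hg
        exact hg
      · have h9 : g = sq8 h c * -1 := by
          rw [← inv_mul_eq_iff_eq_mul]
          exact Subtype.ext (by rw [← h8, map_neg, map_one]; rfl)
        have h10 : f (-1) = -1 := by rw [← sq8_sq h c, map_mul, hf']
        rw [h9, inv_mul_cancel_left] at h6
        simp only [map_mul, hf', h10, ez _ m1, ez _ m2, ez _ m3] at h6
        rw [((d.comm _ m0 _ m3 n03 _ _)).mul_mul_mul_comm, z2, mul_one, mul_inv_cancel] at h6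
        exact (d.z_ne m0 h6).elim
    · obtain ⟨g, hg⟩ := e (sq8 h true)
      obtain ⟨g, rfl⟩ := hf g
      obtain ⟨g', hg'⟩ := e g
      have h4 := app hg'
      rw [s1, s2] at h4
      exact (d.not_comm h m1 (uu hg h4 ▸ (c13 _ _).symm)).elim
    · obtain ⟨g, hg⟩ := e (sq8 h true)
      obtain ⟨g, rfl⟩ := hf g
      obtain ⟨g, rfl⟩ := hf g
      obtain ⟨g', hg'⟩ := e g
      have h4 := app (app hg')
      rw [s1, s2, s3, s1] at h4
      exact (d.not_comm h m1 (uu hg h4 ▸ (c12 _ _).symm)).elim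
  have k : ∀ {g : G}, Commute u g → Commute u (σ g) := fun e => hσ ▸ e.map σ
  refine d.main h h1 (fun r hr c => ?_) fun r hr => ez r hr ▸ h3 false
  simp only [List.mem_cons, List.not_mem_nil, or_false] at hr
  rcases hr with rfl | rfl | rfl | rfl
  · exact h2 false c
  · exact k1 c
  · simpa only [s1, hf'] using k (k1 c)
  · simpa only [s1, s2, hf'] using k (k (k1 c))

variable (D) in
/-- the finite data -/
def Cert (E : Enc) (L : List ℕ) (w : List ℤ) : Prop :=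
  (∀ r ∈ L, E.n ≤ 2 * r ∧ r < E.n ∧ (∃ j < E.l, E.pair r (E.sim j) % 2 = 1) ∧ ∀ s ∈ L, r ≠ s →
    D.commTerms r s = [] ∧ D.commTerms r (E.neg s) = [] ∧ D.commTerms (E.neg r) s = [] ∧
      D.commTerms (E.neg r) (E.neg s) = []) ∧
  (∀ s < E.n, E.n ≤ 2 * s → ((∀ r ∈ L, E.pair r s % 2 = 0) ↔ s ∈ L)) ∧
  (∀ i < E.l, 0 < ((L.zip w).map fun p => p.2 * E.pair p.1 (E.sim i)).sum) ∧
  ∀ m < 2 ^ E.l, (∀ r ∈ L, 2 ∣ sumN E.l fun j => E.co r j * E.len r / E.len (E.sim j) * bitv m j) →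
    ∃ e ∈ L.sublists, ∀ j < E.l, 2 ∣ bitv m j - (e.map fun r => E.pair r (E.sim j)).sum

set_option synthInstance.maxSize 1000 in
instance (E : Enc) (L : List ℕ) (w : List ℤ) : Decidable (Cert D E L w) := by
  unfold Cert; infer_instance

theorem certG2 : Cert chevG2 encG2 [11, 7] [4, 1] := by decide +kernel
theorem certF4 : Cert chevF4 encF4 [47, 41, 30, 25] [8, 4, 2, 1] := by decide +kernel
theorem certD4 : Cert chevD4 encD4 [23, 18, 13, 12] [4, 1, 1, 1] := by decide +kernel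
theorem certE6 : Cert chevE6 encE6 [71, 60, 44, 39] [8, 4, 2, 1] := by decide +kernel
theorem certE7 : Cert chevE7 encE7 [125, 92, 87, 73, 66, 78, 63] [64, 16, 4, 1, 1, 1, 4] := by
  decide +kernel
theorem certE8 : Cert chevE8 encE8 [239, 226, 159, 152, 141, 126, 135, 121]
    [256, 64, 16, 4, 1, 1, 1, 4] := by decide +kernel

theorem Cert.dat [hG : Good D] (T : RootTable D)
    (hD : D ∈ [chevG2, chevB2, chevD4, chevF4, chevE6, chevE7, chevE8]) {E : Enc}
    (hE : E.agree D = true) (hl : hG.len = E.len) {w : List ℤ} (h : Cert D E L w)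
    (h2 : (2 : K) ≠ 0) : ∃ φ, Dat (xC D K) T L φ := by
  obtain ⟨e1, e2, e3, e4, e5, -, -⟩ := E.agree_spec D hE
  simp only [Cert, ← e1, ← e2, ← e3, ← e4, ← e5, pair_eq hE, ← hl, T.nroots_eq] at h
  obtain ⟨h3, h4, h5, h6⟩ := h
  have h0 := (isSt_xC (D := D) (F := K)).toIsSt0
  have : ∀ r, ∃ φ : SL(2, K) →* D.group K, r ∈ L → (∀ t, φ (xx t) = xC D K r t) ∧
      ∀ t, φ (yy t) = xC D K (D.neg r) t := fun r => by
    by_cases hr : r ∈ L
    · obtain ⟨φ, -, h⟩ := h0.exists_sl2_hom hD isR3_xC (T.lt_iff.2 (h3 r hr).2.1)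
      exact ⟨φ, fun _ => h⟩
    · exact ⟨1, fun h => (hr h).elim⟩
  choose φ hφ using this
  refine ⟨φ, isND_xC T, isSt_xC, isR3_xC, Gs_xC, fun g => eq_one_of_mem_Hs_xC T, h2,
    fun r hr => ⟨by have := (h3 r hr).1; omega, (h3 r hr).2.1⟩, fun r hr => (hφ r hr).1,
    fun r hr => (hφ r hr).2, fun r hr s hs e a b => ?_, fun s h7 h8 => ?_, fun r hr => ?_,
    ⟨L.zip w, fun p hp => (List.of_mem_zip hp).1, fun i => h5 i i.2⟩, fun m hm h7 => ?_⟩
  · obtain ⟨a1, a2, -, a3⟩ := h3 r hr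
    obtain ⟨b1, b2, -⟩ := h3 s hs
    obtain ⟨c1, c2, c3, c4⟩ := a3 s hs e
    have a4 := T.neg_eq r a2
    have b4 := T.neg_eq s b2
    have a5 := T.neg_neg a2
    have key : ∀ {r s}, r < 2 * T.N → s < 2 * T.N → s ≠ D.neg r → D.commTerms r s = [] →
        ∀ t u, Commute (xC D K r t) (xC D K s u) := fun h1 h2 h3 h4 =>
      h0.commute_x T h1 h2 h3 (by simp [h4])
    have k2 : ∀ g, (∀ t, Commute g (xC D K s t)) → (∀ t, Commute g (xC D K (D.neg s) t)) →
        Commute g (φ s b) := fun g h1 h2 => (mem_centralizer_singleton_iff.1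
      ((sl2_eq_top (H := (centralizer {g}).comap (φ s))
        (fun t => mem_centralizer_singleton_iff.2 ((hφ s hs).1 t ▸ (h1 t).symm.eq))
        fun t => mem_centralizer_singleton_iff.2 ((hφ s hs).2 t ▸ (h2 t).symm.eq)).ge
          (mem_top b))).symm
    exact mem_centralizer_singleton_iff.1 ((sl2_eq_top (H := (centralizer {φ s b}).comap (φ r))
      (fun t => mem_centralizer_singleton_iff.2 ((hφ r hr).1 t ▸ (k2 _ (key a2 b2 (by omega) c1 t)
        (key a2 (T.neg_lt b2) (by omega) c2 t)).eq))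
      fun t => mem_centralizer_singleton_iff.2 ((hφ r hr).2 t ▸ (k2 _
        (key (T.neg_lt a2) b2 (by omega) c3 t)
        (key (T.neg_lt a2) (T.neg_lt b2) (by omega) c4 t)).eq)).ge (mem_top a))
  · simpa only [Int.even_iff] using h4 s h8 (by omega)
  · obtain ⟨j, hj, e⟩ := (h3 r hr).2.2.1
    exact ⟨⟨j, hj⟩, Int.odd_iff.2 e⟩
  · obtain ⟨e, he, h8⟩ := h6 m hm fun r hr => by
      have := (h7 r hr).2
      rwa [fb_apply, T.vec_eq_v ⟨r, T.lt_iff.2 (h3 r hr).2.1⟩, sumN_eq, Finset.sum_range] at *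
    exact ⟨e, fun r hr => (List.mem_sublists.1 he).subset hr, fun j => h8 j j.2⟩

theorem kf_exc {Y : Type*} [Group Y] {p : ℕ} (hp : p.Prime) (h2 : p ≠ 2)
    (h : IsExceptionalChevChar p Y ∨ IsTwistedE6D4Char p Y) : KF Y := by
  rcases h with ⟨F, _, _, _, ⟨-, ⟨e⟩⟩ | ⟨⟨e⟩⟩ | ⟨⟨e⟩⟩ | ⟨⟨e⟩⟩ | ⟨⟨e⟩⟩⟩ |
    ⟨F, _, _, _, q, hq, ⟨hK, ⟨e⟩⟩ | ⟨hK, ⟨e⟩⟩⟩ <;> have h2 := two_ne F hp h2 <;>
    obtain ⟨a, b, hab⟩ := exists_ab (F := F)
  · obtain ⟨φ, d⟩ := certG2.dat rootTableG2 (by simp) encG2_agree rfl h2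
    exact d.kf hab e.toMonoidHom e.injective fun _ _ _ => e.surjective _
  · obtain ⟨φ, d⟩ := certF4.dat rootTableF4 (by simp) encF4_agree rfl h2
    exact d.kf hab e.toMonoidHom e.injective fun _ _ _ => e.surjective _
  · obtain ⟨φ, d⟩ := certE6.dat rootTableE6 (by simp) encE6_agree rfl h2
    exact d.kf hab e.toMonoidHom e.injective fun _ _ _ => e.surjective _
  · obtain ⟨φ, d⟩ := certE7.dat rootTableE7 (by simp) encE7_agree rfl h2
    exact d.kf hab e.toMonoidHom e.injective fun _ _ _ => e.surjective _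
  · obtain ⟨φ, d⟩ := certE8.dat rootTableE8 (by simp) encE8_agree rfl h2
    exact d.kf hab e.toMonoidHom e.injective fun _ _ _ => e.surjective _
  · obtain ⟨φ, d⟩ := certE6.dat rootTableE6 (by simp) encE6_agree rfl h2
    obtain ⟨S, f, hf, -, h3⟩ := E6.exists_data hq hK
    refine KF.congr (d.kf hab (inclusion E6.le_group) (inclusion_injective _) fun r hr c => ?_) e
    rw [inclusion_range, h3, E6.T_eq_Fix]
    refine (tw_phi d hr hr (E6.sig_x S f hf _ _ ?_) (E6.sig_x S f hf _ _ ?_) _).trans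
      (congrArg _ (map_sq8 f hab c)) <;> revert r <;> decide +kernel
  · obtain ⟨φ, d⟩ := certD4.dat rootTableD4 (by simp) encD4_agree rfl h2
    obtain ⟨S, f, hf, -, h3⟩ := D4.exists_data hq hK
    have t := fun r s hr hs h1 h2 => tw_phi d (r := r) (s := s) hr hs (D4.sig_x S f hf _ _ h1)
      (D4.sig_x S f hf _ _ h2)
    refine KF.congr (d.kf_tri (by decide) (by decide +kernel) hab
      (fun m => ⟨Matrix.SpecialLinearGroup.map f (Matrix.SpecialLinearGroup.map f m), ?_⟩)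
      (map_sq8 f hab) (t _ _ (by simp) (by simp) (by decide +kernel) (by decide +kernel))
      (t _ _ (by simp) (by simp) (by decide +kernel) (by decide +kernel))
      (t _ _ (by simp) (by simp) (by decide +kernel) (by decide +kernel))
      (t _ _ (by simp) (by simp) (by decide +kernel) (by decide +kernel))
      (inclusion D4.le_group) (inclusion_injective _) fun g => ?_) e
    · apply sl2_ext <;> exact hf _
    · rw [inclusion_range, h3, D4.T_eq_Fix]
      rfl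

end Cfsg.Agent.KSG.C2
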