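import Mathlib
import Cfsg.Prelude.Def_TwoFusion
import Cfsg.Agent.KSG.C2Def
import Cfsg.Agent.PLocal.AmbSyl
import Cfsg.Agent.Transfer.ThompsonExtremal

/-! An involution with centraliser `⟨t⟩ × F`, `F` simple and non-abelian. -/

set_option autoImplicit false

namespace Cfsg.Agent.KSG.C2

open Subgroup Cfsg.Agent.PLocal.Amb

variable {G : Type*} [Group G]

/-- `C(t) = ⟨t⟩ × F` with `F` simple, non-abelian, and `C(t)` of odd index. -/
structure St (t : G) (F : Subgroup G) : Prop where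
  ht : orderOf t = 2
  hF : IsInternalDirectProduct (zpowers t) F (centralizer ({t} : Set G))
  hs : IsSimpleGroup F
  hna : ¬ IsMulCommutative F
  odd : Odd (centralizer ({t} : Set G)).index

theorem mem_cent {t c : G} : c ∈ centralizer ({t} : Set G) ↔ t * c = c * t := by
  simp [mem_centralizer_iff]

namespace St

variable {t : G} {F : Subgroup G} (h : St t F)
include h

theorem tt : t * t = 1 := by rw [← sq, ← h.ht, pow_orderOf_eq_one]

theorem t1 : t ≠ 1 := fun e => by have := h.ht; simp [e] at this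

theorem le : F ≤ centralizer {t} := h.hF.2.1

theorem comm {f : G} (hf : f ∈ F) : t * f = f * t := h.hF.2.2.1 t (mem_zpowers t) f hf

theorem tF : t ∉ F := fun e => h.t1 (by
  have : t ∈ zpowers t ⊓ F := ⟨mem_zpowers t, e⟩
  rwa [h.hF.2.2.2.1, mem_bot] at this)

theorem dec {c : G} (hc : c ∈ centralizer ({t} : Set G)) : c ∈ F ∨ t * c ∈ F := by
  rw [← h.hF.2.2.2.2, sup_eq_closure] at hc
  induction hc using closure_induction with
  | mem x hx =>
    rcases hx with ⟨k, rfl⟩ | hx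
    · induction k using Int.induction_on with
      | zero => simp
      | succ i ih =>
        rcases ih with h1 | h1
        · right
          dsimp only at h1 ⊢
          rwa [zpow_add_one, ← mul_assoc, h.comm h1, mul_assoc, h.tt, mul_one]
        · left
          dsimp only at h1 ⊢
          rwa [zpow_add_one, (Commute.zpow_left (Commute.refl t) _).eq]
      | pred i ih =>
        have hi : t⁻¹ = t := inv_eq_of_mul_eq_one_right h.tt
        rcases ih with h1 | h1
        · right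
          dsimp only at h1 ⊢
          rwa [zpow_sub_one, hi, ← mul_assoc, h.comm h1, mul_assoc, h.tt, mul_one]
        · left
          dsimp only at h1 ⊢
          rwa [zpow_sub_one, hi, (Commute.zpow_left (Commute.refl t) _).eq]
    · exact Or.inl hx
  | one => exact Or.inl F.one_mem
  | mul x y _ _ hx hy =>
    rcases hx with hx | hx <;> rcases hy with hy | hy
    · exact Or.inl (F.mul_mem hx hy)
    · right; have := F.mul_mem hx hy; rwa [← mul_assoc, ← h.comm hx, mul_assoc] at this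
    · right; rw [← mul_assoc]; exact F.mul_mem hx hy
    · left
      have := F.mul_mem hx hy
      rwa [← mul_assoc, ← h.comm hx, ← mul_assoc, h.tt, one_mul] at this
  | inv x _ hx =>
    rcases hx with hx | hx
    · exact Or.inl (F.inv_mem hx)
    · right
      have h1 := F.inv_mem hx
      have h2 := h.comm h1
      rw [mul_inv_rev, inv_eq_of_mul_eq_one_right h.tt] at h1 h2
      rwa [show t * x⁻¹ = x⁻¹ * t by
        have : t * (x⁻¹ * t) * t = x⁻¹ * t * t * t := by rw [h2]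
        simpa [mul_assoc, h.tt] using this]

theorem conj_mem {c f : G} (hc : c ∈ centralizer ({t} : Set G)) (hf : f ∈ F) :
    c * f * c⁻¹ ∈ F := by
  rcases h.dec hc with h1 | h1
  · exact F.mul_mem (F.mul_mem h1 hf) (F.inv_mem h1)
  · have h2 := F.mul_mem (F.mul_mem h1 hf) (F.inv_mem h1)
    have h3 := h.comm h2
    have : c * f * c⁻¹ = t * c * f * (t * c)⁻¹ := by
      calc c * f * c⁻¹ = t⁻¹ * (t * c * f * (t * c)⁻¹ * t) := by group
        _ = _ := by rw [← h3]; group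
    rwa [this]

theorem sq_memF {c : G} (hc : c ∈ centralizer ({t} : Set G)) : c * c ∈ F := by
  rcases h.dec hc with h1 | h1
  · exact F.mul_mem h1 h1
  · have := F.mul_mem h1 h1
    rwa [← mul_assoc, ← h.comm h1, ← mul_assoc, h.tt, one_mul] at this

theorem relIndex : F.relIndex (centralizer {t}) = 2 := by
  refine index_eq_two_iff.2 ⟨⟨t, mem_cent.2 rfl⟩, fun b => ?_⟩
  simp only [mem_subgroupOf, coe_mul]
  have e : (b : G) * t = t * b := (mem_cent.1 b.2).symm
  rw [e]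
  rcases h.dec b.2 with h1 | h1
  · exact Or.inr ⟨h1, fun h2 => h.tF ((F.mul_mem_cancel_right h1).1 h2)⟩
  · exact Or.inl ⟨h1, fun h2 => h.tF ((F.mul_mem_cancel_right h2).1 h1)⟩

theorem card [Finite G] : Nat.card (centralizer ({t} : Set G)) = 2 * Nat.card F := by
  have := (F.subgroupOf (centralizer {t})).card_mul_index
  rw [Nat.card_congr (subgroupOfEquivOfLe h.le).toEquiv] at this
  rw [← this, mul_comm, ← h.relIndex]; rfl

theorem dich {L : Subgroup G} (hL : ∀ f ∈ F, ∀ x ∈ L, x ∈ F → f * x * f⁻¹ ∈ L) :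
    (∀ x ∈ L, x ∈ F → x = 1) ∨ F ≤ L := by
  have := h.hs
  have hn : (L.subgroupOf F).Normal := ⟨fun x hx f => hL f f.2 x hx x.2⟩
  rcases hn.eq_bot_or_eq_top with e | e
  · left
    intro x hx hf
    have : (⟨x, hf⟩ : F) ∈ L.subgroupOf F := hx
    rw [e, mem_bot] at this
    exact congrArg Subtype.val this
  · exact Or.inr (subgroupOf_eq_top.1 e)

theorem cen {z : G} (hz : z ∈ F) (hc : ∀ f ∈ F, f * z = z * f) : z = 1 := by
  rcases h.dich (L := centralizer (F : Set G)) (fun f hf x hx _ => by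
    rwa [hx f hf, mul_inv_cancel_right]) with h1 | h1
  · exact h1 z hc hz
  · exact absurd ⟨⟨fun a b => Subtype.ext (h1 b.2 a a.2)⟩⟩ h.hna

theorem exists_sq : ∃ f ∈ F, f * f ≠ 1 := by
  by_contra hc
  push Not at hc
  refine h.hna ⟨⟨fun a b => Subtype.ext ?_⟩⟩
  have hi : ∀ f ∈ F, f⁻¹ = f := fun f hf => inv_eq_of_mul_eq_one_right (hc f hf)
  have := hi _ (F.mul_mem a.2 b.2)
  rw [mul_inv_rev, hi _ a.2, hi _ b.2] at this
  exact this.symm

/-- A conjugate of `t` in `F` is not a product of squares in its centraliser in `F`. -/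
theorem not_sq {v g : G} (hv : v ∈ F) (e : v = g * t * g⁻¹) :
    (⟨v, hv⟩ : F) ∉ sqs (centralizer {⟨v, hv⟩}) := fun hs => by
  have := map_mem_sqs ((MulAut.conj g⁻¹).toMonoidHom.comp F.subtype) (K := centralizer {t})
    (fun a ha => mem_cent.2 (by
      have h1 : v * a = a * v := congrArg Subtype.val (mem_cent.1 ha)
      change t * (g⁻¹ * a * g⁻¹⁻¹) = g⁻¹ * a * g⁻¹⁻¹ * t
      calc t * (g⁻¹ * a * g⁻¹⁻¹) = g⁻¹ * (v * a) * g := by rw [e]; group
        _ = _ := by rw [h1, e]; group)) hs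
  have h2 := sqs_le (K := F) (fun a ha => h.sq_memF ha) this
  apply h.tF
  convert h2 using 1
  change t = g⁻¹ * v * g⁻¹⁻¹
  rw [e]; group

variable [Finite G]

theorem transfer {S : Subgroup G} (hS : IsPGroup 2 S) (hc : ∀ s ∈ S, s * t = t * s) :
    (∃ M : Subgroup G, M.Normal ∧ M.index = 2 ∧ t ∉ M) ∨
      ∃ g : G, g * t * g⁻¹ ∈ F ∧ cj(g, S) ≤ centralizer {t} :=
  Transfer.thompson_transfer_extremal h.odd h.le h.relIndex (by rw [sq, h.tt]) hS hc

theorem not_kf {S : Subgroup G} (hS : IsSyl 2 S ⊤) (hc : ∀ s ∈ S, s * t = t * s) {g : G}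
    (hg : g * t * g⁻¹ ∈ F) (hle : cj(g, S) ≤ centralizer {t}) : ¬ KF F := by
  rintro ⟨P, hP, hK⟩
  have h1 : IsSyl 2 cj(g, S) (centralizer {t}) := by
    have := hS.cj g
    rw [cj_top] at this
    exact this.mono hle le_top
  obtain ⟨c, hc1, hc2⟩ := h1.exists_cj_le (hP.map F.subtype) ((map_subtype_le _).trans h.le)
  have hv : c⁻¹ * (g * t * g⁻¹) * c⁻¹⁻¹ ∈ F := h.conj_mem (inv_mem hc1) hg
  refine h.not_sq hv (g := c⁻¹ * g) (by group) (hK _ (Subtype.ext ?_) fun a ha => Subtype.ext ?_)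
  · change _ * _ = (1 : G)
    calc _ = c⁻¹ * g * (t * t) * g⁻¹ * c := by group
      _ = 1 := by rw [h.tt]; group
  · have h3 := hc2 (conj_mem_cj _ (mem_map_of_mem F.subtype ha))
    have h4 := hc _ (mem_cj.1 h3)
    change (a : G) * _ = _ * a
    simp only [coe_subtype] at h4
    calc (a : G) * (c⁻¹ * (g * t * g⁻¹) * c⁻¹⁻¹)
        = c⁻¹ * g * (g⁻¹ * (c * a * c⁻¹) * g * t) * g⁻¹ * c := by group
      _ = _ := by rw [h4]; group

/-- A nontrivial subgroup normalised by `F`, `t` and an element fusing `t` into `F`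
contains `C(t)`. -/
theorem lemA {L : Subgroup G} (hL : L ≠ ⊥) {n : G} (hn : n * t * n⁻¹ ∈ F)
    (h1 : ∀ c ∈ centralizer ({t} : Set G), ∀ x ∈ L, c * x * c⁻¹ ∈ L)
    (h2 : ∀ x, x ∈ L ↔ n * x * n⁻¹ ∈ L) : centralizer {t} ≤ L := by
  have ti : t⁻¹ = t := inv_eq_of_mul_eq_one_right h.tt
  rcases h.dich (L := L) (fun f hf x hx _ => h1 f (h.le hf) x hx) with h3 | h3
  swap
  · intro c hc
    have := (h2 t).2 (h3 hn)
    rcases h.dec hc with h4 | h4
    · exact h3 h4
    · exact (L.mul_mem_cancel_left this).1 (h3 h4)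
  exfalso
  set u := n * t * n⁻¹ with hu
  have u1 : u ≠ 1 := fun e => h.t1 (conj_eq_one_iff.1 e)
  have hfix : ∀ x ∈ L, t * x = x * t → x = 1 := fun x hx e => by
    rcases h.dec (mem_cent.2 e) with h4 | h4
    · exact h3 x hx h4
    · have h5 : t * x = 1 := h.cen h4 fun f hf => by
        have h6 := h3 (f * x * f⁻¹ * x⁻¹) (L.mul_mem (h1 f (h.le hf) x hx) (L.inv_mem hx)) (by
          have := F.mul_mem hf (h.conj_mem (mem_cent.2 e) (F.inv_mem hf))
          simpa only [mul_assoc] using this)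
        have h7 : f * x = x * f := by
          calc f * x = f * x * f⁻¹ * x⁻¹ * (x * f) := by group
            _ = _ := by rw [h6, one_mul]
        rw [← mul_assoc, ← h.comm hf, mul_assoc, h7, mul_assoc]
      have h6 : x = t := by rw [← ti]; exact (eq_inv_of_mul_eq_one_right h5)
      exact absurd (h3 u ((h2 t).1 (h6 ▸ hx)) hn) u1
  have tL : ∀ x ∈ L, t * x * t⁻¹ ∈ L := h1 t (mem_cent.2 rfl)
  have hinv : ∀ y ∈ L, t * y * t⁻¹ = y⁻¹ := fun y hy => by
    let φ : L → L := fun x => ⟨(x : G)⁻¹ * (t * x * t⁻¹), L.mul_mem (L.inv_mem x.2) (tL x x.2)⟩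
    have hφ : Function.Injective φ := fun a b e => by
      have e' : (a : G)⁻¹ * (t * a * t⁻¹) = (b : G)⁻¹ * (t * b * t⁻¹) := congrArg Subtype.val e
      have := hfix (b * (a : G)⁻¹) (L.mul_mem b.2 (L.inv_mem a.2)) (by
        calc t * (b * (a : G)⁻¹) = b * ((b : G)⁻¹ * (t * b * t⁻¹)) * t * (a : G)⁻¹ := by group
          _ = _ := by rw [← e']; group)
      exact Subtype.ext (mul_inv_eq_one.1 this).symm
    obtain ⟨x, hx⟩ := Finite.injective_iff_surjective.1 hφ ⟨y, hy⟩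
    have hx' : (x : G)⁻¹ * (t * x * t⁻¹) = y := congrArg Subtype.val hx
    rw [← hx', ti]
    calc t * ((x : G)⁻¹ * (t * x * t)) * t = t * (x : G)⁻¹ * t * x * (t * t) := by group
      _ = _ := by rw [h.tt, mul_inv_rev, mul_inv_rev, mul_inv_rev, ti]; group
  have uinv : ∀ y ∈ L, u * y * u⁻¹ = y⁻¹ := fun y hy => by
    have := hinv (n⁻¹ * y * n) ((h2 _).2 (by simpa [mul_assoc] using hy))
    calc u * y * u⁻¹ = n * (t * (n⁻¹ * y * n) * t⁻¹) * n⁻¹ := by rw [hu]; group
      _ = _ := by rw [this]; group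
  rcases h.dich (L := centralizer (L : Set G)) (fun f hf x hx _ y hy => by
    have := hx _ (h1 f⁻¹ (inv_mem (h.le hf)) y hy)
    calc y * (f * x * f⁻¹) = f * (f⁻¹ * y * f⁻¹⁻¹ * x) * f⁻¹ := by group
      _ = _ := by rw [this]; group) with h4 | h4
  · refine u1 (h.cen hn fun f hf => ?_)
    have := h4 (u⁻¹ * (f * u * f⁻¹)) (fun y hy => by
      have h5 := uinv _ (h1 f⁻¹ (inv_mem (h.le hf)) y hy)
      have h6 := uinv y hy
      calc y * (u⁻¹ * (f * u * f⁻¹)) = u⁻¹ * (u * y * u⁻¹) * (f * u * f⁻¹) := by group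
        _ = u⁻¹ * f * (f⁻¹ * y * f⁻¹⁻¹)⁻¹ * u * f⁻¹ := by rw [h6]; group
        _ = _ := by rw [← h5]; group)
      (F.mul_mem (F.inv_mem hn) (F.mul_mem (F.mul_mem hf hn) (F.inv_mem hf)))
    calc f * u = u * (u⁻¹ * (f * u * f⁻¹)) * f := by group
      _ = _ := by rw [this, mul_one]
  · refine hL (eq_bot_iff.2 fun y hy => hfix y hy ?_)
    have h5 := uinv y hy
    rw [← h4 hn y hy, mul_inv_cancel_right] at h5
    rw [← mul_inv_eq_iff_eq_mul, hinv y hy, ← h5]

omit [Finite G] in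
theorem sub {N : Subgroup G} (hN : centralizer {t} ≤ N) :
    St (⟨t, hN (mem_cent.2 rfl)⟩ : N) (F.subgroupOf N) := by
  have e := subgroupOfEquivOfLe (h.le.trans hN)
  have hc : centralizer {(⟨t, hN (mem_cent.2 rfl)⟩ : N)} = (centralizer {t}).subgroupOf N := by
    ext x; simp [mem_cent, mem_subgroupOf, Subtype.ext_iff]
  refine ⟨by rw [← orderOf_coe, h.ht], ⟨zpowers_le.2 (mem_cent.2 rfl), fun x hx => mem_cent.2
    (Subtype.ext (h.comm hx)), fun a ha b hb => ?_, eq_bot_iff.2 fun a ha => ?_, ?_⟩,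
    by have := h.hs; exact e.isSimpleGroup, fun hh => h.hna ⟨⟨fun a b => e.symm.injective ?_⟩⟩, ?_⟩
  · obtain ⟨k, rfl⟩ := ha
    exact (Commute.zpow_left (Subtype.ext (h.comm hb)) k).eq
  · obtain ⟨⟨k, rfl⟩, ha⟩ := ha
    have : t ^ k ∈ zpowers t ⊓ F := ⟨⟨k, rfl⟩, by simpa [mem_subgroupOf] using ha⟩
    rw [h.hF.2.2.2.1, mem_bot] at this
    exact Subtype.ext (by simpa using this)
  · refine le_antisymm (sup_le (zpowers_le.2 (mem_cent.2 rfl)) fun x hx => mem_cent.2
      (Subtype.ext (h.comm hx))) fun x hx => ?_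
    rw [hc] at hx
    rcases h.dec hx with h1 | h1
    · exact mem_sup_right h1
    · exact (mul_mem_cancel_left (mem_sup_left (mem_zpowers _))).1 (mem_sup_right h1)
  · rw [map_mul, map_mul, hh.is_comm.comm]
  · rw [hc]
    have := h.odd
    rw [← relIndex_mul_index hN] at this
    exact (Nat.odd_mul.1 this).1

/-- If `t` is fused into `F` then `C(t)` lies in a simple subgroup. -/
theorem exists_simple {g : G} (hg : g * t * g⁻¹ ∈ F) :
    ∃ N : Subgroup G, centralizer {t} ≤ N ∧ IsSimpleGroup N := by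
  obtain ⟨N, ⟨hN, n, hnN, hn⟩, hmin⟩ := exists_minimal_of_wellFoundedLT
    (fun N : Subgroup G => centralizer {t} ≤ N ∧ ∃ n ∈ N, n * t * n⁻¹ ∈ F)
    ⟨⊤, le_top, g, mem_top g, hg⟩
  have key : ∀ L : Subgroup G, L ≠ ⊥ → (∀ c ∈ N, ∀ x ∈ L, c * x * c⁻¹ ∈ L) →
      centralizer {t} ≤ L := fun L hL h1 =>
    h.lemA hL hn (fun c hc => h1 c (hN hc)) fun x => ⟨h1 n hnN x, fun hx => by
      simpa [mul_assoc] using h1 _ (inv_mem hnN) _ hx⟩
  refine ⟨N, hN, @IsSimpleGroup.mk _ _ ⟨⟨⟨t, hN (mem_cent.2 rfl)⟩, 1, fun e =>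
    h.t1 (congrArg Subtype.val e)⟩⟩ fun M hM => ?_⟩
  by_cases hb : M = ⊥
  · exact Or.inl hb
  right
  set L := M.map N.subtype with hLdef
  have hn1 : ∀ c ∈ N, ∀ x ∈ L, c * x * c⁻¹ ∈ L := by
    rintro c hc _ ⟨x, hx, rfl⟩
    exact ⟨_, hM.conj_mem x hx ⟨c, hc⟩, rfl⟩
  have hL := key L (fun e => hb ((map_eq_bot_iff_of_injective _ N.subtype_injective).1 e)) hn1
  rcases (h.sub hL).transfer (S := ⊥) IsPGroup.of_bot (fun s hs => by simp [mem_bot.1 hs]) with
    ⟨K, hK, hi, htK⟩ | ⟨m, hm, -⟩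
  · exfalso
    obtain ⟨f, hf, hf1⟩ := h.exists_sq
    have h1 := key (sqs L) (fun e => hf1 (mem_bot.1 (e ▸ sq_mem (hL (h.le hf))))) fun c hc x hx =>
      map_mem_sqs (MulAut.conj c).toMonoidHom (hn1 c hc) hx
    have h2 : sqs L ≤ K.map L.subtype := sqs_le fun a ha =>
      ⟨⟨a, ha⟩ * ⟨a, ha⟩, by rw [← sq]; exact sq_mem_of_index_two hi _, rfl⟩
    obtain ⟨x, hx, e⟩ := h2 (h1 (mem_cent.2 rfl))
    exact htK (by rwa [show (⟨t, _⟩ : L) = x from Subtype.ext e.symm])
  · have := hmin ⟨hL, m, m.2, hm⟩ (map_subtype_le M)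
    refine eq_top_iff.2 fun x _ => ?_
    obtain ⟨y, hy, e⟩ := this x.2
    rwa [← show y = x from Subtype.ext e]

/-- If the `2`-elements of `F` are involutions then the Sylow `2`-subgroups are elementary. -/
theorem elem (hF : ∀ x ∈ F, ∀ k, x ^ 2 ^ k = 1 → x * x = 1) {P : Subgroup G} (hP : IsPGroup 2 P)
    {x : G} (hx : x ∈ P) : x * x = 1 := by
  obtain ⟨T, hT⟩ := exists_isSyl 2 (centralizer ({t} : Set G))
  have hT' : IsSyl 2 T ⊤ := isSyl_of_not_dvd_relIndex hT.pgrp le_top (by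
    rw [relIndex_top_right, ← relIndex_mul_index hT.le]
    exact Nat.prime_two.not_dvd_mul hT.not_dvd_relIndex h.odd.not_two_dvd_nat)
  obtain ⟨c, -, hc⟩ := hT'.exists_cj_le hP le_top
  have h1 := hc (conj_mem_cj _ hx)
  set y := c * x * c⁻¹ with hy
  obtain ⟨k, hk⟩ := hT.pgrp ⟨y, h1⟩
  have hk' : y ^ 2 ^ k = 1 := congrArg Subtype.val hk
  have h2 : y * y = 1 := by
    rcases h.dec (hT.le h1) with h3 | h3
    · exact hF y h3 k hk'
    · have hc : Commute t y := mem_cent.1 (hT.le h1)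
      have := hF _ h3 (k + 1) (by
        rw [hc.mul_pow, pow_succ, pow_mul y, hk', mul_comm, pow_mul, sq, h.tt]; simp)
      rwa [← sq, hc.mul_pow, sq, h.tt, one_mul, sq] at this
  calc x * x = c⁻¹ * (y * y) * c := by rw [hy]; group
    _ = 1 := by rw [h2]; group

theorem comm_syl (hF : ∀ x ∈ F, ∀ k, x ^ 2 ^ k = 1 → x * x = 1) (S : Sylow 2 G) :
    IsMulCommutative (S : Subgroup G) := by
  refine ⟨⟨fun a b => Subtype.ext ?_⟩⟩
  have hi : ∀ f ∈ (S : Subgroup G), f⁻¹ = f := fun f hf =>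
    inv_eq_of_mul_eq_one_right (h.elem hF S.isPGroup' hf)
  have := hi _ (mul_mem a.2 b.2)
  rw [mul_inv_rev, hi _ a.2, hi _ b.2] at this
  exact this.symm

end St

end Cfsg.Agent.KSG.C2
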