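import Mathlib
import Cfsg.Agent.KSG.C2Lin
import Cfsg.Agent.Class.Orth.TwoRank
import Cfsg.Agent.Class.Orth.Std
import Cfsg.Agent.Class.Orth.Simple

/-! A frame stabiliser in an orthogonal group of odd characteristic. -/

set_option autoImplicit false
set_option linter.unusedSectionVars false

namespace Cfsg.Agent.KSG.C2

open Subgroup Module QuadraticMap Cfsg.Agent.Class Cfsg.Agent.Class.Orth

variable {F V : Type*} [Field F] [AddCommGroup V] [Module F V] {Q : QuadraticForm F V} {ι : Type*}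
  [Fintype ι] [DecidableEq ι] {b : Basis ι F V} {τ : ι → ι} {ω : ι}

theorem refl_mul_mem {v w : V} (h : Q v = Q w) (h0 : Q (v - w) ≠ 0) :
    refl Q v * refl Q w ∈ commutator (OG Q) := by
  have h1 := conj_refl (refl Q (v - w)) v
  have h2 := commutator_mem_commutator (mem_top (refl Q v)) (mem_top (refl Q (v - w)))
  rw [refl_sub_apply h h0] at h1
  rwa [commutatorElement_def, refl_inv v, mul_assoc, mul_assoc, ← mul_assoc (refl Q (v - w)),
    h1] at h2

theorem map_usmul (g : OG Q) (ε : ℤˣ) (v : V) : g.1 (ε • v) = ε • g.1 v := by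
  rw [Units.smul_def, Units.smul_def, map_zsmul]

/-- an orthogonal basis with a pairing of its vectors -/
structure Fr (Q : QuadraticForm F V) (b : Basis ι F V) (τ : ι → ι) (ω : ι) : Prop where
  h2 : (2 : F) ≠ 0
  orth : IsOrthFam Q b
  one : ∀ i, i ≠ ω → Q (b i) = 1
  inv : ∀ i, τ (τ i) = i
  last : τ ω = ω
  fix : ∀ i j, τ i = i → τ j = j → i ≠ ω → j ≠ ω → i = j
  far : ∀ i j, ∃ k, τ k ≠ k ∧ k ≠ i ∧ k ≠ j ∧ τ k ≠ i ∧ τ k ≠ j

variable (Q b τ) in
/-- transpositions -/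
noncomputable def tp (i : ι) : OG Q := refl Q (b i - b (τ i))

/-- sign vectors -/
def sg (i j : ι) : ι → ℤˣ := Pi.mulSingle i (-1) * Pi.mulSingle j (-1)

theorem sg_apply {i j : ι} (h : i ≠ j) (k : ι) : sg i j k = if k = i ∨ k = j then -1 else 1 := by
  by_cases h1 : k = i
  · simp [sg, h1, h]
  · by_cases h2 : k = j
    · simp [sg, h2, h.symm]
    · simp [sg, h1, h2]

theorem sm_inj (h2 : (2 : F) ≠ 0) {ε δ : ℤˣ} {v : V} (hv : v ≠ 0) (h : ε • v = δ • v) : ε = δ := by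
  have : ∀ {v : V}, v = -v → v = 0 := fun h =>
    (smul_eq_zero.1 (by rw [two_smul, add_eq_zero_iff_eq_neg]; exact h)).resolve_left h2
  rcases Int.units_eq_one_or ε with rfl | rfl <;> rcases Int.units_eq_one_or δ with rfl | rfl
  · rfl
  · exact (hv (this (by simpa using h))).elim
  · exact (hv (this (by simpa using h.symm))).elim
  · rfl

theorem comm_of_center {G : Type*} [Group G] {U x y : G} (h4 : U * x * U⁻¹ * x⁻¹ ∈ center G)
    (h5 : U * y * U⁻¹ * y⁻¹ ∈ center G) : U * (x * y * x⁻¹ * y⁻¹) = x * y * x⁻¹ * y⁻¹ * U := by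
  rw [mem_center_iff] at h4 h5
  generalize hx : U * x * U⁻¹ * x⁻¹ = c at h4
  generalize hy : U * y * U⁻¹ * y⁻¹ = d at h5
  have h6 : U * x * U⁻¹ = c * x := by rw [← hx]; group
  have h7 : U * y * U⁻¹ = d * y := by rw [← hy]; group
  rw [← mul_inv_eq_iff_eq_mul, ← conj_mul, ← conj_mul, ← conj_mul, ← conj_inv,
    ← conj_inv, h6, h7, ← h4 x, ← h5 y]
  calc _ = x * (c * (y * d) * c⁻¹) * x⁻¹ * d⁻¹ * y⁻¹ := by group
    _ = x * y * (d * x⁻¹ * d⁻¹) * y⁻¹ := by rw [← h4]; group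
    _ = _ := by rw [← h5]; group

namespace Fr

variable (h : Fr Q b τ ω)
include h

theorem ne {i : ι} (hi : τ i ≠ i) : i ≠ ω ∧ τ i ≠ ω :=
  ⟨fun e => hi (by rw [e, h.last]), fun e => hi (by rw [← h.inv i, e, h.last, h.last])⟩

theorem Q_two {i j : ι} (hi : i ≠ ω) (hj : j ≠ ω) (e : i ≠ j) : Q (b i - b j) = 2 := by
  rw [Q_sub, h.one i hi, h.one j hj, h.orth.orth i j e]; ring

theorem tp_apply {i : ι} (hi : τ i ≠ i) (j : ι) :
    (tp Q b τ i).1 (b j) = b (if j = i ∨ j = τ i then τ j else j) := by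
  obtain ⟨h1, h3⟩ := h.ne hi
  have h4 := h.Q_two h1 h3 hi.symm
  split_ifs with e
  · rcases e with rfl | rfl
    · exact refl_sub_apply (by rw [h.one _ h1, h.one _ h3]) (h4 ▸ h.h2)
    · rw [tp, ← refl_neg, neg_sub, h.inv]
      exact refl_sub_apply (by rw [h.one _ h1, h.one _ h3]) (h.Q_two h3 h1 hi ▸ h.h2)
  · rw [not_or] at e
    exact refl_apply_of_polar_eq_zero (by
      rw [polar_sub_right, h.orth.orth _ _ e.1, h.orth.orth _ _ e.2, sub_zero])

theorem sq {g : OG Q} (hg : ∀ i, ∃ (ε : ℤˣ) (j : ι), (j = i ∨ j = τ i) ∧ g.1 (b i) = ε • b j)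
    (i : ι) : ∃ ε : ℤˣ, (g * g).1 (b i) = ε • b i := by
  obtain ⟨ε, j, hj, e⟩ := hg i
  obtain ⟨δ, k, hk, e'⟩ := hg j
  by_cases h0 : j = i
  · exact ⟨ε * ε, by rw [OG.mul_apply, e, h0, map_usmul, e, h0, mul_smul]⟩
  by_cases h1 : k = i
  · exact ⟨ε * δ, by rw [OG.mul_apply, e, map_usmul, e', h1, mul_smul]⟩
  have h3 : k = j := by
    have := h.inv i
    grind
  have h4 : δ • b i = ε • b j := g.1.injective (by
    rw [map_usmul, map_usmul, e, e', h3, smul_comm])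
  have h5 := congrArg (b.repr · i) h4
  simp [Units.smul_def, Finsupp.single_eq_of_ne' (h3 ▸ h1)] at h5
  rcases Int.units_eq_one_or δ with rfl | rfl <;> simp at h5

theorem pow4 {g : OG Q} (hg : ∀ i, ∃ (ε : ℤˣ) (j : ι), (j = i ∨ j = τ i) ∧ g.1 (b i) = ε • b j) :
    g * g * (g * g) = 1 := OG.ext_basis b fun i => by
  obtain ⟨ε, e⟩ := h.sq hg i
  rw [OG.mul_apply, e, map_usmul, e, smul_smul, Int.units_mul_self, one_smul, OG.one_apply]

/-- the monomial `2`-group -/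
def B : Subgroup (OG Q) where
  carrier := {g | ∀ i, ∃ (ε : ℤˣ) (j : ι), (j = i ∨ j = τ i) ∧ g.1 (b i) = ε • b j}
  one_mem' i := ⟨1, i, .inl rfl, by simp⟩
  mul_mem' {x y} hx hy i := by
    obtain ⟨ε, j, hj, e⟩ := hy i
    obtain ⟨δ, k, hk, e'⟩ := hx j
    exact ⟨ε * δ, k, by have := h.inv i; grind, by rw [OG.mul_apply, e, map_usmul, e', mul_smul]⟩
  inv_mem' {x} hx i := by
    obtain ⟨ε, j, hj, e⟩ := hx i
    obtain ⟨δ, e'⟩ := h.sq hx j
    refine ⟨ε * δ, j, hj, ?_⟩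
    rw [inv_eq_of_mul_eq_one_left ((mul_assoc _ _ x).trans (h.pow4 hx)), OG.mul_apply, e,
      map_usmul, e', mul_smul]

theorem two : IsPGroup 2 h.B := fun g => ⟨2, Subtype.ext (by
  rw [SubmonoidClass.coe_pow, show 2 ^ 2 = 2 + 2 by rfl, pow_add, pow_two]
  exact h.pow4 g.2)⟩

theorem diag_mem (ε : ι → ℤˣ) : h.orth.diagHom ε ∈ h.B := fun i =>
  ⟨ε i, i, .inl rfl, h.orth.diagHom_apply ε i⟩

theorem tp_mem {i : ι} (hi : τ i ≠ i) : tp Q b τ i ∈ h.B := fun j =>
  ⟨1, _, by split_ifs <;> simp, (h.tp_apply hi j).trans (one_smul _ _).symm⟩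

theorem sg_mem {i j : ι} (hi : i ≠ ω) (hj : j ≠ ω) (e : i ≠ j) :
    h.orth.diagHom (sg i j) ∈ commutator (OG Q) := by
  rw [sg, map_mul, h.orth.diagHom_mulSingle, h.orth.diagHom_mulSingle]
  exact refl_mul_mem (by rw [h.one i hi, h.one j hj]) (h.Q_two hi hj e ▸ h.h2)

theorem tt_mem {i j : ι} (hi : τ i ≠ i) (hj : τ j ≠ j) (e : j ≠ i) (e' : τ j ≠ i) :
    tp Q b τ i * tp Q b τ j ∈ commutator (OG Q) := by
  have h1 := h.Q_two (h.ne hi).1 (h.ne hi).2 hi.symm
  have h3 := h.Q_two (h.ne hj).1 (h.ne hj).2 hj.symm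
  have := h.inv i
  have := h.inv j
  refine refl_mul_mem (h1.trans h3.symm) ?_
  rw [Q_sub, h1, h3, polar_sub_left, polar_sub_right, polar_sub_right, h.orth.orth _ _ e.symm,
    h.orth.orth _ _ e'.symm, h.orth.orth (τ i) j (by grind), h.orth.orth (τ i) (τ j) (by grind),
    sub_self, sub_zero, ← two_mul]
  exact mul_ne_zero h.h2 h.h2

theorem repr_diag (ε : ι → ℤˣ) (v : V) (i : ι) :
    b.repr ((h.orth.diagHom ε).1 v) i = ε i • b.repr v i := by
  conv_lhs => rw [← b.sum_repr v, map_sum, map_sum]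
  simp [h.orth.diagHom_apply, Units.smul_def, Finsupp.single_apply, mul_comm]

theorem kq [Finite F] [FiniteDimensional F V] (hQ : ND Q) (h5 : 5 ≤ finrank F V) :
    KQ (commutator (OG Q)) := by
  refine ⟨h.B.comap (Subgroup.subtype _), h.two.comap_subtype, fun U _ hc => ?_⟩
  have pm : ∀ a ∈ h.B, a ∈ commutator (OG Q) →
      U.1 * a * U.1⁻¹ * a⁻¹ = 1 ∨ U.1 * a * U.1⁻¹ * a⁻¹ = negOne Q := fun a h1 h2 =>
    (hQ.mem_center_Omega h5 _).1 (hc ⟨a, h2⟩ h1)
  have cen : ∀ a ∈ h.B, a ∈ commutator (OG Q) → U.1 * a * U.1⁻¹ * a⁻¹ ∈ center (OG Q) :=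
    fun a h1 h2 => (pm a h1 h2).elim (· ▸ one_mem _) (· ▸ negOne_mem_center)
  have zc : ∀ i, τ i ≠ i → ∃ x ∈ h.B, x ∈ commutator (OG Q) ∧ ∃ y ∈ h.B, y ∈ commutator (OG Q) ∧
      x * y * x⁻¹ * y⁻¹ = h.orth.diagHom (sg i (τ i)) := fun i hi => by
    obtain ⟨k, h1, h2, -, h3, -⟩ := h.far i i
    obtain ⟨l, h4, h5, h6, h7, h8⟩ := h.far i k
    have := h.inv i
    have := h.inv k
    have := h.inv l
    refine ⟨_, h.diag_mem _, h.sg_mem (h.ne hi).1 (h.ne h1).1 h2.symm, _,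
      mul_mem (h.tp_mem hi) (h.tp_mem h4), h.tt_mem hi h4 h5 h7, ?_⟩
    rw [mul_inv_eq_iff_eq_mul, mul_inv_eq_iff_eq_mul]
    refine OG.ext_basis b fun j => ?_
    simp only [OG.mul_apply, h.tp_apply hi, h.tp_apply h4, h.orth.diagHom_apply, map_usmul,
      smul_smul, sg_apply h2.symm, sg_apply hi.symm]
    congr 1
    split_ifs <;> first | rfl | (exfalso; grind)
  have cz : ∀ i, τ i ≠ i → U.1 * h.orth.diagHom (sg i (τ i)) = h.orth.diagHom (sg i (τ i)) * U.1 :=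
    fun i hi => by
      obtain ⟨x, h1, h2, y, h3, h4, e⟩ := zc i hi
      exact e ▸ comm_of_center (cen x h1 h2) (cen y h3 h4)
  have eig : ∀ ε : ι → ℤˣ, U.1 * h.orth.diagHom ε = h.orth.diagHom ε * U.1 → ∀ i j, ε i ≠ ε j →
      b.repr (U.1.1 (b i)) j = 0 := fun ε e i j hij => by
    have h1 := congrArg (fun g : OG Q => b.repr (g.1 (b i)) j) e
    simp only [OG.mul_apply, h.repr_diag, h.orth.diagHom_apply, map_usmul, Units.smul_def,
      map_zsmul, Finsupp.smul_apply] at h1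
    by_contra h0
    exact hij (sm_inj (F := F) h.h2 h0 h1)
  have cm : ∀ a ∈ h.B, a ∈ commutator (OG Q) → ∀ k, τ k ≠ k → a.1 (b k) = b k →
      a.1 (b (τ k)) = b (τ k) → U.1 * a = a * U.1 := fun a h1 h2 k hk e e' => by
    rcases pm a h1 h2 with h3 | h3
    · rwa [mul_inv_eq_one, mul_inv_eq_iff_eq_mul] at h3
    exfalso
    rw [mul_inv_eq_iff_eq_mul, mul_inv_eq_iff_eq_mul] at h3
    have h4 : a.1 (U.1.1 (b k)) = U.1.1 (b k) := by
      rw [← b.sum_repr (U.1.1 (b k)), map_sum]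
      refine Finset.sum_congr rfl fun j _ => ?_
      by_cases hj : j = k ∨ j = τ k
      · rcases hj with rfl | rfl <;> rw [map_smul] <;> congr 1
      · rw [eig _ (cz k hk) k j (by simp [sg_apply hk.symm, hj]), zero_smul, map_zero]
    have h5 := congrArg (fun g : OG Q => g.1 (b k)) h3
    simp only [OG.mul_apply, e, h4, negOne_apply] at h5
    exact absurd (sm_inj (ε := 1) (δ := -1) h.h2 (OG.apply_ne_zero U.1 (b.ne_zero k))
      (by rw [one_smul, Units.neg_smul, one_smul]; exact h5)) (by decide)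
  have off : ∀ i j, i ≠ j → b.repr (U.1.1 (b i)) j = 0 := fun i j hij => by
    obtain ⟨m, hm, h1⟩ : ∃ m, m ≠ ω ∧ (m = i ∨ m = j) := by
      by_cases e : i = ω
      exacts [⟨j, fun e' => hij (e.trans e'.symm), .inr rfl⟩, ⟨i, e, .inl rfl⟩]
    obtain ⟨k, h2, h3, h4, -, -⟩ := h.far i j
    have h6 : m ≠ k := by grind
    obtain ⟨l, h7, h8, h9, h10, h11⟩ := h.far m k
    refine eig _ (cm _ (h.diag_mem _) (h.sg_mem hm (h.ne h2).1 h6) l h7 ?_ ?_) i j ?_
    · simp [h.orth.diagHom_apply, sg_apply h6, h8, h9]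
    · simp [h.orth.diagHom_apply, sg_apply h6, h10, h11]
    · rcases h1 with rfl | rfl <;> simp [sg_apply h6, hij, hij.symm, h3.symm, h4.symm]
  obtain ⟨ε, hε⟩ := h.orth.mem_range_diagHom (g := U.1) fun i => by
    have h1 : U.1.1 (b i) = b.repr (U.1.1 (b i)) i • b i := by
      conv_lhs => rw [← b.sum_repr (U.1.1 (b i))]
      exact Finset.sum_eq_single i (fun j _ hj => by rw [off i j hj.symm, zero_smul]) (by simp)
    have h2 := U.1.2 (b i)
    rw [h1, Q_smul, mul_eq_right₀ (h.orth.ne i), sq_eq_one_iff] at h2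
    rcases h2 with h2 | h2 <;> rw [h1, h2] <;> simp
  have hτ : ∀ i, ε (τ i) = ε i := fun i => by
    by_cases hi : τ i = i
    · rw [hi]
    obtain ⟨k, h1, h2, -, h3, -⟩ := h.far i i
    obtain ⟨l, h4, h5, h6, h7, h8⟩ := h.far i k
    have := h.inv i
    have := h.inv k
    have := h.inv l
    have h9 := congrArg (fun g : OG Q => g.1 (b i)) (cm _ (mul_mem (h.tp_mem hi) (h.tp_mem h1))
      (h.tt_mem hi h1 h2 h3) l h4 ?_ ?_)
    · simp only [← hε, OG.mul_apply, h.tp_apply hi, h.tp_apply h1, h.orth.diagHom_apply, map_usmul,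
        if_neg (show ¬ (i = k ∨ i = τ k) by grind), true_or, if_true] at h9
      exact sm_inj h.h2 (b.ne_zero _) h9
    · rw [OG.mul_apply, h.tp_apply h1, if_neg (by grind), h.tp_apply hi, if_neg (by grind)]
    · rw [OG.mul_apply, h.tp_apply h1, if_neg (by grind), h.tp_apply hi, if_neg (by grind)]
  have hω : ∀ i, τ i = i → ε i = ε ω := fun i hi => by
    by_cases e : i = ω
    · rw [e]
    have h1 : ∏ j, ε j = 1 := h.orth.comap_le_ker hQ (hQ.reflGen_odd h.h2) (x := ε)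
      (by rw [mem_comap, hε]; exact U.2)
    rw [← Finset.prod_mul_prod_compl {i, ω}, Finset.prod_pair e,
      Finset.prod_involution (fun j _ => τ j) (fun j _ => by rw [hτ, Int.units_mul_self])
        (fun j hj _ e' => by have := h.fix i j hi e' e; simp at hj; grind)
        (fun j hj => by have := h.inv j; have := h.last; simp at hj ⊢; grind)
        (fun j _ => h.inv j), mul_one] at h1
    rw [eq_inv_of_mul_eq_one_left h1, Int.units_inv_eq_self]
  have ex : ∀ n, ∀ δ : ι → ℤˣ, (Finset.univ.filter fun i => δ i ≠ 1).card = n →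
      (∀ i, δ (τ i) = δ i) → (∀ i, τ i = i → δ i = 1) →
      ∃ t ∈ sqs (h.B.comap (commutator (OG Q)).subtype), t.1 = h.orth.diagHom δ := fun n => by
    induction n using Nat.strong_induction_on with
    | _ n ih =>
    intro δ hn h1 h2
    by_cases h0 : δ = 1
    · exact ⟨1, one_mem _, by simp [h0]⟩
    obtain ⟨i, hi⟩ := Function.ne_iff.1 h0
    replace hi := (Int.units_eq_one_or _).resolve_left hi
    have h3 : τ i ≠ i := fun e => absurd ((h2 i e).symm.trans hi) (by decide)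
    obtain ⟨x, h4, h5, y, h6, h7, e⟩ := zc i h3
    have h8 : ∀ j, (sg i (τ i) * δ) j = if j = i ∨ j = τ i then 1 else δ j := fun j => by
      rw [Pi.mul_apply, sg_apply h3.symm]
      split_ifs with e
      · rcases e with rfl | rfl <;> simp [h1, hi]
      · simp
    have h9 : (Finset.univ.filter fun j => (sg i (τ i) * δ) j ≠ 1) ⊂
        Finset.univ.filter fun j => δ j ≠ 1 := by
      refine Finset.ssubset_iff_subset_ne.2 ⟨fun j => ?_, fun e => ?_⟩
      · simp only [h8, Finset.mem_filter, Finset.mem_univ, true_and]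
        split_ifs with e
        exacts [fun h => (h rfl).elim, id]
      · have := e.ge (show i ∈ Finset.univ.filter fun i => δ i ≠ 1 by simp [hi])
        simp only [h8, Finset.mem_filter] at this
        simp at this
    obtain ⟨t, ht, e'⟩ := ih _ (hn ▸ Finset.card_lt_card h9) (sg i (τ i) * δ) rfl
      (fun j => by
        rw [h8, h8, h1]
        refine if_congr ⟨?_, ?_⟩ rfl rfl
        · rintro (e | e)
          exacts [.inr (by rw [← e, h.inv]), .inl (by rw [← h.inv j, e, h.inv])]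
        · rintro (rfl | rfl)
          exacts [.inr rfl, .inl (h.inv i)])
      (fun j hj => by rw [h8, h2 j hj, ite_self])
    refine ⟨_, mul_mem (inv_mem (comm_mem (a := ⟨x, h5⟩) (b := ⟨y, h7⟩) h4 h6)) ht, ?_⟩
    change (x * y * x⁻¹ * y⁻¹)⁻¹ * t.1 = _
    rw [e, e', map_mul, inv_mul_cancel_left]
  obtain ⟨t, ht, e⟩ := ex _ (fun i => ε i * ε ω) rfl (fun i => by rw [hτ]) fun i hi => by
    rw [hω i hi, Int.units_mul_self]
  refine ⟨t, ht, (hQ.mem_center_Omega h5 _).2 ?_⟩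
  change U.1 * t.1⁻¹ = 1 ∨ U.1 * t.1⁻¹ = _
  rw [e, ← hε, ← map_inv, ← map_mul, ← h.orth.diagHom_neg_one, ← map_one h.orth.diagHom]
  refine (Int.units_eq_one_or (ε ω)).imp (fun e => ?_) fun e => ?_ <;> congr 1 <;> ext i <;>
    simp [e]

end Fr

theorem kq_O [Finite F] [FiniteDimensional F V] (hQ : ND Q) (h2 : (2 : F) ≠ 0)
    (h7 : 7 ≤ finrank F V) : KQ (commutator (OG Q)) := by
  obtain ⟨b, h1, h3⟩ := hQ.exists_orth_basis_norm h2 one_ne_zero
  generalize hn : finrank F V = n at b h1 h3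
  rw [hn] at h7
  refine Fr.kq (b := b) (τ := fun i => if h : i.1 / 2 * 2 + 2 < n then
    ⟨i / 2 * 2 + (1 - i % 2), by omega⟩ else i) (ω := ⟨n - 1, by omega⟩)
    ⟨h2, h1, fun i hi => h3 i ?_, fun i => ?_, ?_, fun i j => ?_, fun i j => ?_⟩ hQ (by omega)
  · simp only [Ne, Fin.ext_iff, Fin.val_rev] at hi ⊢
    omega
  · simp only [Fin.ext_iff, apply_dite Fin.val, dite_eq_ite]
    split_ifs <;> omega
  · simp only [Fin.ext_iff, apply_dite Fin.val, dite_eq_ite]
    split_ifs <;> omega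
  · simp only [Ne, Fin.ext_iff, apply_dite Fin.val, dite_eq_ite]
    split_ifs <;> omega
  · obtain ⟨k, hk⟩ : ∃ k, k < 3 ∧ k ≠ i.1 / 2 ∧ k ≠ j.1 / 2 := by
      by_contra! h
      have := h 0; have := h 1; have := h 2
      omega
    refine ⟨⟨2 * k, by omega⟩, ?_⟩
    simp only [Ne, Fin.ext_iff, apply_dite Fin.val, dite_eq_ite]
    split_ifs <;> omega

theorem kf_O {Y : Type*} [Group Y] {p : ℕ} (hp : p.Prime) (h2 : p ≠ 2)
    (h : IsPOmegaOddChar p Y ∨ IsPOmegaPlusChar p Y ∨ IsPOmegaMinusChar p Y) : KF Y := by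
  rcases h with ⟨F, _, _, _, m, hm, -, ⟨e⟩⟩ | ⟨F, _, _, _, m, hm, ⟨e⟩⟩ |
    ⟨F, _, _, _, m, a, b, hm, hab, ⟨e⟩⟩ <;> have h2 := two_ne F hp h2
  · exact (kq_O (nd_oddQF m F h2) h2 (by simp; omega)).kf
      (e.trans (pOmegaCongr (isoEquiv _ _ (oddQF_apply m F))))
  · exact (kq_O (nd_plusQF m F) h2 (by simp; omega)).kf
      (e.trans (pOmegaCongr (isoEquiv _ _ (plusQF_apply m F))))
  · exact (kq_O (nd_minusQF _ hab) h2 (by simp; omega)).kf
      (e.trans (pOmegaCongr (isoEquiv _ _ (minusQF_apply _ F a b))))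

end Cfsg.Agent.KSG.C2
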