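import Mathlib
import Cfsg.Agent.Class.Max.Frob

/-!
Generation of `SL(V)` by a regular unipotent element and a second element: abstract core.
-/

set_option autoImplicit false

namespace Cfsg.Agent.KSG

open Module Polynomial Cfsg.Agent.Class.Max

variable {F V : Type*} [Field F] [AddCommGroup V] [Module F V]

/-! ### Nilpotent maps with one-dimensional kernel -/

theorem exists_ker_of_nilp {N : Module.End F V} (hN : IsNilpotent N) {W W' : Submodule F V}
    (hW : ∀ x ∈ W, N x ∈ W) {x : V} (hx : x ∈ W) (hx' : x ∉ W') :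
    ∃ y ∈ W, y ∉ W' ∧ N y ∈ W' := by
  obtain ⟨k, hk⟩ := hN
  have hP : ∃ k, (N ^ k) x ∈ W' := ⟨k, by simp [hk]⟩
  classical
  have hmem : ∀ j, (N ^ j) x ∈ W := fun j => by
    induction j with
    | zero => simpa
    | succ j ih => rw [pow_succ', Module.End.mul_apply]; exact hW _ ih
  have h0 : Nat.find hP ≠ 0 := fun h => hx' (by simpa [h] using Nat.find_spec hP)
  obtain ⟨j, hj⟩ := Nat.exists_eq_succ_of_ne_zero h0
  refine ⟨(N ^ j) x, hmem j, Nat.find_min hP (by omega), ?_⟩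
  have := Nat.find_spec hP
  rwa [hj, pow_succ', Module.End.mul_apply] at this

theorem mem_of_stable0 {N : Module.End F V} (hN : IsNilpotent N) {e0 : V}
    (hker : ∀ x, N x = 0 → x ∈ Submodule.span F {e0}) {W : Submodule F V}
    (hW : ∀ x ∈ W, N x ∈ W) (h0 : W ≠ ⊥) : e0 ∈ W := by
  obtain ⟨x, hx, hx0⟩ := (Submodule.ne_bot_iff W).1 h0
  obtain ⟨y, hy, hy0, hy1⟩ := exists_ker_of_nilp hN (W' := ⊥) hW hx (by simpa)
  obtain ⟨c, rfl⟩ := Submodule.mem_span_singleton.1 (hker y (by simpa using hy1))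
  have hc : c ≠ 0 := by rintro rfl; simp at hy0
  exact (W.smul_mem_iff hc).1 hy

theorem mem_of_stable1 {N : Module.End F V} (hN : IsNilpotent N) {e0 e1 : V}
    (hker : ∀ x, N x = 0 → x ∈ Submodule.span F {e0}) (h1 : N e1 = e0) {W : Submodule F V}
    (hW : ∀ x ∈ W, N x ∈ W) (h0 : ¬ W ≤ Submodule.span F {e0}) : e0 ∈ W ∧ e1 ∈ W := by
  have he0 : e0 ∈ W := mem_of_stable0 hN hker hW (by rintro rfl; exact h0 bot_le)
  refine ⟨he0, ?_⟩
  obtain ⟨x, hx, hx0⟩ := SetLike.not_le_iff_exists.1 h0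
  obtain ⟨y, hy, hy0, hy1⟩ := exists_ker_of_nilp hN hW hx hx0
  obtain ⟨a, ha⟩ := Submodule.mem_span_singleton.1 hy1
  obtain ⟨b, hb⟩ := Submodule.mem_span_singleton.1 (hker (y - a • e1) (by simp [h1, ha]))
  have ha0 : a ≠ 0 := by
    rintro rfl
    exact hy0 (Submodule.mem_span_singleton.2 ⟨b, by simpa using hb⟩)
  have : a • e1 = y - b • e0 := by rw [hb]; abel
  exact (W.smul_mem_iff ha0).1 (this ▸ W.sub_mem hy (W.smul_mem _ he0))

/-! ### Transvections with a fixed centre -/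

/-- The functionals `ψ` such that `M` contains the transvection with centre `w` and axis `ψ`. -/
def tvA (M : Subgroup (V ≃ₗ[F] V)) (w : V) : AddSubgroup (Dual F V) where
  carrier := {ψ | ψ w = 0 ∧ HasTv M ψ w}
  zero_mem' := ⟨rfl, hasTv_zero_left w⟩
  add_mem' := fun {a b} ha hb => ⟨by simp [ha.1, hb.1], ha.2.add_left ha.1 hb.2⟩
  neg_mem' := fun {a} ha => ⟨by simp [ha.1], ha.2.neg_left ha.1⟩

/-- The largest subspace inside `tvA`. -/
def tvF (M : Subgroup (V ≃ₗ[F] V)) (w : V) : Submodule F (Dual F V) where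
  carrier := {ψ | ∀ c : F, c • ψ ∈ tvA M w}
  zero_mem' := fun c => by simp
  add_mem' := fun {a b} ha hb c => by rw [smul_add]; exact add_mem (ha c) (hb c)
  smul_mem' := fun d a ha c => by rw [smul_smul]; exact ha _

variable {M : Subgroup (V ≃ₗ[F] V)}

theorem tvA_comp {w : V} {ψ : Dual F V} (h : ψ ∈ tvA M w) {g : V ≃ₗ[F] V} (hg : g ∈ M) {a : F}
    (ha : a ≠ 0) (hw : g w = a • w) : a⁻¹ • ψ ∘ₗ g.toLinearMap ∈ tvA M w := by
  refine ⟨by simp [hw, h.1], ?_⟩
  have h1 := h.2.conj (M.inv_mem hg)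
  have h2 : g⁻¹ w = a⁻¹ • w := by
    apply g.injective
    rw [app_inv_app, map_smul, hw, smul_smul, inv_mul_cancel₀ ha, one_smul]
  rw [inv_inv, h2] at h1
  exact (hasTv_smul_iff _).2 h1

theorem tvF_comp {w : V} {ψ : Dual F V} (h : ψ ∈ tvF M w) {g : V ≃ₗ[F] V} (hg : g ∈ M) {a : F}
    (ha : a ≠ 0) (hw : g w = a • w) : ψ ∘ₗ g.toLinearMap ∈ tvF M w := by
  intro c
  have := tvA_comp (h (a * c)) hg ha hw
  convert this using 1
  ext x
  simp [← mul_assoc, inv_mul_cancel₀ ha]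

theorem mem_elations_of_coann [FiniteDimensional F V] {w : V}
    (h : (tvF M w).dualCoannihilator ≤ Submodule.span F {w}) : w ∈ elations M := by
  intro φ hφ
  have : φ ∈ (tvF M w).dualCoannihilator.dualAnnihilator := by
    rw [Submodule.mem_dualAnnihilator]
    intro x hx
    obtain ⟨c, rfl⟩ := Submodule.mem_span_singleton.1 (h hx)
    simp [hφ]
  rw [Subspace.dualCoannihilator_dualAnnihilator_eq] at this
  simpa using (this 1).2

theorem coann_stable {Φ : Submodule F (Dual F V)} {g : V →ₗ[F] V}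
    (h : ∀ ψ ∈ Φ, ψ ∘ₗ g ∈ Φ) : ∀ x ∈ Φ.dualCoannihilator, g x ∈ Φ.dualCoannihilator := by
  intro x hx
  rw [Submodule.mem_dualCoannihilator] at hx ⊢
  exact fun ψ hψ => hx _ (h ψ hψ)

/-! ### Powers of an element with a Jordan block of size two -/

theorem exists_dvd_X_pow_sub_one [Finite F] {f : F[X]} (hf : f.Monic) (hsq : Squarefree f)
    (h0 : f.coeff 0 ≠ 0) : ∃ m : ℕ, (m : F) ≠ 0 ∧ f ∣ X ^ m - 1 := by
  obtain ⟨p, hp⟩ := CharP.exists F
  have hpp : Fact p.Prime := ⟨CharP.char_is_prime F p⟩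
  have hfin : Finite (AdjoinRoot f) := by
    have := (AdjoinRoot.powerBasis' hf).finite
    exact Module.finite_of_finite F
  have hu : IsUnit (AdjoinRoot.root f) := by
    have h1 : AdjoinRoot.mk f (X * f.divX + C (f.coeff 0)) = 0 := by
      rw [X_mul_divX_add, AdjoinRoot.mk_self]
    rw [map_add, map_mul, AdjoinRoot.mk_X, AdjoinRoot.mk_C] at h1
    have h2 : IsUnit (AdjoinRoot.of f (f.coeff 0)) := (IsUnit.mk0 _ h0).map _
    have h3 : AdjoinRoot.root f * (-AdjoinRoot.mk f f.divX) = AdjoinRoot.of f (f.coeff 0) := by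
      linear_combination -h1
    exact isUnit_of_mul_isUnit_left (h3 ▸ h2)
  obtain ⟨u, hu⟩ := hu
  have hpos := orderOf_pos u
  obtain ⟨s, m, hm, hsm⟩ := Nat.exists_eq_pow_mul_and_not_dvd hpos.ne' p hpp.out.ne_one
  refine ⟨m, by rwa [Ne, CharP.cast_eq_zero_iff F p], ?_⟩
  have h1 : f ∣ X ^ orderOf u - 1 := by
    rw [← AdjoinRoot.mk_eq_zero, map_sub, map_pow, AdjoinRoot.mk_X, ← hu, ← Units.val_pow_eq_pow_val,
      pow_orderOf_eq_one]
    simp
  rw [hsm, mul_comm, pow_mul] at h1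
  have h2 : ((X : F[X]) ^ m) ^ p ^ s - 1 = (X ^ m - 1) ^ p ^ s := by
    rw [sub_pow_char_pow, one_pow]
  rw [h2] at h1
  exact hsq.isRadical _ _ h1

theorem coe_pow_eq (z : V ≃ₗ[F] V) (m : ℕ) :
    ((z ^ m : V ≃ₗ[F] V) : V →ₗ[F] V) = (z : Module.End F V) ^ m := by
  induction m with
  | zero => rfl
  | succ m ih => rw [pow_succ, pow_succ, ← ih]; rfl

theorem exists_tv_of_pow [Finite F] {z : V ≃ₗ[F] V} (hz : z ∈ M) {lam : F} {f : F[X]}
    (hf : f.Monic) (hsq : Squarefree f) (h0 : f.coeff 0 ≠ 0) (hl : f.IsRoot lam) {φ : Dual F V}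
    {w : V} (hzf : ∀ v, aeval (z : Module.End F V) f v = φ v • w) (hw : z w = lam • w) :
    ∃ α : F, α ≠ 0 ∧ HasTv M φ (α • w) := by
  obtain ⟨m, hm, r, hr⟩ := exists_dvd_X_pow_sub_one hf hsq h0
  refine ⟨r.eval lam, fun h => ?_, z ^ m, M.pow_mem hz m, fun x => ?_⟩
  · have hsep : (X ^ m - C (1 : F)).Separable := separable_X_pow_sub_C 1 hm one_ne_zero
    have h1 : (X - C lam) * (X - C lam) ∣ X ^ m - C (1 : F) := by
      rw [C_1, hr]
      exact mul_dvd_mul (dvd_iff_isRoot.2 hl) (dvd_iff_isRoot.2 h)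
    exact not_isUnit_X_sub_C lam (hsep.squarefree _ h1)
  · have h1 : aeval (z : Module.End F V) (X ^ m - 1 : F[X]) x = (z ^ m) x - x := by
      simp [← coe_pow_eq]
    have h2 : aeval (z : Module.End F V) r w = r.eval lam • w :=
      Module.End.aeval_apply_of_mem_apply_eq_smul hw
    rw [hr, mul_comm, map_mul, Module.End.mul_apply, hzf, map_smul, h2] at h1
    rw [h1]; abel

/-! ### From one transvection to the full elation group -/

/-- Integral polynomials in `z / lam` generate all scalars modulo `g`. -/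
def ScalGen (lam : F) (g : F[X]) : Prop :=
  ∀ R : Subring F[X], C lam⁻¹ * X ∈ R → ∀ a : F, ∃ P ∈ R, g ∣ P - C a

theorem smul_mem_tvF {z : V ≃ₗ[F] V} (hz : z ∈ M) {lam : F} (hl : lam ≠ 0) {g : F[X]}
    (hgen : ScalGen lam g) {φ : Dual F V} {w : V}
    (hzf : ∀ v, aeval (z : Module.End F V) ((X - C lam) * g) v = φ v • w) (hw : z w = lam • w)
    {ψ : Dual F V} (hψ : ψ ∈ tvA M w) : ψ ∘ₗ (z.toLinearMap - lam • LinearMap.id) ∈ tvF M w := by
  let R : Subring F[X] :=
    { carrier := {P | ∀ χ ∈ tvA M w, χ ∘ₗ aeval (z : Module.End F V) P ∈ tvA M w}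
      mul_mem' := fun {a b} ha hb χ hχ => by
        rw [map_mul]; exact hb _ (ha χ hχ)
      one_mem' := fun χ hχ => by rw [map_one]; exact hχ
      add_mem' := fun {a b} ha hb χ hχ => by
        rw [map_add, LinearMap.comp_add]; exact add_mem (ha χ hχ) (hb χ hχ)
      zero_mem' := fun χ hχ => by simp
      neg_mem' := fun {a} ha χ hχ => by
        rw [map_neg, LinearMap.comp_neg]; exact neg_mem (ha χ hχ) }
  have hR : C lam⁻¹ * X ∈ R := fun χ hχ => by
    convert tvA_comp hχ hz hl hw using 1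
    ext x; simp
  intro c
  obtain ⟨P, hP, Q, hQ⟩ := hgen R hR (c * lam)
  have h1 := hP _ (R.sub_mem hR R.one_mem ψ hψ)
  convert h1 using 1
  have e : (C lam⁻¹ * X - 1) * P = C c * (X - C lam) + C lam⁻¹ * ((X - C lam) * g) * Q := by
    have h2 : P = C c * C lam + g * Q := by rw [← hQ, ← C_mul]; ring
    have h3 : C lam⁻¹ * C lam = (1 : F[X]) := by rw [← C_mul, inv_mul_cancel₀ hl, C_1]
    rw [h2]
    linear_combination (C c * X + g * Q) * h3
  rw [LinearMap.comp_assoc, ← Module.End.mul_eq_comp, ← map_mul, e]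
  ext x
  simp only [map_add, map_mul (aeval (z : Module.End F V)) _ Q,
    map_mul (aeval (z : Module.End F V)) (C lam⁻¹), LinearMap.comp_apply, LinearMap.add_apply,
    Module.End.mul_apply, hzf, aeval_C, Module.algebraMap_end_apply, map_smul, hψ.1]
  simp

theorem coann_ne_top {Φ : Submodule F (Dual F V)} {ψ : Dual F V} (h : ψ ∈ Φ) (h0 : ψ ≠ 0) :
    Φ.dualCoannihilator ≠ ⊤ := by
  intro ht
  apply h0
  ext x
  exact (Submodule.mem_dualCoannihilator x).1 (ht ▸ Submodule.mem_top) ψ h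

/-- One transvection with centre the socle and generating axis, all scalars available. -/
theorem elation_of_socle [FiniteDimensional F V] {U : V ≃ₗ[F] V} (hU : U ∈ M)
    (hN : IsNilpotent (U.toLinearMap - 1 : Module.End F V)) {e0 e1 : V}
    (hker : ∀ x, U x = x → x ∈ Submodule.span F {e0}) (h0 : U e0 = e0) (h1 : U e1 = e1 + e0)
    {ψ : Dual F V} (hψ : ψ ∈ tvF M e0) (hψ1 : ψ e1 ≠ 0) : e0 ∈ elations M := by
  apply mem_elations_of_coann
  by_contra hc
  have hst := coann_stable (Φ := tvF M e0) (g := U.toLinearMap)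
    fun χ hχ => tvF_comp hχ hU one_ne_zero (by simpa using h0)
  have := (mem_of_stable1 hN (e0 := e0) (e1 := e1) (fun x hx => hker x (by
    simpa [sub_eq_zero] using hx)) (by simp [h1]) (fun x hx => by
      simpa using Submodule.sub_mem _ (hst x hx) hx) hc).2
  exact hψ1 ((Submodule.mem_dualCoannihilator _).1 this ψ hψ)

theorem elation_of_plane [Finite F] [FiniteDimensional F V] {U z : V ≃ₗ[F] V} (hU : U ∈ M)
    (hz : z ∈ M) (hN : IsNilpotent (U.toLinearMap - 1 : Module.End F V)) {e0 e1 : V}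
    (hker : ∀ x, U x = x → x ∈ Submodule.span F {e0}) (h0 : U e0 = e0) (h1 : U e1 = e1 + e0)
    (he0 : e0 ≠ 0)
    (hirr : ∀ W : Submodule F V, (∀ x ∈ W, U x ∈ W) → (∀ x ∈ W, z x ∈ W) → W = ⊥ ∨ W = ⊤)
    (hdim : Submodule.span F {e0, e1} ≠ ⊤) {lam c α : F} {g : F[X]} {φ : Dual F V} {w : V}
    (hwe : w = e0 + c • e1) (hc : c ≠ 0) (hφ : φ e0 ≠ 0) (hφw : φ w = 0) (hα : α ≠ 0)
    (hT : HasTv M φ (α • w)) (hl : lam ≠ 0) (hgen : ScalGen lam g)
    (hzf : ∀ v, aeval (z : Module.End F V) ((X - C lam) * g) v = φ v • w) (hw : z w = lam • w) :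
    w ≠ 0 ∧ w ∈ elations M := by
  have hind : ∀ a b : F, a • e0 + b • w = 0 → a = 0 ∧ b = 0 := by
    intro a b hab
    have h2 : U (a • e0 + b • w) = a • e0 + b • w + (b * c) • e0 := by
      simp only [hwe, map_add, map_smul, h0, h1]; module
    rw [hab, map_zero, zero_add, eq_comm, smul_eq_zero, mul_eq_zero] at h2
    have hb : b = 0 := by tauto
    subst hb
    simpa [he0] using hab
  have hw0 : w ≠ 0 := fun h => one_ne_zero (hind 0 1 (by simp [h])).2
  refine ⟨hw0, ?_⟩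
  let S : Subgroup (V ≃ₗ[F] V) :=
    M ⊓ ⨅ (W : Submodule F V) (_ : (∀ x ∈ W, U x ∈ W) ∧ e0 ∈ W ∧ e1 ∈ W), stab W
  obtain ⟨T, hTM, hTe⟩ := id hT
  have hS : ∀ y, y ∈ S ↔ y ∈ M ∧ ∀ W : Submodule F V,
      ((∀ x ∈ W, U x ∈ W) ∧ e0 ∈ W ∧ e1 ∈ W) → y ∈ stab W := fun y => by
    simp only [S, Subgroup.mem_inf, Subgroup.mem_iInf]
  have hUS : U ∈ S := (hS U).2 ⟨hU, fun W hW => mem_stab_of_mapsTo hW.1⟩
  have hTS : T ∈ S := (hS T).2 ⟨hTM, by
    refine fun W hW => mem_stab_of_mapsTo fun x hx => ?_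
    rw [hTe, hwe]
    exact W.add_mem hx (W.smul_mem _ (W.smul_mem _ (W.add_mem hW.2.1 (W.smul_mem _ hW.2.2))))⟩
  obtain ⟨s, hs, δ, hδ, hse⟩ := exists_move_plane hUS hTS (u := e0) (w := w) (α := c)
    (β := φ e0 * α) hc (mul_ne_zero hφ hα) h0
    (by simp only [hwe, map_add, map_smul, h0, h1]; module) (by simp [hTe, hφw])
    (by rw [hTe, smul_smul]) hind
  have hU'M : s * U * s⁻¹ ∈ M := M.mul_mem (M.mul_mem hs.1 hU) (M.inv_mem hs.1)
  have hsw : s⁻¹ w = δ⁻¹ • e0 := by
    apply s.injective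
    rw [app_inv_app, map_smul, hse, smul_smul, inv_mul_cancel₀ hδ, one_smul]
  have hU'w : (s * U * s⁻¹) w = (1 : F) • w := by
    rw [mul_app, mul_app, hsw, map_smul, h0, ← hsw, app_inv_app, one_smul]
  have key : ∀ W : Submodule F V, w ∈ W → (∀ x ∈ W, (s * U * s⁻¹) x ∈ W) → (∀ x ∈ W, z x ∈ W) →
      W ≠ ⊤ → W ≤ Submodule.span F {w} := by
    intro W hwW h2 h3 h4
    let W1 := W.comap s.toLinearMap
    have h5 : ∀ x ∈ W1, U x ∈ W1 := fun x hx => by
      have := h2 _ hx
      simpa [mul_app, W1] using this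
    by_cases h6 : W1 ≤ Submodule.span F {e0}
    · intro x hx
      obtain ⟨a, ha⟩ := Submodule.mem_span_singleton.1 (h6 (show s⁻¹ x ∈ W1 by simpa [W1] using hx))
      have : x = (a * δ) • w := by
        rw [mul_smul, ← hse, ← map_smul, ha, app_inv_app]
      exact this ▸ Submodule.smul_mem _ _ (Submodule.mem_span_singleton_self w)
    · have h7 := mem_of_stable1 hN (e0 := e0) (e1 := e1) (fun x hx => hker x (by
        simpa [sub_eq_zero] using hx)) (by simp [h1]) (W := W1) (fun x hx => by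
          simpa using Submodule.sub_mem _ (h5 x hx) hx) h6
      have h8 : s ∈ stab W1 := ((hS s).1 hs).2 W1 ⟨h5, h7⟩
      have h9 : W = W1 := by
        ext x
        rw [mem_stab.1 (inv_mem h8) x]
        simp [W1]
      rcases hirr W (h9 ▸ h5) h3 with h | h
      · exact absurd (h ▸ hwW) (by simpa using hw0)
      · exact absurd h h4
  have hφA : α • φ ∈ tvA M w := ⟨by simp [hφw], (hasTv_smul_iff α).2 hT⟩
  have hφ0 : α • φ ≠ 0 := fun h => by
    have := congrArg (fun χ : Dual F V => χ e0) h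
    simp [hα, hφ] at this
  let Φ : Submodule F (Dual F V) := Submodule.span F (tvA M w)
  have hΦ : ∀ g ∈ M, ∀ a : F, a ≠ 0 → g w = a • w → ∀ ψ ∈ Φ, ψ ∘ₗ g.toLinearMap ∈ Φ := by
    intro g hg a ha hgw ψ hψ
    induction hψ using Submodule.span_induction with
    | mem χ hχ =>
      have := Φ.smul_mem a (Submodule.subset_span (tvA_comp hχ hg ha hgw))
      rwa [smul_smul, mul_inv_cancel₀ ha, one_smul] at this
    | zero => simp
    | add a b _ _ ha hb => rw [LinearMap.add_comp]; exact Φ.add_mem ha hb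
    | smul a b _ hb => rw [LinearMap.smul_comp]; exact Φ.smul_mem _ hb
  have hΦw : Φ.dualCoannihilator ≤ Submodule.span F {w} := by
    refine key _ ?_ (coann_stable (hΦ _ hU'M 1 one_ne_zero hU'w))
      (coann_stable (hΦ _ hz lam hl hw)) (coann_ne_top (Submodule.subset_span hφA) hφ0)
    rw [Submodule.mem_dualCoannihilator]
    intro ψ hψ
    induction hψ using Submodule.span_induction with
    | mem χ hχ => exact hχ.1
    | zero => simp
    | add a b _ _ ha hb => simp [ha, hb]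
    | smul a b _ hb => simp [hb]
  have hex : ∃ ψ ∈ tvA M w, ψ ∘ₗ (z.toLinearMap - lam • LinearMap.id) ≠ 0 := by
    by_contra hcon
    push Not at hcon
    have h2 : ∀ x, z x - lam • x ∈ Submodule.span F {w} := fun x => hΦw (by
      rw [Submodule.mem_dualCoannihilator]
      intro ψ hψ
      induction hψ using Submodule.span_induction with
      | mem χ hχ => simpa using congrArg (fun χ : Dual F V => χ x) (hcon χ hχ)
      | zero => simp
      | add a b _ _ ha hb => rw [LinearMap.add_apply, ha, hb, add_zero]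
      | smul a b _ hb => rw [LinearMap.smul_apply, hb, smul_zero])
    have m0 : e0 ∈ Submodule.span F ({e0, e1} : Set V) := Submodule.subset_span (by simp)
    have m1 : e1 ∈ Submodule.span F ({e0, e1} : Set V) := Submodule.subset_span (by simp)
    have h3 : Submodule.span F {w} ≤ Submodule.span F ({e0, e1} : Set V) := by
      rw [Submodule.span_singleton_le_iff_mem, hwe]
      exact Submodule.add_mem _ m0 (Submodule.smul_mem _ _ m1)
    rcases hirr (Submodule.span F {e0, e1}) (fun x hx => by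
      obtain ⟨a, b, rfl⟩ := Submodule.mem_span_pair.1 hx
      rw [map_add, map_smul, map_smul, h0, h1]
      exact Submodule.add_mem _ (Submodule.smul_mem _ _ m0)
        (Submodule.smul_mem _ _ (Submodule.add_mem _ m1 m0))) (fun x hx => by
      have := Submodule.add_mem _ (h3 (h2 x)) (Submodule.smul_mem _ lam hx)
      simpa using this) with h | h
    · exact he0 (by simpa [h] using m0)
    · exact hdim h
  obtain ⟨ψ, hψ, hψ0⟩ := hex
  apply mem_elations_of_coann
  refine key _ ?_ (coann_stable fun χ hχ => tvF_comp hχ hU'M one_ne_zero hU'w)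
    (coann_stable fun χ hχ => tvF_comp hχ hz hl hw)
    (coann_ne_top (smul_mem_tvF hz hl hgen hzf hw hψ) hψ0)
  rw [Submodule.mem_dualCoannihilator]
  intro χ hχ
  simpa using (hχ 1).1

theorem elation_of_edge [FiniteDimensional F V] {U z : V ≃ₗ[F] V} (hU : U ∈ M) (hz : z ∈ M)
    (hirr : ∀ W : Submodule F V, (∀ x ∈ W, U x ∈ W) → (∀ x ∈ W, z x ∈ W) → W = ⊥ ∨ W = ⊤)
    {lam mu α : F} {φ ψ : Dual F V} {w : V} (hw0 : w ≠ 0) (hφw : φ w = 0)
    (hα : α ≠ 0) (hT : HasTv M φ (α • w)) (hl : lam ≠ 0) (hgen : ScalGen lam (X - C mu))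
    (hzf : ∀ v, aeval (z : Module.End F V) ((X - C lam) * (X - C mu)) v = φ v • w)
    (hw : z w = lam • w) (hφz : ∀ x, φ (z x) = lam * φ x) (h1 : φ (U w) = 0)
    (h2 : φ (U⁻¹ w) ≠ 0)
    (H1 : ∀ χ : Dual F V, (∀ x, χ (z x) = lam * χ x) → ∃ c : F, χ = c • φ)
    (H2 : ∀ χ : Dual F V, (∀ x, χ (z x) = mu * χ x) → ∃ c : F, χ = c • ψ)
    (H3 : ∀ v, z v = lam • v → ∃ c : F, v = c • w) (H4 : ∀ v, z v = mu • v → ψ v = 0 → v = 0)
    (H5 : ∀ x, φ x = 0 → ψ x = 0 → x ∈ Submodule.span F {w}) : w ∈ elations M := by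
  have hzf' : ∀ v, z (z v - mu • v) - lam • (z v - mu • v) = φ v • w := fun v => by
    rw [← hzf]; simp
  have hφ0 : φ ≠ 0 := by rintro rfl; simp at h2
  have hκ : α * φ (U⁻¹ w) * α ≠ 0 := mul_ne_zero (mul_ne_zero hα h2) hα
  have hA : (α * φ (U⁻¹ w) * α) • φ ∘ₗ U.toLinearMap ∈ tvA M w := by
    refine ⟨by simp [h1], (hasTv_smul_iff _).2 ?_⟩
    have t1 := hT.conj (M.inv_mem hU)
    rw [inv_inv] at t1
    have := hT.comm (by simp [hφw]) (by simp [hφw]) (by simp [h1]) t1
    simpa [smul_smul] using this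
  have hF := smul_mem_tvF hz hl hgen hzf hw hA
  set χ := ((α * φ (U⁻¹ w) * α) • φ ∘ₗ U.toLinearMap) ∘ₗ (z.toLinearMap - lam • LinearMap.id)
    with hχ
  have hχ0 : χ ≠ 0 := by
    intro h
    obtain ⟨c, hc⟩ := H1 (φ ∘ₗ U.toLinearMap) fun x => by
      have := congrArg (fun χ : Dual F V => χ x) h
      simp only [hχ, LinearMap.comp_apply, LinearMap.smul_apply, LinearMap.sub_apply, map_sub,
        LinearMap.id_apply, map_smul, smul_eq_mul, LinearMap.zero_apply, LinearEquiv.coe_coe]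
        at this ⊢
      apply mul_left_cancel₀ hκ
      linear_combination this
    rcases hirr (LinearMap.ker φ) (fun x hx => by
      have := congrArg (fun χ : Dual F V => χ x) hc
      rw [LinearMap.mem_ker] at hx ⊢
      simpa [hx] using this) (fun x hx => by
      rw [LinearMap.mem_ker] at hx ⊢
      rw [hφz, hx, mul_zero]) with h | h
    · exact hw0 (by simpa [h] using (LinearMap.mem_ker.2 hφw))
    · exact hφ0 (LinearMap.ker_eq_top.1 h)
  obtain ⟨c, hc⟩ := H2 χ fun x => by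
    have := congrArg (fun y => φ (U y)) (hzf' x)
    simp only [map_sub, map_smul, h1, smul_eq_mul, mul_zero] at this
    simp only [hχ, LinearMap.comp_apply, LinearMap.smul_apply, LinearMap.sub_apply, map_sub,
      LinearMap.id_apply, map_smul, smul_eq_mul, LinearEquiv.coe_coe]
    linear_combination (α * φ (U⁻¹ w) * α) * this
  have hc0 : c ≠ 0 := by rintro rfl; exact hχ0 (by simpa using hc)
  have hψ : ψ ∈ tvF M w := by
    have := (tvF M w).smul_mem c⁻¹ hF
    rwa [hc, smul_smul, inv_mul_cancel₀ hc0, one_smul] at this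
  have hψw : ψ w = 0 := by simpa using (hψ 1).1
  have hB : HasTv M φ ((α * φ (U⁻¹ w) * α) • U w) := by
    have t1 := hT.conj hU
    have := t1.comm (by simp [hφw]) (by simp [hφw]) (by simp [h1]) hT
    simpa [smul_smul] using this
  set v := (α * φ (U⁻¹ w) * α) • U w with hv
  have hφv : φ v = 0 := by simp [hv, h1]
  have hB' : HasTv M φ (lam⁻¹ • z v - v) := by
    have t1 := hB.conj hz
    have e : φ ∘ₗ (z⁻¹ : V ≃ₗ[F] V).toLinearMap = lam⁻¹ • φ := by
      ext x
      have := hφz (z⁻¹ x)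
      rw [app_inv_app] at this
      simp [this, hl]
    rw [e, hasTv_smul_iff] at t1
    rw [sub_eq_add_neg]
    exact t1.add_right (by simp [hφv]) (hB.neg_right hφv)
  have hψv : ψ (lam⁻¹ • z v - v) ≠ 0 := by
    intro h
    have h3 := H4 _ (by
      have := hzf' v
      rw [hφv, zero_smul] at this
      apply smul_right_injective V hl
      simp only [map_sub, map_smul, smul_sub, smul_smul, mul_inv_cancel₀ hl, one_smul] at this ⊢
      rw [show lam * (mu * lam⁻¹) = mu by field_simp]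
      linear_combination (norm := module) this) h
    obtain ⟨d, hd⟩ := H3 (U w) (by
      apply smul_right_injective V (mul_ne_zero (inv_ne_zero hl) hκ)
      rw [hv, map_smul, sub_eq_zero] at h3
      simp only [mul_smul lam⁻¹]
      rw [h3, smul_comm _ lam, smul_smul lam⁻¹, inv_mul_cancel₀ hl, one_smul])
    rcases hirr (Submodule.span F {w}) (fun x hx => by
      obtain ⟨a, rfl⟩ := Submodule.mem_span_singleton.1 hx
      rw [map_smul, hd]
      exact Submodule.smul_mem _ _ (Submodule.smul_mem _ _ (Submodule.mem_span_singleton_self w)))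
      (fun x hx => by
      obtain ⟨a, rfl⟩ := Submodule.mem_span_singleton.1 hx
      rw [map_smul, hw]
      exact Submodule.smul_mem _ _ (Submodule.smul_mem _ _ (Submodule.mem_span_singleton_self w)))
      with h | h
    · exact hw0 (by simpa using h)
    · obtain ⟨a, ha⟩ := Submodule.mem_span_singleton.1 (h ▸ Submodule.mem_top (x := U⁻¹ w))
      exact h2 (by rw [← ha]; simp [hφw])
  have hφF : φ ∈ tvF M w := fun a => ⟨by simp [hφw], (hasTv_smul_iff _).2 (by
    have := (hψ (a * (ψ (lam⁻¹ • z v - v))⁻¹)).2.comm (by simp [hψw])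
      (by simp [hφz, hφv]) hφw hB'
    rwa [LinearMap.smul_apply, smul_eq_mul, mul_assoc, inv_mul_cancel₀ hψv, mul_one] at this)⟩
  apply mem_elations_of_coann
  intro x hx
  rw [Submodule.mem_dualCoannihilator] at hx
  exact H5 x (hx φ hφF) (hx ψ hψ)

end Cfsg.Agent.KSG
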