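import Mathlib
import Cfsg.Agent.KSG.RegUni

/-!
Pairs of regular unipotent elements with opposite flags.
-/

set_option autoImplicit false

namespace Cfsg.Agent.KSG

open Module Polynomial Cfsg.Agent.Class.Max

variable {F V : Type*} [Field F] [AddCommGroup V] [Module F V]

/-- `SL_n(F)` is generated by two conjugate regular unipotent elements. -/
def TwoConj (n : ℕ) (F : Type*) [Field F] : Prop :=
  ∃ u g : Matrix.SpecialLinearGroup (Fin n) F, IsNilpotent ((u : Matrix (Fin n) (Fin n) F) - 1) ∧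
    ((u : Matrix (Fin n) (Fin n) F) - 1) ^ (n - 1) ≠ 0 ∧
    Subgroup.closure ({u, g * u * g⁻¹} : Set (Matrix.SpecialLinearGroup (Fin n) F)) = ⊤

theorem det_eq_one_of_nilp [FiniteDimensional F V] {U : V →ₗ[F] V}
    (h : IsNilpotent (U - 1 : Module.End F V)) : LinearMap.det U = 1 := by
  have h1 := (LinearMap.isNilpotent_iff_charpoly _).1 h.neg
  have h2 := LinearMap.eval_charpoly (-(U - 1 : Module.End F V)) 1
  rw [h1] at h2
  simpa using h2.symm

theorem twoConj_of {n : ℕ} (b : Basis (Fin n) F V) {U g : V ≃ₗ[F] V} (hg : g ∈ SLV F V)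
    (hN : IsNilpotent (U.toLinearMap - 1 : Module.End F V))
    (hN' : (U.toLinearMap - 1 : Module.End F V) ^ (n - 1) ≠ 0)
    (h : ∀ M : Subgroup (V ≃ₗ[F] V), U ∈ M → g * U * g⁻¹ ∈ M → SLV F V ≤ M) : TwoConj n F := by
  have := Module.Finite.of_basis b
  let e : Matrix.GeneralLinearGroup (Fin n) F ≃* (V ≃ₗ[F] V) :=
    (Matrix.GeneralLinearGroup.toLin' b).trans (LinearMap.GeneralLinearGroup.generalLinearEquiv F V)
  have he : ∀ (A : Matrix.GeneralLinearGroup (Fin n) F),
      (e A : V →ₗ[F] V) = Matrix.toLin b b (A : Matrix (Fin n) (Fin n) F) := by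
    intro A
    ext v
    have := Matrix.GeneralLinearGroup.toLin'_apply b A v
    rw [Matrix.toLin_apply]
    rw [Fintype.linearCombination_apply] at this
    exact this
  let Φ : Matrix.SpecialLinearGroup (Fin n) F →* (V ≃ₗ[F] V) :=
    e.toMonoidHom.comp Matrix.SpecialLinearGroup.toGL
  have hΦ : ∀ A, (Φ A : V →ₗ[F] V) = Matrix.toLin b b (A : Matrix (Fin n) (Fin n) F) :=
    fun A => he _
  have hinj : Function.Injective Φ :=
    e.injective.comp Matrix.SpecialLinearGroup.toGL_injective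
  have hsurj : ∀ x ∈ SLV F V, ∃ A, Φ A = x := by
    intro x hx
    obtain ⟨A, rfl⟩ := e.surjective x
    have hA : (A : Matrix (Fin n) (Fin n) F).det = 1 := by
      rw [mem_SLV, he, LinearMap.det_toLin] at hx
      exact hx
    exact ⟨⟨A, hA⟩, congrArg e (by ext; rfl)⟩
  obtain ⟨u, rfl⟩ := hsurj U (mem_SLV.2 (det_eq_one_of_nilp hN))
  obtain ⟨g, rfl⟩ := hsurj g hg
  have key : Matrix.toLinAlgEquiv b ((u : Matrix (Fin n) (Fin n) F) - 1) =
      (Φ u).toLinearMap - 1 := by
    rw [map_sub, map_one, hΦ]; rfl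
  refine ⟨u, g, ?_, fun h0 => hN' ?_, ?_⟩
  · rw [← key] at hN
    exact (IsNilpotent.map_iff (Matrix.toLinAlgEquiv b).injective).1 hN
  · rw [← key, ← map_pow, h0, map_zero]
  · rw [eq_top_iff]
    intro A _
    have := h ((Subgroup.closure {u, g * u * g⁻¹}).map Φ)
      ⟨u, Subgroup.subset_closure (by simp), rfl⟩
      ⟨g * u * g⁻¹, Subgroup.subset_closure (by simp), by simp⟩
      (show Φ A ∈ SLV F V by rw [mem_SLV, hΦ, LinearMap.det_toLin]; exact A.2)
    obtain ⟨B, hB, e⟩ := this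
    exact hinj e ▸ hB

theorem prod_prod_range (h : ℕ → F) (n : ℕ) :
    ∏ k ∈ Finset.range n, ∏ j ∈ Finset.range k, h j = ∏ j ∈ Finset.range n, h j ^ (n - 1 - j) := by
  induction n with
  | zero => simp
  | succ n ih =>
    rw [Finset.prod_range_succ, ih, Finset.prod_range_succ, ← Finset.prod_mul_distrib]
    simp only [add_tsub_cancel_right, tsub_self, pow_zero, mul_one]
    refine Finset.prod_congr rfl fun j hj => ?_
    rw [Finset.mem_range] at hj
    rw [← pow_succ]
    congr 1
    omega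

/-- Two unipotent maps with opposite flags. -/
structure OppPair (n : ℕ) (Q : ℕ → V) (b : Basis (Fin n) F V) (U L : V ≃ₗ[F] V) (l : ℕ → F) :
    Prop where
  pos : 0 < n
  hb : ∀ i : Fin n, b i = Q i
  hQn : Q n = 0
  hU : ∀ i < n, U (Q i) = Q i + Q (i + 1)
  hL0 : L (Q 0) = Q 0
  hL : ∀ i, i + 1 < n → L (Q (i + 1)) - Q (i + 1) - l (i + 1) • Q i ∈
    Submodule.span F (Q '' Set.Iio i)
  hl : ∀ i, 0 < i → i < n → l i ≠ 0

namespace OppPair

variable {n : ℕ} {Q : ℕ → V} {b : Basis (Fin n) F V} {U L : V ≃ₗ[F] V} {l : ℕ → F}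

theorem powU (h : OppPair n Q b U L l) (k i : ℕ) (hi : i + k ≤ n) :
    ((U.toLinearMap - 1 : Module.End F V) ^ k) (Q i) = Q (i + k) := by
  induction k with
  | zero => simp
  | succ k ih =>
    rw [pow_succ', Module.End.mul_apply, ih (by omega)]
    simp [h.hU (i + k) (by omega), add_assoc]

theorem nilpU (h : OppPair n Q b U L l) : IsNilpotent (U.toLinearMap - 1 : Module.End F V) := by
  refine ⟨n, b.ext fun i => ?_⟩
  have e : (U.toLinearMap - 1 : Module.End F V) ^ n =
      (U.toLinearMap - 1) ^ (i : ℕ) * (U.toLinearMap - 1) ^ (n - i) := by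
    rw [← pow_add]; congr 1; omega
  rw [h.hb, e, Module.End.mul_apply, h.powU _ _ (by omega),
    show (i : ℕ) + (n - i) = n by omega, h.hQn]
  simp

theorem Q_ne (h : OppPair n Q b U L l) {i : ℕ} (hi : i < n) : Q i ≠ 0 :=
  h.hb ⟨i, hi⟩ ▸ b.ne_zero _

theorem regU (h : OppPair n Q b U L l) : (U.toLinearMap - 1 : Module.End F V) ^ (n - 1) ≠ 0 := by
  intro h0
  have := h.powU (n - 1) 0 (by omega)
  rw [h0] at this
  exact h.Q_ne (i := 0 + (n - 1)) (by have := h.pos; omega) (by simpa using this.symm)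

theorem kerU (h : OppPair n Q b U L l) (x : V) (hx : U x = x) :
    x ∈ Submodule.span F {Q (n - 1)} := by
  have hn := h.pos
  have key : ∀ (j : ℕ) (hj : j + 1 < n), b.coord ⟨j + 1, hj⟩ ∘ₗ (U.toLinearMap - 1) =
      b.coord ⟨j, by omega⟩ := by
    intro j hj
    refine b.ext fun i => ?_
    have h1 := h.powU 1 i (by omega)
    rw [pow_one, ← h.hb] at h1
    rw [LinearMap.comp_apply, h1]
    by_cases hi : (i : ℕ) + 1 < n
    · rw [← h.hb ⟨i + 1, hi⟩]
      simp [Finsupp.single_apply, Fin.ext_iff]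
    · rw [show (i : ℕ) + 1 = n by omega, h.hQn]
      have : (i : ℕ) ≠ j := by omega
      simp [Fin.ext_iff, this]
  refine Submodule.mem_span_singleton.2 ⟨b.repr x ⟨n - 1, by omega⟩, b.ext_elem fun i => ?_⟩
  rw [← h.hb ⟨n - 1, by omega⟩]
  by_cases hi : (i : ℕ) + 1 < n
  · have := congrArg (fun f : V →ₗ[F] F => f x) (key i hi)
    simp only [LinearMap.comp_apply, LinearMap.sub_apply, LinearEquiv.coe_coe, hx,
      Module.End.one_apply, sub_self, map_zero, Basis.coord_apply, Fin.eta] at this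
    have h2 : n - 1 ≠ i := by omega
    simp [← this, Fin.ext_iff, h2]
  · have : i = ⟨n - 1, by omega⟩ := Fin.ext (by simp; omega)
    rw [← this]
    simp

theorem mapsD (h : OppPair n Q b U L l) {i : ℕ} (hi : i < n) {x : V}
    (hx : x ∈ Submodule.span F (Q '' Set.Iio (i + 1))) :
    L x - x ∈ Submodule.span F (Q '' Set.Iio i) := by
  induction hx using Submodule.span_induction with
  | mem y hy =>
    obtain ⟨j, hj, rfl⟩ := hy
    rw [Set.mem_Iio] at hj
    rcases j with _ | j
    · simp [h.hL0]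
    · have h1 := Submodule.span_mono (R := F) (Set.image_mono (f := Q)
        (Set.Iio_subset_Iio (show j ≤ i by omega))) (h.hL j (by omega))
      have h2 : l (j + 1) • Q j ∈ Submodule.span F (Q '' Set.Iio i) :=
        Submodule.smul_mem _ _ (Submodule.subset_span ⟨j, by simp; omega, rfl⟩)
      simpa using Submodule.add_mem _ h1 h2
  | zero => simp
  | add a c _ _ ha hc =>
    have := Submodule.add_mem _ ha hc
    convert this using 1
    rw [map_add]; abel
  | smul a c _ hc =>
    have := Submodule.smul_mem _ a hc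
    rwa [smul_sub, ← map_smul] at this

theorem powL (h : OppPair n Q b U L l) (k : ℕ) (hk : k < n) :
    ((L.toLinearMap - 1 : Module.End F V) ^ k) (Q (n - 1)) -
      (∏ j ∈ Finset.range k, l (n - 1 - j)) • Q (n - 1 - k) ∈
      Submodule.span F (Q '' Set.Iio (n - 1 - k)) := by
  induction k with
  | zero => simp
  | succ k ih =>
    have h1 := ih (by omega)
    obtain ⟨i, hi⟩ : ∃ i, n - 1 - k = i + 1 := ⟨n - 1 - (k + 1), by omega⟩
    rw [show n - 1 - (k + 1) = i by omega, Finset.prod_range_succ, pow_succ', Module.End.mul_apply,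
      hi]
    rw [hi] at h1
    have h2 := h.mapsD (by omega) h1
    have h3 := Submodule.smul_mem _ (∏ j ∈ Finset.range k, l (n - 1 - j)) (h.hL i (by omega))
    convert Submodule.add_mem _ h2 h3 using 1
    simp only [LinearMap.sub_apply, LinearEquiv.coe_coe, Module.End.one_apply, map_sub, map_smul]
    module

theorem repr_D (h : OppPair n Q b U L l) {i : ℕ} {j : Fin n} (hij : i ≤ j) {x : V}
    (hx : x ∈ Submodule.span F (Q '' Set.Iio i)) : b.repr x j = 0 := by
  induction hx using Submodule.span_induction with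
  | mem y hy =>
    obtain ⟨k, hk, rfl⟩ := hy
    rw [Set.mem_Iio] at hk
    rw [← h.hb ⟨k, by omega⟩]
    have : k ≠ j := by omega
    simp [Fin.ext_iff, this]
  | zero => simp
  | add a c _ _ ha hc => simp [ha, hc]
  | smul a c _ hc => simp [hc]

theorem det_chain (h : OppPair n Q b U L l) :
    b.det (fun k : Fin n => ((L.toLinearMap - 1 : Module.End F V) ^ (k : ℕ)) (Q (n - 1))) =
      ∏ i ∈ Finset.range n, (-l i) ^ i := by
  set c := fun k : Fin n => ((L.toLinearMap - 1 : Module.End F V) ^ (k : ℕ)) (Q (n - 1)) with hc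
  have h1 := Matrix.det_permute' Fin.revPerm (b.toMatrix c)
  have hent : ∀ i k : Fin n, k ≤ i → (b.toMatrix c).submatrix id Fin.revPerm i k =
      if i = k then ∏ j ∈ Finset.range (Fin.rev k), l (n - 1 - j) else 0 := by
    intro i k hki
    have h2 := h.powL (Fin.rev k) (Fin.rev k).2
    have h3 : n - 1 - (Fin.rev k : ℕ) = k := by rw [Fin.val_rev]; omega
    rw [h3, ← h.hb k] at h2
    have h4 := h.repr_D (j := i) hki h2
    simp only [map_sub, map_smul, Finsupp.sub_apply, Finsupp.smul_apply, Basis.repr_self,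
      Finsupp.single_apply, smul_eq_mul, sub_eq_zero] at h4
    simp only [Matrix.submatrix_apply, id, Basis.toMatrix_apply, Fin.revPerm_apply, hc, h4]
    by_cases e : i = k
    · simp [e]
    · simp [e, Ne.symm e]
  rw [Matrix.det_of_isUpperTriangular (fun i k hki => by
    rw [hent i k (le_of_lt hki)]; exact if_neg (ne_of_gt hki))] at h1
  simp only [hent _ _ le_rfl, if_true] at h1
  have h5 : ((Equiv.Perm.sign (Fin.revPerm : Equiv.Perm (Fin n)) : ℤ) : F) =
      ∏ k : Fin n, (-1) ^ (k : ℕ) := by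
    rw [Equiv.Perm.sign_eq_prod_prod_Iio]
    push_cast
    refine Finset.prod_congr rfl fun k _ => ?_
    rw [← Fin.card_Iio, ← Finset.prod_const]
    refine Finset.prod_congr rfl fun i hi => ?_
    rw [Finset.mem_Iio] at hi
    rw [if_neg (by simpa using hi.le)]
    simp
  have h6 : (∏ k : Fin n, (-1 : F) ^ (k : ℕ)) * ∏ k : Fin n, (-1 : F) ^ (k : ℕ) = 1 := by
    rw [← Finset.prod_mul_distrib]
    simp [← mul_pow]
  rw [h5] at h1
  have h7 := Equiv.prod_comp Fin.revPerm
    (fun k : Fin n => ∏ j ∈ Finset.range (k : ℕ), l (n - 1 - j))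
  simp only [Fin.revPerm_apply] at h7
  rw [Basis.det_apply, ← one_mul (Matrix.det _), ← h6, mul_assoc, ← h1, h7,
    ← Finset.prod_mul_distrib, Fin.prod_univ_eq_prod_range
      (fun k => (-1 : F) ^ k * ∏ j ∈ Finset.range k, l (n - 1 - j))]
  have h8 : ∀ k : ℕ, (-1 : F) ^ k * ∏ j ∈ Finset.range k, l (n - 1 - j) =
      ∏ j ∈ Finset.range k, -l (n - 1 - j) := fun k => by
    rw [Finset.prod_neg, Finset.card_range]
  simp only [h8]
  rw [prod_prod_range, Finset.prod_range_reflect (fun i => (-l i) ^ i)]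

theorem prod_ne (h : OppPair n Q b U L l) : ∏ i ∈ Finset.range n, (-l i) ^ i ≠ 0 := by
  rw [Finset.prod_ne_zero_iff]
  intro i hi
  rcases Nat.eq_zero_or_pos i with rfl | h0
  · simp
  · exact pow_ne_zero _ (neg_ne_zero.2 (h.hl i h0 (Finset.mem_range.1 hi)))

theorem exists_conj (h : OppPair n Q b U L l) {t : F} (ht : t ≠ 0) :
    ∃ g : V ≃ₗ[F] V, g * U * g⁻¹ = L ∧
      LinearMap.det g.toLinearMap = t ^ n * ∏ i ∈ Finset.range n, (-l i) ^ i ∧
      g (Q (n - 1)) ∈ Submodule.span F {Q 0} := by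
  have := Module.Finite.of_basis b
  have hn := h.pos
  let c : ℕ → V := fun k => t • ((L.toLinearMap - 1 : Module.End F V) ^ k) (Q (n - 1))
  let g0 : V →ₗ[F] V := b.constr F fun k : Fin n => c k
  have hg0 : ∀ k : Fin n, g0 (b k) = c k := fun k => by simp [g0]
  have hdet : LinearMap.det g0 = t ^ n * ∏ i ∈ Finset.range n, (-l i) ^ i := by
    have h1 := b.det_comp g0 b
    rw [b.det_self, mul_one] at h1
    rw [← h1, ← h.det_chain, show (g0 ∘ b) = fun k : Fin n => c k from funext hg0]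
    have := b.det.map_smul_univ (fun _ : Fin n => t)
      (fun k : Fin n => ((L.toLinearMap - 1 : Module.End F V) ^ (k : ℕ)) (Q (n - 1)))
    simpa using this
  have hunit : IsUnit (LinearMap.det g0) := by
    rw [hdet]; exact (mul_ne_zero (pow_ne_zero _ ht) h.prod_ne).isUnit
  let g : V ≃ₗ[F] V := LinearMap.equivOfIsUnitDet hunit
  have hg : ∀ x, g x = g0 x := fun x => LinearMap.equivOfIsUnitDet_apply hunit x
  have hlast : c (n - 1) ∈ Submodule.span F {Q 0} := by
    have h1 := h.powL (n - 1) (by omega)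
    rw [tsub_self, show Set.Iio 0 = (∅ : Set ℕ) by ext; simp, Set.image_empty, Submodule.span_empty,
      Submodule.mem_bot, sub_eq_zero] at h1
    simp only [c, h1]
    exact Submodule.smul_mem _ _ (Submodule.smul_mem _ _ (Submodule.mem_span_singleton_self _))
  have hc : ∀ k, L (c k) = c k + c (k + 1) := fun k => by
    simp only [c, pow_succ', Module.End.mul_apply, LinearMap.sub_apply, LinearEquiv.coe_coe,
      Module.End.one_apply, map_smul]
    module
  have hcn : c n = 0 := by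
    obtain ⟨a, ha⟩ := Submodule.mem_span_singleton.1 hlast
    have := hc (n - 1)
    rw [show n - 1 + 1 = n by omega, ← ha, map_smul, h.hL0] at this
    simpa using this
  have hgQ : ∀ k ≤ n, g (Q k) = c k := fun k hk => by
    rcases hk.lt_or_eq with hk | rfl
    · rw [hg, ← h.hb ⟨k, hk⟩, hg0]
    · rw [h.hQn, hcn, map_zero]
  refine ⟨g, ?_, ?_, by rw [hgQ _ (by omega)]; exact hlast⟩
  · rw [mul_inv_eq_iff_eq_mul]
    apply LinearEquiv.toLinearMap_injective
    refine b.ext fun k => ?_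
    simp only [LinearEquiv.coe_coe, mul_app, h.hb, h.hU k k.2, map_add]
    rw [hgQ _ k.2.le, hgQ _ k.2, hc]
  · rw [← hdet]; congr 1; ext x; exact hg x

theorem nilpL (h : OppPair n Q b U L l) : IsNilpotent (L.toLinearMap - 1 : Module.End F V) := by
  obtain ⟨g, hg, -, -⟩ := h.exists_conj one_ne_zero
  have := h.nilpU.map (g.conjAlgEquiv F)
  have e : (L.toLinearMap - 1 : Module.End F V) = g.conjAlgEquiv F (U.toLinearMap - 1) := by
    ext x
    simp [← hg, inv_app, LinearEquiv.conjAlgEquiv_apply]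
  rw [e]; exact this

theorem kerL (h : OppPair n Q b U L l) (x : V) (hx : L x = x) : x ∈ Submodule.span F {Q 0} := by
  obtain ⟨g, hg, -, h2⟩ := h.exists_conj one_ne_zero
  obtain ⟨a, ha⟩ := Submodule.mem_span_singleton.1 (h.kerU (g⁻¹ x) (by
    apply g.injective
    rw [app_inv_app, ← mul_app, ← mul_app, hg, hx]))
  have : x = a • g (Q (n - 1)) := by rw [← map_smul, ha, app_inv_app]
  exact this ▸ Submodule.smul_mem _ _ h2

theorem irr (h : OppPair n Q b U L l) (W : Submodule F V) (h1 : ∀ x ∈ W, U x ∈ W)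
    (h2 : ∀ x ∈ W, L x ∈ W) : W = ⊥ ∨ W = ⊤ := by
  by_cases h0 : W = ⊥
  · exact Or.inl h0
  right
  have h3 := mem_of_stable0 h.nilpL (e0 := Q 0) (fun x hx => h.kerL x (by
    simpa [sub_eq_zero] using hx)) (W := W) (fun x hx => by
      simpa using W.sub_mem (h2 x hx) hx) h0
  have h4 : ∀ k ≤ n, Q k ∈ W := fun k hk => by
    induction k with
    | zero => exact h3
    | succ k ih =>
      have := W.sub_mem (h1 _ (ih (by omega))) (ih (by omega))
      rwa [h.hU k (by omega), add_sub_cancel_left] at this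
  rw [eq_top_iff, ← b.span_eq, Submodule.span_le]
  rintro _ ⟨i, rfl⟩
  rw [h.hb]
  exact h4 i i.2.le

theorem irr' (h : OppPair n Q b U L l) (W : Submodule F V) (h1 : ∀ x ∈ W, U x ∈ W)
    (h2 : ∀ x ∈ W, (L * U) x ∈ W) : W = ⊥ ∨ W = ⊤ := by
  have := Module.Finite.of_basis b
  refine h.irr W h1 fun x hx => ?_
  have := h2 _ (stab_apply (inv_mem (mem_stab_of_mapsTo h1)) hx)
  simpa [mul_app] using this

theorem twoConj (h : OppPair n Q b U L l) {t : F} (ht : ∏ i ∈ Finset.range n, (-l i) ^ i = t ^ n)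
    (hM : ∀ M : Subgroup (V ≃ₗ[F] V), U ∈ M → L ∈ M → ∃ w, w ≠ 0 ∧ w ∈ elations M) :
    TwoConj n F := by
  have := Module.Finite.of_basis b
  have ht0 : t ≠ 0 := by
    rintro rfl
    exact h.prod_ne (by rw [ht, zero_pow h.pos.ne'])
  obtain ⟨g, hg, hdet, -⟩ := h.exists_conj (inv_ne_zero ht0)
  refine twoConj_of b (g := g) (mem_SLV.2 (by
    rw [hdet, ht, ← mul_pow, inv_mul_cancel₀ ht0, one_pow])) h.nilpU h.regU fun M h1 h2 => ?_
  rw [hg] at h2
  obtain ⟨w, hw0, hw⟩ := hM M h1 h2
  exact SLV_le_of_irr (fun W hW => h.irr W (hW U h1) (hW L h2)) hw0 hw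

end OppPair

end Cfsg.Agent.KSG
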