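import Mathlib
import Cfsg.Agent.KSG.RegPair

/-!
The polynomial model for a product of two opposite regular unipotent elements.
-/

set_option autoImplicit false

namespace Cfsg.Agent.KSG

open Module Polynomial Cfsg.Agent.Class.Max

variable {F : Type*} [Field F]

/-- A sequence of monic polynomials with constant terms `± 1`. -/
structure YSeq (n : ℕ) (Y : ℕ → F[X]) : Prop where
  pos : 0 < n
  monic : ∀ i ≤ n, (Y i).Monic
  deg : ∀ i ≤ n, (Y i).natDegree = i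
  c0 : ∀ i ≤ n, (Y i).coeff 0 = (-1) ^ i

/-- The subdiagonal entries. -/
def yl (Y : ℕ → F[X]) (i : ℕ) : F := (Y i).coeff (i - 1) - (Y (i + 1)).coeff i - 1

/-- The basis polynomials. -/
noncomputable def yQ (Y : ℕ → F[X]) (i : ℕ) : F[X] := (Y (i + 1) + Y i).divX

/-- The basis vectors. -/
noncomputable def yV (n : ℕ) (Y : ℕ → F[X]) (i : ℕ) : AdjoinRoot (Y n) :=
  if i < n then AdjoinRoot.mk _ (yQ Y i) else 0

theorem mk_mem_span {χ : F[X]} {n : ℕ} {p : ℕ → F[X]} {q : ℕ → AdjoinRoot χ}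
    (hq : ∀ j < n, q j = AdjoinRoot.mk χ (p j)) (h1 : ∀ j < n, (p j).coeff j = 1)
    (h2 : ∀ j < n, ∀ k, j < k → (p j).coeff k = 0) :
    ∀ i ≤ n, ∀ P : F[X], (∀ k, i ≤ k → P.coeff k = 0) →
      AdjoinRoot.mk χ P ∈ Submodule.span F (q '' Set.Iio i) := by
  intro i
  induction i with
  | zero =>
    intro _ P hP
    have : P = 0 := by ext k; simpa using hP k (by omega)
    simp [this]
  | succ i ih =>
    intro hi P hP
    have h3 := ih (by omega) (P - P.coeff i • p i) fun k hk => by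
      rcases hk.lt_or_eq with hk | rfl
      · simp [hP k hk, h2 i (by omega) k hk]
      · simp [h1 i (by omega)]
    have h4 := Submodule.span_mono (R := F) (Set.image_mono (f := q)
      (Set.Iio_subset_Iio (show i ≤ i + 1 by omega))) h3
    have h5 : P.coeff i • q i ∈ Submodule.span F (q '' Set.Iio (i + 1)) :=
      Submodule.smul_mem _ _ (Submodule.subset_span ⟨i, by simp, rfl⟩)
    have := Submodule.add_mem _ h4 h5
    rwa [hq i (by omega), AdjoinRoot.smul_mk, ← map_add, sub_add_cancel] at this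

theorem exists_basis_mk {χ : F[X]} (hχ : χ.Monic) {n : ℕ} (hn : χ.natDegree = n) {p : ℕ → F[X]}
    {q : ℕ → AdjoinRoot χ} (hq : ∀ j < n, q j = AdjoinRoot.mk χ (p j))
    (h1 : ∀ j < n, (p j).coeff j = 1) (h2 : ∀ j < n, ∀ k, j < k → (p j).coeff k = 0) :
    ∃ b : Basis (Fin n) F (AdjoinRoot χ), ∀ i : Fin n, b i = q i := by
  refine ⟨basisOfTopLeSpanOfCardEqFinrank (fun i : Fin n => q i) (fun x _ => ?_) ?_, fun i => by
    rw [coe_basisOfTopLeSpanOfCardEqFinrank]⟩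
  · obtain ⟨P, rfl⟩ := AdjoinRoot.mk_surjective x
    have e : AdjoinRoot.mk χ P = AdjoinRoot.mk χ (P %ₘ χ) := by
      rw [AdjoinRoot.mk_eq_mk]
      exact ⟨P /ₘ χ, by rw [sub_eq_iff_eq_add', modByMonic_add_div]⟩
    have := mk_mem_span hq h1 h2 n le_rfl (P %ₘ χ) fun k hk => by
      apply coeff_eq_zero_of_degree_lt
      refine (degree_modByMonic_lt P hχ).trans_le ?_
      rw [degree_eq_natDegree hχ.ne_zero, hn]
      exact_mod_cast hk
    rw [e]
    refine Submodule.span_mono ?_ this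
    rintro _ ⟨j, hj, rfl⟩
    exact ⟨⟨j, hj⟩, rfl⟩
  · rw [(AdjoinRoot.powerBasis' hχ).finrank, Fintype.card_fin, ← hn]; rfl

namespace YSeq

variable {n : ℕ} {Y : ℕ → F[X]}

theorem coeff_self (h : YSeq n Y) {i : ℕ} (hi : i ≤ n) : (Y i).coeff i = 1 := by
  have := (h.monic i hi).coeff_natDegree
  rwa [h.deg i hi] at this

theorem coeff_gt (h : YSeq n Y) {i k : ℕ} (hi : i ≤ n) (hk : i < k) : (Y i).coeff k = 0 :=
  coeff_eq_zero_of_natDegree_lt (by rwa [h.deg i hi])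

theorem X_mul (h : YSeq n Y) {i : ℕ} (hi : i < n) : X * yQ Y i = Y (i + 1) + Y i := by
  have := X_mul_divX_add (Y (i + 1) + Y i)
  rwa [coeff_add, h.c0 _ hi, h.c0 _ hi.le, pow_succ, show (-1 : F) ^ i * -1 + (-1) ^ i = 0 by ring,
    C_0, add_zero] at this

theorem yV_eq {i : ℕ} (hi : i < n) : yV n Y i = AdjoinRoot.mk _ (yQ Y i) := if_pos hi

theorem exists_pair (h : YSeq n Y) (hl : ∀ i, 0 < i → i < n → yl Y i ≠ 0) :
    ∃ (b : Basis (Fin n) F (AdjoinRoot (Y n))) (U L : AdjoinRoot (Y n) ≃ₗ[F] AdjoinRoot (Y n)),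
      OppPair n (yV n Y) b U L (yl Y) ∧ ∀ x, (L * U) x = AdjoinRoot.root (Y n) * x := by
  have hQ1 : ∀ j < n, (yQ Y j).coeff j = 1 := fun j hj => by
    rw [yQ, coeff_divX, coeff_add, h.coeff_self hj, h.coeff_gt hj.le (by omega), add_zero]
  have hQ2 : ∀ j < n, ∀ k, j < k → (yQ Y j).coeff k = 0 := fun j hj k hk => by
    rw [yQ, coeff_divX, coeff_add, h.coeff_gt hj (by omega), h.coeff_gt hj.le (by omega), add_zero]
  obtain ⟨b, hb⟩ := exists_basis_mk (h.monic n le_rfl) (h.deg n le_rfl) (q := yV n Y)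
    (fun j hj => yV_eq hj) hQ1 hQ2
  obtain ⟨b', hb'⟩ := exists_basis_mk (h.monic n le_rfl) (h.deg n le_rfl) (p := Y)
    (q := fun j => AdjoinRoot.mk _ (Y j)) (fun j hj => rfl) (fun j hj => h.coeff_self hj.le)
    (fun j hj k hk => h.coeff_gt hj.le hk)
  have := Module.Finite.of_basis b
  let L := b.equiv b' (Equiv.refl _)
  have hL : ∀ i ≤ n, L (yV n Y i) = AdjoinRoot.mk _ (Y i) := fun i hi => by
    rcases hi.lt_or_eq with hi | rfl
    · rw [← hb ⟨i, hi⟩, Basis.equiv_apply, Equiv.refl_apply, hb']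
    · simp [yV]
  have hu : IsUnit (AdjoinRoot.root (Y n)) := by
    have h1 : AdjoinRoot.mk (Y n) (X * (Y n).divX + C ((Y n).coeff 0)) = 0 := by
      rw [X_mul_divX_add, AdjoinRoot.mk_self]
    rw [map_add, map_mul, AdjoinRoot.mk_X, AdjoinRoot.mk_C] at h1
    have h2 : IsUnit (AdjoinRoot.of (Y n) ((Y n).coeff 0)) :=
      (IsUnit.mk0 _ (by rw [h.c0 n le_rfl]; simp)).map _
    have h3 : AdjoinRoot.root (Y n) * (-AdjoinRoot.mk (Y n) (Y n).divX) =
        AdjoinRoot.of (Y n) ((Y n).coeff 0) := by linear_combination -h1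
    exact isUnit_of_mul_isUnit_left (h3 ▸ h2)
  let z := LinearEquiv.ofInjectiveEndo (LinearMap.mulLeft F (AdjoinRoot.root (Y n)))
    hu.mul_right_injective
  have hz : ∀ x, z x = AdjoinRoot.root (Y n) * x := fun x => rfl
  refine ⟨b, L⁻¹ * z, L, ⟨h.pos, hb, by simp [yV], fun i hi => ?_, ?_, fun i hi => ?_, hl⟩,
    fun x => by rw [mul_inv_cancel_left, hz]⟩
  · apply L.injective
    rw [mul_app, app_inv_app, map_add, hL i hi.le, hL _ hi, hz, yV_eq hi, ← AdjoinRoot.mk_X,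
      ← map_mul, h.X_mul hi, map_add, add_comm]
  · rw [hL 0 (by omega), yV_eq h.pos]
    congr 1
    ext k
    rcases k with _ | k
    · rw [hQ1 0 h.pos, h.coeff_self (by omega)]
    · rw [hQ2 0 h.pos _ (by omega), h.coeff_gt (by omega) (by omega)]
  · rw [hL _ hi.le, yV_eq hi, yV_eq (show i < n by omega), AdjoinRoot.smul_mk, ← map_sub, ← map_sub]
    refine mk_mem_span (q := yV n Y) (fun j hj => yV_eq hj) hQ1 hQ2 i (by omega) _ fun k hk => ?_
    simp only [coeff_sub, coeff_smul, smul_eq_mul]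
    rcases hk.lt_or_eq with hk | rfl
    · rw [hQ2 i (by omega) k hk]
      rcases (show i + 1 ≤ k from hk).lt_or_eq with hk | rfl
      · rw [hQ2 _ hi k hk, h.coeff_gt hi.le hk]; ring
      · rw [hQ1 _ hi, h.coeff_self hi.le]; ring
    · rw [hQ1 i (by omega), yQ, coeff_divX, coeff_add, h.coeff_self hi.le, yl]
      simp only [add_tsub_cancel_right]
      ring

end YSeq

/-- Evaluation at a root as a linear functional. -/
noncomputable def evR (χ : F[X]) (a : F) (h : χ.IsRoot a) : Dual F (AdjoinRoot χ) :=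
  (AdjoinRoot.liftAlgHom χ (AlgHom.id F F) a (by simpa using h)).toLinearMap

theorem evR_mk {χ : F[X]} {a : F} (h : χ.IsRoot a) (P : F[X]) :
    evR χ a h (AdjoinRoot.mk χ P) = P.eval a := by
  simp [evR]

theorem aeval_mulRoot {χ : F[X]} {z : AdjoinRoot χ ≃ₗ[F] AdjoinRoot χ}
    (hz : ∀ x, z x = AdjoinRoot.root χ * x) (P : F[X]) (x : AdjoinRoot χ) :
    aeval (z : Module.End F (AdjoinRoot χ)) P x = AdjoinRoot.mk χ P * x := by
  have e : (z : Module.End F (AdjoinRoot χ)) = Algebra.lmul F _ (AdjoinRoot.root χ) := by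
    ext x; exact hz x
  rw [e, aeval_algHom_apply, AdjoinRoot.aeval_eq]; rfl

theorem mk_mul_eq {χ f : F[X]} {a : F} (e : χ = (X - C a) * f) (h : χ.IsRoot a)
    (x : AdjoinRoot χ) : AdjoinRoot.mk χ f * x = evR χ a h x • AdjoinRoot.mk χ f := by
  obtain ⟨P, rfl⟩ := AdjoinRoot.mk_surjective x
  rw [evR_mk, AdjoinRoot.smul_mk, ← map_mul, AdjoinRoot.mk_eq_mk]
  obtain ⟨R, hR⟩ := X_sub_C_dvd_sub_C_eval (p := P) (a := a)
  refine ⟨R, ?_⟩
  rw [e, smul_eq_C_mul]
  linear_combination f * hR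

theorem root_mul_mk {χ f : F[X]} {a : F} (e : χ = (X - C a) * f) :
    AdjoinRoot.root χ * AdjoinRoot.mk χ f = a • AdjoinRoot.mk χ f := by
  rw [AdjoinRoot.smul_mk, ← AdjoinRoot.mk_X, ← map_mul, AdjoinRoot.mk_eq_mk, smul_eq_C_mul]
  exact ⟨1, by rw [e]; ring⟩

theorem evR_root_mul {χ : F[X]} {a : F} (h : χ.IsRoot a) (x : AdjoinRoot χ) :
    evR χ a h (AdjoinRoot.root χ * x) = a * evR χ a h x := by
  obtain ⟨P, rfl⟩ := AdjoinRoot.mk_surjective x
  rw [← AdjoinRoot.mk_X, ← map_mul, evR_mk, evR_mk]; simp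

theorem eq_smul_evR {χ : F[X]} {a : F} (h : χ.IsRoot a) (ψ : Dual F (AdjoinRoot χ))
    (hψ : ∀ x, ψ (AdjoinRoot.root χ * x) = a * ψ x) : ψ = ψ 1 • evR χ a h := by
  ext x
  obtain ⟨P, rfl⟩ := AdjoinRoot.mk_surjective x
  obtain ⟨R, hR⟩ := X_sub_C_dvd_sub_C_eval (p := P) (a := a)
  have e : P = X * R - a • R + P.eval a • (1 : F[X]) := by
    rw [smul_eq_C_mul, smul_eq_C_mul]; linear_combination hR
  rw [LinearMap.smul_apply, evR_mk]
  conv_lhs => rw [e]
  rw [map_add, map_sub, map_mul, ← AdjoinRoot.smul_mk, ← AdjoinRoot.smul_mk, map_add, map_sub,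
    AdjoinRoot.mk_X, hψ, map_smul, map_smul, map_one]
  simp [mul_comm]

theorem eq_smul_mk {χ f : F[X]} {a : F} (e : χ = (X - C a) * f) (h : χ.IsRoot a)
    (x : AdjoinRoot χ) (hx : AdjoinRoot.root χ * x = a • x) :
    ∃ c : F, x = c • AdjoinRoot.mk χ f := by
  obtain ⟨P, rfl⟩ := AdjoinRoot.mk_surjective x
  rw [AdjoinRoot.smul_mk, ← AdjoinRoot.mk_X, ← map_mul, AdjoinRoot.mk_eq_mk, smul_eq_C_mul,
    ← sub_mul] at hx
  obtain ⟨R, hR⟩ := hx
  have : P = f * R := by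
    apply mul_left_cancel₀ (X_sub_C_ne_zero a)
    rw [hR, e]; ring
  exact ⟨_, by rw [this, map_mul, mk_mul_eq e h]⟩

end Cfsg.Agent.KSG
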