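import Mathlib
import Cfsg.Agent.KSG.RegModel

/-!
Families of pairs of conjugate regular unipotent elements generating `SL_n`.
-/

set_option autoImplicit false

namespace Cfsg.Agent.KSG

open Module Polynomial Cfsg.Agent.Class.Max

variable {F : Type*} [Field F]

theorem twoConj_plane [Finite F] {k : ℕ} (hk : 1 ≤ k) {Y : ℕ → F[X]} (h : YSeq (k + 2) Y)
    (hl : ∀ i, 0 < i → i < k + 2 → yl Y i ≠ 0) {t : F}
    (ht : ∏ i ∈ Finset.range (k + 2), (-yl Y i) ^ i = t ^ (k + 2)) {lam : F} {g : F[X]}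
    (h0 : lam ≠ 0) (h1 : lam ≠ 1) (hg : g.Monic) (hsq : Squarefree ((X - C lam) * g))
    (hgen : ScalGen lam g) (hY2 : Y (k + 2) = (X - C lam) * ((X - C lam) * g))
    (hY1 : Y (k + 1) = (X - C lam) * g - C ((lam - 1) / lam) * Y k)
    (hY0 : (Y k).eval lam ≠ 0) : TwoConj (k + 2) F := by
  obtain ⟨b, U, L, hp, hz⟩ := h.exists_pair hl
  have := Module.Finite.of_basis b
  refine hp.twoConj ht fun M hU hL => ⟨AdjoinRoot.mk _ ((X - C lam) * g), ?_⟩
  have hr : (Y (k + 2)).IsRoot lam := by simp [hY2]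
  have hzf : ∀ v, aeval ((L * U : _ ≃ₗ[F] _) : Module.End F _) ((X - C lam) * g) v =
      evR _ lam hr v • AdjoinRoot.mk _ ((X - C lam) * g) := fun v => by
    rw [aeval_mulRoot hz, mk_mul_eq hY2]
  have hw : (L * U) (AdjoinRoot.mk _ ((X - C lam) * g)) =
      lam • AdjoinRoot.mk _ ((X - C lam) * g) := by rw [hz, root_mul_mk hY2]
  have hf0 : ((X - C lam) * g).coeff 0 ≠ 0 := by
    intro e
    have := h.c0 (k + 2) le_rfl
    rw [hY2, mul_coeff_zero, e, mul_zero] at this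
    exact pow_ne_zero _ (neg_ne_zero.2 one_ne_zero) this.symm
  obtain ⟨α, hα, hT⟩ := exists_tv_of_pow (M.mul_mem hL hU) ((monic_X_sub_C lam).mul hg) hsq hf0
    (by simp) hzf hw
  have e1 := h.X_mul (i := k + 1) (by omega)
  have e0 := h.X_mul (i := k) (by omega)
  have hC : C ((lam - 1) / lam) * C lam = (C lam - 1 : F[X]) := by
    rw [← C_mul, div_mul_cancel₀ _ h0, C_sub, C_1]
  refine elation_of_plane hU (M.mul_mem hL hU) hp.nilpU (e0 := yV (k + 2) Y (k + 1))
    (e1 := yV (k + 2) Y k) hp.kerU (by simpa [hp.hQn] using hp.hU (k + 1) (by omega))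
    (hp.hU k (by omega)) (hp.Q_ne (by omega)) hp.irr' ?_ (c := lam - 1) ?_ (sub_ne_zero.2 h1) ?_
    (by rw [evR_mk]; simp) hα hT h0 hgen hzf hw
  · intro htop
    have : b ⟨0, by omega⟩ ∈ Submodule.span F {yV (k + 2) Y (k + 1), yV (k + 2) Y k} :=
      htop ▸ Submodule.mem_top
    obtain ⟨x, y, e⟩ := Submodule.mem_span_pair.1 this
    rw [← hp.hb ⟨k + 1, by omega⟩, ← hp.hb ⟨k, by omega⟩] at e
    have := congrArg (fun v => b.repr v ⟨0, by omega⟩) e
    have hk' : k ≠ 0 := by omega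
    simp [Fin.ext_iff, hk'] at this
  · rw [YSeq.yV_eq (by omega), YSeq.yV_eq (by omega), AdjoinRoot.smul_mk, ← map_add]
    congr 1
    apply mul_left_cancel₀ (X_ne_zero (R := F))
    rw [mul_add, mul_smul_comm, e1, e0, hY2, hY1, smul_eq_C_mul, C_sub, C_1]
    linear_combination (Y k) * hC
  · rw [YSeq.yV_eq (by omega), evR_mk]
    intro e
    have := congrArg (eval lam) e1
    rw [eval_mul, e, hY2, hY1] at this
    simp [h0, hY0, sub_eq_zero, h1] at this

/-- Extending a sequence by two more terms. -/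
noncomputable def yExt (k : ℕ) (Z : ℕ → F[X]) (P R : F[X]) (i : ℕ) : F[X] :=
  if i ≤ k then Z i else if i = k + 1 then P else R

theorem yExt_le {k i : ℕ} {Z : ℕ → F[X]} {P R : F[X]} (h : i ≤ k) : yExt k Z P R i = Z i :=
  if_pos h

theorem yExt_one {k : ℕ} {Z : ℕ → F[X]} {P R : F[X]} : yExt k Z P R (k + 1) = P := by
  simp [yExt]

theorem yExt_two {k : ℕ} {Z : ℕ → F[X]} {P R : F[X]} : yExt k Z P R (k + 2) = R := by
  simp [yExt]

theorem YSeq.ext2 {k : ℕ} {Z : ℕ → F[X]} (h : YSeq k Z) {P R : F[X]} (hP : P.Monic)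
    (hP1 : P.natDegree = k + 1) (hP0 : P.coeff 0 = (-1) ^ (k + 1)) (hR : R.Monic)
    (hR1 : R.natDegree = k + 2) (hR0 : R.coeff 0 = (-1) ^ (k + 2)) :
    YSeq (k + 2) (yExt k Z P R) := by
  have key : ∀ i ≤ k + 2, i ≤ k ∨ i = k + 1 ∨ i = k + 2 := fun i hi => by omega
  refine ⟨by omega, fun i hi => ?_, fun i hi => ?_, fun i hi => ?_⟩ <;>
    rcases key i hi with h1 | rfl | rfl
  · rw [yExt_le h1]; exact h.monic i h1
  · rwa [yExt_one]
  · rwa [yExt_two]
  · rw [yExt_le h1]; exact h.deg i h1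
  · rwa [yExt_one]
  · rwa [yExt_two]
  · rw [yExt_le h1]; exact h.c0 i h1
  · rwa [yExt_one]
  · rwa [yExt_two]

/-- Sequences with prescribed second coefficients. -/
noncomputable def zSeq (a β : ℕ → F) (i : ℕ) : F[X] :=
  if i = 0 then 1 else if i = 1 then X - 1 else
    X ^ i + (C (a i) * X ^ (i - 1) + C (β i) * X + C ((-1) ^ i))

theorem zSeq_two {a β : ℕ → F} {i : ℕ} (hi : 2 ≤ i) :
    zSeq a β i = X ^ i + (C (a i) * X ^ (i - 1) + C (β i) * X + C ((-1) ^ i)) := by
  rw [zSeq, if_neg (by omega), if_neg (by omega)]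

theorem zSeq_deg (a β : ℕ → F) {i : ℕ} (hi : 2 ≤ i) :
    (C (a i) * X ^ (i - 1) + C (β i) * X + C ((-1) ^ i) : F[X]).degree < i := by
  rw [degree_lt_iff_coeff_zero]
  intro m hm
  have h1 : m ≠ i - 1 := by omega
  have h2 : 1 ≠ m := by omega
  have h3 : m ≠ 0 := by omega
  simp only [coeff_add, coeff_C_mul, coeff_X_pow, if_neg h1, coeff_X, if_neg h2, coeff_C, if_neg h3]
  simp

theorem zSeq_ySeq (a β : ℕ → F) {k : ℕ} (hk : 0 < k) : YSeq k (zSeq a β) := by
  have key : ∀ i : ℕ, i = 0 ∨ i = 1 ∨ 2 ≤ i := fun i => by omega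
  refine ⟨hk, fun i _ => ?_, fun i _ => ?_, fun i _ => ?_⟩ <;> rcases key i with rfl | rfl | hi
  · simp [zSeq]
  · simpa [zSeq] using monic_X_sub_C (1 : F)
  · rw [zSeq_two hi]; exact monic_X_pow_add (zSeq_deg a β hi)
  · simp [zSeq]
  · simpa [zSeq] using natDegree_X_sub_C (x := (1 : F))
  · rw [zSeq_two hi, natDegree_add_eq_left_of_degree_lt (by
      rw [degree_X_pow]; exact zSeq_deg a β hi), natDegree_X_pow]
  · simp [zSeq]
  · simp [zSeq]
  · have h1 : 0 ≠ i - 1 := by omega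
    have h2 : 0 ≠ i := by omega
    rw [zSeq_two hi]
    simp only [coeff_add, coeff_C_mul, coeff_X_pow, if_neg h1, if_neg h2, coeff_X_zero, coeff_C_zero]
    simp

theorem zSeq_next {a β : ℕ → F} (ha : a 1 = -1) (hβ : β 2 = 0) {i : ℕ} (hi : 1 ≤ i) :
    (zSeq a β i).coeff (i - 1) = a i := by
  rcases hi.lt_or_eq with hi | rfl
  · have h1 : i - 1 ≠ i := by omega
    have h2 : i - 1 ≠ 0 := by omega
    rw [zSeq_two hi]
    simp only [coeff_add, coeff_C_mul, coeff_X_pow, if_neg h1, coeff_X, coeff_C, if_neg h2]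
    by_cases h3 : 1 = i - 1
    · obtain rfl : i = 2 := by omega
      simp [hβ]
    · simp [h3]
  · simp [zSeq, ha]

theorem coeff_lin_mul {a : F} {g : F[X]} {k : ℕ} (hk : 1 ≤ k) :
    ((X - C a) * g).coeff k = g.coeff (k - 1) - a * g.coeff k := by
  obtain ⟨k, rfl⟩ : ∃ j, k = j + 1 := ⟨k - 1, by omega⟩
  rw [sub_mul, coeff_sub, coeff_X_mul, coeff_C_mul, add_tsub_cancel_right]

theorem twoConj_param [Finite F] {k : ℕ} (hk : 2 ≤ k) {lam : F} {g : F[X]} (h0 : lam ≠ 0)
    (h1 : lam ≠ 1) (hg : g.Monic) (hgd : g.natDegree = k)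
    (hg0 : g.coeff 0 = (-1) ^ k * (lam ^ 2)⁻¹) (hsq : Squarefree ((X - C lam) * g))
    (hgen : ScalGen lam g) {l : ℕ → F} (hl : ∀ i, 0 < i → i ≤ k → l i ≠ 0)
    (hl1 : l (k + 1) = (lam - 1) ^ 2 / lam)
    (hsum : ∑ i ∈ Finset.Ico 1 (k + 1), l i = lam - lam⁻¹ - k - g.coeff (k - 1)) {t : F}
    (ht : ∏ i ∈ Finset.range (k + 2), (-l i) ^ i = t ^ (k + 2)) (h3 : 3 ≤ k ∨ l 1 ≠ l (k + 1)) :
    TwoConj (k + 2) F := by
  let a : ℕ → F := fun i => -1 - ∑ j ∈ Finset.Ico 1 i, (1 + l j)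
  have ha1 : a 1 = -1 := by simp [a]
  obtain ⟨β, hβ, hev⟩ : ∃ β : ℕ → F, β 2 = 0 ∧ (zSeq a β k).eval lam ≠ 0 := by
    by_cases hc : (zSeq a (fun _ => 0) k).eval lam = 0
    · rcases hk.lt_or_eq with hk3 | rfl
      · refine ⟨fun i => if i = k then 1 else 0, if_neg (by omega), ?_⟩
        rw [zSeq_two hk] at hc ⊢
        simp only [if_true, eval_add, eval_mul, eval_C, eval_X] at hc ⊢
        intro e
        exact h0 (by linear_combination e - hc)
      · exfalso
        refine (h3.resolve_left (by omega)) ?_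
        rw [zSeq_two le_rfl] at hc
        simp only [a, eval_add, eval_mul, eval_C, eval_X, eval_pow] at hc
        rw [hl1, eq_div_iff h0]
        simp at hc
        linear_combination -hc
    · exact ⟨fun _ => 0, rfl, hc⟩
  have hZ := zSeq_ySeq a β (k := k) (by omega)
  have hgk : g.coeff k = 1 := by rw [← hgd]; exact hg.coeff_natDegree
  have hf : ((X - C lam) * g).Monic := (monic_X_sub_C lam).mul hg
  have hfd : ((X - C lam) * g).natDegree = k + 1 := by
    rw [(monic_X_sub_C lam).natDegree_mul hg, natDegree_X_sub_C, hgd, add_comm]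
  have hfk : ((X - C lam) * g).coeff (k + 1) = 1 := by rw [← hfd]; exact hf.coeff_natDegree
  have hlt : (C ((lam - 1) / lam) * zSeq a β k).degree < ((X - C lam) * g).degree := by
    rw [degree_eq_natDegree hf.ne_zero, hfd, degree_lt_iff_coeff_zero]
    intro m hm
    rw [coeff_C_mul, hZ.coeff_gt le_rfl hm, mul_zero]
  have hY := hZ.ext2 (P := (X - C lam) * g - C ((lam - 1) / lam) * zSeq a β k)
    (R := (X - C lam) * ((X - C lam) * g)) (hf.sub_of_left hlt)
    (by rw [natDegree_eq_of_degree_eq (degree_sub_eq_left_of_degree_lt hlt)]; exact hfd)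
    (by
      rw [coeff_sub, coeff_C_mul, hZ.c0 k le_rfl, mul_coeff_zero, hg0]
      simp only [coeff_sub, coeff_X_zero, coeff_C_zero]
      field_simp; ring)
    ((monic_X_sub_C lam).mul hf)
    (by rw [(monic_X_sub_C lam).natDegree_mul hf, natDegree_X_sub_C, hfd]; omega)
    (by
      rw [mul_coeff_zero, mul_coeff_zero, hg0]
      simp only [coeff_sub, coeff_X_zero, coeff_C_zero]
      field_simp; ring)
  set Y := yExt k (zSeq a β) ((X - C lam) * g - C ((lam - 1) / lam) * zSeq a β k)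
    ((X - C lam) * ((X - C lam) * g)) with hYd
  have hyl : ∀ i, 0 < i → i < k + 2 → yl Y i = l i := by
    intro i hi hi2
    rcases (show i < k ∨ i = k ∨ i = k + 1 by omega) with h | rfl | rfl
    · have := zSeq_next ha1 hβ (i := i + 1) (by omega)
      rw [add_tsub_cancel_right] at this
      rw [yl, hYd, yExt_le h.le, yExt_le h, zSeq_next ha1 hβ hi, this]
      simp only [a, Finset.sum_Ico_succ_top hi]
      ring
    · rw [yl, hYd, yExt_le le_rfl, yExt_one, zSeq_next ha1 hβ hi, coeff_sub, coeff_C_mul,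
        hZ.coeff_self le_rfl, coeff_lin_mul hi, hgk]
      rw [Finset.sum_Ico_succ_top hi] at hsum
      simp only [a, Finset.sum_add_distrib, Finset.sum_const, Nat.card_Ico, nsmul_eq_mul,
        Nat.cast_sub hi]
      have : (lam - 1) / lam = 1 - lam⁻¹ := by field_simp
      rw [this]
      push_cast
      linear_combination -hsum
    · rw [yl, hYd, yExt_one, yExt_two, add_tsub_cancel_right, coeff_sub, coeff_C_mul,
        hZ.coeff_self le_rfl, coeff_lin_mul (k := k + 1) (by omega), add_tsub_cancel_right, hfk,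
        hl1]
      field_simp; ring
  refine twoConj_plane (by omega) hY (fun i hi hi2 => ?_) (t := t) ?_ h0 h1 hg hsq hgen yExt_two
    (by rw [hYd, yExt_one, yExt_le le_rfl]) (by rwa [hYd, yExt_le le_rfl])
  · rw [hyl i hi hi2]
    rcases (show i ≤ k ∨ i = k + 1 by omega) with h | rfl
    · exact hl i hi h
    · rw [hl1]; exact div_ne_zero (pow_ne_zero _ (sub_ne_zero.2 h1)) h0
  · rw [← ht]
    refine Finset.prod_congr rfl fun i hi => ?_
    rcases Nat.eq_zero_or_pos i with rfl | h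
    · simp
    · rw [hyl i h (Finset.mem_range.1 hi)]

end Cfsg.Agent.KSG
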