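import Mathlib
import Cfsg.Agent.KSG.RegUni

/-!
Finite field lemmas: ring generators, irreducible polynomials with prescribed norm.
-/

set_option autoImplicit false

namespace Cfsg.Agent.KSG

open Module Polynomial

theorem subring_data {K : Type*} [Field K] [Finite K] (R : Subring K) (hR : R ≠ ⊤) :
    ∃ a d : ℕ, 2 ≤ a ∧ 2 ≤ d ∧ Nat.card K = a ^ d ∧ ∀ x ∈ R, x ^ a = x := by
  have := Fintype.ofFinite K
  let S : Subfield K := R.toSubfield fun x hx => by
    by_cases h0 : x = 0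
    · simp [h0]
    · have h1 := FiniteField.pow_card_sub_one_eq_one x h0
      have h2 : Fintype.card K - 1 = Fintype.card K - 2 + 1 := by
        have := Fintype.one_lt_card (α := K); omega
      rw [h2, pow_succ] at h1
      rw [← eq_inv_of_mul_eq_one_left h1]
      exact R.pow_mem hx _
  have := Fintype.ofFinite S
  refine ⟨Nat.card S, finrank S K, Finite.one_lt_card, ?_, Module.natCard_eq_pow_finrank,
    fun x hx => ?_⟩
  · by_contra h
    have h1 : finrank S K = 1 := by have := Module.finrank_pos (R := S) (M := K); omega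
    have h2 := Module.natCard_eq_pow_finrank (K := S) (V := K)
    rw [h1, pow_one] at h2
    have h3 : (S : Set K) = Set.univ := Set.eq_of_subset_of_ncard_le (Set.subset_univ _) (by
      rw [Set.ncard_univ, h2]; rfl)
    exact hR (eq_top_iff.2 fun x _ => show x ∈ (S : Set K) by rw [h3]; trivial)
  · have := FiniteField.pow_card (⟨x, hx⟩ : S)
    rw [Nat.card_eq_fintype_card]
    exact congrArg Subtype.val this

theorem closure_eq_top_of_order {K : Type*} [Field K] [Finite K] {x : Kˣ}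
    (h : Nat.card K < (orderOf x + 1) ^ 2) : Subring.closure {(x : K)} = ⊤ := by
  by_contra hc
  obtain ⟨a, d, ha, hd, h1, h2⟩ := subring_data _ hc
  have h3 := h2 x (Subring.subset_closure rfl)
  have h4 : x ^ (a - 1) = 1 := by
    apply Units.ext
    apply mul_right_cancel₀ x.ne_zero
    rw [Units.val_pow_eq_pow_val, ← pow_succ, show a - 1 + 1 = a by omega, h3]; simp
  have h5 := Nat.le_of_dvd (by omega) (orderOf_dvd_of_pow_eq_one h4)
  have h6 : a ^ 2 ≤ a ^ d := Nat.pow_le_pow_right (by omega) hd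
  have h7 : (orderOf x + 1) ^ 2 ≤ a ^ 2 := Nat.pow_le_pow_left (by omega) 2
  omega

theorem order_pow_bound {G : Type*} [Group G] [Finite G] (θ : G) {j : ℕ} (hj : 0 < j) :
    orderOf θ ≤ orderOf (θ ^ j) * j := by
  refine Nat.le_of_dvd (Nat.mul_pos (orderOf_pos _) hj) (orderOf_dvd_of_pow_eq_one ?_)
  rw [mul_comm, pow_mul, pow_orderOf_eq_one]

variable {F : Type*} [Field F]

theorem scalGen_of_closure {lam : F} {g : F[X]} {s : Set F} (hs : Subring.closure s = ⊤)
    (h : ∀ R : Subring F[X], C lam⁻¹ * X ∈ R → ∀ a ∈ s, ∃ P ∈ R, g ∣ P - C a) :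
    ScalGen lam g := by
  intro R hR a
  have ha : a ∈ Subring.closure s := hs ▸ Subring.mem_top a
  induction ha using Subring.closure_induction with
  | mem x hx => exact h R hR x hx
  | zero => exact ⟨0, R.zero_mem, by simp⟩
  | one => exact ⟨1, R.one_mem, by simp⟩
  | add x y _ _ hx hy =>
    obtain ⟨P, hP, h1⟩ := hx
    obtain ⟨Q, hQ, h2⟩ := hy
    exact ⟨P + Q, R.add_mem hP hQ, by convert dvd_add h1 h2 using 1; rw [C_add]; ring⟩
  | neg x _ hx =>
    obtain ⟨P, hP, h1⟩ := hx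
    exact ⟨-P, R.neg_mem hP, by convert h1.neg_right using 1; rw [C_neg]; ring⟩
  | mul x y _ _ hx hy =>
    obtain ⟨P, hP, h1⟩ := hx
    obtain ⟨Q, hQ, h2⟩ := hy
    exact ⟨P * Q, R.mul_mem hP hQ, by
      convert dvd_add (h1.mul_right Q) (h2.mul_left (C x)) using 1; rw [C_mul]; ring⟩

theorem exists_irred_norm [Finite F] {k : ℕ} (hk : 2 ≤ k) {lam : F} (h0 : lam ≠ 0) :
    ∃ g : F[X], g.Monic ∧ g.natDegree = k ∧ g.coeff 0 = (-1) ^ k * (lam ^ 2)⁻¹ ∧
      Squarefree ((X - C lam) * g) ∧ ScalGen lam g := by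
  obtain ⟨p, hp⟩ := CharP.exists F
  have hpp : Fact p.Prime := ⟨CharP.char_is_prime F p⟩
  have : NeZero k := ⟨by omega⟩
  let K := FiniteField.Extension F p k
  have hK : Nat.card K = Nat.card F ^ k := FiniteField.natCard_extension F p k
  have hfr : finrank F K = k := FiniteField.finrank_extension F p k
  obtain ⟨θ, hθ⟩ := IsCyclic.exists_generator (α := Kˣ)
  have hq : 2 ≤ Nat.card F := Finite.one_lt_card
  obtain ⟨y, hy⟩ := FiniteField.unitsMap_norm_surjective F K
    (Units.mk0 ((lam ^ (k + 2))⁻¹) (inv_ne_zero (pow_ne_zero _ h0)))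
  obtain ⟨i, rfl⟩ := (mem_powers_iff_mem_zpowers.2 (hθ y))
  set ν := Units.map (Algebra.norm F (S := K)) θ with hν
  have hν1 : ν ^ (Nat.card F - 1) = 1 := by rw [← Nat.card_units, pow_card_eq_one']
  obtain ⟨j, hj0, hj1, hj⟩ : ∃ j, 0 < j ∧ j ≤ Nat.card F - 1 ∧ ν ^ j = ν ^ i := by
    have e : ν ^ (i % (Nat.card F - 1)) = ν ^ i := (pow_eq_pow_mod i hν1).symm
    rcases Nat.eq_zero_or_pos (i % (Nat.card F - 1)) with h | h
    · exact ⟨Nat.card F - 1, by omega, le_rfl, by rw [hν1, ← e, h, pow_zero]⟩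
    · exact ⟨_, h, (Nat.mod_lt _ (by omega)).le, e⟩
  have hρ : Subring.closure {((θ ^ j : Kˣ) : K)} = ⊤ := by
    apply closure_eq_top_of_order
    have h1 := order_pow_bound θ hj0
    rw [orderOf_eq_card_of_forall_mem_zpowers hθ, Nat.card_units] at h1
    set o := orderOf (θ ^ j)
    set q := Nat.card F
    have h2 : q ^ 2 ≤ Nat.card K := hK ▸ Nat.pow_le_pow_right (by omega) hk
    set Q := Nat.card K
    by_contra hc
    push Not at hc
    have h3 : ((o + 1) * q) ^ 2 ≤ Q ^ 2 := by rw [mul_pow, sq Q]; exact Nat.mul_le_mul hc h2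
    have h4 : (o + 1) * q ≤ Q := (Nat.pow_le_pow_iff_left (by omega)).1 h3
    have h5 : o * j ≤ o * (q - 1) := Nat.mul_le_mul_left _ hj1
    obtain ⟨q', hq'⟩ : ∃ q', q = q' + 1 := ⟨q - 1, by omega⟩
    rw [hq'] at h4 h5 hq
    rw [add_tsub_cancel_right] at h5
    have : (o + 1) * (q' + 1) = o * q' + o + q' + 1 := by ring
    omega
  have hNρ : Algebra.norm F ((θ ^ j : Kˣ) : K) = (lam ^ (k + 2))⁻¹ := by
    have := congrArg Units.val (hj.trans ((map_pow _ θ i).symm.trans hy))
    rw [hν, ← map_pow] at this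
    exact this
  set ρ : K := ((θ ^ j : Kˣ) : K)
  let ζ : K := algebraMap F K lam * ρ
  have hρζ : aeval ζ (C lam⁻¹ * X) = ρ := by
    simp only [ζ, map_mul, aeval_C, aeval_X]
    rw [← mul_assoc, ← map_mul, inv_mul_cancel₀ h0, map_one, one_mul]
  have hall : ∀ R : Subring F[X], C lam⁻¹ * X ∈ R → ∀ x : K, ∃ P ∈ R, aeval ζ P = x := by
    intro R hR x
    have : x ∈ R.map (aeval ζ : F[X] →ₐ[F] K).toRingHom := by
      have hx : x ∈ Subring.closure {ρ} := hρ ▸ Subring.mem_top x
      refine Subring.closure_le.2 ?_ hx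
      rintro _ rfl
      exact ⟨_, hR, hρζ⟩
    exact this
  have hint : IsIntegral F ζ := .of_finite F ζ
  have hadj : Algebra.adjoin F {ζ} = ⊤ := by
    rw [eq_top_iff]
    intro x _
    obtain ⟨P, -, rfl⟩ := hall ⊤ trivial x
    exact Polynomial.aeval_mem_adjoin_singleton F ζ
  have hdeg : (minpoly F ζ).natDegree = k := by
    exact (PowerBasis.ofAdjoinEqTop hint hadj).finrank.symm.trans hfr
  refine ⟨minpoly F ζ, minpoly.monic hint, hdeg, ?_, ?_, fun R hR a => ?_⟩
  · have h1 := Algebra.PowerBasis.norm_gen_eq_coeff_zero_minpoly (PowerBasis.ofAdjoinEqTop hint hadj)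
    rw [PowerBasis.ofAdjoinEqTop_gen, PowerBasis.ofAdjoinEqTop_dim, hdeg, map_mul,
      Algebra.norm_algebraMap, hfr, hNρ] at h1
    have h2 : ((-1 : F) ^ k) * (-1) ^ k = 1 := by rw [← mul_pow]; simp
    have h3 : lam ^ k * (lam ^ (k + 2))⁻¹ = (lam ^ 2)⁻¹ := by field_simp; ring
    rw [h3] at h1
    rw [h1, ← mul_assoc, h2, one_mul]
  · rw [squarefree_mul_iff]
    refine ⟨?_, (irreducible_X_sub_C lam).squarefree, (minpoly.irreducible hint).squarefree⟩
    refine ((minpoly.irreducible hint).isRelPrime_iff_not_dvd.2 fun h => ?_).symm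
    have := natDegree_le_of_dvd h (X_sub_C_ne_zero lam)
    rw [hdeg, natDegree_X_sub_C] at this
    omega
  · obtain ⟨P, hP, e⟩ := hall R hR (algebraMap F K a)
    exact ⟨P, hP, minpoly.dvd F ζ (by simp [e])⟩

end Cfsg.Agent.KSG
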