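import Mathlib
import Cfsg.Agent.KSG.RegFam
import Cfsg.Agent.KSG.RegField

/-!
Two conjugate regular unipotent generators of `SL_3(q)`: the generic family.
-/

set_option autoImplicit false

namespace Cfsg.Agent.KSG

open Module Polynomial Cfsg.Agent.Class.Max

variable {F : Type*} [Field F]

theorem twoConj_three_of [Finite F] {lam mu α t : F} (h0 : lam ≠ 0) (hmu : lam ^ 2 * mu = 1)
    (hne : lam ≠ mu) (hl1 : -2 - α ≠ 0) (hl2 : α + 2 * lam + mu - 1 ≠ 0)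
    (ht : (2 + α) * (α + 2 * lam + mu - 1) ^ 2 = t ^ 3)
    (hA : (lam - 1) * (lam + lam * mu + α) +
      (1 - lam * mu - lam ^ 2 - lam * α - lam) * (lam + α + 1) = 0)
    (hA' : (1 - lam * mu - lam ^ 2 - lam * α - lam) * (lam + lam * mu + α) ≠ 0)
    (hgen : Subring.closure {lam⁻¹ * mu} = ⊤) : TwoConj 3 F := by
  have hZ : YSeq 1 (zSeq (fun _ => (0 : F)) fun _ => 0) := zSeq_ySeq _ _ one_pos
  have hf : ((X - C lam) * (X - C mu)).Monic := (monic_X_sub_C lam).mul (monic_X_sub_C mu)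
  have hY := hZ.ext2 (P := X ^ 2 + C α * X + 1) (R := (X - C lam) * ((X - C lam) * (X - C mu)))
    (by monicity!) (by compute_degree!) (by simp) ((monic_X_sub_C lam).mul hf)
    (by compute_degree!) (by simp; linear_combination -hmu)
  set Y := yExt 1 (zSeq (fun _ => (0 : F)) fun _ => 0) (X ^ 2 + C α * X + 1)
    ((X - C lam) * ((X - C lam) * (X - C mu))) with hYd
  have hY3 : Y (1 + 2) = (X - C lam) * ((X - C lam) * (X - C mu)) := yExt_two
  have hY2 : Y 2 = X ^ 2 + C α * X + 1 := yExt_one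
  have hY1 : Y 1 = X - 1 := by rw [hYd, yExt_le le_rfl]; simp [zSeq]
  have hY0 : Y 0 = 1 := by rw [hYd, yExt_le (by omega)]; simp [zSeq]
  have hC : C lam ^ 2 * C mu = (1 : F[X]) := by rw [← C_pow, ← C_mul, hmu, C_1]
  have hY3' : Y (1 + 2) = X ^ 3 - C (2 * lam + mu) * X ^ 2 + C (lam ^ 2 + 2 * lam * mu) * X - 1 := by
    rw [hY3]; simp only [C_add, C_mul, C_pow, map_ofNat]; linear_combination -hC
  have y1 : yl Y 1 = -2 - α := by
    rw [yl, hY1, hY2]; simp [coeff_one, coeff_X, coeff_X_pow]; ring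
  have y2 : yl Y 2 = α + 2 * lam + mu - 1 := by
    rw [yl, hY2, show 2 + 1 = 1 + 2 from rfl, hY3']
    simp only [coeff_add, coeff_sub, coeff_C_mul, coeff_X_pow, coeff_X, coeff_one]
    simp; ring
  obtain ⟨b, U, L, hp, hz⟩ := hY.exists_pair fun i hi hi2 => by
    rcases (show i = 1 ∨ i = 2 by omega) with rfl | rfl
    · rwa [y1]
    · rwa [y2]
  have := Module.Finite.of_basis b
  refine hp.twoConj (t := t) (by
    simp only [Finset.prod_range_succ, Finset.prod_range_zero, y1, y2]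
    linear_combination ht) fun M hU hL => ?_
  have hr : (Y (1 + 2)).IsRoot lam := by simp [hY3]
  have hr' : (Y (1 + 2)).IsRoot mu := by simp [hY3]
  have hzf : ∀ v, aeval ((L * U : _ ≃ₗ[F] _) : Module.End F _) ((X - C lam) * (X - C mu)) v =
      evR _ lam hr v • AdjoinRoot.mk _ ((X - C lam) * (X - C mu)) := fun v => by
    rw [aeval_mulRoot hz, mk_mul_eq hY3]
  have hw : (L * U) (AdjoinRoot.mk _ ((X - C lam) * (X - C mu))) =
      lam • AdjoinRoot.mk _ ((X - C lam) * (X - C mu)) := by rw [hz, root_mul_mk hY3]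
  have hcop : IsCoprime (X - C lam) (X - C mu) :=
    isCoprime_X_sub_C_of_isUnit_sub (sub_ne_zero.2 hne).isUnit
  have hmu0 : mu ≠ 0 := by rintro rfl; simp at hmu
  obtain ⟨a, ha, hT⟩ := exists_tv_of_pow (M.mul_mem hL hU) hf
    (squarefree_mul_iff.2 ⟨hcop.isRelPrime, (irreducible_X_sub_C _).squarefree,
      (irreducible_X_sub_C _).squarefree⟩) (by simp [h0, hmu0]) (lam := lam) (by simp) hzf hw
  have q0 : yQ Y 0 = 1 := by
    apply mul_left_cancel₀ (X_ne_zero (R := F))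
    rw [hY.X_mul (by omega), hY0, zero_add, hY1]; ring
  have q1 : yQ Y 1 = X + C α + 1 := by
    apply mul_left_cancel₀ (X_ne_zero (R := F))
    rw [hY.X_mul (by omega), hY1, hY2]; ring
  have q2 : yQ Y 2 = X ^ 2 + (1 - 2 * C lam - C mu) * X + (C lam ^ 2 + 2 * C lam * C mu + C α) := by
    apply mul_left_cancel₀ (X_ne_zero (R := F))
    rw [hY.X_mul (by omega), hY2, show 2 + 1 = 1 + 2 from rfl, hY3]; linear_combination -hC
  have hwe : AdjoinRoot.mk (Y (1 + 2)) ((X - C lam) * (X - C mu)) = yV (1 + 2) Y 2 +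
      (lam - 1) • yV (1 + 2) Y 1 + (1 - lam * mu - lam ^ 2 - lam * α - lam) • yV (1 + 2) Y 0 := by
    rw [YSeq.yV_eq (by omega), YSeq.yV_eq (by omega), YSeq.yV_eq (by omega), AdjoinRoot.smul_mk,
      AdjoinRoot.smul_mk, ← map_add, ← map_add, q0, q1, q2]
    congr 1
    simp only [smul_eq_C_mul, C_sub, C_mul, C_pow, C_1]
    ring
  have p0 : evR _ lam hr (yV (1 + 2) Y 0) = 1 := by rw [YSeq.yV_eq (by omega), evR_mk, q0]; simp
  have p1 : evR _ lam hr (yV (1 + 2) Y 1) = lam + α + 1 := by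
    rw [YSeq.yV_eq (by omega), evR_mk, q1]; simp
  have p2 : evR _ lam hr (yV (1 + 2) Y 2) = lam + lam * mu + α := by
    rw [YSeq.yV_eq (by omega), evR_mk, q2]; simp; ring
  have u0 : U (yV (1 + 2) Y 0) = yV (1 + 2) Y 0 + yV (1 + 2) Y 1 := hp.hU 0 (by omega)
  have u1 : U (yV (1 + 2) Y 1) = yV (1 + 2) Y 1 + yV (1 + 2) Y 2 := hp.hU 1 (by omega)
  have u2 : U (yV (1 + 2) Y 2) = yV (1 + 2) Y 2 + yV (1 + 2) Y (1 + 2) := hp.hU 2 (by omega)
  rw [hp.hQn, add_zero] at u2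
  have hw0 : AdjoinRoot.mk (Y (1 + 2)) ((X - C lam) * (X - C mu)) ≠ 0 :=
    AdjoinRoot.mk_ne_zero_of_natDegree_lt (hY.monic _ le_rfl) hf.ne_zero (by
      rw [hY.deg _ le_rfl, (monic_X_sub_C lam).natDegree_mul (monic_X_sub_C mu)]; simp)
  have hφw : evR _ lam hr (AdjoinRoot.mk (Y (1 + 2)) ((X - C lam) * (X - C mu))) = 0 := by
    rw [evR_mk]; simp
  have hφw' := hφw
  rw [hwe] at hφw'
  simp only [map_add, map_smul, p0, p1, p2, smul_eq_mul] at hφw'
  refine ⟨_, hw0, elation_of_edge hU (M.mul_mem hL hU) hp.irr' (ψ := evR _ mu hr') hw0 hφw ha hT h0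
    (scalGen_of_closure hgen ?_) hzf hw (fun x => by rw [hz, evR_root_mul]) ?_ ?_
    (fun χ h => ⟨_, eq_smul_evR hr χ fun x => by rw [← hz, h]⟩)
    (fun χ h => ⟨_, eq_smul_evR hr' χ fun x => by rw [← hz, h]⟩)
    (fun v h => eq_smul_mk hY3 hr v (by rw [← hz, h])) (fun v h h' => ?_) fun x h h' => ?_⟩
  · rintro R hR _ rfl
    exact ⟨_, hR, C lam⁻¹, by rw [C_mul]; ring⟩
  · rw [hwe]
    simp only [map_add, map_smul, u0, u1, u2, p0, p1, p2, smul_eq_mul]
    linear_combination hφw' + hA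
  · have : U⁻¹ (AdjoinRoot.mk (Y (1 + 2)) ((X - C lam) * (X - C mu))) = yV (1 + 2) Y 2 +
        (lam - 1) • (yV (1 + 2) Y 1 - yV (1 + 2) Y 2) + (1 - lam * mu - lam ^ 2 - lam * α - lam) •
        (yV (1 + 2) Y 0 - yV (1 + 2) Y 1 + yV (1 + 2) Y 2) := by
      apply U.injective
      rw [app_inv_app, hwe]
      simp only [map_add, map_smul, map_sub, u0, u1, u2]
      module
    rw [this]
    simp only [map_add, map_smul, map_sub, p0, p1, p2, smul_eq_mul]
    intro e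
    exact hA' (by linear_combination e - hφw' + hA)
  · obtain ⟨c, rfl⟩ := eq_smul_mk (f := (X - C lam) * (X - C lam)) (by rw [hY3]; ring) hr' v
      (by rw [← hz, h])
    rw [map_smul, evR_mk] at h'
    have : c = 0 := by simpa [sub_eq_zero, hne.symm] using h'
    rw [this, zero_smul]
  · obtain ⟨P, rfl⟩ := AdjoinRoot.mk_surjective x
    rw [evR_mk] at h h'
    obtain ⟨R, rfl⟩ := hcop.mul_dvd (dvd_iff_isRoot.2 h) (dvd_iff_isRoot.2 h')
    rw [map_mul _ _ R, mk_mul_eq hY3 hr]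
    exact Submodule.smul_mem _ _ (Submodule.mem_span_singleton_self _)

theorem twoConj_three_B [Finite F] {B : F} (h1 : B + 1 ≠ 0) (h2 : B ^ 2 + B + 1 ≠ 0)
    (h3 : ((B + 1) / (B ^ 2 + B + 1)) ^ 3 ≠ 1)
    (hgen : Subring.closure {(((B + 1) / (B ^ 2 + B + 1)) ^ 3)⁻¹} = ⊤) : TwoConj 3 F := by
  have h0 : B ≠ 0 := by rintro rfl; simp at h3
  set D := B ^ 2 + B + 1 with hD
  refine twoConj_three_of (lam := (B + 1) / D) (mu := D ^ 2 / (B + 1) ^ 2)
    (α := -2 + B ^ 3 / (D * (B + 1) ^ 2)) (t := B ^ 3 / D) (div_ne_zero h1 h2) (by field_simp)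
    (fun e => h3 ?_) ?_ ?_ ?_ ?_ ?_ ?_
  · rw [pow_succ, pow_two, mul_assoc]
    nth_rewrite 3 [e]
    field_simp
  · rw [show -2 - (-2 + B ^ 3 / (D * (B + 1) ^ 2)) = -(B ^ 3 / (D * (B + 1) ^ 2)) by ring]
    exact neg_ne_zero.2 (div_ne_zero (pow_ne_zero _ h0) (mul_ne_zero h2 (pow_ne_zero _ h1)))
  · rw [show -2 + B ^ 3 / (D * (B + 1) ^ 2) + 2 * ((B + 1) / D) + D ^ 2 / (B + 1) ^ 2 - 1 =
      B ^ 3 * (B + 1) / D by field_simp; rw [hD]; ring]
    exact div_ne_zero (mul_ne_zero (pow_ne_zero _ h0) h1) h2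
  · field_simp; rw [hD]; ring
  · field_simp; rw [hD]; ring
  · rw [show (1 - (B + 1) / D * (D ^ 2 / (B + 1) ^ 2) - ((B + 1) / D) ^ 2 - (B + 1) / D *
      (-2 + B ^ 3 / (D * (B + 1) ^ 2)) - (B + 1) / D) * ((B + 1) / D + (B + 1) / D *
      (D ^ 2 / (B + 1) ^ 2) + (-2 + B ^ 3 / (D * (B + 1) ^ 2))) = -B ^ 6 / (D * (B + 1) ^ 2) by
        field_simp; rw [hD]; ring]
    exact div_ne_zero (neg_ne_zero.2 (pow_ne_zero _ h0)) (mul_ne_zero h2 (pow_ne_zero _ h1))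
  · convert hgen using 3
    field_simp

end Cfsg.Agent.KSG
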