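import Mathlib
import Cfsg.Agent.KSG.RegThree
import Cfsg.Agent.Class.FieldTransport

/-!
Two conjugate regular unipotent generators of `SL_3(q)`: choice of the parameter.
-/

set_option autoImplicit false

namespace Cfsg.Agent.KSG

open Module Polynomial Cfsg.Agent.Class

variable {F : Type*} [Field F]

theorem TwoConj.congr {K : Type*} [Field K] {n : ℕ} (e : F ≃+* K) (h : TwoConj n K) :
    TwoConj n F := by
  obtain ⟨u, g, h1, h2, h3⟩ := h
  let φ := slCongr (Fin n) e.symm
  have key : ((φ u : Matrix.SpecialLinearGroup (Fin n) F) : Matrix (Fin n) (Fin n) F) - 1 =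
      e.symm.mapMatrix ((u : Matrix (Fin n) (Fin n) K) - 1) := by
    rw [map_sub, map_one]; rfl
  refine ⟨φ u, φ g, key ▸ h1.map _, fun h => h2 ?_, ?_⟩
  · rw [key, ← map_pow] at h
    exact (map_eq_zero_iff _ e.symm.mapMatrix.injective).1 h
  · have := congrArg (Subgroup.map φ.toMonoidHom) h3
    rw [MonoidHom.map_closure, Subgroup.map_top_of_surjective φ.toMonoidHom φ.surjective] at this
    rw [← this]
    simp [Set.image_pair]

theorem count_bound {p f : ℕ} (hp : p.Prime) (hf : 2 ≤ f) (h4 : p ^ f ≠ 4) (h25 : p ^ f ≠ 25) :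
    3 + ∑ r ∈ (Finset.range (f + 1)).filter (fun r => r.Prime ∧ r ∣ f),
      2 * Nat.gcd (3 * (p ^ (f / r) - 1)) (p ^ f - 1) < p ^ f := by
  have hp2 := hp.two_le
  by_cases hbig : 14 ≤ p ^ (f - f / 2)
  · set s := (Finset.range (f + 1)).filter (fun r => r.Prime ∧ r ∣ f) with hs
    have h1 : ∑ r ∈ s, 2 * Nat.gcd (3 * (p ^ (f / r) - 1)) (p ^ f - 1) ≤
        6 * ∑ r ∈ s, p ^ (f / r) := by
      rw [Finset.mul_sum]
      refine Finset.sum_le_sum fun r hr => ?_
      obtain ⟨-, h1, h2⟩ := Finset.mem_filter.1 hr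
      have h3 : 0 < f / r := Nat.div_pos (Nat.le_of_dvd (by omega) h2) h1.pos
      have h4 : 1 < p ^ (f / r) := Nat.one_lt_pow h3.ne' hp2
      have := Nat.gcd_le_left (m := 3 * (p ^ (f / r) - 1)) (p ^ f - 1) (by omega)
      omega
    have h2 : ∑ r ∈ s, p ^ (f / r) ≤ ∑ d ∈ Finset.range (f / 2 + 1), p ^ d := by
      rw [← Finset.sum_image (g := fun r => f / r) (f := fun d => p ^ d)]
      · refine Finset.sum_le_sum_of_subset fun d hd => ?_
        obtain ⟨r, hr, rfl⟩ := Finset.mem_image.1 hd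
        obtain ⟨-, h1, h2⟩ := Finset.mem_filter.1 hr
        exact Finset.mem_range.2 (Nat.lt_succ_of_le (Nat.div_le_div_left h1.two_le two_pos))
      · intro a ha b hb hab
        obtain ⟨-, -, h1⟩ := Finset.mem_filter.1 ha
        obtain ⟨-, -, h2⟩ := Finset.mem_filter.1 hb
        have := congrArg (fun x => f / x) hab
        simpa [Nat.div_div_self h1 (by omega), Nat.div_div_self h2 (by omega)] using this
    have h3 : ∑ d ∈ Finset.range (f / 2), p ^ d < p ^ (f / 2) :=
      Nat.geomSum_lt hp2 fun k hk => Finset.mem_range.1 hk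
    rw [Finset.sum_range_succ] at h2
    have h4 : p ^ f = p ^ (f - f / 2) * p ^ (f / 2) := by rw [← pow_add]; congr 1; omega
    have h5 : 1 < p ^ (f / 2) := Nat.one_lt_pow (by omega) hp2
    have h6 := Nat.mul_le_mul_right (p ^ (f / 2)) hbig
    omega
  · have h1 : p ≤ p ^ (f - f / 2) := Nat.le_self_pow (by omega) p
    have h2 : f - f / 2 < 4 := by
      by_contra hc
      have : 2 ^ 4 ≤ p ^ (f - f / 2) :=
        (Nat.pow_le_pow_left hp2 4).trans (Nat.pow_le_pow_right (by omega) (by omega))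
      omega
    have h3 : p < 14 := by omega
    have h4 : f < 7 := by omega
    clear h1 h2 hp2 hbig
    revert hp h25 ‹p ^ f ≠ 4›
    interval_cases p <;> interval_cases f <;> decide +kernel

theorem closure_empty_iff [Finite F] {p : ℕ} [CharP F p] :
    Subring.closure (∅ : Set F) = ⊤ ↔ Nat.card F = p := by
  have hp : p.Prime := CharP.char_is_prime F p
  have : Fact p.Prime := ⟨hp⟩
  constructor
  · intro h
    rw [← Nat.card_zmod p]
    refine (Nat.card_eq_of_bijective (ZMod.castHom (dvd_refl p) F)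
      ⟨(ZMod.castHom (dvd_refl p) F).injective, fun x => ?_⟩).symm
    have : x ∈ (ZMod.castHom (dvd_refl p) F).range :=
      Subring.closure_le.2 (Set.empty_subset _) (h ▸ Subring.mem_top x)
    exact this
  · intro h
    by_contra hc
    obtain ⟨a, d, ha, hd, h1, -⟩ := subring_data _ hc
    rw [h] at h1
    have := (h1 ▸ hp).eq_one_of_pow
    omega

theorem closure_top_of_empty (h : Subring.closure (∅ : Set F) = ⊤) (s : Set F) :
    Subring.closure s = ⊤ :=
  eq_top_iff.2 (h ▸ Subring.closure_mono (Set.empty_subset s))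

theorem exists_B [Finite F] {p f : ℕ} [CharP F p] (hq : Nat.card F = p ^ f) (hf : 2 ≤ f)
    (h4 : p ^ f ≠ 4) (h25 : p ^ f ≠ 25) : TwoConj 3 F := by
  classical
  have hp : p.Prime := CharP.char_is_prime F p
  have := Fintype.ofFinite F
  by_contra hc
  set s := (Finset.range (f + 1)).filter (fun r => r.Prime ∧ r ∣ f) with hs
  let e : ℕ → ℕ := fun r => Nat.gcd (3 * (p ^ (f / r) - 1)) (p ^ f - 1)
  have he : ∀ r, 0 < e r := fun r =>
    Nat.gcd_pos_of_pos_right _ (by have := Nat.one_lt_pow (show f ≠ 0 by omega) hp.one_lt; omega)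
  have hD : (X ^ 2 + X + 1 : F[X]).Monic := by monicity!
  have hDd : (X ^ 2 + X + 1 : F[X]).natDegree = 2 := by compute_degree!
  have hX : (X + 1 : F[X]).Monic := by monicity!
  have hXd : (X + 1 : F[X]).natDegree = 1 := by compute_degree!
  have hlt : ∀ r, ((X + 1 : F[X]) ^ e r).degree < ((X ^ 2 + X + 1 : F[X]) ^ e r).degree := fun r => by
    apply degree_lt_degree
    rw [hD.natDegree_pow, hX.natDegree_pow, hDd, hXd]
    have := he r; omega
  have hm : ∀ r, ((X ^ 2 + X + 1 : F[X]) ^ e r - (X + 1) ^ e r).Monic := fun r =>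
    (hD.pow _).sub_of_left (hlt r)
  let P : F[X] := (X + 1) * (X ^ 2 + X + 1) * ∏ r ∈ s, ((X ^ 2 + X + 1) ^ e r - (X + 1) ^ e r)
  have hP : P.Monic := (hX.mul hD).mul (monic_prod_of_monic _ _ fun r _ => hm r)
  have hPd : P.natDegree = 3 + ∑ r ∈ s, 2 * e r := by
    rw [(hX.mul hD).natDegree_mul (monic_prod_of_monic _ _ fun r _ => hm r), hX.natDegree_mul hD,
      hXd, hDd, natDegree_prod_of_monic _ _ fun r _ => hm r]
    congr 1
    refine Finset.sum_congr rfl fun r _ => ?_
    rw [natDegree_eq_of_degree_eq (degree_sub_eq_left_of_degree_lt (hlt r)), hD.natDegree_pow, hDd,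
      mul_comm]
  refine hP.ne_zero (eq_zero_of_natDegree_lt_card_of_eval_eq_zero P Function.injective_id
    (fun B => ?_) (by
      rw [hPd, ← Nat.card_eq_fintype_card, hq]; exact count_bound hp hf h4 h25))
  by_cases h1 : B + 1 = 0
  · simp [P, h1]
  by_cases h2 : B ^ 2 + B + 1 = 0
  · simp [P, h2]
  set lam := (B + 1) / (B ^ 2 + B + 1) with hlam
  have hl0 : lam ≠ 0 := div_ne_zero h1 h2
  obtain ⟨r, hr, h3⟩ : ∃ r ∈ s, lam ^ (3 * (p ^ (f / r) - 1)) = 1 := by
    by_cases h3 : lam ^ 3 = 1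
    · refine ⟨f.minFac, Finset.mem_filter.2 ⟨Finset.mem_range.2 (Nat.lt_succ_of_le
        (Nat.minFac_le (by omega))), Nat.minFac_prime (by omega), Nat.minFac_dvd f⟩, ?_⟩
      rw [pow_mul, h3, one_pow]
    · obtain ⟨a, d, ha, hd, h5, h6⟩ := subring_data _ fun h => hc (twoConj_three_B h1 h2 h3 h)
      have h7 := h6 _ (Subring.subset_closure rfl)
      obtain ⟨k, -, rfl⟩ := (Nat.dvd_prime_pow hp).1
        (show a ∣ p ^ f by rw [← hq, h5]; exact dvd_pow_self a (by omega))
      rw [hq, ← pow_mul] at h5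
      have h8 : f = k * d := Nat.pow_right_injective hp.two_le h5
      obtain ⟨m, hm⟩ := Nat.minFac_dvd d
      have h9 : d.minFac.Prime := Nat.minFac_prime (by omega)
      have h10 : d.minFac ∣ f := h8 ▸ (Nat.minFac_dvd d).mul_left k
      refine ⟨d.minFac, Finset.mem_filter.2 ⟨Finset.mem_range.2 (Nat.lt_succ_of_le
        (Nat.le_of_dvd (by omega) h10)), h9, h10⟩, ?_⟩
      have h11 : f / d.minFac = k * m := by
        rw [h8]
        nth_rewrite 1 [hm]
        rw [mul_left_comm, Nat.mul_div_cancel_left _ h9.pos]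
      have h12 : ∀ j, (lam ^ 3)⁻¹ ^ (p ^ k) ^ j = (lam ^ 3)⁻¹ := fun j => by
        induction j with
        | zero => simp
        | succ j ih => rw [pow_succ (p ^ k), pow_mul, ih, h7]
      have h13 := h12 m
      rw [inv_pow, inv_inj, ← pow_mul p k m, ← h11] at h13
      apply mul_right_cancel₀ (pow_ne_zero 3 hl0)
      rw [pow_mul, ← pow_succ, Nat.sub_add_cancel (Nat.one_le_pow _ _ hp.pos), h13, one_mul]
  have h4 : lam ^ (p ^ f - 1) = 1 := by
    rw [← hq, Nat.card_eq_fintype_card]; exact FiniteField.pow_card_sub_one_eq_one lam hl0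
  have h5 : lam ^ e r = 1 := pow_gcd_eq_one.2 ⟨h3, h4⟩
  rw [hlam, div_pow, div_eq_one_iff_eq (pow_ne_zero _ h2)] at h5
  simp only [P, eval_mul, eval_prod, id]
  rw [Finset.prod_eq_zero hr (by simp [h5]), mul_zero]

theorem twoConj_three_prime [Finite F] (h : Subring.closure (∅ : Set F) = ⊤) (h2 : (2 : F) ≠ 0)
    (h3 : (3 : F) ≠ 0) : TwoConj 3 F := by
  by_cases h19 : (19 : F) = 0
  · have h7 : (2 : F) ^ 2 + 2 + 1 ≠ 0 := fun e => one_ne_zero (α := F) (by
      linear_combination 3 * h19 - 8 * e)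
    refine twoConj_three_B (B := 2) (by rwa [show (2 : F) + 1 = 3 by norm_num]) h7 ?_
      (closure_top_of_empty h _)
    rw [div_pow, Ne, div_eq_one_iff_eq (pow_ne_zero _ h7)]
    intro e
    exact mul_ne_zero (mul_ne_zero h2 h2) h3 (by linear_combination -e - 16 * h19)
  · have h7 : (1 : F) ^ 2 + 1 + 1 ≠ 0 := by rwa [show (1 : F) ^ 2 + 1 + 1 = 3 by norm_num]
    refine twoConj_three_B (B := 1) (by rwa [show (1 : F) + 1 = 2 by norm_num]) h7 ?_
      (closure_top_of_empty h _)
    rw [div_pow, Ne, div_eq_one_iff_eq (pow_ne_zero _ h7)]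
    intro e
    exact h19 (by linear_combination -e)

end Cfsg.Agent.KSG
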