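import Mathlib
import Cfsg.Agent.KSG.RegFam

/-!
Two conjugate regular unipotent generators of `SL_n(2)`, `n ≥ 4`.
-/

set_option autoImplicit false

namespace Cfsg.Agent.KSG

open Module Polynomial Cfsg.Agent.Class.Max

variable {F V : Type*} [Field F] [AddCommGroup V] [Module F V]

theorem elation_two [FiniteDimensional F V] (hF : ∀ x : F, x = 0 ∨ x = 1)
    {M : Subgroup (V ≃ₗ[F] V)} {U : V ≃ₗ[F] V} (hU : U ∈ M)
    (hN : IsNilpotent (U.toLinearMap - 1 : Module.End F V)) {e0 e1 e2 : V}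
    (hker : ∀ x, U x = x → x ∈ Submodule.span F {e0}) (h0 : U e0 = e0) (h1 : U e1 = e1 + e0)
    (h2 : U e2 = e2 + e1) {φ : Dual F V} (p0 : φ e0 = 1) (p2 : φ e2 = 1)
    (hT : HasTv M φ (e0 + e2)) : e0 ∈ elations M := by
  have h11 : (1 : F) + 1 = 0 := (hF _).resolve_right (by simp)
  obtain ⟨T, hTM, hTe⟩ := id hT
  have hU' : ∀ a b c : F, U (a • e0 + b • e1 + c • e2) = (a + b) • e0 + (b + c) • e1 + c • e2 :=
    fun a b c => by simp only [map_add, map_smul, h0, h1, h2]; module
  have hT' : ∀ a b c : F, T (a • e0 + b • e1 + c • e2) =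
      (a + (a + b * φ e1 + c)) • e0 + b • e1 + (c + (a + b * φ e1 + c)) • e2 :=
    fun a b c => by
      rw [hTe]; simp only [map_add, map_smul, p0, p2, smul_eq_mul, mul_one]; module
  have key : ∀ g ∈ M, ∀ y, g (e0 + e2) = e0 → g y = e1 → φ y = 1 → e0 ∈ elations M := by
    intro g hg y a1 a2 a3
    have t := hT.conj hg
    rw [a1] at t
    refine elation_of_socle hU hN hker h0 h1 (ψ := φ ∘ₗ (g⁻¹ : V ≃ₗ[F] V).toLinearMap)
      (fun c => ?_) ?_
    · rcases hF c with rfl | rfl
      · simp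
      · rw [one_smul]
        refine ⟨?_, t⟩
        rw [← a1]; simp [p0, p2, h11]
    · rw [← a2]; simp [a3]
  have w : e0 + e2 = (1 : F) • e0 + (0 : F) • e1 + (1 : F) • e2 := by simp
  rcases hF (φ e1) with hb | hb
  · refine key (T * U * T * U) (by repeat' first | assumption | apply M.mul_mem) e2 ?_ ?_ p2
    · rw [w]; simp only [mul_app, hU', hT', hb]; simp [h11]
    · rw [show e2 = (0 : F) • e0 + (0 : F) • e1 + (1 : F) • e2 by simp]
      simp only [mul_app, hU', hT', hb]; simp [h11]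
  · refine key (T * U * T * U * U * T * U) (by repeat' first | assumption | apply M.mul_mem) e0 ?_ ?_ p0
    · rw [w]; simp only [mul_app, hU', hT', hb]; simp [h11]
    · rw [show e0 = (1 : F) • e0 + (0 : F) • e1 + (0 : F) • e2 by simp]
      simp only [mul_app, hU', hT', hb]; simp [h11]

theorem squarefree_two (h11 : (1 : F) + 1 = 0) (j : ℕ) :
    Squarefree ((X - C 1) * (X ^ (j + 2) + X ^ (j + 1) + 1) : F[X]) := by
  have h : (1 : F[X]) + 1 = 0 := by rw [← C_1, ← C_add, h11, C_0]
  have hc : ∀ m : ℕ, ((2 * m : ℕ) : F[X]) = 0 := fun m => by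
    push_cast; linear_combination (m : F[X]) * h
  have hX : IsCoprime (X ^ (j + 2) + X ^ (j + 1) + 1 : F[X]) X :=
    ⟨1, -(X ^ (j + 1) + X ^ j), by ring⟩
  rw [squarefree_mul_iff]
  refine ⟨IsCoprime.isRelPrime ?_, (irreducible_X_sub_C _).squarefree, Separable.squarefree ?_⟩
  · exact ⟨X ^ (j + 1), 1, by rw [C_1]; linear_combination (X ^ (j + 2)) * h⟩
  · rw [separable_def]
    rcases Nat.even_or_odd' j with ⟨m, hm | hm⟩
    · have : derivative (X ^ (j + 2) + X ^ (j + 1) + 1 : F[X]) = X ^ j := by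
        have h1 := hc m
        rw [← hm] at h1
        simp only [derivative_X_pow_succ, derivative_one, map_add, map_natCast,
          C_1, Nat.cast_add, Nat.cast_one, h1]
        linear_combination X ^ (j + 1) * h
      rw [this]; exact hX.pow_right
    · have : derivative (X ^ (j + 2) + X ^ (j + 1) + 1 : F[X]) = X ^ (j + 1) := by
        have h1 := hc (m + 1)
        rw [show 2 * (m + 1) = j + 1 by omega] at h1
        push_cast at h1
        simp only [derivative_X_pow_succ, derivative_one, map_add, map_natCast,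
          C_1, Nat.cast_add, Nat.cast_one, h1]
        ring
      rw [this]; exact hX.pow_right

theorem twoConj_two [Finite F] (hF : ∀ x : F, x = 0 ∨ x = 1) (j : ℕ) : TwoConj (j + 4) F := by
  have h11 : (1 : F) + 1 = 0 := (hF _).resolve_right (by simp)
  have hm : (-1 : F) = 1 := by linear_combination -h11
  let β : ℕ → F := fun i => if i = j + 2 ∧ 1 ≤ j then 1 else 0
  let Z := zSeq (fun _ => (-1 : F)) β
  have hβ : β 2 = 0 := if_neg (by omega)
  have hZ : YSeq (j + 2) Z := zSeq_ySeq _ β (by omega)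
  have hnext : ∀ i, 1 ≤ i → (Z i).coeff (i - 1) = -1 := fun i hi => zSeq_next rfl hβ hi
  set g : F[X] := X ^ (j + 2) + X ^ (j + 1) + 1 with hgd
  have hg : g.Monic := by rw [hgd]; monicity!
  have hgn : g.natDegree = j + 2 := by rw [hgd]; compute_degree!
  have hf : ((X - C 1) * g).Monic := (monic_X_sub_C 1).mul hg
  have hfd : ((X - C 1) * g).natDegree = j + 2 + 1 := by
    rw [(monic_X_sub_C 1).natDegree_mul hg, natDegree_X_sub_C, hgn, add_comm]
  have hfk : ((X - C 1) * g).coeff (j + 2 + 1) = 1 := by rw [← hfd]; exact hf.coeff_natDegree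
  have hfk' : ((X - C 1) * g).coeff (j + 2) = 0 := by
    rw [coeff_lin_mul (by omega), hgd]
    simp [coeff_one, coeff_X_pow]
  have hg0 : g.coeff 0 = 1 := by simp [hgd]
  have hlt : (Z (j + 2) + Z (j + 1)).degree < ((X - C 1) * g).degree := by
    rw [degree_eq_natDegree hf.ne_zero, hfd, degree_lt_iff_coeff_zero]
    intro m hm
    rw [coeff_add, hZ.coeff_gt le_rfl hm, hZ.coeff_gt (by omega) (by omega), add_zero]
  have hY := hZ.ext2 (P := (X - C 1) * g - (Z (j + 2) + Z (j + 1)))
    (R := (X - C 1) * ((X - C 1) * g)) (hf.sub_of_left hlt)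
    (by rw [natDegree_eq_of_degree_eq (degree_sub_eq_left_of_degree_lt hlt)]; exact hfd)
    (by
      rw [coeff_sub, coeff_add, hZ.c0 _ le_rfl, hZ.c0 _ (by omega), mul_coeff_zero, hg0]
      simp [hm, h11])
    ((monic_X_sub_C 1).mul hf)
    (by rw [(monic_X_sub_C 1).natDegree_mul hf, natDegree_X_sub_C, hfd]; omega)
    (by rw [mul_coeff_zero, mul_coeff_zero, hg0]; simp [hm])
  set Y := yExt (j + 2) Z ((X - C 1) * g - (Z (j + 2) + Z (j + 1)))
    ((X - C 1) * ((X - C 1) * g)) with hYd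
  have hY2 : Y (j + 2 + 2) = (X - C 1) * ((X - C 1) * g) := yExt_two
  have hY1 : Y (j + 2 + 1) = (X - C 1) * g - (Z (j + 2) + Z (j + 1)) := yExt_one
  have hY0 : Y (j + 2) = Z (j + 2) := yExt_le le_rfl
  have hY0' : Y (j + 1) = Z (j + 1) := yExt_le (by omega)
  have hP : (Y (j + 2 + 1)).coeff (j + 2) = -1 := by
    rw [hY1, coeff_sub, coeff_add, hfk', hZ.coeff_self le_rfl,
      hZ.coeff_gt (by omega) (by omega)]; ring
  have hyl : ∀ i, 0 < i → i < j + 2 + 2 → yl Y i = -1 := by
    intro i hi hi2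
    rcases (show i < j + 2 ∨ i = j + 2 ∨ i = j + 2 + 1 by omega) with h | rfl | rfl
    · have := hnext (i + 1) (by omega)
      rw [add_tsub_cancel_right] at this
      rw [yl, hYd, yExt_le h.le, yExt_le h, hnext i hi, this]; ring
    · rw [yl, hP, hY0, hnext _ hi]; ring
    · rw [yl, add_tsub_cancel_right, hP, hY2, coeff_lin_mul (by omega), add_tsub_cancel_right,
        hfk', hfk]; ring
  have hev : (Z (j + 2)).eval 1 + (Z (j + 1)).eval 1 = 1 := by
    rcases Nat.eq_zero_or_pos j with rfl | hj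
    · simp [Z, zSeq, β]
    · have e1 : β (j + 2) = 1 := if_pos ⟨rfl, hj⟩
      have e2 : β (j + 1) = 0 := if_neg (by omega)
      simp only [Z]
      rw [zSeq_two (by omega), zSeq_two (by omega)]
      simp [e1, e2, hm, h11]
  obtain ⟨b, U, L, hp, hz⟩ := hY.exists_pair fun i hi hi2 => by rw [hyl i hi hi2]; simp
  have := Module.Finite.of_basis b
  refine hp.twoConj (t := 1) (by
    rw [one_pow]
    refine Finset.prod_eq_one fun i hi => ?_
    rcases Nat.eq_zero_or_pos i with rfl | h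
    · simp
    · rw [hyl i h (Finset.mem_range.1 hi)]; simp) fun M hU hL =>
    ⟨yV (j + 2 + 2) Y (j + 2 + 1), hp.Q_ne (by omega), ?_⟩
  have hr : (Y (j + 2 + 2)).IsRoot 1 := by simp [hY2]
  have hzf : ∀ v, aeval ((L * U : _ ≃ₗ[F] _) : Module.End F _) ((X - C 1) * g) v =
      evR _ 1 hr v • AdjoinRoot.mk _ ((X - C 1) * g) := fun v => by
    rw [aeval_mulRoot hz, mk_mul_eq hY2]
  obtain ⟨α, hα, hT⟩ := exists_tv_of_pow (M.mul_mem hL hU) hf (squarefree_two h11 j)
    (by rw [mul_coeff_zero, hg0]; simp) (lam := 1) (by simp) hzf (by rw [hz, root_mul_mk hY2])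
  rw [(hF α).resolve_left hα, one_smul] at hT
  have e1 := hY.X_mul (i := j + 2 + 1) (by omega)
  have e0 := hY.X_mul (i := j + 1) (by omega)
  refine elation_two hF hU hp.nilpU (e1 := yV (j + 2 + 2) Y (j + 2))
    (e2 := yV (j + 2 + 2) Y (j + 1)) hp.kerU (by simpa [hp.hQn] using hp.hU (j + 2 + 1) (by omega))
    (hp.hU _ (by omega)) (hp.hU _ (by omega)) (φ := evR _ 1 hr) ?_ ?_ ?_
  · rw [YSeq.yV_eq (by omega), evR_mk]
    have := congrArg (eval 1) e1
    rw [hY2, hY1] at this
    simpa [hev, hm] using this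
  · rw [YSeq.yV_eq (by omega), evR_mk]
    have := congrArg (eval 1) e0
    rw [hY0, hY0'] at this
    simpa [hev] using this
  · convert hT
    rw [YSeq.yV_eq (by omega), YSeq.yV_eq (by omega), ← map_add]
    congr 1
    apply mul_left_cancel₀ (X_ne_zero (R := F))
    rw [mul_add, e1, e0, hY2, hY1, hY0, hY0', C_1]
    ring

end Cfsg.Agent.KSG
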