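import Mathlib
import Cfsg.Agent.KSG.RegThree2
import Cfsg.Agent.KSG.RegTwo

/-!
Two conjugate regular unipotent generators: small cases by explicit words.
-/

set_option autoImplicit false

namespace Cfsg.Agent.KSG

open Cfsg.Agent.Class

section

variable {F : Type*} [Field F] {ι : Type} [Fintype ι] [DecidableEq ι]

/-- The matrix `A` lies in the subgroup generated by `s`. -/
def InCl (s : Set (Matrix.SpecialLinearGroup ι F)) (A : Matrix ι ι F) : Prop :=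
  ∃ g ∈ Subgroup.closure s, (g : Matrix ι ι F) = A

variable {s : Set (Matrix.SpecialLinearGroup ι F)} {A B C D : Matrix ι ι F}

theorem InCl.mul (hA : InCl s A) (hB : InCl s B) (h : A * B = C) : InCl s C := by
  obtain ⟨a, ha, rfl⟩ := hA
  obtain ⟨b, hb, rfl⟩ := hB
  exact ⟨a * b, mul_mem ha hb, h⟩

theorem InCl.mul3 (hA : InCl s A) (hB : InCl s B) (hD : InCl s D) (h : A * B * D = C) :
    InCl s C := (hA.mul hB rfl).mul hD h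

theorem InCl.inv (hA : InCl s A) (h : A * B = 1) : InCl s B := by
  obtain ⟨a, ha, rfl⟩ := hA
  refine ⟨a⁻¹, inv_mem ha, ?_⟩
  rw [← Matrix.one_mul B, ← Matrix.SpecialLinearGroup.coe_one, ← inv_mul_cancel a,
    Matrix.SpecialLinearGroup.coe_mul, Matrix.mul_assoc, h, Matrix.mul_one]

theorem InCl.comm (hA : InCl s A) (hB : InCl s B) (h : A * B = C * (B * A)) : InCl s C := by
  obtain ⟨a, ha, rfl⟩ := hA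
  obtain ⟨b, hb, rfl⟩ := hB
  refine ⟨a * b * (b * a)⁻¹, mul_mem (mul_mem ha hb) (inv_mem (mul_mem hb ha)), ?_⟩
  rw [Matrix.SpecialLinearGroup.coe_mul, Matrix.SpecialLinearGroup.coe_mul, h,
    ← Matrix.SpecialLinearGroup.coe_mul, Matrix.mul_assoc, ← Matrix.SpecialLinearGroup.coe_mul,
    mul_inv_cancel, Matrix.SpecialLinearGroup.coe_one, Matrix.mul_one]

theorem inCl_all (L : List (Matrix ι ι F)) (hL : ∀ A ∈ L, InCl s A)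
    (h : ∀ i j : ι, i ≠ j → ∀ c : F, c = 0 ∨ Matrix.transvection i j c ∈ L) :
    Subgroup.closure s = ⊤ := by
  rw [eq_top_iff]
  intro g _
  refine SL_transvection_induction (· ∈ Subgroup.closure s) (one_mem _) (fun i j hij c => ?_)
    (fun _ _ => mul_mem) g
  rcases h i j hij c with rfl | h
  · convert (Subgroup.closure s).one_mem
    apply Subtype.ext
    exact Matrix.transvection_zero i j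
  · obtain ⟨a, ha, e⟩ := hL _ h
    convert ha
    exact Subtype.ext e.symm

theorem twoConj_of_inCl {n : ℕ} (u g v : Matrix (Fin n) (Fin n) F) (hu : u.det = 1)
    (hg : g.det = 1) (hv : g * u = v * g) (h1 : (u - 1) ^ n = 0) (h2 : (u - 1) ^ (n - 1) ≠ 0)
    (h : ∀ s : Set (Matrix.SpecialLinearGroup (Fin n) F), InCl s u → InCl s v →
      Subgroup.closure s = ⊤) : TwoConj n F := by
  refine ⟨⟨u, hu⟩, ⟨g, hg⟩, ⟨n, h1⟩, h2, h _ ⟨_, Subgroup.subset_closure (Or.inl rfl), rfl⟩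
    ⟨_, Subgroup.subset_closure (Or.inr rfl), ?_⟩⟩
  set G : Matrix.SpecialLinearGroup (Fin n) F := ⟨g, hg⟩
  change (G : Matrix (Fin n) (Fin n) F) * u * (G⁻¹ : Matrix.SpecialLinearGroup (Fin n) F) = v
  rw [show (G : Matrix (Fin n) (Fin n) F) * u = v * G from hv, Matrix.mul_assoc,
    ← Matrix.SpecialLinearGroup.coe_mul, mul_inv_cancel, Matrix.SpecialLinearGroup.coe_one,
    Matrix.mul_one]

end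

theorem twoConj_3_2 : TwoConj 3 (ZMod 2) := by
  refine twoConj_of_inCl (!![1, 1, 0; 0, 1, 1; 0, 0, 1]) (!![1, 0, 1; 0, 1, 0; 1, 1, 0]) (!![1, 1, 0; 1, 0, 1; 1, 0, 0]) (by decide +kernel) (by decide +kernel)
    (by decide +kernel) (by decide +kernel) (by decide +kernel) fun s hu hv => ?_
  have hui := hu.inv (B := !![1, 1, 1; 0, 1, 1; 0, 0, 1]) (by decide +kernel)
  have hvi := hv.inv (B := !![0, 0, 1; 1, 0, 1; 0, 1, 1]) (by decide +kernel)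
  have h0 := hu.mul hu (C := !![1, 0, 1; 0, 1, 0; 0, 0, 1]) (by decide +kernel)
  have h1 := hv.mul3 h0 hvi (C := !![1, 1, 1; 0, 0, 1; 0, 1, 0]) (by decide +kernel)
  have h2 := hu.mul3 h1 hui (C := !![1, 0, 0; 0, 1, 0; 0, 1, 1]) (by decide +kernel)
  have h3 := hv.mul3 h2 hvi (C := !![1, 0, 0; 1, 1, 1; 0, 0, 1]) (by decide +kernel)
  have h4 := hv.mul3 h3 hvi (C := !![1, 1, 0; 0, 1, 0; 0, 0, 1]) (by decide +kernel)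
  have h5 := hvi.mul3 h0 hv (C := !![1, 0, 0; 1, 1, 0; 0, 0, 1]) (by decide +kernel)
  have h6 := hu.mul3 h2 hui (C := !![1, 0, 0; 0, 0, 1; 0, 1, 0]) (by decide +kernel)
  have h7 := hvi.mul3 h6 hv (C := !![1, 0, 1; 0, 1, 1; 0, 0, 1]) (by decide +kernel)
  have h8 := hu.mul3 h7 hui (C := !![1, 0, 0; 0, 1, 1; 0, 0, 1]) (by decide +kernel)
  have h9 := h4.comm h8 (C := !![1, 0, 1; 0, 1, 0; 0, 0, 1]) (by decide +kernel)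
  have h10 := h5.comm h2 (C := !![1, 0, 0; 0, 1, 0; 1, 0, 1]) (by decide +kernel)
  refine inCl_all [!![1, 1, 0; 0, 1, 0; 0, 0, 1], !![1, 0, 1; 0, 1, 0; 0, 0, 1], !![1, 0, 0; 1, 1, 0; 0, 0, 1], !![1, 0, 0; 0, 1, 1; 0, 0, 1], !![1, 0, 0; 0, 1, 0; 1, 0, 1], !![1, 0, 0; 0, 1, 0; 0, 1, 1]] ?_ (by decide +kernel)
  simp only [List.forall_mem_cons]
  exact ⟨h4, h9, h5, h8, h10, h2, fun _ h => absurd h List.not_mem_nil⟩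

theorem twoConj_3_3 : TwoConj 3 (ZMod 3) := by
  refine twoConj_of_inCl (!![1, 1, 0; 0, 1, 1; 0, 0, 1]) (!![1, 2, 0; 1, 0, 1; 2, 2, 2]) (!![2, 0, 1; 0, 0, 2; 1, 2, 1]) (by decide +kernel) (by decide +kernel)
    (by decide +kernel) (by decide +kernel) (by decide +kernel) fun s hu hv => ?_
  have hui := hu.inv (B := !![1, 2, 1; 0, 1, 2; 0, 0, 1]) (by decide +kernel)
  have hvi := hv.inv (B := !![2, 2, 0; 2, 1, 2; 0, 2, 0]) (by decide +kernel)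
  have h0 := hu.mul hv (C := !![2, 0, 0; 1, 2, 0; 1, 2, 1]) (by decide +kernel)
  have h1 := h0.mul h0 (C := !![1, 0, 0; 1, 1, 0; 2, 0, 1]) (by decide +kernel)
  have h2 := hu.mul3 h1 hui (C := !![2, 2, 1; 0, 1, 0; 2, 1, 0]) (by decide +kernel)
  have h3 := hvi.mul3 h2 hv (C := !![1, 1, 0; 0, 1, 0; 0, 0, 1]) (by decide +kernel)
  have h4 := hv.mul3 h2 hvi (C := !![1, 0, 1; 0, 1, 1; 0, 0, 1]) (by decide +kernel)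
  have h5 := hui.mul3 h4 hu (C := !![1, 0, 0; 0, 1, 1; 0, 0, 1]) (by decide +kernel)
  have h6 := hv.mul3 h5 hvi (C := !![1, 0, 0; 0, 1, 0; 0, 1, 1]) (by decide +kernel)
  have h7 := hui.mul3 h6 hu (C := !![1, 1, 1; 0, 0, 2; 0, 1, 2]) (by decide +kernel)
  have h8 := hvi.mul3 h7 hv (C := !![1, 0, 0; 0, 1, 0; 1, 2, 1]) (by decide +kernel)
  have h9 := hui.mul3 h8 hu (C := !![2, 0, 2; 2, 1, 1; 1, 0, 0]) (by decide +kernel)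
  have h10 := hv.mul3 h9 hvi (C := !![1, 0, 0; 1, 1, 0; 0, 0, 1]) (by decide +kernel)
  have h11 := h3.mul h3 (C := !![1, 2, 0; 0, 1, 0; 0, 0, 1]) (by decide +kernel)
  have h12 := h3.comm h5 (C := !![1, 0, 1; 0, 1, 0; 0, 0, 1]) (by decide +kernel)
  have h13 := h5.comm h3 (C := !![1, 0, 2; 0, 1, 0; 0, 0, 1]) (by decide +kernel)
  have h14 := h10.mul h10 (C := !![1, 0, 0; 2, 1, 0; 0, 0, 1]) (by decide +kernel)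
  have h15 := h10.comm h13 (C := !![1, 0, 0; 0, 1, 2; 0, 0, 1]) (by decide +kernel)
  have h16 := h6.comm h10 (C := !![1, 0, 0; 0, 1, 0; 1, 0, 1]) (by decide +kernel)
  have h17 := h10.comm h6 (C := !![1, 0, 0; 0, 1, 0; 2, 0, 1]) (by decide +kernel)
  have h18 := h3.comm h16 (C := !![1, 0, 0; 0, 1, 0; 0, 2, 1]) (by decide +kernel)
  refine inCl_all [!![1, 1, 0; 0, 1, 0; 0, 0, 1], !![1, 2, 0; 0, 1, 0; 0, 0, 1], !![1, 0, 1; 0, 1, 0; 0, 0, 1], !![1, 0, 2; 0, 1, 0; 0, 0, 1], !![1, 0, 0; 1, 1, 0; 0, 0, 1], !![1, 0, 0; 2, 1, 0; 0, 0, 1], !![1, 0, 0; 0, 1, 1; 0, 0, 1], !![1, 0, 0; 0, 1, 2; 0, 0, 1], !![1, 0, 0; 0, 1, 0; 1, 0, 1], !![1, 0, 0; 0, 1, 0; 2, 0, 1], !![1, 0, 0; 0, 1, 0; 0, 1, 1], !![1, 0, 0; 0, 1, 0; 0, 2, 1]] ?_ (by decide +kernel)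
  simp only [List.forall_mem_cons]
  exact ⟨h3, h11, h12, h13, h10, h14, h5, h15, h16, h17, h6, h18, fun _ h => absurd h List.not_mem_nil⟩

theorem twoConj_3_4 : TwoConj 3 GF4 := by
  refine twoConj_of_inCl (!![⟨1,0⟩, ⟨1,0⟩, ⟨0,0⟩; ⟨0,0⟩, ⟨1,0⟩, ⟨1,0⟩; ⟨0,0⟩, ⟨0,0⟩, ⟨1,0⟩]) (!![⟨1,1⟩, ⟨0,1⟩, ⟨0,0⟩; ⟨1,0⟩, ⟨0,1⟩, ⟨0,1⟩; ⟨1,0⟩, ⟨1,0⟩, ⟨1,0⟩]) (!![⟨0,1⟩, ⟨0,0⟩, ⟨0,1⟩; ⟨0,1⟩, ⟨0,0⟩, ⟨0,0⟩; ⟨0,0⟩, ⟨0,1⟩, ⟨1,1⟩]) (by decide +kernel) (by decide +kernel)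
    (by decide +kernel) (by decide +kernel) (by decide +kernel) fun s hu hv => ?_
  have hui := hu.inv (B := !![⟨1,0⟩, ⟨1,0⟩, ⟨1,0⟩; ⟨0,0⟩, ⟨1,0⟩, ⟨1,0⟩; ⟨0,0⟩, ⟨0,0⟩, ⟨1,0⟩]) (by decide +kernel)
  have hvi := hv.inv (B := !![⟨0,0⟩, ⟨1,1⟩, ⟨0,0⟩; ⟨1,0⟩, ⟨1,0⟩, ⟨1,1⟩; ⟨1,1⟩, ⟨1,1⟩, ⟨0,0⟩]) (by decide +kernel)
  have h0 := hu.mul hu (C := !![⟨1,0⟩, ⟨0,0⟩, ⟨1,0⟩; ⟨0,0⟩, ⟨1,0⟩, ⟨0,0⟩; ⟨0,0⟩, ⟨0,0⟩, ⟨1,0⟩]) (by decide +kernel)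
  have h1 := hvi.mul3 h0 hv (C := !![⟨1,0⟩, ⟨0,0⟩, ⟨0,0⟩; ⟨0,0⟩, ⟨1,1⟩, ⟨1,1⟩; ⟨0,0⟩, ⟨1,0⟩, ⟨1,1⟩]) (by decide +kernel)
  have h2 := hui.mul3 h1 hu (C := !![⟨1,0⟩, ⟨1,1⟩, ⟨0,1⟩; ⟨0,0⟩, ⟨0,1⟩, ⟨0,1⟩; ⟨0,0⟩, ⟨1,0⟩, ⟨0,1⟩]) (by decide +kernel)
  have h3 := hv.mul3 h2 hvi (C := !![⟨1,1⟩, ⟨0,1⟩, ⟨0,1⟩; ⟨1,1⟩, ⟨0,1⟩, ⟨1,1⟩; ⟨1,0⟩, ⟨1,0⟩, ⟨0,0⟩]) (by decide +kernel)
  have h4 := hui.mul3 h3 hu (C := !![⟨1,0⟩, ⟨0,0⟩, ⟨0,0⟩; ⟨0,1⟩, ⟨1,0⟩, ⟨0,0⟩; ⟨1,0⟩, ⟨0,0⟩, ⟨1,0⟩]) (by decide +kernel)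
  have h5 := hv.mul3 h4 hvi (C := !![⟨1,0⟩, ⟨1,0⟩, ⟨0,0⟩; ⟨0,0⟩, ⟨1,0⟩, ⟨0,0⟩; ⟨0,0⟩, ⟨0,0⟩, ⟨1,0⟩]) (by decide +kernel)
  have h6 := hv.mul3 h0 hvi (C := !![⟨0,0⟩, ⟨1,0⟩, ⟨0,0⟩; ⟨1,0⟩, ⟨0,0⟩, ⟨0,0⟩; ⟨0,0⟩, ⟨0,0⟩, ⟨1,0⟩]) (by decide +kernel)
  have h7 := hv.mul3 h6 hvi (C := !![⟨1,1⟩, ⟨1,1⟩, ⟨1,0⟩; ⟨0,1⟩, ⟨0,1⟩, ⟨1,0⟩; ⟨0,1⟩, ⟨1,1⟩, ⟨0,0⟩]) (by decide +kernel)
  have h8 := hu.mul3 h7 hui (C := !![⟨1,0⟩, ⟨0,0⟩, ⟨0,0⟩; ⟨0,0⟩, ⟨1,0⟩, ⟨0,0⟩; ⟨0,1⟩, ⟨1,0⟩, ⟨1,0⟩]) (by decide +kernel)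
  have h9 := hvi.mul3 h8 hv (C := !![⟨1,0⟩, ⟨0,0⟩, ⟨0,0⟩; ⟨1,1⟩, ⟨1,0⟩, ⟨0,1⟩; ⟨0,0⟩, ⟨0,0⟩, ⟨1,0⟩]) (by decide +kernel)
  have h10 := hui.mul3 h9 hu (C := !![⟨0,1⟩, ⟨1,1⟩, ⟨0,1⟩; ⟨1,1⟩, ⟨0,1⟩, ⟨0,1⟩; ⟨0,0⟩, ⟨0,0⟩, ⟨1,0⟩]) (by decide +kernel)
  have h11 := hvi.mul3 h10 hv (C := !![⟨1,0⟩, ⟨0,1⟩, ⟨0,0⟩; ⟨0,0⟩, ⟨1,0⟩, ⟨0,0⟩; ⟨0,0⟩, ⟨0,0⟩, ⟨1,0⟩]) (by decide +kernel)
  have h12 := hu.mul3 h6 hui (C := !![⟨1,0⟩, ⟨0,0⟩, ⟨0,0⟩; ⟨1,0⟩, ⟨1,0⟩, ⟨0,0⟩; ⟨0,0⟩, ⟨0,0⟩, ⟨1,0⟩]) (by decide +kernel)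
  have h13 := hv.mul3 h12 hvi (C := !![⟨1,0⟩, ⟨0,0⟩, ⟨0,0⟩; ⟨0,0⟩, ⟨1,0⟩, ⟨0,0⟩; ⟨0,0⟩, ⟨1,0⟩, ⟨1,0⟩]) (by decide +kernel)
  have h14 := hv.mul3 h13 hvi (C := !![⟨1,1⟩, ⟨0,1⟩, ⟨1,0⟩; ⟨0,0⟩, ⟨1,0⟩, ⟨0,0⟩; ⟨1,1⟩, ⟨1,1⟩, ⟨1,1⟩]) (by decide +kernel)
  have h15 := hu.mul3 h14 hui (C := !![⟨1,1⟩, ⟨0,0⟩, ⟨1,0⟩; ⟨1,1⟩, ⟨1,0⟩, ⟨0,1⟩; ⟨1,1⟩, ⟨0,0⟩, ⟨1,1⟩]) (by decide +kernel)
  have h16 := hu.mul3 h15 hui (C := !![⟨0,0⟩, ⟨1,0⟩, ⟨0,1⟩; ⟨0,0⟩, ⟨1,0⟩, ⟨0,0⟩; ⟨1,1⟩, ⟨1,1⟩, ⟨0,0⟩]) (by decide +kernel)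
  have h17 := hvi.mul3 h16 hv (C := !![⟨1,0⟩, ⟨0,0⟩, ⟨0,0⟩; ⟨0,0⟩, ⟨1,1⟩, ⟨0,1⟩; ⟨0,0⟩, ⟨0,1⟩, ⟨1,1⟩]) (by decide +kernel)
  have h18 := hui.mul3 h17 hu (C := !![⟨1,0⟩, ⟨0,0⟩, ⟨0,0⟩; ⟨0,0⟩, ⟨1,0⟩, ⟨0,0⟩; ⟨0,0⟩, ⟨0,1⟩, ⟨1,0⟩]) (by decide +kernel)
  have h19 := hvi.mul3 h18 hv (C := !![⟨1,0⟩, ⟨0,0⟩, ⟨0,0⟩; ⟨0,1⟩, ⟨1,0⟩, ⟨0,0⟩; ⟨0,0⟩, ⟨0,0⟩, ⟨1,0⟩]) (by decide +kernel)
  have h20 := hu.mul3 h1 hui (C := !![⟨1,0⟩, ⟨0,1⟩, ⟨1,0⟩; ⟨0,0⟩, ⟨0,1⟩, ⟨0,1⟩; ⟨0,0⟩, ⟨1,0⟩, ⟨0,1⟩]) (by decide +kernel)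
  have h21 := hu.mul3 h20 hui (C := !![⟨1,0⟩, ⟨1,0⟩, ⟨0,1⟩; ⟨0,0⟩, ⟨1,1⟩, ⟨1,1⟩; ⟨0,0⟩, ⟨1,0⟩, ⟨1,1⟩]) (by decide +kernel)
  have h22 := hv.mul3 h21 hvi (C := !![⟨1,0⟩, ⟨0,0⟩, ⟨0,0⟩; ⟨0,0⟩, ⟨1,0⟩, ⟨1,0⟩; ⟨0,0⟩, ⟨0,0⟩, ⟨1,0⟩]) (by decide +kernel)
  have h23 := hvi.mul3 h4 hv (C := !![⟨1,1⟩, ⟨0,0⟩, ⟨0,1⟩; ⟨0,1⟩, ⟨1,0⟩, ⟨0,1⟩; ⟨0,1⟩, ⟨0,0⟩, ⟨1,1⟩]) (by decide +kernel)
  have h24 := hu.mul3 h23 hui (C := !![⟨1,0⟩, ⟨0,0⟩, ⟨0,0⟩; ⟨0,0⟩, ⟨1,0⟩, ⟨0,0⟩; ⟨0,1⟩, ⟨0,1⟩, ⟨1,0⟩]) (by decide +kernel)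
  have h25 := hvi.mul3 h24 hv (C := !![⟨1,0⟩, ⟨0,0⟩, ⟨0,0⟩; ⟨0,0⟩, ⟨1,0⟩, ⟨0,1⟩; ⟨0,0⟩, ⟨0,0⟩, ⟨1,0⟩]) (by decide +kernel)
  have h26 := h5.mul h11 (C := !![⟨1,0⟩, ⟨1,1⟩, ⟨0,0⟩; ⟨0,0⟩, ⟨1,0⟩, ⟨0,0⟩; ⟨0,0⟩, ⟨0,0⟩, ⟨1,0⟩]) (by decide +kernel)
  have h27 := h5.comm h22 (C := !![⟨1,0⟩, ⟨0,0⟩, ⟨1,0⟩; ⟨0,0⟩, ⟨1,0⟩, ⟨0,0⟩; ⟨0,0⟩, ⟨0,0⟩, ⟨1,0⟩]) (by decide +kernel)
  have h28 := h5.comm h25 (C := !![⟨1,0⟩, ⟨0,0⟩, ⟨0,1⟩; ⟨0,0⟩, ⟨1,0⟩, ⟨0,0⟩; ⟨0,0⟩, ⟨0,0⟩, ⟨1,0⟩]) (by decide +kernel)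
  have h29 := h11.comm h25 (C := !![⟨1,0⟩, ⟨0,0⟩, ⟨1,1⟩; ⟨0,0⟩, ⟨1,0⟩, ⟨0,0⟩; ⟨0,0⟩, ⟨0,0⟩, ⟨1,0⟩]) (by decide +kernel)
  have h30 := h12.mul h19 (C := !![⟨1,0⟩, ⟨0,0⟩, ⟨0,0⟩; ⟨1,1⟩, ⟨1,0⟩, ⟨0,0⟩; ⟨0,0⟩, ⟨0,0⟩, ⟨1,0⟩]) (by decide +kernel)
  have h31 := h12.comm h29 (C := !![⟨1,0⟩, ⟨0,0⟩, ⟨0,0⟩; ⟨0,0⟩, ⟨1,0⟩, ⟨1,1⟩; ⟨0,0⟩, ⟨0,0⟩, ⟨1,0⟩]) (by decide +kernel)
  have h32 := h12.comm h13 (C := !![⟨1,0⟩, ⟨0,0⟩, ⟨0,0⟩; ⟨0,0⟩, ⟨1,0⟩, ⟨0,0⟩; ⟨1,0⟩, ⟨0,0⟩, ⟨1,0⟩]) (by decide +kernel)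
  have h33 := h12.comm h18 (C := !![⟨1,0⟩, ⟨0,0⟩, ⟨0,0⟩; ⟨0,0⟩, ⟨1,0⟩, ⟨0,0⟩; ⟨0,1⟩, ⟨0,0⟩, ⟨1,0⟩]) (by decide +kernel)
  have h34 := h19.comm h18 (C := !![⟨1,0⟩, ⟨0,0⟩, ⟨0,0⟩; ⟨0,0⟩, ⟨1,0⟩, ⟨0,0⟩; ⟨1,1⟩, ⟨0,0⟩, ⟨1,0⟩]) (by decide +kernel)
  have h35 := h5.comm h34 (C := !![⟨1,0⟩, ⟨0,0⟩, ⟨0,0⟩; ⟨0,0⟩, ⟨1,0⟩, ⟨0,0⟩; ⟨0,0⟩, ⟨1,1⟩, ⟨1,0⟩]) (by decide +kernel)
  refine inCl_all [!![⟨1,0⟩, ⟨1,0⟩, ⟨0,0⟩; ⟨0,0⟩, ⟨1,0⟩, ⟨0,0⟩; ⟨0,0⟩, ⟨0,0⟩, ⟨1,0⟩], !![⟨1,0⟩, ⟨0,1⟩, ⟨0,0⟩; ⟨0,0⟩, ⟨1,0⟩, ⟨0,0⟩; ⟨0,0⟩, ⟨0,0⟩, ⟨1,0⟩], !![⟨1,0⟩, ⟨1,1⟩, ⟨0,0⟩; ⟨0,0⟩, ⟨1,0⟩, ⟨0,0⟩; ⟨0,0⟩, ⟨0,0⟩, ⟨1,0⟩], !![⟨1,0⟩, ⟨0,0⟩, ⟨1,0⟩; ⟨0,0⟩, ⟨1,0⟩, ⟨0,0⟩; ⟨0,0⟩, ⟨0,0⟩, ⟨1,0⟩], !![⟨1,0⟩, ⟨0,0⟩, ⟨0,1⟩; ⟨0,0⟩, ⟨1,0⟩, ⟨0,0⟩; ⟨0,0⟩, ⟨0,0⟩, ⟨1,0⟩], !![⟨1,0⟩, ⟨0,0⟩, ⟨1,1⟩; ⟨0,0⟩, ⟨1,0⟩, ⟨0,0⟩; ⟨0,0⟩, ⟨0,0⟩, ⟨1,0⟩], !![⟨1,0⟩, ⟨0,0⟩,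 ⟨0,0⟩; ⟨1,0⟩, ⟨1,0⟩, ⟨0,0⟩; ⟨0,0⟩, ⟨0,0⟩, ⟨1,0⟩], !![⟨1,0⟩, ⟨0,0⟩, ⟨0,0⟩; ⟨0,1⟩, ⟨1,0⟩, ⟨0,0⟩; ⟨0,0⟩, ⟨0,0⟩, ⟨1,0⟩], !![⟨1,0⟩, ⟨0,0⟩, ⟨0,0⟩; ⟨1,1⟩, ⟨1,0⟩, ⟨0,0⟩; ⟨0,0⟩, ⟨0,0⟩, ⟨1,0⟩], !![⟨1,0⟩, ⟨0,0⟩, ⟨0,0⟩; ⟨0,0⟩, ⟨1,0⟩, ⟨1,0⟩; ⟨0,0⟩, ⟨0,0⟩, ⟨1,0⟩], !![⟨1,0⟩, ⟨0,0⟩, ⟨0,0⟩; ⟨0,0⟩, ⟨1,0⟩, ⟨0,1⟩; ⟨0,0⟩, ⟨0,0⟩, ⟨1,0⟩], !![⟨1,0⟩, ⟨0,0⟩, ⟨0,0⟩; ⟨0,0⟩, ⟨1,0⟩, ⟨1,1⟩; ⟨0,0⟩, ⟨0,0⟩, ⟨1,0⟩], !![⟨1,0⟩, ⟨0,0⟩, ⟨0,0⟩; ⟨0,0⟩, ⟨1,0⟩, ⟨0,0⟩; ⟨1,0⟩, ⟨0,0⟩, ⟨1,0⟩], !![⟨1,0⟩, ⟨0,0⟩, ⟨0,0⟩; ⟨0,0⟩, ⟨1,0⟩, ⟨0,0⟩; ⟨0,1⟩, ⟨0,0⟩, ⟨1,0⟩], !![⟨1,0⟩, ⟨0,0⟩, ⟨0,0⟩; ⟨0,0⟩, ⟨1,0⟩, ⟨0,0⟩; ⟨1,1⟩, ⟨0,0⟩, ⟨1,0⟩], !![⟨1,0⟩, ⟨0,0⟩, ⟨0,0⟩; ⟨0,0⟩, ⟨1,0⟩, ⟨0,0⟩; ⟨0,0⟩, ⟨1,0⟩, ⟨1,0⟩], !![⟨1,0⟩, ⟨0,0⟩, ⟨0,0⟩; ⟨0,0⟩, ⟨1,0⟩, ⟨0,0⟩; ⟨0,0⟩, ⟨0,1⟩, ⟨1,0⟩], !![⟨1,0⟩, ⟨0,0⟩, ⟨0,0⟩; ⟨0,0⟩, ⟨1,0⟩, ⟨0,0⟩; ⟨0,0⟩, ⟨1,1⟩, ⟨1,0⟩]] ?_ (by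 decide +kernel)
  simp only [List.forall_mem_cons]
  exact ⟨h5, h11, h26, h27, h28, h29, h12, h19, h30, h22, h25, h31, h32, h33, h34, h13, h18, h35, fun _ h => absurd h List.not_mem_nil⟩

theorem twoConj_4_3 : TwoConj 4 (ZMod 3) := by
  refine twoConj_of_inCl (!![1, 1, 0, 0; 0, 1, 1, 0; 0, 0, 1, 1; 0, 0, 0, 1]) (!![2, 1, 0, 1; 1, 1, 0, 1; 2, 1, 0, 2; 2, 0, 2, 1]) (!![2, 2, 2, 2; 1, 1, 0, 2; 1, 2, 0, 2; 1, 1, 0, 1]) (by decide +kernel) (by decide +kernel)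
    (by decide +kernel) (by decide +kernel) (by decide +kernel) fun s hu hv => ?_
  have hui := hu.inv (B := !![1, 2, 1, 2; 0, 1, 2, 1; 0, 0, 1, 2; 0, 0, 0, 1]) (by decide +kernel)
  have hvi := hv.inv (B := !![0, 0, 2, 2; 0, 2, 1, 0; 2, 0, 0, 2; 0, 1, 0, 2]) (by decide +kernel)
  have h0 := hu.mul hu (C := !![1, 2, 1, 0; 0, 1, 2, 1; 0, 0, 1, 2; 0, 0, 0, 1]) (by decide +kernel)
  have h1 := h0.mul hu (C := !![1, 0, 0, 1; 0, 1, 0, 0; 0, 0, 1, 0; 0, 0, 0, 1]) (by decide +kernel)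
  have h2 := hvi.mul3 h1 hv (C := !![1, 0, 0, 0; 0, 1, 0, 0; 2, 2, 1, 2; 0, 0, 0, 1]) (by decide +kernel)
  have h3 := hui.mul3 h2 hu (C := !![0, 1, 2, 2; 1, 0, 1, 1; 2, 1, 0, 2; 0, 0, 0, 1]) (by decide +kernel)
  have h4 := hui.mul3 h3 hu (C := !![1, 0, 0, 0; 2, 1, 0, 1; 2, 0, 1, 1; 0, 0, 0, 1]) (by decide +kernel)
  have h5 := hui.mul3 h4 hu (C := !![1, 0, 0, 0; 0, 1, 0, 0; 2, 2, 1, 1; 0, 0, 0, 1]) (by decide +kernel)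
  have h6 := hv.mul3 h5 hvi (C := !![1, 1, 0, 0; 0, 1, 0, 0; 0, 0, 1, 0; 0, 0, 0, 1]) (by decide +kernel)
  have h7 := hv.mul3 h1 hvi (C := !![1, 2, 0, 1; 0, 2, 0, 2; 0, 1, 1, 2; 0, 1, 0, 0]) (by decide +kernel)
  have h8 := hu.mul3 h7 hui (C := !![1, 0, 0, 0; 0, 0, 1, 0; 0, 2, 2, 0; 0, 1, 2, 1]) (by decide +kernel)
  have h9 := hv.mul3 h8 hvi (C := !![2, 2, 1, 1; 1, 0, 1, 1; 0, 0, 1, 0; 0, 0, 0, 1]) (by decide +kernel)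
  have h10 := hui.mul3 h9 hu (C := !![1, 0, 0, 0; 1, 1, 0, 2; 0, 0, 1, 0; 0, 0, 0, 1]) (by decide +kernel)
  have h11 := hui.mul3 h10 hu (C := !![0, 2, 0, 1; 1, 2, 0, 2; 0, 0, 1, 0; 0, 0, 0, 1]) (by decide +kernel)
  have h12 := hui.mul3 h11 hu (C := !![2, 2, 1, 2; 1, 0, 1, 2; 0, 0, 1, 0; 0, 0, 0, 1]) (by decide +kernel)
  have h13 := hui.mul3 h12 hu (C := !![1, 0, 0, 0; 1, 1, 0, 0; 0, 0, 1, 0; 0, 0, 0, 1]) (by decide +kernel)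
  have h14 := hvi.mul3 h8 hv (C := !![1, 0, 0, 0; 0, 1, 0, 0; 0, 1, 1, 0; 0, 2, 0, 1]) (by decide +kernel)
  have h15 := hu.mul3 h14 hui (C := !![1, 0, 0, 0; 0, 2, 2, 1; 0, 0, 1, 0; 0, 2, 1, 0]) (by decide +kernel)
  have h16 := hvi.mul3 h15 hv (C := !![2, 0, 0, 1; 2, 1, 0, 2; 1, 0, 1, 1; 2, 0, 0, 0]) (by decide +kernel)
  have h17 := hvi.mul3 h16 hv (C := !![1, 0, 0, 0; 0, 1, 1, 0; 0, 0, 1, 0; 0, 0, 0, 1]) (by decide +kernel)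
  have h18 := hv.mul3 h11 hvi (C := !![1, 0, 0, 0; 0, 1, 0, 0; 0, 1, 1, 0; 0, 0, 0, 1]) (by decide +kernel)
  have h19 := hu.mul3 h9 hui (C := !![0, 2, 0, 2; 1, 2, 0, 1; 0, 0, 1, 0; 0, 0, 0, 1]) (by decide +kernel)
  have h20 := hv.mul3 h19 hvi (C := !![1, 0, 0, 0; 0, 1, 0, 0; 0, 0, 1, 1; 0, 0, 0, 1]) (by decide +kernel)
  have h21 := hui.mul3 h7 hu (C := !![1, 1, 1, 2; 0, 2, 1, 2; 0, 0, 1, 0; 0, 1, 1, 0]) (by decide +kernel)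
  have h22 := hvi.mul3 h21 hv (C := !![0, 1, 0, 0; 2, 2, 0, 0; 1, 2, 1, 0; 0, 0, 0, 1]) (by decide +kernel)
  have h23 := hvi.mul3 h22 hv (C := !![0, 2, 1, 0; 2, 0, 1, 0; 1, 1, 0, 0; 2, 2, 1, 1]) (by decide +kernel)
  have h24 := hui.mul3 h23 hu (C := !![0, 1, 0, 1; 0, 1, 0, 0; 2, 1, 1, 1; 2, 1, 0, 2]) (by decide +kernel)
  have h25 := hv.mul3 h24 hvi (C := !![1, 0, 0, 0; 0, 1, 0, 0; 0, 0, 1, 0; 0, 0, 1, 1]) (by decide +kernel)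
  have h26 := h6.mul h6 (C := !![1, 2, 0, 0; 0, 1, 0, 0; 0, 0, 1, 0; 0, 0, 0, 1]) (by decide +kernel)
  have h27 := h6.comm h17 (C := !![1, 0, 1, 0; 0, 1, 0, 0; 0, 0, 1, 0; 0, 0, 0, 1]) (by decide +kernel)
  have h28 := h17.comm h6 (C := !![1, 0, 2, 0; 0, 1, 0, 0; 0, 0, 1, 0; 0, 0, 0, 1]) (by decide +kernel)
  have h29 := h20.comm h28 (C := !![1, 0, 0, 1; 0, 1, 0, 0; 0, 0, 1, 0; 0, 0, 0, 1]) (by decide +kernel)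
  have h30 := h20.comm h27 (C := !![1, 0, 0, 2; 0, 1, 0, 0; 0, 0, 1, 0; 0, 0, 0, 1]) (by decide +kernel)
  have h31 := h13.mul h13 (C := !![1, 0, 0, 0; 2, 1, 0, 0; 0, 0, 1, 0; 0, 0, 0, 1]) (by decide +kernel)
  have h32 := h13.comm h28 (C := !![1, 0, 0, 0; 0, 1, 2, 0; 0, 0, 1, 0; 0, 0, 0, 1]) (by decide +kernel)
  have h33 := h13.comm h29 (C := !![1, 0, 0, 0; 0, 1, 0, 1; 0, 0, 1, 0; 0, 0, 0, 1]) (by decide +kernel)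
  have h34 := h13.comm h30 (C := !![1, 0, 0, 0; 0, 1, 0, 2; 0, 0, 1, 0; 0, 0, 0, 1]) (by decide +kernel)
  have h35 := h18.comm h13 (C := !![1, 0, 0, 0; 0, 1, 0, 0; 1, 0, 1, 0; 0, 0, 0, 1]) (by decide +kernel)
  have h36 := h13.comm h18 (C := !![1, 0, 0, 0; 0, 1, 0, 0; 2, 0, 1, 0; 0, 0, 0, 1]) (by decide +kernel)
  have h37 := h6.comm h35 (C := !![1, 0, 0, 0; 0, 1, 0, 0; 0, 2, 1, 0; 0, 0, 0, 1]) (by decide +kernel)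
  have h38 := h18.comm h34 (C := !![1, 0, 0, 0; 0, 1, 0, 0; 0, 0, 1, 2; 0, 0, 0, 1]) (by decide +kernel)
  have h39 := h25.comm h35 (C := !![1, 0, 0, 0; 0, 1, 0, 0; 0, 0, 1, 0; 1, 0, 0, 1]) (by decide +kernel)
  have h40 := h25.comm h36 (C := !![1, 0, 0, 0; 0, 1, 0, 0; 0, 0, 1, 0; 2, 0, 0, 1]) (by decide +kernel)
  have h41 := h6.comm h40 (C := !![1, 0, 0, 0; 0, 1, 0, 0; 0, 0, 1, 0; 0, 1, 0, 1]) (by decide +kernel)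
  have h42 := h6.comm h39 (C := !![1, 0, 0, 0; 0, 1, 0, 0; 0, 0, 1, 0; 0, 2, 0, 1]) (by decide +kernel)
  have h43 := h17.comm h41 (C := !![1, 0, 0, 0; 0, 1, 0, 0; 0, 0, 1, 0; 0, 0, 2, 1]) (by decide +kernel)
  refine inCl_all [!![1, 1, 0, 0; 0, 1, 0, 0; 0, 0, 1, 0; 0, 0, 0, 1], !![1, 2, 0, 0; 0, 1, 0, 0; 0, 0, 1, 0; 0, 0, 0, 1], !![1, 0, 1, 0; 0, 1, 0, 0; 0, 0, 1, 0; 0, 0, 0, 1], !![1, 0, 2, 0; 0, 1, 0, 0; 0, 0, 1, 0; 0, 0, 0, 1], !![1, 0, 0, 1; 0, 1, 0, 0; 0, 0, 1, 0; 0, 0, 0, 1], !![1, 0, 0, 2; 0, 1, 0, 0; 0, 0, 1, 0; 0, 0, 0, 1], !![1, 0, 0, 0; 1, 1, 0, 0; 0, 0, 1, 0; 0, 0, 0, 1], !![1, 0, 0, 0; 2, 1, 0, 0; 0, 0, 1, 0; 0, 0, 0, 1], !![1, 0, 0, 0; 0, 1, 1, 0; 0, 0, 1, 0; 0, 0, 0, 1], !![1, 0, 0, 0; 0, 1, 2, 0; 0, 0, 1, 0; 0, 0, 0, 1], !![1, 0, 0, 0; 0, 1, 0, 1; 0, 0, 1, 0; 0, 0,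 0, 1], !![1, 0, 0, 0; 0, 1, 0, 2; 0, 0, 1, 0; 0, 0, 0, 1], !![1, 0, 0, 0; 0, 1, 0, 0; 1, 0, 1, 0; 0, 0, 0, 1], !![1, 0, 0, 0; 0, 1, 0, 0; 2, 0, 1, 0; 0, 0, 0, 1], !![1, 0, 0, 0; 0, 1, 0, 0; 0, 1, 1, 0; 0, 0, 0, 1], !![1, 0, 0, 0; 0, 1, 0, 0; 0, 2, 1, 0; 0, 0, 0, 1], !![1, 0, 0, 0; 0, 1, 0, 0; 0, 0, 1, 1; 0, 0, 0, 1], !![1, 0, 0, 0; 0, 1, 0, 0; 0, 0, 1, 2; 0, 0, 0, 1], !![1, 0, 0, 0; 0, 1, 0, 0; 0, 0, 1, 0; 1, 0, 0, 1], !![1, 0, 0, 0; 0, 1, 0, 0; 0, 0, 1, 0; 2, 0, 0, 1], !![1, 0, 0, 0; 0, 1, 0, 0; 0, 0, 1, 0; 0, 1, 0, 1], !![1, 0, 0, 0; 0, 1, 0, 0; 0, 0, 1, 0; 0, 2, 0, 1], !![1, 0, 0, 0; 0, 1, 0, 0; 0, 0, 1, 0; 0, 0, 1, 1], !![1, 0, 0, 0; 0, 1, 0, 0; 0, 0, 1, 0; 0, 0, 2, 1]] ?_ (by decide +kernel)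
  simp only [List.forall_mem_cons]
  exact ⟨h6, h26, h27, h28, h29, h30, h13, h31, h17, h32, h33, h34, h35, h36, h18, h37, h20, h38, h39, h40, h41, h42, h25, h43, fun _ h => absurd h List.not_mem_nil⟩

open Polynomial

variable {F : Type*} [Field F]

theorem exists_ne_of_card [Finite F] (a b c : F) (h : 4 ≤ Nat.card F) :
    ∃ x : F, x ≠ a ∧ x ≠ b ∧ x ≠ c := by
  classical
  have := Fintype.ofFinite F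
  by_contra hc
  push Not at hc
  have : (Finset.univ : Finset F) ⊆ {a, b, c} := fun x _ => by
    have := hc x; simp only [Finset.mem_insert, Finset.mem_singleton]; tauto
  have h1 := Finset.card_le_card this
  have h2 : ({a, b, c} : Finset F).card ≤ 3 := Finset.card_le_three
  rw [Finset.card_univ, ← Nat.card_eq_fintype_card] at h1
  omega

theorem exists_ne_zero_one [Finite F] (h : 3 ≤ Nat.card F) : ∃ x : F, x ≠ 0 ∧ x ≠ 1 := by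
  classical
  have := Fintype.ofFinite F
  by_contra hc
  push Not at hc
  have : (Finset.univ : Finset F) ⊆ {0, 1} := fun x _ => by
    have := hc x; simp only [Finset.mem_insert, Finset.mem_singleton]; tauto
  have h1 := Finset.card_le_card this
  have h2 : ({0, 1} : Finset F).card ≤ 2 := Finset.card_le_two
  rw [Finset.card_univ, ← Nat.card_eq_fintype_card] at h1
  omega

theorem twoConj_big [Finite F] (h : 3 ≤ Nat.card F) (j : ℕ) : TwoConj (j + 3 + 2) F := by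
  obtain ⟨lam, h0, h1⟩ := exists_ne_zero_one h
  obtain ⟨g, hg, hgd, hg0, hsq, hgen⟩ := exists_irred_norm (k := j + 3) (by omega) h0
  set μ := -((lam - 1) ^ 2 / lam) with hμ
  have hμ0 : μ ≠ 0 := neg_ne_zero.2 (div_ne_zero (pow_ne_zero _ (sub_ne_zero.2 h1)) h0)
  obtain ⟨r, y, hr, hy, e⟩ : ∃ r y : F, r ≠ 0 ∧ y ≠ 0 ∧ y * (1 + r) =
      -(lam - lam⁻¹ - (j + 3 : ℕ) - g.coeff (j + 3 - 1)) - j - μ * r ^ 2 := by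
    set σ := -(lam - lam⁻¹ - (j + 3 : ℕ) - g.coeff (j + 3 - 1)) - j
    have key : ∀ r : F, r ≠ 0 → 1 + r ≠ 0 → σ ≠ μ * r ^ 2 →
        ∃ r y : F, r ≠ 0 ∧ y ≠ 0 ∧ y * (1 + r) = σ - μ * r ^ 2 := fun r a b c =>
      ⟨r, (σ - μ * r ^ 2) / (1 + r), a, div_ne_zero (sub_ne_zero.2 c) b, div_mul_cancel₀ _ b⟩
    by_cases h2 : (2 : F) = 0
    · by_cases h3 : σ = μ * lam ^ 2
      · refine key (lam + 1) (fun e => h1 (by linear_combination e - h2))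
          (fun e => h0 (by linear_combination e - h2)) fun e => hμ0 ?_
        linear_combination h3 - e - μ * lam * h2
      · exact key lam h0 (fun e => h1 (by linear_combination e - h2)) h3
    · by_cases h3 : σ = μ * 1 ^ 2
      · exact ⟨-1, 1, by simp, one_ne_zero, by linear_combination -h3⟩
      · exact key 1 one_ne_zero (by rwa [one_add_one_eq_two]) h3
  let l : ℕ → F := fun i => if i = 1 then -(μ * r ^ 2) else if i = 2 then -y else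
    if i = j + 3 then -(r * y) else if i = j + 4 then -μ else -1
  have l1 : l 1 = -(μ * r ^ 2) := by simp [l]
  have l2 : l 2 = -y := by simp [l]
  have l3 : l (j + 3) = -(r * y) := by simp [l]
  have l4 : l (j + 3 + 1) = -μ := by simp [l]
  have l5 : ∀ i < j, l (i + 3) = -1 := fun i hi => by
    simp only [l]
    rw [if_neg (by omega), if_neg (by omega), if_neg (by omega), if_neg (by omega)]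
  refine twoConj_param (by omega) h0 h1 hg hgd hg0 hsq hgen (l := l) (fun i hi hi2 => ?_)
    (by rw [l4, hμ, neg_neg]) ?_ (t := μ * r * y) ?_ (Or.inl (by omega))
  · simp only [l]
    split_ifs <;> simp [hμ0, hr, hy]
  · rw [Finset.sum_Ico_eq_sum_range, show j + 3 + 1 - 1 = j + 1 + 1 + 1 by omega,
      Finset.sum_range_succ', Finset.sum_range_succ', Finset.sum_range_succ,
      Finset.sum_congr rfl (g := fun _ => (-1 : F)) (fun i hi => by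
        rw [show 1 + (i + 1 + 1) = i + 3 by omega, l5 i (Finset.mem_range.1 hi)]),
      show 1 + (j + 1 + 1) = j + 3 by omega, l3, show 1 + (0 + 1) = 2 from rfl, l2, add_zero, l1]
    simp only [Finset.sum_const, Finset.card_range, nsmul_eq_mul]
    linear_combination -e
  · rw [Finset.prod_range_succ, Finset.prod_range_succ, Finset.prod_range_succ',
      Finset.prod_range_succ', Finset.prod_range_succ',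
      Finset.prod_eq_one (fun i hi => by
        rw [show i + 1 + 1 + 1 = i + 3 by omega, l5 i (Finset.mem_range.1 hi)]; simp), l3, l4]
    simp only [zero_add, Nat.reduceAdd, l1, l2, neg_neg]
    ring

theorem twoConj_four_even [Finite F] (h : 4 ≤ Nat.card F) (h2 : (2 : F) = 0) : TwoConj 4 F := by
  obtain ⟨lam, h0, h1⟩ := exists_ne_zero_one (F := F) (by omega)
  obtain ⟨g, hg, hgd, hg0, hsq, hgen⟩ := exists_irred_norm (k := 2) le_rfl h0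
  obtain ⟨x, a, b, c⟩ := exists_ne_of_card 0 ((lam - 1) ^ 2 / lam)
    (lam - lam⁻¹ - (2 : ℕ) - g.coeff (2 - 1)) h
  have : CharP F 2 := CharTwo.of_one_ne_zero_of_two_eq_zero one_ne_zero h2
  have hs := (Finite.injective_iff_surjective.1 (frobenius_inj F 2))
  let l : ℕ → F := fun i => if i = 1 then x else if i = 2 then
    lam - lam⁻¹ - (2 : ℕ) - g.coeff (2 - 1) - x else (lam - 1) ^ 2 / lam
  obtain ⟨t, ht⟩ := (hs.comp hs) (∏ i ∈ Finset.range (2 + 2), (-l i) ^ i)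
  refine twoConj_param (k := 2) le_rfl h0 h1 hg hgd hg0 hsq hgen (l := l) (fun i hi hi2 => ?_)
    (by simp [l]) (by simp [l, Finset.sum_Ico_eq_sum_range, Finset.sum_range_succ]) (t := t)
    (by rw [← ht]; simp [frobenius_def, ← pow_mul]) (Or.inr (by simpa [l] using b))
  rcases (show i = 1 ∨ i = 2 by omega) with rfl | rfl
  · simpa [l] using a
  · simpa [l, sub_eq_zero] using c.symm

theorem twoConj_four_odd [Finite F] (h2 : (2 : F) ≠ 0) {s y u : F} (hs : s ≠ 0) (hs1 : s ^ 2 ≠ 1)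
    (hy : y ≠ 0) (hu : (s * y) ^ 2 = u ^ 4) (h3 : 4 * s ^ 2 + y ≠ 0) (h4 : 4 * s ^ 2 + y - 4 ≠ 0)
    (hgen : Subring.closure {-2 + 4 * s ^ 2 + y} = ⊤) : TwoConj 4 F := by
  set t := -2 + 4 * s ^ 2 + y with ht
  have h4' : (4 : F) ≠ 0 := by rw [show (4 : F) = 2 * 2 by norm_num]; exact mul_ne_zero h2 h2
  have hg : (X ^ 2 + C t * X + 1 : F[X]).Monic := by monicity!
  have hsq : Squarefree ((X - C (-1)) * (X ^ 2 + C t * X + 1) : F[X]) := by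
    rw [squarefree_mul_iff]
    refine ⟨IsCoprime.isRelPrime ⟨-C (2 - t)⁻¹ * (X + C t - 1), C (2 - t)⁻¹, ?_⟩,
      (irreducible_X_sub_C _).squarefree, Separable.squarefree ?_⟩
    · have : C (2 - t)⁻¹ * (2 - C t) = (1 : F[X]) := by
        rw [show (2 : F[X]) = C 2 from rfl, ← C_sub, ← C_mul, inv_mul_cancel₀, C_1]
        exact fun e => h4 (by rw [ht] at e; linear_combination -e)
      rw [C_neg, C_1]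
      linear_combination this
    · have : C (4 - t ^ 2)⁻¹ * (4 - C t ^ 2) = (1 : F[X]) := by
        rw [show (4 : F[X]) = C 4 from rfl, ← C_pow, ← C_sub, ← C_mul, inv_mul_cancel₀, C_1]
        exact fun e => mul_ne_zero h3 h4 (by rw [ht] at e; linear_combination -e)
      refine ⟨C (4 - t ^ 2)⁻¹ * 4, -C (4 - t ^ 2)⁻¹ * (2 * X + C t), ?_⟩
      simp only [derivative_add, derivative_X_pow, derivative_mul, derivative_C, derivative_X,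
        derivative_one, Nat.cast_ofNat, map_ofNat]
      linear_combination this
  let l : ℕ → F := fun i => if i = 1 then -(4 * s ^ 2) else if i = 2 then -y else -4
  refine twoConj_param (k := 2) (lam := -1) le_rfl (by simp)
    (fun e => h2 (by linear_combination -e)) hg (by compute_degree!) (by simp) hsq
    (scalGen_of_closure hgen ?_) (l := l) (fun i hi hi2 => ?_) (by simp [l]; norm_num) ?_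
    (t := 4 * u) ?_ (Or.inr ?_)
  · rintro R hR _ rfl
    obtain ⟨m, hm, hm'⟩ := exists_dvd_X_pow_sub_one hg (Squarefree.of_mul_right hsq) (by simp)
    obtain ⟨m, rfl⟩ : ∃ k, m = k + 1 := ⟨m - 1, by
      have : m ≠ 0 := by rintro rfl; simp at hm
      omega⟩
    have hX : X ∈ R := by simpa using R.neg_mem hR
    refine ⟨-X - X ^ m, R.sub_mem (R.neg_mem hX) (R.pow_mem hX m), ?_⟩
    obtain ⟨Q, hQ⟩ := hm'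
    exact ⟨(X + C t) * Q - X ^ m, by linear_combination (X + C t) * hQ⟩
  · rcases (show i = 1 ∨ i = 2 by omega) with rfl | rfl
    · simp [l, h4', hs]
    · simp [l, hy]
  · simp [l, Finset.sum_Ico_eq_sum_range, Finset.sum_range_succ, coeff_one, coeff_X, coeff_X_pow]
    rw [ht]; ring
  · simp [l, Finset.prod_range_succ]
    linear_combination 256 * hu
  · simp only [l]
    intro e
    simp at e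
    exact hs1 (mul_left_cancel₀ h4' (by linear_combination e))

theorem inv_mem_subring [Finite F] (R : Subring F) {x : F} (hx : x ∈ R) : x⁻¹ ∈ R := by
  have := Fintype.ofFinite F
  by_cases h0 : x = 0
  · simp [h0]
  · have h1 := FiniteField.pow_card_sub_one_eq_one x h0
    have h2 : Fintype.card F - 1 = Fintype.card F - 2 + 1 := by
      have := Fintype.one_lt_card (α := F); omega
    rw [h2, pow_succ] at h1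
    rw [← eq_inv_of_mul_eq_one_left h1]
    exact R.pow_mem hx _

/-- A square generating a finite field of odd order as a ring. -/
theorem exists_sq_gen [Finite F] : ∃ x : F, x ≠ 0 ∧ Subring.closure {x ^ 2} = ⊤ := by
  obtain ⟨θ, hθ⟩ := IsCyclic.exists_generator (α := Fˣ)
  refine ⟨θ, θ.ne_zero, ?_⟩
  rw [← Units.val_pow_eq_pow_val]
  apply closure_eq_top_of_order
  have h1 := order_pow_bound θ two_pos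
  rw [orderOf_eq_card_of_forall_mem_zpowers hθ, Nat.card_units] at h1
  have := orderOf_pos (θ ^ 2)
  have h2 : Nat.card F ≤ orderOf (θ ^ 2) * 2 + 1 := by omega
  nlinarith

theorem twoConj_four [Finite F] (h2 : (2 : F) ≠ 0) (h : Nat.card F ≠ 3) : TwoConj 4 F := by
  have h4 : (4 : F) ≠ 0 := by rw [show (4 : F) = 2 * 2 by norm_num]; exact mul_ne_zero h2 h2
  by_cases hc : Subring.closure (∅ : Set F) = ⊤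
  · have h3 : (3 : F) ≠ 0 := fun e => h (by
      have : CharP F 3 := (CharP.charP_iff_prime_eq_zero Nat.prime_three).2 (by exact_mod_cast e)
      exact closure_empty_iff.1 hc)
    have hs : (2 : F) ^ 2 ≠ 1 := fun e => h3 (by linear_combination e)
    by_cases h7 : (7 : F) = 0
    · refine twoConj_four_odd h2 (s := 2) (y := 8) (u := 4) h2 hs
        (fun e => mul_ne_zero h2 h4 (by linear_combination e)) (by norm_num)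
        (fun e => mul_ne_zero h3 (mul_ne_zero h2 h4) (by linear_combination e))
        (fun e => one_ne_zero (α := F) (by linear_combination 3 * h7 - e)) (closure_top_of_empty hc _)
    · exact twoConj_four_odd h2 (s := 2) (y := 2) (u := 2) h2 hs h2 (by norm_num)
        (fun e => mul_ne_zero h3 (mul_ne_zero h2 h3) (by linear_combination e))
        (fun e => mul_ne_zero h2 h7 (by linear_combination e)) (closure_top_of_empty hc _)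
  · obtain ⟨x, hx, hg⟩ := exists_sq_gen (F := F)
    have key : ∀ (R : Subring F) (a b : ℤ), (a : F) ≠ 0 → a * x ^ 2 + b ∈ R → R = ⊤ := by
      intro R a b ha hR
      rw [eq_top_iff, ← hg, Subring.closure_le]
      rintro _ rfl
      have := R.mul_mem (inv_mem_subring R (intCast_mem R a)) (R.sub_mem hR (intCast_mem R b))
      rwa [add_sub_cancel_right, ← mul_assoc, inv_mul_cancel₀ ha, one_mul] at this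
    have key' : ∀ a b : ℤ, (a : F) ≠ 0 → a * x ^ 2 + b ≠ 0 := fun a b ha e =>
      hc (key _ a b ha (e ▸ zero_mem _))
    have k1 := key' 1 1 (by simp)
    have k2 := key' 1 (-1) (by simp)
    have k3 := key' 2 1 (by simpa)
    have k4 := key' 4 1 (by simpa)
    have k5 := key' 4 5 (by simpa)
    push_cast at k1 k2 k3 k4 k5
    refine twoConj_four_odd h2 (s := x ^ 2) (y := -(2 * x ^ 2 + 1) ^ 2) (u := x * (2 * x ^ 2 + 1))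
      (pow_ne_zero _ hx) (fun e => mul_ne_zero k1 k2 (by linear_combination e))
      (neg_ne_zero.2 (pow_ne_zero _ k3)) (by ring) (fun e => k4 (by linear_combination -e))
      (fun e => k5 (by linear_combination -e)) (key _ (-4) (-3) (by simpa) ?_)
    refine Subring.subset_closure ?_
    simp only [Set.mem_singleton_iff]
    push_cast; ring

theorem twoConj_3_25 : TwoConj 3 GF25 := by
  have e : ((⟨0, 1⟩ : GF25) + 1) / (⟨0, 1⟩ ^ 2 + ⟨0, 1⟩ + 1) = ⟨3, 1⟩ := by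
    rw [div_eq_iff (by decide)]; decide
  refine twoConj_three_B (B := ⟨0, 1⟩) (by decide) (by decide) (by rw [e]; decide) ?_
  rw [e]
  by_contra hc
  obtain ⟨a, d, ha, hd, h1, h2⟩ := subring_data _ hc
  have h3 := h2 _ (Subring.subset_closure rfl)
  rw [Nat.card_eq_fintype_card, card_GF25] at h1
  have h4 : a ^ 2 ≤ a ^ d := Nat.pow_le_pow_right (by omega) hd
  have h5 : a ∣ 25 := h1 ▸ dvd_pow_self a (by omega)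
  have h6 : a ≤ 5 := by nlinarith
  have h7 : a = 5 := by
    clear h1 h2 h3 h4
    interval_cases a
    · exact absurd h5 (by decide)
    · exact absurd h5 (by decide)
    · exact absurd h5 (by decide)
    · rfl
  subst h7
  rw [inv_pow, inv_inj] at h3
  exact absurd h3 (by decide)

/-- `SL_n(q)`, `n ≥ 3`, is generated by two conjugate regular unipotent elements. -/
theorem twoConj_all [Fintype F] {n : ℕ} (hn : 3 ≤ n) : TwoConj n F := by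
  have hq : 2 ≤ Nat.card F := Finite.one_lt_card
  by_cases h2 : Nat.card F = 2
  · rcases hn.lt_or_eq with hn | rfl
    · obtain ⟨j, rfl⟩ : ∃ j, n = j + 4 := ⟨n - 4, by omega⟩
      refine twoConj_two (fun x => ?_) j
      obtain ⟨y, -, hy⟩ := (Nat.card_eq_two_iff' (0 : F)).1 h2
      by_cases hx : x = 0
      · exact Or.inl hx
      · exact Or.inr ((hy x hx).trans (hy 1 one_ne_zero).symm)
    · exact twoConj_3_2.congr (ringEquivZMod (by rwa [← Nat.card_eq_fintype_card]))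
  rcases (show n = 3 ∨ n = 4 ∨ 5 ≤ n by omega) with rfl | rfl | h5
  · by_cases h3 : Nat.card F = 3
    · exact twoConj_3_3.congr (ringEquivZMod (by rwa [← Nat.card_eq_fintype_card]))
    by_cases h4 : Nat.card F = 4
    · exact twoConj_3_4.congr (ringEquivGF4 (by rwa [← Nat.card_eq_fintype_card]))
    by_cases h25 : Nat.card F = 25
    · exact twoConj_3_25.congr (ringEquivGF25 (by rwa [← Nat.card_eq_fintype_card]))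
    obtain ⟨p, hp⟩ := CharP.exists F
    obtain ⟨f, hpp, hf⟩ := FiniteField.card F p
    rw [← Nat.card_eq_fintype_card] at hf
    by_cases h1 : (f : ℕ) = 1
    · rw [h1, pow_one] at hf
      refine twoConj_three_prime (closure_empty_iff.2 hf) (fun e => h2 ?_) fun e => h3 ?_
      · rw [hf]; exact (Nat.prime_dvd_prime_iff_eq hpp Nat.prime_two).1
          ((CharP.cast_eq_zero_iff F p 2).1 (by exact_mod_cast e))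
      · rw [hf]; exact (Nat.prime_dvd_prime_iff_eq hpp Nat.prime_three).1
          ((CharP.cast_eq_zero_iff F p 3).1 (by exact_mod_cast e))
    · exact exists_B hf (by have := f.pos; omega) (hf ▸ h4) (hf ▸ h25)
  · by_cases h3 : Nat.card F = 3
    · exact twoConj_4_3.congr (ringEquivZMod (by rwa [← Nat.card_eq_fintype_card]))
    by_cases h : (2 : F) = 0
    · exact twoConj_four_even (by omega) h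
    · exact twoConj_four h h3
  · obtain ⟨j, rfl⟩ : ∃ j, n = j + 3 + 2 := ⟨n - 5, by omega⟩
    exact twoConj_big (by omega) j

end Cfsg.Agent.KSG
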