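import Mathlib
import Cfsg.Agent.S0801
import Cfsg.Agent.Class.PSL2MaxList
import Cfsg.Agent.Class.PSL2Binary
import Cfsg.Agent.Class.Max.FmHyp

/-!
Generation of `SL₂` by transvections (Dickson), transported to hyperbolic lines of formed spaces.
-/

set_option autoImplicit false

namespace Cfsg.Agent.KSG

open Cfsg.Agent.Class Cfsg.Agent.Class.Dickson Cfsg.Agent.Class.Max KSG.M2 Matrix MatrixGroups

section SL2

variable {K : Type*} [Field K] [Fintype K] {G : Subgroup SL(2, K)} {A B C : SL(2, K)} {lam : K}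

theorem sl2_odd_top (h2 : (2 : K) ≠ 0) (hA : A ∈ G) (hB : B ∈ G)
    (eA : (A : Matrix (Fin 2) (Fin 2) K) = !![1, 0; 1, 1])
    (eB : (B : Matrix (Fin 2) (Fin 2) K) = !![1, lam; 0, 1]) (hl : lam ≠ 0)
    (hgen : Subfield.closure ({lam} : Set K) = ⊤) : G = ⊤ ∨ ((3 : K) = 0 ∧ lam ^ 2 = -1) := by
  rcases S0801.result h2 lam hl hgen with ⟨h, -⟩ | ⟨h9, h, -⟩
  · left
    rw [eq_top_iff, ← h, Subgroup.closure_le]
    rintro g (hg | hg)
    · rwa [show g = A from Subtype.ext (hg.trans eA.symm)]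
    · rwa [show g = B from Subtype.ext (hg.trans eB.symm)]
  · refine Or.inr ⟨?_, h⟩
    have := FiniteField.cast_card_eq_zero K
    rw [h9] at this
    exact pow_eq_zero_iff two_ne_zero |>.1 (by exact_mod_cast this : (3 : K) ^ 2 = 0)

omit [Fintype K] in
theorem sl2_nine_diag (h3 : (3 : K) = 0) (hl : lam ^ 2 = -1) (hA : A ∈ G) (hB : B ∈ G)
    (eA : (A : Matrix (Fin 2) (Fin 2) K) = !![1, 0; 1, 1])
    (eB : (B : Matrix (Fin 2) (Fin 2) K) = !![1, lam; 0, 1]) :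
    ∃ g ∈ G, (g : Matrix (Fin 2) (Fin 2) K) = !![lam, 0; 0, -lam] := by
  refine ⟨A * B⁻¹ * A⁻¹ * B * A * B⁻¹, G.mul_mem (G.mul_mem (G.mul_mem (G.mul_mem
    (G.mul_mem hA (G.inv_mem hB)) (G.inv_mem hA)) hB) hA) (G.inv_mem hB), ?_⟩
  simp only [Matrix.SpecialLinearGroup.coe_mul, Matrix.SpecialLinearGroup.coe_inv, eA, eB,
    adjugate_fin_two_of, mul_fin_two]
  apply ext2 <;> simp <;> grind

theorem dihedral_sr {n : ℕ} (hn : Odd n) {x : DihedralGroup n} (h1 : x ≠ 1) (h2 : x * x = 1) :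
    ∃ i, x = DihedralGroup.sr i := by
  rcases x with i | i
  · exfalso
    rw [DihedralGroup.r_mul_r, DihedralGroup.one_def, DihedralGroup.r.injEq] at h2
    apply h1
    obtain ⟨k, hk⟩ := hn
    have h3 : ((n : ℕ) : ZMod n) = 0 := ZMod.natCast_self n
    have h4 : i = 0 := by
      have h5 : (2 * k + 1 : ZMod n) = 0 := by
        have := congrArg (Nat.cast : ℕ → ZMod n) hk
        rw [h3] at this
        exact_mod_cast this.symm
      linear_combination i * h5 - k * h2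
    rw [h4, DihedralGroup.one_def]
  · exact ⟨i, rfl⟩

theorem sl2_even_top (h2 : (2 : K) = 0) (hA : A ∈ G) (hB : B ∈ G) (hC : C ∈ G)
    (eA : (A : Matrix (Fin 2) (Fin 2) K) = !![1, 0; 1, 1])
    (eB : (B : Matrix (Fin 2) (Fin 2) K) = !![1, lam; 0, 1]) (hl : lam ≠ 0)
    (hC0 : (C : Matrix (Fin 2) (Fin 2) K).trace = 0) (hC1 : C ≠ 1)
    (hABC : ((A * B * C : SL(2, K)) : Matrix (Fin 2) (Fin 2) K).trace ≠ 0)
    (hL : ∀ L : Subfield K, (∀ g ∈ G, (g : Matrix (Fin 2) (Fin 2) K).trace ^ 2 ∈ L) → L = ⊤) :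
    G = ⊤ := by
  have hneg : (-1 : SL(2, K)) = 1 := by
    ext i j
    rw [SpecialLinearGroup.coe_neg, neg_apply]
    linear_combination -((1 : SL(2, K)) : Matrix (Fin 2) (Fin 2) K) i j * h2
  have hinj : Function.Injective (pslMk K) := (injective_iff_map_eq_one _).2 fun g hg =>
    (pslMk_eq_one_iff.1 hg).elim id fun e => e.trans hneg
  have hsq : ∀ g : SL(2, K), (g : Matrix (Fin 2) (Fin 2) K).trace = 0 ↔ g * g = 1 := fun g => by
    rw [← SL_sq_eq_neg_one_iff, hneg]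
  have hA1 : A ≠ 1 := fun e => by
    have := congrFun (congrFun eA 1) 0
    simp [e] at this
  have hB1 : B ≠ 1 := fun e => by
    have := congrFun (congrFun eB 0) 1
    simp [e] at this
    exact hl this.symm
  have hA2 : A * A = 1 := (hsq A).1 (by rw [eA, trace_fin_two_of]; linear_combination h2)
  have hB2 : B * B = 1 := (hsq B).1 (by rw [eB, trace_fin_two_of]; linear_combination h2)
  have hC2 : C * C = 1 := (hsq C).1 hC0
  let e : G ≃* G.map (pslMk K) := G.equivMapOfInjective _ hinj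
  rcases dickson_PSL2_even h2 (G.map (pslMk K)) with ⟨x, hx⟩ | ⟨n, hn, hc | ⟨⟨d⟩⟩⟩ | ⟨L, h, h1, h3⟩
  · exfalso
    have h1 : pslMk K A • x = x := hx ⟨A, hA, rfl⟩
    have h3 : pslMk K B • x = x := hx ⟨B, hB, rfl⟩
    rcases inf_or_pt x with rfl | ⟨t, rfl⟩
    · rw [pslMk_smul_inf_inf] at h1
      have := congrFun (congrFun eA 1) 0
      simp at this
      exact one_ne_zero (this.symm.trans h1)
    · rw [pslMk_smul_pt_pt] at h3
      have e0 := congrFun (congrFun eB 0) 0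
      have e1 := congrFun (congrFun eB 0) 1
      have e2 := congrFun (congrFun eB 1) 0
      have e3 := congrFun (congrFun eB 1) 1
      simp at e0 e1 e2 e3
      rw [e0, e1, e2, e3] at h3
      exact hl (by linear_combination h3)
  · exfalso
    have h1 : e ⟨A, hA⟩ * e ⟨B, hB⟩ = e ⟨B, hB⟩ * e ⟨A, hA⟩ := hc.commGroup.mul_comm _ _
    rw [← map_mul, ← map_mul] at h1
    have h3 : A * B = B * A := congrArg Subtype.val (e.injective h1)
    have h4 := congrArg (fun g : SL(2, K) => (g : Matrix (Fin 2) (Fin 2) K) 0 0) h3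
    simp [eA, eB] at h4
    exact hl h4
  · exfalso
    have hq : Even (Fintype.card K) := by
      have : CharP K 2 := CharTwo.of_one_ne_zero_of_two_eq_zero one_ne_zero h2
      exact Nat.even_iff.2 (FiniteField.even_card_of_char_two (ringChar.eq K 2))
    have hq1 : 1 < Fintype.card K := Fintype.one_lt_card
    have hodd : Odd n := by
      obtain ⟨k, hk⟩ := hq
      have hg : Nat.gcd 2 (Fintype.card K - 1) = 1 :=
        Nat.coprime_two_left.2 ⟨k - 1, by omega⟩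
      rw [hg, Nat.div_one, Nat.div_one] at hn
      exact hn.elim (Odd.of_dvd_nat ⟨k, by omega⟩) (Odd.of_dvd_nat ⟨k - 1, by omega⟩)
    let f := e.trans d
    have key : ∀ (g : SL(2, K)) (hg : g ∈ G), g ≠ 1 → g * g = 1 →
        ∃ i, f ⟨g, hg⟩ = DihedralGroup.sr i := fun g hg h1 h3 =>
      dihedral_sr hodd (fun c => h1 (congrArg Subtype.val (f.injective (c.trans (map_one f).symm))))
        (by rw [← map_mul, ← map_one f]; exact congrArg f (Subtype.ext h3))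
    obtain ⟨i, hi⟩ := key A hA hA1 hA2
    obtain ⟨j, hj⟩ := key B hB hB1 hB2
    obtain ⟨k, hk⟩ := key C hC hC1 hC2
    apply hABC
    rw [hsq]
    have h4 : f ((⟨A, hA⟩ * ⟨B, hB⟩ * ⟨C, hC⟩) * (⟨A, hA⟩ * ⟨B, hB⟩ * ⟨C, hC⟩)) = f 1 := by
      rw [map_one, map_mul, map_mul, map_mul, hi, hj, hk, DihedralGroup.sr_mul_sr,
        DihedralGroup.r_mul_sr, DihedralGroup.sr_mul_self]
    exact congrArg Subtype.val (f.injective h4)
  · have hLt : L = ⊤ := hL L fun g hg => S0801.trace_sq_mem L h (h1 ⟨_, ⟨g, hg, rfl⟩, rfl⟩)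
    have hs : Function.Surjective L.subtype := fun x => ⟨⟨x, hLt ▸ Subfield.mem_top x⟩, rfl⟩
    rw [eq_top_iff]
    intro g _
    obtain ⟨_, ⟨g', hg', rfl⟩, e'⟩ := h3 (x := slTo K g) ⟨h⁻¹ * slTo K g * h,
      pslSub_le_pslOf _ hs (by
        simpa using pslSub_normal.conj_mem _ (mem_pslSub.2 ⟨_, rfl⟩) h⁻¹), by simp [mul_assoc]⟩
    rwa [← hinj (pslTo_injective e')]

end SL2

section Fm

variable {F V : Type*} [Field F] [AddCommGroup V] [Module F V] {Φ : Fm F V}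
  {M : Subgroup (V ≃ₗ[F] V)} {x y : V}

/-- The action of a `2 × 2` matrix on the hyperbolic line spanned by `x` and `y`. -/
def pl (Φ : Fm F V) (x y : V) (A : Matrix (Fin 2) (Fin 2) F) (v : V) : V :=
  v + ((A 0 0 - 1) * (Φ.B y v / Φ.B y x) + A 0 1 * (Φ.B x v / Φ.B x y)) • x
    + (A 1 0 * (Φ.B y v / Φ.B y x) + (A 1 1 - 1) * (Φ.B x v / Φ.B x y)) • y

theorem pl_one (v : V) : pl Φ x y 1 v = v := by simp [pl]

theorem pl_mul (hx : Φ.Q x = 0) (hy : Φ.Q y = 0) (h : Φ.B x y ≠ 0)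
    (A A' : Matrix (Fin 2) (Fin 2) F) (v : V) :
    pl Φ x y A (pl Φ x y A' v) = pl Φ x y (A * A') v := by
  have h' := Φ.ne_symm h
  simp only [pl, map_add, map_smul, smul_eq_mul, Φ.B_self hx, Φ.B_self hy, mul_apply,
    Fin.sum_univ_two]
  match_scalars <;> field_simp <;> ring

/-- The fixed field of the conjugation. -/
def fixK (Φ : Fm F V) : Subfield F := Φ.σ.eqLocusField (RingHom.id F)

theorem mem_fixK {a : F} : a ∈ fixK Φ ↔ Φ.σ a = a := Iff.rfl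

/-- The matrices realised by elements of `M`. -/
def plSub (M : Subgroup (V ≃ₗ[F] V)) (hx : Φ.Q x = 0) (hy : Φ.Q y = 0) (h : Φ.B x y ≠ 0) :
    Subgroup SL(2, fixK Φ) where
  carrier := {g | ∃ t ∈ M, ∀ v, t v =
    pl Φ x y ((g : Matrix (Fin 2) (Fin 2) (fixK Φ)).map (fixK Φ).subtype) v}
  one_mem' := ⟨1, M.one_mem, fun v => by
    rw [Matrix.SpecialLinearGroup.coe_one, Matrix.map_one _ (map_zero _) (map_one _), pl_one]; rfl⟩
  mul_mem' := by
    rintro a b ⟨s, hs, e1⟩ ⟨t, ht, e2⟩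
    exact ⟨s * t, M.mul_mem hs ht, fun v => by
      rw [mul_app, e1, e2, pl_mul hx hy h, Matrix.SpecialLinearGroup.coe_mul, Matrix.map_mul]⟩
  inv_mem' := by
    rintro a ⟨s, hs, e1⟩
    refine ⟨s⁻¹, M.inv_mem hs, fun v => s.injective ?_⟩
    rw [app_inv_app, e1, pl_mul hx hy h, ← Matrix.map_mul, ← Matrix.SpecialLinearGroup.coe_mul,
      mul_inv_cancel, Matrix.SpecialLinearGroup.coe_one, Matrix.map_one _ (map_zero _) (map_one _),
      pl_one]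

/-- `M` contains all transvections with centre `x`. -/
def FT (Φ : Fm F V) (M : Subgroup (V ≃ₗ[F] V)) (x : V) : Prop :=
  ∀ c, Φ.π c = 0 → Φ.HasE M x 0 c

/-- `M` contains the torus element `diag(k, k⁻¹)` of the hyperbolic line. -/
def Tor (Φ : Fm F V) (M : Subgroup (V ≃ₗ[F] V)) (x y : V) (k : F) : Prop :=
  ∃ h ∈ M, h x = k • x ∧ h y = k⁻¹ • y ∧ ∀ m, Φ.B x m = 0 → Φ.B y m = 0 → h m = m

theorem sigma_lam {c : F} (hc : Φ.π c = 0) : Φ.σ c = -(Φ.ε * c) := by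
  linear_combination Φ.ε * Φ.lam_trace hc - Φ.σ c * Φ.eps_sq

theorem lam_mem_fixK {c c' : F} (hc : Φ.π c = 0) (hc' : Φ.π c' = 0) (x y : V) :
    c * c' * Φ.B x y * Φ.B y x ∈ fixK Φ := by
  rw [mem_fixK, Φ.symm x y]
  simp only [map_mul, sigma_lam hc, sigma_lam hc', Φ.invol, Φ.σ_eps]
  linear_combination (c * c' * Φ.B x y * Φ.ε * Φ.σ (Φ.B x y)) * Φ.eps_sq

theorem FT.conj (h : FT Φ M x) {g : V ≃ₗ[F] V} (hg : g ∈ M) (hI : g ∈ Φ.Iso) : FT Φ M (g x) :=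
  fun c hc => by simpa using (h c hc).conj hg hI

theorem FT.smul (h : FT Φ M x) (a : F) : FT Φ M (a • x) := fun c hc => by
  rw [Fm.hasE_smul_left, smul_zero]
  exact h _ (by rw [Φ.π_norm, hc, mul_zero])

theorem FT.of_smul {a : F} (ha : a ≠ 0) (h : FT Φ M (a • x)) : FT Φ M x := by
  simpa [smul_smul, ha] using h.smul a⁻¹

theorem Tor.smul_right {k : F} (h : Tor Φ M x y k) {a : F} (ha : a ≠ 0) :
    Tor Φ M x (a • y) k := by
  obtain ⟨t, ht, h1, h2, h3⟩ := h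
  refine ⟨t, ht, h1, by rw [map_smul, h2, smul_comm], fun m hm hm' => h3 m hm ?_⟩
  rw [Φ.B_smul_left] at hm'
  exact (mul_eq_zero.1 hm').resolve_left (Φ.σ_ne ha)

theorem Tor.conj {k : F} (h : Tor Φ M x y k) {g : V ≃ₗ[F] V} (hg : g ∈ M) (hI : g ∈ Φ.Iso) :
    Tor Φ M (g x) (g y) k := by
  obtain ⟨t, ht, h1, h2, h3⟩ := h
  refine ⟨g * t * g⁻¹, M.mul_mem (M.mul_mem hg ht) (M.inv_mem hg), ?_, ?_, fun m hm hm' => ?_⟩
  · rw [mul_app, mul_app, inv_app_app, h1, map_smul]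
  · rw [mul_app, mul_app, inv_app_app, h2, map_smul]
  · rw [mul_app, mul_app, h3 _ (by rwa [Fm.Iso.B_inv hI]) (by rwa [Fm.Iso.B_inv hI]), app_inv_app]

theorem tor_of_diag (hx : Φ.Q x = 0) (hy : Φ.Q y = 0) (h : Φ.B x y ≠ 0) {k : F}
    {t : V ≃ₗ[F] V} (ht : t ∈ M) (e : ∀ v, t v = pl Φ x y !![k, 0; 0, k⁻¹] v) :
    Tor Φ M x y k := by
  have h' := Φ.ne_symm h
  refine ⟨t, ht, ?_, ?_, fun m hm hm' => ?_⟩
  · simp [e, pl, Φ.B_self hx, h', sub_smul]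
  · simp [e, pl, Φ.B_self hy, h, sub_smul]
  · simp [e, pl, hm, hm']

section

variable {c c' : F} (hx : Φ.Q x = 0) (hy : Φ.Q y = 0) (hc' : Φ.π c' = 0)
  (hs : Φ.B x ((-(Φ.ε * c' * Φ.B y x)) • y) ≠ 0)

include hs in
theorem ne_of_hs : c' ≠ 0 ∧ Φ.B x y ≠ 0 := by
  constructor <;> rintro h <;> simp [h] at hs

theorem lower_mem (h : Φ.HasE M y 0 c') :
    mkSL !![1, 0; 1, 1] (by simp) ∈ plSub M hx (Φ.Q_smul_zero hy _) hs := by
  obtain ⟨t, ht, e⟩ := h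
  obtain ⟨h1, h2⟩ := ne_of_hs hs
  have h3 := Φ.σ_ne h1
  have h4 := Φ.σ_ne (Φ.ne_symm h2)
  have h5 := Φ.ne_symm h2
  have h6 := Φ.σ_ne Φ.eps_ne
  refine ⟨t, ht, fun v => ?_⟩
  simp only [e, Fm.ef, pl, Φ.bsimp]
  simp
  match_scalars <;> field_simp

theorem upper_mem (hc : Φ.π c = 0) (h : Φ.HasE M x 0 c) :
    mkSL !![1, ⟨_, lam_mem_fixK hc hc' x y⟩; 0, 1] (by simp) ∈
      plSub M hx (Φ.Q_smul_zero hy _) hs := by
  obtain ⟨t, ht, e⟩ := h
  obtain ⟨h1, h2⟩ := ne_of_hs hs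
  have h5 := Φ.ne_symm h2
  have h6 := Φ.eps_ne
  refine ⟨t, ht, fun v => ?_⟩
  simp only [e, Fm.ef, pl, Φ.bsimp]
  simp
  match_scalars
  · rfl
  · field_simp
    linear_combination (-c * Φ.B x v) * Φ.eps_sq

include hc' in
theorem ft_tor_of_top (h : plSub M hx (Φ.Q_smul_zero hy _) hs = ⊤) :
    FT Φ M x ∧ ∀ k ∈ fixK Φ, k ≠ 0 → Tor Φ M x y k := by
  obtain ⟨h1, h2⟩ := ne_of_hs hs
  have h5 := Φ.ne_symm h2
  have h6 := Φ.eps_ne
  constructor
  · intro c hc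
    obtain ⟨t, ht, e⟩ : mkSL !![1, ⟨_, lam_mem_fixK hc hc' x y⟩; 0, 1] (by simp) ∈
      plSub M hx (Φ.Q_smul_zero hy _) hs := h ▸ Subgroup.mem_top _
    refine ⟨t, ht, fun v => ?_⟩
    simp only [e, Fm.ef, pl, Φ.bsimp]
    simp
    match_scalars
    · rfl
    · field_simp
      linear_combination (c * Φ.B x v) * Φ.eps_sq
  · intro k hk hk0
    have hk1 : (⟨k, hk⟩ : fixK Φ) ≠ 0 := fun e => hk0 (congrArg Subtype.val e)
    obtain ⟨t, ht, e⟩ : mkSL !![⟨k, hk⟩, 0; 0, ⟨k, hk⟩⁻¹] (by simp [hk1]) ∈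
      plSub M hx (Φ.Q_smul_zero hy _) hs := h ▸ Subgroup.mem_top _
    have h7 : -(Φ.ε * c' * Φ.B y x) ≠ 0 := by simp [h1, h5, h6]
    have := (tor_of_diag hx (Φ.Q_smul_zero hy _) hs ht (k := k) fun v => by
      rw [e]; congr 1; apply ext2 <;> simp).smul_right (inv_ne_zero h7)
    rwa [smul_smul, inv_mul_cancel₀ h7, one_smul] at this

end

theorem closure_fixK_top {S : Set (fixK Φ)}
    (h : ∀ L : Subfield F, (∀ s ∈ S, (s : F) ∈ L) → fixK Φ ≤ L) {L : Subfield (fixK Φ)}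
    (hL : ∀ s ∈ S, s ∈ L) : L = ⊤ := by
  rw [eq_top_iff]
  intro a _
  obtain ⟨b, hb, e⟩ := h (L.map (fixK Φ).subtype) (fun s hs => ⟨s, hL s hs, rfl⟩) a.2
  rwa [← show b = a from Subtype.ext e]

/-- Dickson's lemma in odd characteristic. -/
theorem dk_odd [Finite F] (h2 : (2 : F) ≠ 0) {c c' lam : F} (hx : Φ.Q x = 0) (hy : Φ.Q y = 0)
    (hc : Φ.π c = 0) (hc' : Φ.π c' = 0) (h1 : Φ.HasE M x 0 c) (h1' : Φ.HasE M y 0 c')
    (hl : lam = c * c' * Φ.B x y * Φ.B y x) (hl0 : lam ≠ 0)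
    (hgen : ∀ L : Subfield F, lam ∈ L → fixK Φ ≤ L) :
    (FT Φ M x ∧ ∀ k ∈ fixK Φ, k ≠ 0 → Tor Φ M x y k) ∨
      ((3 : F) = 0 ∧ lam ^ 2 = -1 ∧ Tor Φ M x y lam) := by
  subst hl
  have := Fintype.ofFinite (fixK Φ)
  have h7 : -(Φ.ε * c' * Φ.B y x) ≠ 0 := by
    simp only [ne_eq, mul_eq_zero, not_or] at hl0
    simp [Φ.eps_ne, hl0]
  have hs : Φ.B x ((-(Φ.ε * c' * Φ.B y x)) • y) ≠ 0 := by
    simp only [ne_eq, mul_eq_zero, not_or] at hl0
    rw [Φ.B_smul_right]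
    exact mul_ne_zero h7 hl0.1.2
  have hA := lower_mem hx hy hs h1'
  have hB := upper_mem hx hy hc' hs hc h1
  rcases sl2_odd_top (fun e => h2 (congrArg Subtype.val e)) hA hB rfl rfl
    (fun e => hl0 (congrArg Subtype.val e))
    (closure_fixK_top (S := {⟨_, lam_mem_fixK hc hc' x y⟩}) (fun L hL => hgen L (hL _ rfl))
      fun s hs => Subfield.subset_closure hs) with h | ⟨h3, h4⟩
  · exact Or.inl (ft_tor_of_top hx hy hc' hs h)
  · have h5 : (c * c' * Φ.B x y * Φ.B y x) ^ 2 = -1 := congrArg Subtype.val h4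
    refine Or.inr ⟨congrArg Subtype.val h3, h5, ?_⟩
    obtain ⟨g, ⟨t, ht, e⟩, eg⟩ := sl2_nine_diag h3 h4 hA hB rfl rfl
    have := (tor_of_diag hx (Φ.Q_smul_zero hy _) hs ht (k := c * c' * Φ.B x y * Φ.B y x)
      fun v => by
        rw [e, eg]; congr 1; apply ext2 <;> simp only [map_apply, of_apply, cons_val', cons_val_zero,
          cons_val_one, cons_val_fin_one, map_zero, map_neg]
        · rfl
        · exact (inv_eq_of_mul_eq_one_right (by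
            change _ * -(c * c' * Φ.B x y * Φ.B y x) = 1
            linear_combination -h5)).symm).smul_right (inv_ne_zero h7)
    rwa [smul_smul, inv_mul_cancel₀ h7, one_smul] at this

theorem mem_of_sq_mem [Finite F] (h2 : (2 : F) = 0) {L : Subfield F} {a : F} (h : a ^ 2 ∈ L) :
    a ∈ L := by
  have := Fintype.ofFinite F
  have : CharP F 2 := CharTwo.of_one_ne_zero_of_two_eq_zero one_ne_zero h2
  obtain ⟨n, -, hn⟩ := FiniteField.card F 2
  obtain ⟨k, hk⟩ : ∃ k, (n : ℕ) = k + 1 := ⟨n - 1, by have := n.pos; omega⟩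
  rw [← FiniteField.pow_card a, hn, hk, pow_succ', pow_mul]
  exact L.pow_mem h _

/-- Dickson's lemma in characteristic two. -/
theorem dk_even [Finite F] (h2 : (2 : F) = 0) {c c' lam : F} (hx : Φ.Q x = 0) (hy : Φ.Q y = 0)
    (hc : Φ.π c = 0) (hc' : Φ.π c' = 0) (h1 : Φ.HasE M x 0 c) (h1' : Φ.HasE M y 0 c')
    (hl : lam = c * c' * Φ.B x y * Φ.B y x) (hl0 : lam ≠ 0) {α β γ : F} (hα : α ∈ fixK Φ)
    (hβ : β ∈ fixK Φ) (hγ : γ ∈ fixK Φ) (hd : α * α - β * γ = 1) (hβ0 : β ≠ 0)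
    (ht : lam * γ + β + lam * α ≠ 0) {t : V ≃ₗ[F] V} (htM : t ∈ M)
    (e : ∀ v, t v = pl Φ x ((-(Φ.ε * c' * Φ.B y x)) • y) !![α, β; γ, α] v)
    (hgen : ∀ L : Subfield F, lam ∈ L → β ∈ L → lam * γ ∈ L → fixK Φ ≤ L) :
    FT Φ M x ∧ ∀ k ∈ fixK Φ, k ≠ 0 → Tor Φ M x y k := by
  subst hl
  have := Fintype.ofFinite (fixK Φ)
  have h7 : -(Φ.ε * c' * Φ.B y x) ≠ 0 := by
    simp only [ne_eq, mul_eq_zero, not_or] at hl0
    simp [Φ.eps_ne, hl0]
  have hs : Φ.B x ((-(Φ.ε * c' * Φ.B y x)) • y) ≠ 0 := by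
    simp only [ne_eq, mul_eq_zero, not_or] at hl0
    rw [Φ.B_smul_right]
    exact mul_ne_zero h7 hl0.1.2
  have h2' : (2 : fixK Φ) = 0 := Subtype.ext h2
  have hA := lower_mem hx hy hs h1'
  have hB := upper_mem hx hy hc' hs hc h1
  set l : fixK Φ := ⟨_, lam_mem_fixK hc hc' x y⟩ with hl
  let C : SL(2, fixK Φ) := mkSL !![⟨α, hα⟩, ⟨β, hβ⟩; ⟨γ, hγ⟩, ⟨α, hα⟩]
    (by rw [det_fin_two_of]; exact Subtype.ext hd)
  have hC : C ∈ plSub M hx (Φ.Q_smul_zero hy _) hs := ⟨t, htM, fun v => by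
    rw [e]; congr 1; apply ext2 <;> rfl⟩
  refine ft_tor_of_top hx hy hc' hs (sl2_even_top h2' hA hB hC rfl rfl
    (fun e => hl0 (congrArg Subtype.val e)) ?_ (fun e => hβ0 ?_) (fun e => ht ?_) fun L hL => ?_)
  · simp only [C, mkSL, trace_fin_two_of]
    linear_combination ⟨α, hα⟩ * h2'
  · exact congrArg (fun g : SL(2, fixK Φ) => (g 0 1 : F)) e
  · change trace (!![1, 0; 1, 1] * !![1, l; 0, 1] * !![⟨α, hα⟩, ⟨β, hβ⟩; ⟨γ, hγ⟩, ⟨α, hα⟩]) = 0 at e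
    simp only [mul_fin_two, trace_fin_two_of] at e
    have : l * ⟨γ, hγ⟩ + ⟨β, hβ⟩ + l * ⟨α, hα⟩ = 0 := by linear_combination e - ⟨α, hα⟩ * h2'
    exact congrArg Subtype.val this
  · have m1 := mem_of_sq_mem h2' (hL _ (Subgroup.mul_mem _ hA hB))
    have m2 := mem_of_sq_mem h2' (hL _ (Subgroup.mul_mem _ hA hC))
    have m3 := mem_of_sq_mem h2' (hL _ (Subgroup.mul_mem _ hB hC))
    change trace (!![1, 0; 1, 1] * !![1, l; 0, 1]) ∈ L at m1
    change trace (!![1, 0; 1, 1] * !![⟨α, hα⟩, ⟨β, hβ⟩; ⟨γ, hγ⟩, ⟨α, hα⟩]) ∈ L at m2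
    change trace (!![1, l; 0, 1] * !![⟨α, hα⟩, ⟨β, hβ⟩; ⟨γ, hγ⟩, ⟨α, hα⟩]) ∈ L at m3
    simp only [mul_fin_two, trace_fin_two_of] at m1 m2 m3
    refine closure_fixK_top (S := {l, ⟨β, hβ⟩, l * ⟨γ, hγ⟩}) (fun L' hL' =>
      hgen L' (hL' l (by simp)) (hL' ⟨β, hβ⟩ (by simp)) (hL' (l * ⟨γ, hγ⟩) (by simp))) ?_
    rintro s (rfl | rfl | rfl)
    · convert m1 using 1
      linear_combination -h2'
    · convert m2 using 1
      linear_combination -⟨α, hα⟩ * h2'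
    · convert m3 using 1
      linear_combination -⟨α, hα⟩ * h2'

end Fm

end Cfsg.Agent.KSG
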