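import Mathlib
import Cfsg.Agent.KSG.RegDk

/-!
From torus elements and transvection groups to full unipotent radicals in formed spaces.
-/

set_option autoImplicit false

namespace Cfsg.Agent.KSG

open Module Cfsg.Agent.Class Cfsg.Agent.Class.Max KSG.M2 Matrix MatrixGroups

variable {F V : Type*} [Field F] [AddCommGroup V] [Module F V] {Φ : Fm F V}
  {M : Subgroup (V ≃ₗ[F] V)} {x y : V}

theorem Tor.apply_perp {k : F} {t : V ≃ₗ[F] V} (hx : Φ.Q x = 0) (h : Φ.B x y ≠ 0)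
    (h1 : t x = k • x) (h3 : ∀ m, Φ.B x m = 0 → Φ.B y m = 0 → t m = m) {w : V}
    (hw : Φ.B x w = 0) : t w = w + ((k - 1) * (Φ.B y w / Φ.B y x)) • x := by
  have h' := Φ.ne_symm h
  have := h3 (w - (Φ.B y w / Φ.B y x) • x) (by simp [hw, Φ.B_self hx]) (by simp [h'])
  rw [map_sub, map_smul, h1, sub_eq_iff_eq_add] at this
  rw [this]
  module

theorem Tor.inA_smul (hM : M ≤ Φ.Iso) {k : F} (hT : Tor Φ M x y k) (hk : k ≠ 0) (hσ : Φ.σ k = k)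
    (hx : Φ.Q x = 0) (h : Φ.B x y ≠ 0) {w : V} (hw : Φ.InA M x w) : Φ.InA M x (k • w) := by
  obtain ⟨t, ht, h1, -, h3⟩ := hT
  have h4 := hw.conj ht (hM ht)
  rw [h1, Tor.apply_perp hx h h1 h3 hw.perp] at h4
  have h5 := (h4.of_smul_left hk).sub (Fm.inA_smul_self hx (k * ((k - 1) * (Φ.B y w / Φ.B y x))))
  rw [hσ] at h5
  convert h5 using 1
  module

theorem Tor.inA_diff (hM : M ≤ Φ.Iso) {k : F} {y' : V} (hT : Tor Φ M x y k) (hT' : Tor Φ M x y' k)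
    (hk : k ≠ 0) (hσ : Φ.σ k = k) (hx : Φ.Q x = 0) (hy : Φ.Q y = 0) (hy' : Φ.Q y' = 0)
    (h : Φ.B x y ≠ 0) (h' : Φ.B x y' = Φ.B x y) :
    Φ.InA M x ((1 - k) • (Φ.B x y)⁻¹ • (y' - y)) := by
  obtain ⟨t, ht, h1, h2, h3⟩ := hT
  obtain ⟨t', ht', h1', h2', h3'⟩ := hT'
  obtain ⟨c, hv, hc⟩ := Fm.exists_ef_eq hx h h' (hy'.trans hy.symm)
  set w := (Φ.B x y)⁻¹ • (y' - y)
  have hI := hv.mem_Iso hv.eich_apply
  have hEx : hv.eich x = x := hv.ef_self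
  have hEy : hv.eich y = y' := hc
  have hne : Φ.B x y' ≠ 0 := h' ▸ h
  have key : ∀ v, t' (hv.eich v) = hv.eich (t v) := by
    intro v
    have hyx := Φ.ne_symm h
    set m := v - (Φ.B y v / Φ.B y x) • x - (Φ.B x v / Φ.B x y) • y
    have m1 : Φ.B x m = 0 := by simp [m, Φ.B_self hx, h]
    have m2 : Φ.B y m = 0 := by simp [m, Φ.B_self hy, hyx]
    have e : v = m + (Φ.B y v / Φ.B y x) • x + (Φ.B x v / Φ.B x y) • y := by
      simp only [m]; abel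
    rw [e]
    simp only [map_add, map_smul, hEx, hEy, h1, h2, h1', h2', h3 m m1 m2]
    rw [h3' _ (by rw [← m1, ← hI.1 x m, hEx]) (by rw [← hEy, hI.1, m2])]
  have hv2 := ((hv.neg.map (hM ht)).smul_left k⁻¹).smul (Φ.σ k)
  rw [h1, smul_smul, inv_mul_cancel₀ hk, one_smul, Φ.invol, mul_comm (Φ.σ k)] at hv2
  have h5 : Φ.InA M x (w + Φ.σ k • t (-w)) := by
    refine ⟨_, hv.add hv2, t' * t⁻¹, M.mul_mem ht' (M.inv_mem ht), fun v => ?_⟩
    rw [← hv.ef_ef hv2, ← Fm.ef_smul_left, ← h1, mul_app]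
    conv_lhs => rw [← hv.ef_ef_neg (t⁻¹ v), ← hv.eich_apply, key, hv.eich_apply,
      Fm.Iso.ef (hM ht), app_inv_app]
  rw [map_neg, Tor.apply_perp hx h h1 h3 hv.perp, hσ] at h5
  convert h5.add (Fm.inA_smul_self hx (k * ((k - 1) * (Φ.B y w / Φ.B y x)))) using 1
  module

/-- The scalars preserving the parameter group at `x`. -/
def scalA (Φ : Fm F V) (M : Subgroup (V ≃ₗ[F] V)) {x : V} (hx : Φ.Q x = 0) : Subring F where
  carrier := {k | ∀ w, Φ.InA M x w → Φ.InA M x (k • w)}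
  zero_mem' w _ := by rw [zero_smul]; exact Fm.inA_zero hx
  one_mem' w h := by rwa [one_smul]
  add_mem' ha hb w h := by rw [add_smul]; exact (ha w h).add (hb w h)
  neg_mem' ha w h := by rw [neg_smul]; exact (ha w h).neg
  mul_mem' ha hb w h := by rw [mul_smul]; exact ha _ (hb w h)

/-- The largest subspace of parameters at `x`. -/
def subA (Φ : Fm F V) (M : Subgroup (V ≃ₗ[F] V)) {x : V} (hx : Φ.Q x = 0) : Submodule F V where
  carrier := {w | ∀ a : F, Φ.InA M x (a • w)}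
  zero_mem' a := by rw [smul_zero]; exact Fm.inA_zero hx
  add_mem' ha hb a := by rw [smul_add]; exact (ha a).add (hb a)
  smul_mem' b w h a := by rw [smul_smul]; exact h _

theorem subA_le (hx : Φ.Q x = 0) : subA Φ M hx ≤ LinearMap.ker (Φ.B x) := fun w hw => by
  simpa using (hw 1).perp

theorem subA_map (hM : M ≤ Φ.Iso) (hx : Φ.Q x = 0) {g : V ≃ₗ[F] V} (hg : g ∈ M) (h : g x = x)
    {w : V} (hw : w ∈ subA Φ M hx) : g w ∈ subA Φ M hx := fun a => by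
  have := (hw a).conj hg (hM hg)
  rwa [h, map_smul] at this

theorem eq_ker_of_finrank [FiniteDimensional F V] {W : Submodule F V} (hx : x ≠ 0)
    (hW : W ≤ LinearMap.ker (Φ.B x)) (hd : finrank F V ≤ finrank F W + 1) :
    W = LinearMap.ker (Φ.B x) := by
  refine Submodule.eq_of_le_of_finrank_le hW ?_
  have : LinearMap.ker (Φ.B x) ≠ ⊤ := fun e => hx (Φ.nondeg x fun y => by
    have : y ∈ LinearMap.ker (Φ.B x) := e ▸ Submodule.mem_top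
    exact this)
  have := Submodule.finrank_lt this
  omega

theorem full_of_subA (hx : Φ.Q x = 0) (hT : FT Φ M x)
    (h : subA Φ M hx = LinearMap.ker (Φ.B x)) : Φ.Full M x := fun w c hv => by
  have h1 : w ∈ subA Φ M hx := h ▸ hv.perp
  exact (by simpa using h1 1 : Φ.InA M x w).hasE hT hv

/-- Symplectic or unitary type. -/
structure LamK (Φ : Fm F V) : Prop where
  mul : ∀ k c, Φ.σ k = k → Φ.π c = 0 → Φ.π (k * c) = 0
  ex : ∃ c, c ≠ 0 ∧ Φ.π c = 0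

theorem pi_eps_div {b : F} (hb0 : b ≠ 0) (hb : Φ.π b = 0) : Φ.π (-(Φ.ε / b)) = 0 := by
  have : -(Φ.ε / b) = b⁻¹ * Φ.σ b⁻¹ * b := by
    rw [map_inv₀, sigma_lam hb]
    have := Φ.eps_ne
    field_simp
    linear_combination -Φ.eps_sq
  rw [this, Φ.π_norm, hb, mul_zero]

theorem FT.tor (hL : LamK Φ) (h1 : FT Φ M x) (h2 : FT Φ M y) (hx : Φ.Q x = 0) (hy : Φ.Q y = 0)
    (h : Φ.B x y ≠ 0) {k : F} (hk : Φ.σ k = k) (hk0 : k ≠ 0) : Tor Φ M x y k := by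
  obtain ⟨c', hc0, hc'⟩ := hL.ex
  have h' := Φ.ne_symm h
  have he := Φ.eps_ne
  have hs : Φ.B x ((-(Φ.ε * c' * Φ.B y x)) • y) ≠ 0 := by simp [h, h', he, hc0]
  refine (ft_tor_of_top hx hy hc' hs (SL_eq_top_of_transvection_mem _ fun i j hij a => ?_)).2 k hk hk0
  fin_cases i <;> fin_cases j
  · exact absurd rfl hij
  · have hl : c' * c' * Φ.B x y * Φ.B y x ≠ 0 := by simp [h, h', hc0]
    have hc : Φ.π (a / (c' * c' * Φ.B x y * Φ.B y x) * c') = 0 :=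
      hL.mul _ _ ((fixK Φ).div_mem a.2 (lam_mem_fixK hc' hc' x y)) hc'
    convert upper_mem hx hy hc' hs hc (h1 _ hc) using 1
    refine Subtype.ext ?_
    rw [Matrix.SpecialLinearGroup.transvection_coe]
    apply ext2 <;> simp
    apply Subtype.ext
    field_simp
  · obtain ⟨t, ht, e⟩ := h2 _ (hL.mul a c' a.2 hc')
    refine ⟨t, ht, fun v => ?_⟩
    have h3 := Φ.σ_ne hc0
    have h4 := Φ.σ_ne h'
    rw [Matrix.SpecialLinearGroup.transvection_coe]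
    simp only [e, Fm.ef, pl, Φ.bsimp]
    simp
    match_scalars <;> field_simp
  · exact absurd rfl hij

/-- An element of `⟨T_x, T_y⟩` moving `x` to a multiple of `y`. -/
theorem FT.exists_swap (h1 : FT Φ M x) (h2 : FT Φ M y) (hx : Φ.Q x = 0)
    (h : Φ.B x y = 1) {b : F} (hb0 : b ≠ 0) (hb : Φ.π b = 0) :
    ∃ g ∈ M, g x = (-b) • y ∧ ∀ m, Φ.B x m = 0 → Φ.B y m = 0 → g m = m := by
  obtain ⟨s, hs, e1⟩ := h1 _ (pi_eps_div hb0 hb)
  obtain ⟨t, ht, e2⟩ := h2 _ hb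
  refine ⟨s * t, M.mul_mem hs ht, ?_, fun m m1 m2 => ?_⟩
  · simp only [mul_app, e1, e2, Fm.ef, Φ.bsimp, h, Fm.B_eq_eps h, Φ.B_self hx, smul_zero]
    match_scalars
    · field_simp
      linear_combination (-b) * (Φ.ε ^ 2 + 1) * Φ.eps_sq
    · linear_combination (-b) * Φ.eps_sq
  · simp [e1, e2, Fm.ef, m1, m2]

/-- Unitary type. -/
structure IsU (Φ : Fm F V) : Prop where
  eps : Φ.ε = 1
  pi : ∀ c, Φ.π c = c + Φ.σ c
  Q : ∀ x, Φ.Q x = Φ.B x x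
  ne : ∃ a, Φ.σ a ≠ a

theorem IsU.lamK (h : IsU Φ) : LamK Φ where
  mul k c hk hc := by rw [h.pi] at hc ⊢; rw [map_mul, hk, ← mul_add, hc, mul_zero]
  ex := by
    obtain ⟨a, ha⟩ := h.ne
    exact ⟨Φ.σ a - a, sub_ne_zero.2 ha, by rw [h.pi, map_sub, Φ.invol]; ring⟩

theorem exists_coords {ω : F} (h : Φ.σ ω ≠ ω) (a : F) :
    ∃ k₁ k₂, Φ.σ k₁ = k₁ ∧ Φ.σ k₂ = k₂ ∧ a = k₁ + k₂ * ω := by
  have h1 := sub_ne_zero.2 h
  have h2 := sub_ne_zero.2 h.symm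
  refine ⟨a - (Φ.σ a - a) / (Φ.σ ω - ω) * ω, (Φ.σ a - a) / (Φ.σ ω - ω), ?_, ?_, by ring⟩ <;>
    simp only [Φ.bsimp] <;> field_simp <;> ring

theorem IsU.smul_of_ne (hU : IsU Φ) (hM : M ≤ Φ.Iso) (h1 : FT Φ M x) (h2 : FT Φ M y)
    (hx : Φ.Q x = 0) (hy : Φ.Q y = 0) (h : Φ.B x y = 1) {k₀ : F} (hk : Φ.σ k₀ = k₀) (hk0 : k₀ ≠ 0)
    (hk1 : k₀ ≠ 1) {w : V} (hw : Φ.InA M x w) (hQ : Φ.Q w ≠ 0) : w ∈ subA Φ M hx := by
  have hyx : Φ.B y x = 1 := by rw [Fm.B_eq_eps h, hU.eps]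
  have hK : ∀ k, Φ.σ k = k → ∀ w, Φ.InA M x w → Φ.InA M x (k • w) := fun k hk w hw => by
    by_cases h0 : k = 0
    · rw [h0, zero_smul]; exact Fm.inA_zero hx
    · exact (h1.tor hU.lamK h2 hx hy (by simp [h]) hk h0).inA_smul hM h0 hk hx (by simp [h]) hw
  set m := w - Φ.B y w • x with hm
  have m1 : Φ.B x m = 0 := by simp [m, Φ.B_self hx, hw.perp]
  have m2 : Φ.B y m = 0 := by simp [m, hyx]
  have hmA : Φ.InA M x m := hw.sub (Fm.inA_smul_self hx _)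
  have hQm : Φ.Q m ≠ 0 := by
    rwa [hm, Φ.Q_sub, Φ.Q_smul_zero hx, Φ.B_smul_right, Φ.perp_symm hw.perp, mul_zero, map_zero,
      add_zero, sub_zero]
  obtain ⟨b, hb0, hb⟩ := hU.lamK.ex
  have hσb : Φ.σ b = -b := by rw [sigma_lam hb, hU.eps, one_mul]
  obtain ⟨g, hg, g1, g2⟩ := h1.exists_swap h2 hx h hb0 hb
  have h3 := hmA.conj hg (hM hg)
  rw [g1, g2 m m1 m2] at h3
  have h4 := h3.of_smul_left (neg_ne_zero.2 hb0)
  rw [map_neg, hσb, neg_neg] at h4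
  have key : ∀ c, Φ.Valid y (b • m) c → ∀ k, Φ.σ k = k → Φ.InA M x ((k * (b / c)) • m) := by
    intro c hv k hk'
    have hc0 : c ≠ 0 := fun e => hQm (by
      have := hv.norm
      rw [e, map_zero, Φ.smul] at this
      exact (mul_eq_zero.1 this.symm).resolve_left (mul_ne_zero hb0 (Φ.σ_ne hb0)))
    obtain ⟨t, ht, e⟩ := h4.hasE h2 hv
    have e1 : t x = x + b • m - c • y := by
      simp [e, Fm.ef, hyx, hU.eps, Φ.perp_symm m1]
    have h5 : FT Φ M ((-c⁻¹) • t x) := (h1.conj ht (hM ht)).smul _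
    have q5 : Φ.Q ((-c⁻¹) • t x) = 0 := Φ.Q_smul_zero (by rw [(hM ht).2, hx]) _
    have b5 : Φ.B x ((-c⁻¹) • t x) = Φ.B x y := by simp [e1, Φ.B_self hx, m1, h, hc0]
    have h6 := (h1.tor hU.lamK h2 hx hy (by simp [h]) hk hk0).inA_diff hM
      (h1.tor hU.lamK h5 hx q5 (by rw [b5, h]; exact one_ne_zero) hk hk0) hk0 hk hx hy q5 (by simp [h]) b5
    have h7 := (hK (-k / (1 - k₀)) (by simp only [Φ.bsimp, hk, hk']) _ h6).sub
      (Fm.inA_smul_self hx (k / c))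
    have h8 := sub_ne_zero.2 hk1.symm
    convert h7 using 1
    rw [e1, h]
    match_scalars <;> field_simp <;> ring
  obtain ⟨c, hv, -⟩ := h4
  have hv' : Φ.Valid y (b • m) (c + b) := ⟨hv.sing, hv.perp, by rw [map_add, hb, add_zero, hv.norm]⟩
  have hω : Φ.σ (c / b) ≠ c / b := fun e => hQm (by
    have h5 := hU.lamK.mul _ _ e hb
    rw [div_mul_cancel₀ _ hb0, hv.norm, Φ.smul] at h5
    exact (mul_eq_zero.1 h5).resolve_left (mul_ne_zero hb0 (Φ.σ_ne hb0)))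
  have hc0 : c ≠ 0 := by rintro rfl; simp at hω
  have hc1 : c + b ≠ 0 := fun e => hω (by
    rw [show c / b = -1 by field_simp; linear_combination e]; simp)
  intro a
  obtain ⟨k₁, k₂, e1, e2, e3⟩ := exists_coords hω (a * (c / b) * (c / b + 1))
  have h5 := ((key c hv k₁ e1).add (key _ hv' (k₂ - k₁) (by rw [map_sub, e1, e2]))).add
    (Fm.inA_smul_self hx (a * Φ.B y w))
  convert h5 using 1
  have e4 : a = k₁ * (b / c) + (k₂ - k₁) * (b / (c + b)) := by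
    field_simp at e3 ⊢
    linear_combination e3
  rw [← add_smul, ← e4, hm]
  module

theorem IsU.mem_subA (hU : IsU Φ) (hM : M ≤ Φ.Iso) (h1 : FT Φ M x) (h2 : FT Φ M y)
    (hx : Φ.Q x = 0) (hy : Φ.Q y = 0) (h : Φ.B x y ≠ 0) {k₀ : F} (hk : Φ.σ k₀ = k₀) (hk0 : k₀ ≠ 0)
    (hk1 : k₀ ≠ 1) {w₀ : V} (hw₀ : Φ.InA M x w₀) (hQ : Φ.Q w₀ ≠ 0) {w : V} (hw : Φ.InA M x w) :
    w ∈ subA Φ M hx := by
  have key := fun w => hU.smul_of_ne hM h1 (h2.smul (Φ.B x y)⁻¹) hx (Φ.Q_smul_zero hy _)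
    (by simp [h]) hk hk0 hk1 (w := w)
  by_cases hQw : Φ.Q w = 0
  swap
  · exact key w hw hQw
  obtain ⟨a, ha, ha'⟩ : ∃ a, a ≠ 0 ∧ Φ.π (a * Φ.B w w₀) = 0 := by
    by_cases h0 : Φ.B w w₀ = 0
    · exact ⟨1, one_ne_zero, by rw [h0, mul_zero, map_zero]⟩
    · obtain ⟨b, hb0, hb⟩ := hU.lamK.ex
      exact ⟨b / Φ.B w w₀, div_ne_zero hb0 h0, by rwa [div_mul_cancel₀ _ h0]⟩
  have h3 := key w₀ hw₀ hQ
  have h4 := key _ (hw.add (h3 a)) (by
    rw [Φ.add, hQw, zero_add, Φ.B_smul_right, ha', add_zero, Φ.smul]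
    exact mul_ne_zero (mul_ne_zero ha (Φ.σ_ne ha)) hQ)
  simpa using (subA Φ M hx).sub_mem h4 ((subA Φ M hx).smul_mem a h3)

end Cfsg.Agent.KSG
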