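import Mathlib
import Cfsg.Agent.KSG.RegTor
import Cfsg.Agent.Class.Max.Bridge

/-!
Regular unipotent isometries of symplectic and odd-dimensional unitary spaces.
-/

set_option autoImplicit false

namespace Cfsg.Agent.KSG

open Module Cfsg.Agent.Class Cfsg.Agent.Class.Max

variable {F V : Type*} [Field F] [AddCommGroup V] [Module F V] {Φ : Fm F V}
  {M : Subgroup (V ≃ₗ[F] V)} {u : V ≃ₗ[F] V} {e f w : V} {Y : Submodule F V} {j : ℕ}

/-- The nilpotent part `u - 1`. -/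
def nl (u : V ≃ₗ[F] V) : Module.End F V := u.toLinearMap - 1

theorem nl_apply (u : V ≃ₗ[F] V) (v : V) : nl u v = u v - v := rfl

theorem app_eq_nl (u : V ≃ₗ[F] V) (v : V) : u v = v + nl u v := by rw [nl_apply]; abel

theorem nl_pow_succ (u : V ≃ₗ[F] V) (k : ℕ) (v : V) :
    (nl u ^ (k + 1)) v = nl u ((nl u ^ k) v) := by rw [pow_succ']; rfl

theorem nl_pow_succ' (u : V ≃ₗ[F] V) (k : ℕ) (v : V) :
    (nl u ^ (k + 1)) v = (nl u ^ k) (nl u v) := by rw [pow_succ]; rfl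

theorem nl_pow_add (u : V ≃ₗ[F] V) (k l : ℕ) (v : V) :
    (nl u ^ (k + l)) v = (nl u ^ k) ((nl u ^ l) v) := by rw [pow_add]; rfl

theorem nl_pow_app (u : V ≃ₗ[F] V) (k : ℕ) (v : V) : (nl u ^ k) (u v) = u ((nl u ^ k) v) := by
  rw [app_eq_nl u v, map_add, ← nl_pow_succ', nl_pow_succ, ← app_eq_nl]

theorem nl_pow_inv_app (u : V ≃ₗ[F] V) (k : ℕ) (v : V) :
    (nl u ^ k) (u⁻¹ v) = u⁻¹ ((nl u ^ k) v) := by
  apply u.injective
  rw [← nl_pow_app, app_inv_app, app_inv_app]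

theorem B_nl_fix (hu : u ∈ Φ.Iso) (he : u e = e) (v : V) : Φ.B e (nl u v) = 0 := by
  rw [nl_apply, map_sub, ← hu.1 e v, he, sub_self]

theorem B_nl_pow_fix (hu : u ∈ Φ.Iso) (he : u e = e) (k : ℕ) (v : V) :
    Φ.B e ((nl u ^ (k + 1)) v) = 0 := by rw [nl_pow_succ, B_nl_fix hu he]

theorem B_nl_pow (hu : u ∈ Φ.Iso) (m : ℕ) (x z : V) (hz : (nl u ^ (m + 1)) z = 0) :
    Φ.B ((nl u ^ m) x) z = (-1) ^ m * Φ.B x ((nl u ^ m) z) := by
  induction m generalizing z with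
  | zero => simp
  | succ m ih =>
    have h1 : ∀ x', Φ.B (nl u x') z = -Φ.B x' (nl u (u⁻¹ z)) := fun x' => by
      rw [nl_apply, nl_apply, Φ.B_sub_left, map_sub, app_inv_app, Fm.Iso.B_inv hu]; ring
    have h2 : u⁻¹ ((nl u ^ (m + 1)) z) = (nl u ^ (m + 1)) z := by
      apply u.injective
      rw [app_inv_app, app_eq_nl u, ← nl_pow_succ, hz, add_zero]
    rw [nl_pow_succ, h1, ih _ (by rw [← nl_pow_succ', nl_pow_inv_app, hz, map_zero]),
      ← nl_pow_succ', nl_pow_inv_app, h2]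
    ring

theorem le_finrank_of_stable [FiniteDimensional F V] {N : Module.End F V} (k : ℕ)
    {W : Submodule F V} (hW : ∀ x ∈ W, N x ∈ W) {y : V} (hy : y ∈ W) (h1 : (N ^ k) y ≠ 0)
    (h2 : (N ^ (k + 1)) y = 0) : k + 1 ≤ finrank F W := by
  induction k generalizing W y with
  | zero =>
    exact Submodule.one_le_finrank_iff.2 ((Submodule.ne_bot_iff W).2 ⟨y, hy, by simpa using h1⟩)
  | succ k ih =>
    have h3 := ih (W := W.map N) (by rintro _ ⟨x, hx, rfl⟩; exact ⟨_, hW x hx, rfl⟩) (y := N y)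
      ⟨y, hy, rfl⟩ (by rwa [pow_succ] at h1) (by rwa [pow_succ] at h2)
    have h4 := LinearMap.finrank_range_add_finrank_ker (N.domRestrict W)
    rw [LinearMap.range_domRestrict] at h4
    have h5 : ∀ i, (N ^ i) y ∈ W := fun i => by
      induction i with
      | zero => exact hy
      | succ i ih => rw [pow_succ']; exact hW _ ih
    have h6 : 1 ≤ finrank F (LinearMap.ker (N.domRestrict W)) :=
      Submodule.one_le_finrank_iff.2 ((Submodule.ne_bot_iff _).2 ⟨⟨_, h5 (k + 1)⟩,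
        by rw [pow_succ'] at h2; exact h2, fun c => h1 (congrArg Subtype.val c)⟩)
    omega

/-- A unipotent isometry, regular on the perpendicular of `Y`, with cyclic vector `w`. -/
structure Stage (Φ : Fm F V) (Y : Submodule F V) (u : V ≃ₗ[F] V) (w : V) (j : ℕ) : Prop where
  nd : Φ.ND Y
  dim : finrank F V ≤ finrank F Y + (j + 1)
  mem : u ∈ Φ.EG
  fix : ∀ y ∈ Y, u y = y
  perp : ∀ y ∈ Y, Φ.B y w = 0
  nil : ∀ v, (nl u ^ (j + 1)) v = 0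
  top : Φ.B w ((nl u ^ j) w) ≠ 0

/-- A regular unipotent isometry with fixed vector `e` and cyclic vector `f`. -/
structure Reg (Φ : Fm F V) (u : V ≃ₗ[F] V) (e f : V) (j : ℕ) : Prop where
  mem : u ∈ Φ.EG
  qe : Φ.Q e = 0
  qf : Φ.Q f = 0
  ef : Φ.B e f = 1
  fix : u e = e
  nil : ∀ v, (nl u ^ (j + 1)) v = 0
  bot : ∃ t : F, t ≠ 0 ∧ (nl u ^ j) f = t • e

namespace Stage

variable (h : Stage Φ Y u w j) (he : e ∈ Y) {c : F} (hv : Φ.Valid e w c)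
include h he

theorem step_e : (hv.eich * u) e = e := by rw [mul_app, h.fix e he, hv.eich_apply, hv.ef_self]

theorem step_perp {x : V} (hx : Φ.B e x = 0) :
    nl (hv.eich * u) x = nl u x - (Φ.ε * Φ.B w (u x)) • e := by
  have hI := Φ.EG_le_Iso h.mem
  rw [nl_apply, nl_apply, mul_app, hv.eich_apply,
    Fm.ef_apply_of_perp' (by rw [← h.fix e he, hI.1, hx])]
  abel

theorem step_pow (k : ℕ) (v : V) : ∃ t : F,
    (nl (hv.eich * u) ^ (k + 1)) v = (nl u ^ (k + 1)) v + Φ.B e v • (nl u ^ k) w + t • e := by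
  have hI := Φ.EG_le_Iso h.mem
  induction k with
  | zero =>
    refine ⟨-(Φ.ε * (Φ.B w (u v) + c * Φ.B e v)), ?_⟩
    have : Φ.B e (u v) = Φ.B e v := by conv_lhs => rw [← h.fix e he, hI.1]
    simp only [zero_add, pow_one, pow_zero, nl_apply, mul_app, hv.eich_apply, Fm.ef, this,
      Module.End.one_apply]
    module
  | succ k ih =>
    obtain ⟨t, ht⟩ := ih
    have h1 : Φ.B e ((nl u ^ k) w) = 0 := by
      cases k
      · exact h.perp e he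
      · exact B_nl_pow_fix hI (h.fix e he) _ _
    refine ⟨-(Φ.ε * Φ.B w (u ((nl u ^ (k + 1)) v + Φ.B e v • (nl u ^ k) w))), ?_⟩
    rw [nl_pow_succ, ht, map_add, map_smul, nl_apply _ e, h.step_e he hv, sub_self, smul_zero,
      add_zero, h.step_perp he hv (by
        rw [map_add, map_smul, h1, B_nl_pow_fix hI (h.fix e he), smul_zero, add_zero]),
      map_add, map_smul, ← nl_pow_succ, ← nl_pow_succ, sub_eq_add_neg, ← neg_smul]

theorem step_nil (v : V) : (nl (hv.eich * u) ^ (j + 2 + 1)) v = 0 := by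
  obtain ⟨t, ht⟩ := h.step_pow he hv (j + 1) v
  rw [nl_pow_succ, ht, nl_pow_succ u (j + 1), h.nil, h.nil, map_zero, smul_zero, zero_add, zero_add,
    map_smul, nl_apply, h.step_e he hv, sub_self, smul_zero]

theorem step_bot {v : V} (hv1 : Φ.B e v = 1) :
    (nl (hv.eich * u) ^ (j + 2)) v = (-(Φ.ε * Φ.B w ((nl u ^ j) w))) • e := by
  have hI := Φ.EG_le_Iso h.mem
  obtain ⟨t, ht⟩ := h.step_pow he hv j v
  have h1 : Φ.B e ((nl u ^ j) w) = 0 := by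
    cases j
    · exact h.perp e he
    · exact B_nl_pow_fix hI (h.fix e he) _ _
  rw [nl_pow_succ, ht, h.nil, hv1, one_smul, zero_add, map_add, map_smul, nl_apply _ e,
    h.step_e he hv, sub_self, smul_zero, add_zero, h.step_perp he hv h1, app_eq_nl u,
    ← nl_pow_succ, h.nil, add_zero, zero_sub, neg_smul]

omit he in
theorem step_f (hf : f ∈ Y) (hef : Φ.B e f = 1) :
    (hv.eich * u) f = f + w - (Φ.ε * c) • e := by
  simp [mul_app, h.fix f hf, hv.eich_apply, Fm.ef, hef, Φ.perp_symm (h.perp f hf)]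

theorem reg (hf0 : Φ.Q f = 0) (hef : Φ.B e f = 1) : Reg Φ (hv.eich * u) e f (j + 2) where
  mem := Φ.EG.mul_mem hv.eich_mem h.mem
  qe := hv.sing
  qf := hf0
  ef := hef
  fix := h.step_e he hv
  nil := h.step_nil he hv
  bot := ⟨_, neg_ne_zero.2 (mul_ne_zero Φ.eps_ne h.top), h.step_bot he hv hef⟩

theorem step [FiniteDimensional F V] (hf : f ∈ Y) (hf0 : Φ.Q f = 0) (hef : Φ.B e f = 1) (a : F) :
    Stage Φ (Y ⊓ LinearMap.ker (Φ.B e) ⊓ LinearMap.ker (Φ.B f)) (hv.eich * u) (f + a • e)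
      (j + 2) where
  nd := h.nd.inf_hyp he hf hv.sing hf0 hef
  dim := by
    have := h.dim
    have := Fm.finrank_le_inf_ker₂ Y (Φ.B e) (Φ.B f)
    omega
  mem := Φ.EG.mul_mem hv.eich_mem h.mem
  fix y hy := by
    rw [mul_app, h.fix y hy.1.1, hv.eich_apply,
      Fm.ef_apply_of_perp hy.1.2 (Φ.perp_symm (h.perp y hy.1.1))]
  perp y hy := by
    rw [map_add, map_smul, Φ.perp_symm hy.1.2, Φ.perp_symm hy.2, smul_zero, add_zero]
  nil := h.step_nil he hv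
  top := by
    rw [h.step_bot he hv (by simp [hef, Φ.B_self hv.sing])]
    simp [Φ.B_self hv.sing, Fm.B_eq_eps hef, Φ.eps_ne, h.top]

omit he in
theorem exists_hyp (hd : Φ.d ≤ 2) (hn : j + 3 ≤ finrank F V) :
    ∃ e ∈ Y, ∃ f ∈ Y, Φ.Q e = 0 ∧ Φ.Q f = 0 ∧ Φ.B e f = 1 :=
  h.nd.exists_hyp (by have := h.dim; omega)

omit he in
theorem iter [FiniteDimensional F V] (hd : Φ.d ≤ 2) (k : ℕ) (hn : j + 1 + 2 * k ≤ finrank F V) :
    ∃ Y' u' w', Stage Φ Y' u' w' (j + 2 * k) := by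
  induction k with
  | zero => exact ⟨Y, u, w, h⟩
  | succ k ih =>
    obtain ⟨Y', u', w', h'⟩ := ih (by omega)
    obtain ⟨e, he, f, hf, h1, h2, h3⟩ := h'.exists_hyp hd (by omega)
    obtain ⟨c, hv⟩ := Fm.exists_valid h1 (h'.perp e he)
    exact ⟨_, _, _, h'.step he hv hf h2 h3 0⟩

end Stage

theorem stage_one [FiniteDimensional F V] (hw : Φ.B w w ≠ 0) :
    Stage Φ (⊤ ⊓ LinearMap.ker (Φ.B w)) 1 w 0 where
  nd x hx h := Φ.nondeg x fun y => by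
    have h1 := h (y - (Φ.B w y / Φ.B w w) • w) ⟨trivial, by simp [hw]⟩
    rwa [map_sub, map_smul, Φ.perp_symm hx.2, smul_zero, sub_zero] at h1
  dim := by simpa using finrank_le_inf_ker (⊤ : Submodule F V) (Φ.B w)
  mem := Φ.EG.one_mem
  fix _ _ := rfl
  perp y hy := Φ.perp_symm hy.2
  nil v := by simp [nl_apply]
  top := hw

theorem stage_two [FiniteDimensional F V] {c : F} (hv : Φ.Valid e 0 c) (hc : c ≠ 0)
    (hf0 : Φ.Q f = 0) (hef : Φ.B e f = 1) :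
    Stage Φ (⊤ ⊓ LinearMap.ker (Φ.B e) ⊓ LinearMap.ker (Φ.B f)) hv.eich f 1 where
  nd := Φ.nd_top.inf_hyp trivial trivial hv.sing hf0 hef
  dim := by simpa using Fm.finrank_le_inf_ker₂ (⊤ : Submodule F V) (Φ.B e) (Φ.B f)
  mem := hv.eich_mem
  fix y hy := by rw [hv.eich_apply, Fm.ef_apply_of_perp hy.1.2 (by simp)]
  perp y hy := Φ.perp_symm hy.2
  nil v := by simp [pow_succ, nl_apply, hv.eich_apply, Fm.ef, Φ.B_self hv.sing]
  top := by
    simp [nl_apply, hv.eich_apply, Fm.ef, hef, Fm.B_eq_eps hef, Φ.eps_ne, hc]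

namespace Reg

variable (h : Reg Φ u e f j)
include h

theorem iso : u ∈ Φ.Iso := Φ.EG_le_Iso h.mem

theorem ne : e ≠ 0 := fun c => by simpa [c] using h.ef

theorem top : Φ.B f ((nl u ^ j) f) ≠ 0 := by
  obtain ⟨t, h1, h2⟩ := h.bot
  rw [h2, Φ.B_smul_right, Fm.B_eq_eps h.ef]
  exact mul_ne_zero h1 Φ.eps_ne

theorem top' : (nl u ^ j) f ≠ 0 := fun c => h.top (by rw [c, map_zero])

/-- The cyclic vector of `e ^ ⊥`. -/
theorem cyc [FiniteDimensional F V] (hd : finrank F V = j + 1) (hj : 0 < j) {W : Submodule F V}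
    (hW : W ≤ LinearMap.ker (Φ.B e)) (hu : ∀ x ∈ W, u x ∈ W) {v : V} (hv : v ∈ W)
    (h1 : (nl u ^ (j - 1)) v ≠ 0) (h2 : (nl u ^ j) v = 0) : W = LinearMap.ker (Φ.B e) := by
  obtain ⟨k, rfl⟩ : ∃ k, j = k + 1 := ⟨j - 1, by omega⟩
  have := le_finrank_of_stable (N := nl u) k (fun x hx => W.sub_mem (hu x hx) hx) hv h1 h2
  exact eq_ker_of_finrank h.ne hW (by omega)

theorem cyc' [FiniteDimensional F V] (hd : finrank F V = j + 1) (hj : 0 < j) {W : Submodule F V}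
    (hW : W ≤ LinearMap.ker (Φ.B e)) (hu : ∀ x ∈ W, u x ∈ W) (hv : nl u f ∈ W) :
    W = LinearMap.ker (Φ.B e) :=
  h.cyc hd hj hW hu hv (by rw [← nl_pow_succ', Nat.sub_add_cancel hj]; exact h.top')
    (by rw [← nl_pow_succ', h.nil])

theorem full [FiniteDimensional F V] (hd : finrank F V = j + 1) (hj : 0 < j) (hM : M ≤ Φ.Iso)
    (hu : u ∈ M) (hT : FT Φ M e) (hv : nl u f ∈ subA Φ M h.qe) : Φ.Full M e :=
  full_of_subA h.qe hT (h.cyc' hd hj (subA_le _) (fun _ => subA_map hM _ hu h.fix) hv)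

/-- A conjugate of `u` moving `e` to a multiple of `f`. -/
theorem exists_conj [FiniteDimensional F V] (hd : Φ.d + 2 ≤ finrank F V) (hb : Φ.B f (u f) ≠ 0) :
    ∃ g ∈ Φ.EG, (g * u * g⁻¹) e = Φ.B f (u f) • f := by
  have hf : f ≠ 0 := fun c => by simpa [c] using h.ef
  obtain ⟨g, hg, e1⟩ := Fm.move_EG hd hf h.ne (h.qe.trans h.qf.symm)
  have hI := Φ.EG_le_Iso hg
  have h1 : Φ.B e (g (u f)) = Φ.B f (u f) := by rw [← e1, hI.1]
  obtain ⟨c, hv, hc⟩ := Fm.exists_ef_eq h.qe (x := g (u f)) (y := Φ.B f (u f) • f) (h1 ▸ hb)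
    (by rw [Φ.B_smul_right, h.ef, mul_one, h1])
    (by rw [Φ.Q_smul_zero h.qf, hI.2, h.iso.2, h.qf])
  refine ⟨hv.eich * g, Φ.EG.mul_mem hv.eich_mem hg, ?_⟩
  have h2 : (hv.eich * g)⁻¹ e = f := by
    apply (hv.eich * g).injective
    rw [app_inv_app, mul_app, e1, hv.eich_apply, hv.ef_self]
  rw [mul_app, mul_app, h2, mul_app, hv.eich_apply, hc]

theorem mid {m : ℕ} (hm : j = 2 * m) : Φ.B ((nl u ^ m) f) ((nl u ^ m) f) ≠ 0 := by
  rw [B_nl_pow h.iso m f _ (by rw [← nl_pow_add, ← h.nil f]; congr 2; omega), ← nl_pow_add,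
    ← two_mul, ← hm]
  exact mul_ne_zero (pow_ne_zero _ (by simp)) h.top

theorem B_big {k l : ℕ} (hkl : j < k + l) (x y : V) : Φ.B ((nl u ^ k) x) ((nl u ^ l) y) = 0 := by
  obtain ⟨i, hi⟩ : ∃ i, k + l = i + (j + 1) := ⟨k + l - (j + 1), by omega⟩
  have : (nl u ^ k) ((nl u ^ l) y) = 0 := by rw [← nl_pow_add, hi, nl_pow_add, h.nil, map_zero]
  rw [B_nl_pow h.iso k x _ (by rw [nl_pow_succ, this, map_zero]), this, map_zero, mul_zero]

end Reg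

theorem hasE_step (hM : M ≤ Φ.Iso) (hu : u ∈ M) (he : u e = e) (h0 : e ≠ 0) {c : F}
    (hv : Φ.Valid e w c) (h : Φ.HasE M e w c) :
    Φ.Valid e (nl u w) (-Φ.B (nl u w) w) ∧ Φ.HasE M e (nl u w) (-Φ.B (nl u w) w) := by
  have h1 := h.conj hu (hM hu)
  have hv1 := hv.map (hM hu)
  rw [he] at h1 hv1
  have h2 := Fm.HasE.sub hv1 hv h1 h
  rw [sub_self, zero_add, ← neg_sub (u w), ← nl_apply, Φ.B_neg_left] at h2
  obtain ⟨t, ht, e2⟩ := h2
  exact ⟨Fm.valid_of_Iso hv.sing h0 (by rw [B_nl_fix (hM hu) he]) (hM ht) e2, t, ht, e2⟩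

theorem hasE_of_conj (hM : M ≤ Φ.Iso) (hu : u ∈ M) (he : u e = e) (h0 : e ≠ 0) {c : F}
    (hv : Φ.Valid e w c) (h : hv.eich * u * hv.eich⁻¹ ∈ M) :
    Φ.Valid e (-nl u w) (-Φ.B w (nl u w)) ∧ Φ.HasE M e (-nl u w) (-Φ.B w (nl u w)) := by
  have hv1 := hv.neg.map (hM hu)
  rw [he] at hv1
  have e2 : ∀ x, (hv.eich * u * hv.eich⁻¹ * u⁻¹) x =
      Φ.ef e (-nl u w) (-Φ.B w (nl u w)) x := fun x => by
    change Φ.ef e w c (u (Φ.ef e (-w) (Φ.ε * Φ.σ c) (u⁻¹ x))) = _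
    rw [Fm.Iso.ef (hM hu), he, app_inv_app, hv.ef_ef hv1, Φ.trace c w hv.norm]
    congr 1
    · rw [map_neg, nl_apply]; abel
    · rw [map_neg, map_neg, nl_apply, map_sub]; ring
  have ht := M.mul_mem h (M.inv_mem hu)
  exact ⟨Fm.valid_of_Iso hv.sing h0 (by rw [map_neg, B_nl_fix (hM hu) he, neg_zero]) (hM ht) e2,
    _, ht, e2⟩

theorem hasE_smul_self {t c : F} (h : Φ.HasE M e (t • e) c) :
    Φ.HasE M e 0 (c + Φ.σ t - Φ.ε * t) := by
  obtain ⟨g, hg, e1⟩ := h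
  exact ⟨g, hg, fun x => by rw [e1, ← Fm.ef_add_smul, zero_add]⟩

theorem inA_nl (hM : M ≤ Φ.Iso) (hu : u ∈ M) (he : u e = e) (h : Φ.InA M e w) (k : ℕ) :
    Φ.InA M e ((nl u ^ k) w) := by
  induction k with
  | zero => exact h
  | succ k ih =>
    have := ih.conj hu (hM hu)
    rw [he] at this
    rw [nl_pow_succ]
    exact this.sub ih

/-- Generation of `EG` by three conjugate regular unipotent elements. -/
def Gen3 (Φ : Fm F V) : Prop :=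
  ∃ u ∈ Φ.EG, ∃ g ∈ Φ.EG, ∃ h ∈ Φ.EG, IsNilpotent (nl u) ∧ nl u ^ (finrank F V - 1) ≠ 0 ∧
    ∀ M ≤ Φ.Iso, u ∈ M → g * u * g⁻¹ ∈ M → h * u * h⁻¹ ∈ M → Φ.EG ≤ M

/-- Generation of `EG` by two conjugate regular unipotent elements. -/
def Gen2 (Φ : Fm F V) : Prop :=
  ∃ u ∈ Φ.EG, ∃ g ∈ Φ.EG, IsNilpotent (nl u) ∧ nl u ^ (finrank F V - 1) ≠ 0 ∧
    ∀ M ≤ Φ.Iso, u ∈ M → g * u * g⁻¹ ∈ M → Φ.EG ≤ M

theorem Gen2.gen3 (h : Gen2 Φ) : Gen3 Φ :=
  let ⟨u, hu, g, hg, h1, h2, h3⟩ := h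
  ⟨u, hu, g, hg, g, hg, h1, h2, fun M hM a b _ => h3 M hM a b⟩

theorem Reg.nilp (h : Reg Φ u e f j) : IsNilpotent (nl u) := ⟨j + 1, LinearMap.ext h.nil⟩

theorem Reg.pow_ne (h : Reg Φ u e f j) (hd : finrank F V = j + 1) :
    nl u ^ (finrank F V - 1) ≠ 0 := fun c => h.top' (by
  rw [hd, Nat.add_sub_cancel] at c
  rw [c]; rfl)

theorem Reg.gen3 [FiniteDimensional F V] (h : Reg Φ u e f j) (hd : finrank F V = j + 1)
    (hd' : Φ.d + 2 ≤ finrank F V) (hb : Φ.B f (u f) ≠ 0) {g : V ≃ₗ[F] V} (hg : g ∈ Φ.EG)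
    (H : ∀ M ≤ Φ.Iso, u ∈ M → g * u * g⁻¹ ∈ M → (∃ t ∈ M, t e = Φ.B f (u f) • f) →
      Φ.Full M e) : Gen3 Φ := by
  obtain ⟨k, hk, e1⟩ := h.exists_conj hd' hb
  refine ⟨u, h.mem, g, hg, k, hk, h.nilp, h.pow_ne hd, fun M hM h1 h2 h3 => ?_⟩
  have h4 := H M hM h1 h2 ⟨_, h3, e1⟩
  have h5 := h4.conj h3 (hM h3)
  rw [e1] at h5
  exact Fm.EG_le_of_full h4 h5 h.qe (Φ.Q_smul_zero h.qf _)
    (by rw [Φ.B_smul_right, h.ef, mul_one]; exact hb)

/-- Transfer to a matrix group. -/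
theorem gen_bridge {ι : Type} [Fintype ι] [DecidableEq ι] {Φ : Fm F (ι → F)} {G : Type*} [Group G]
    (m : G → Matrix ι ι F) (φ : G →* ((ι → F) ≃ₗ[F] (ι → F)))
    (hφ : ∀ g, (φ g).toLinearMap = Matrix.toLin' (m g)) (hinj : Function.Injective φ)
    (hr : φ.range = Φ.EG) :
    (Gen3 Φ → ∃ u g h : G, (IsNilpotent (m u - 1) ∧ (m u - 1) ^ (Fintype.card ι - 1) ≠ 0) ∧
      Subgroup.closure {u, g * u * g⁻¹, h * u * h⁻¹} = ⊤) ∧
    (Gen2 Φ → ∃ u g : G, (IsNilpotent (m u - 1) ∧ (m u - 1) ^ (Fintype.card ι - 1) ≠ 0) ∧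
      Subgroup.closure {u, g * u * g⁻¹} = ⊤) := by
  have key : ∀ u, IsNilpotent (nl (φ u)) → nl (φ u) ^ (finrank F (ι → F) - 1) ≠ 0 →
      IsNilpotent (m u - 1) ∧ (m u - 1) ^ (Fintype.card ι - 1) ≠ 0 := fun u h1 h2 => by
    have e : Matrix.toLinAlgEquiv' (m u - 1) = nl (φ u) := by
      rw [map_sub, map_one, nl, hφ]; rfl
    rw [← e] at h1 h2
    refine ⟨(IsNilpotent.map_iff Matrix.toLinAlgEquiv'.injective).1 h1, fun c => h2 ?_⟩
    rw [← map_pow, finrank_fintype_fun_eq_card, c, map_zero]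
  have key2 : ∀ H : Subgroup G, Φ.EG ≤ H.map φ → H = ⊤ := fun H hH => by
    rw [eq_top_iff]
    intro a _
    obtain ⟨b, hb, e⟩ := hH (hr.le ⟨a, rfl⟩)
    exact hinj e ▸ hb
  have key3 : ∀ H : Subgroup G, H.map φ ≤ Φ.Iso := fun H =>
    (Subgroup.map_le_range _ _).trans (hr.le.trans Φ.EG_le_Iso)
  rw [Gen3, Gen2, ← hr]
  constructor
  · rintro ⟨_, ⟨u, rfl⟩, _, ⟨g, rfl⟩, _, ⟨h, rfl⟩, h1, h2, h3⟩
    refine ⟨u, g, h, key u h1 h2, key2 _ (hr.ge.trans <| h3 _ (key3 _) ⟨u, ?_, rfl⟩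
      ⟨g * u * g⁻¹, ?_, by simp⟩ ⟨h * u * h⁻¹, ?_, by simp⟩)⟩ <;>
      exact Subgroup.subset_closure (by simp)
  · rintro ⟨_, ⟨u, rfl⟩, _, ⟨g, rfl⟩, h1, h2, h3⟩
    refine ⟨u, g, key u h1 h2, key2 _ (hr.ge.trans <| h3 _ (key3 _) ⟨u, ?_, rfl⟩
      ⟨g * u * g⁻¹, ?_, by simp⟩)⟩ <;> exact Subgroup.subset_closure (by simp)

end Cfsg.Agent.KSG
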