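import Mathlib
import Cfsg.Agent.KSG.RegStage
import Cfsg.Agent.KSG.RegSmall

/-!
Three conjugate regular unipotent generators of `Sp_{2n}(q)`, `q` odd.
-/

set_option autoImplicit false

namespace Cfsg.Agent.KSG

open Module Cfsg.Agent.Class Cfsg.Agent.Class.Max

variable {F V : Type*} [Field F] [AddCommGroup V] [Module F V] {Φ : Fm F V}
  {M : Subgroup (V ≃ₗ[F] V)} {u : V ≃ₗ[F] V} {e f w : V} {Y : Submodule F V} {j : ℕ}

theorem Reg.exists_tv_conj (h : Reg Φ u e f j) (hj : 2 ≤ j) (t : F) :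
    ∃ g ∈ Φ.EG, ∀ M ≤ Φ.Iso, u ∈ M → g * u * g⁻¹ ∈ M → Φ.HasE M e 0 (Φ.σ t - Φ.ε * t) := by
  obtain ⟨i, rfl⟩ : ∃ i, j = i + 2 := ⟨j - 2, by omega⟩
  obtain ⟨s, hs, e1⟩ := h.bot
  have h1 : Φ.B e ((nl u ^ (i + 1)) f) = 0 := B_nl_pow_fix h.iso h.fix _ _
  obtain ⟨c, hv⟩ := Fm.exists_valid (w := (-t / s) • (nl u ^ (i + 1)) f) h.qe (by simp [h1])
  refine ⟨hv.eich, hv.eich_mem, fun M hM hu hg => ?_⟩
  have h2 := (hasE_of_conj hM hu h.fix h.ne hv hg).2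
  rw [map_smul, ← nl_pow_succ, e1, smul_smul, ← neg_smul, Φ.B_smul_right, Φ.B_smul_left,
    Φ.perp_symm h1, div_mul_cancel₀ _ hs, neg_neg] at h2
  simpa using hasE_smul_self h2

theorem Reg.inA_nl_f (h : Reg Φ u e f j) (hM : M ≤ Φ.Iso) (hu : u ∈ M) {k : F}
    (hT : Tor Φ M e f k) (hk : k ≠ 0) (hσ : Φ.σ k = k) : Φ.InA M e ((1 - k) • nl u f) := by
  have h1 := hT.conj hu (hM hu)
  rw [h.fix] at h1
  have := hT.inA_diff hM h1 hk hσ h.qe h.qf (by rw [h.iso.2, h.qf]) (by simp [h.ef])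
    (by conv_lhs => rw [← h.fix, h.iso.1])
  rwa [h.ef, inv_one, one_smul] at this

/-- Symplectic type. -/
structure IsS (Φ : Fm F V) : Prop where
  sigma : ∀ a, Φ.σ a = a
  eps : Φ.ε = -1
  pi : ∀ c, Φ.π c = 0
  Q : ∀ x, Φ.Q x = 0
  d : Φ.d ≤ 2

theorem IsS.valid (hS : IsS Φ) (h : Φ.B e w = 0) (c : F) : Φ.Valid e w c :=
  ⟨hS.Q e, h, by rw [hS.pi, hS.Q]⟩

theorem Stage.B_step (h : Stage Φ Y u w j) {c : F} (hv : Φ.Valid e w c) (hf : f ∈ Y)
    (hf0 : Φ.Q f = 0) (hef : Φ.B e f = 1) : Φ.B f ((hv.eich * u) f) = -c := by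
  rw [h.step_f hv hf hef]
  simp only [Φ.bsimp, Φ.B_self hf0, h.perp f hf, Fm.B_eq_eps hef]
  linear_combination -c * Φ.eps_sq

theorem gen3_sp_odd [Finite F] [FiniteDimensional F V] (hS : IsS Φ) (h2 : (2 : F) ≠ 0) {n : ℕ}
    (hn : finrank F V = 2 * n + 4) : Gen3 Φ := by
  have hd := hS.d
  obtain ⟨e₀, -, f₀, -, -, q₀, h₀⟩ := Φ.nd_top.exists_hyp (by rw [finrank_top]; omega)
  obtain ⟨Y, u, w, h⟩ := (stage_two (hS.valid (map_zero _) 1) one_ne_zero q₀ h₀).iter hd n (by omega)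
  obtain ⟨e, he, f, hf, -, qf, hef⟩ := h.exists_hyp hd (by omega)
  have hv := hS.valid (h.perp e he) 1
  have hR := h.reg he hv qf hef
  have hb := h.B_step hv hf qf hef
  generalize hv.eich * u = u at hR hb
  obtain ⟨x, hx0, hx⟩ := exists_sq_gen (F := F)
  obtain ⟨g, hg, H⟩ := hR.exists_tv_conj (by omega) (x / 2)
  refine hR.gen3 (by omega) (by omega) (by simp [hb]) hg fun M hM hu hg' ⟨t, ht, e1⟩ => ?_
  have h1 : Φ.HasE M e 0 x := by
    convert H M hM hu hg' using 1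
    rw [hS.sigma, hS.eps]; field_simp; ring
  have h3 : Φ.HasE M f 0 x := by
    have := h1.conj ht (hM ht)
    rw [e1, Fm.hasE_smul_left, hb, hS.sigma, map_zero, smul_zero] at this
    simpa using this
  have hef0 : Φ.B e f ≠ 0 := by simp [hef]
  have hgen : ∀ R : Subring F, -x ^ 2 ∈ R → ∀ a, a ∈ R := fun R hR a =>
    (Subring.closure_le.2 (Set.singleton_subset_iff.2 (by simpa using hR))) (hx ▸ Subring.mem_top a)
  obtain ⟨k, hk0, hk1, hk, hall⟩ : ∃ k, k ≠ 0 ∧ k ≠ 1 ∧ Tor Φ M e f k ∧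
      ∀ a, a ∈ scalA Φ M hR.qe := by
    rcases dk_odd h2 hR.qe qf (hS.pi _) (hS.pi _) h1 h3 (lam := -x ^ 2)
      (by rw [hef, Fm.B_eq_eps hef, hS.eps]; ring) (by simp [hx0])
      (fun L hL a _ => hgen L.toSubring hL a) with ⟨-, h4⟩ | ⟨h4, h5, h6⟩
    · refine ⟨-1, by simp, fun c => h2 (by linear_combination -c), h4 _ (hS.sigma _) (by simp),
        fun a => ?_⟩
      by_cases ha : a = 0
      · exact ha ▸ zero_mem _
      · exact fun w hw => (h4 a (hS.sigma _) ha).inA_smul hM ha (hS.sigma _) hR.qe hef0 hw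
    · refine ⟨_, by simp [hx0], fun c => h2 ?_, h6, hgen _ fun w hw =>
        h6.inA_smul hM (by simp [hx0]) (hS.sigma _) hR.qe hef0 hw⟩
      rw [c] at h5
      linear_combination h5
  have h4 : nl u f ∈ subA Φ M hR.qe := fun a => by
    have := hall (a / (1 - k)) _ (hR.inA_nl_f hM hu hk hk0 (hS.sigma _))
    rwa [smul_smul, div_mul_cancel₀ _ (sub_ne_zero.2 hk1.symm)] at this
  refine hR.full (by omega) (by omega) hM hu (fun c _ => ?_) h4
  have h5 : Φ.B (nl u f) ((nl u ^ (2 * n + 2)) f) ≠ 0 := by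
    have := B_nl_pow hR.iso 1 f ((nl u ^ (2 * n + 2)) f) (by
      rw [← nl_pow_add, ← hR.nil f]; congr 2; omega)
    rw [pow_one, pow_one, ← nl_pow_succ] at this
    rw [this]
    exact mul_ne_zero (by simp) (by convert hR.top using 4; omega)
  have h6 := (h4 (c / (2 * Φ.B (nl u f) ((nl u ^ (2 * n + 2)) f)))).comm
    (inA_nl hM hu hR.fix (h4 1) (2 * n + 1))
  convert h6 using 1
  rw [one_smul, ← nl_pow_succ', Φ.symm (_ • _), Φ.B_smul_left, hS.sigma, hS.sigma, hS.eps]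
  field_simp
  ring

end Cfsg.Agent.KSG
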