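import Mathlib
import Cfsg.Agent.KSG.RegField
import Cfsg.Agent.Class.U.Field

/-!
Elements of a field with `q ^ 2` elements generating the fixed field of `x ↦ x ^ q`.
-/

set_option autoImplicit false

namespace Cfsg.Agent.KSG

open Cfsg.Agent.Class Cfsg.Agent.Class.U

variable {F : Type*} [Field F] {q : ℕ} [hU : UF F q]

/-- `x` generates the fixed field. -/
def GenK (q : ℕ) (x : F) : Prop := ∀ L : Subfield F, x ∈ L → ∀ a : F, a ^ q = a → a ∈ L

theorem genK_of {x : F} (hx : x ^ q = x)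
    (h : ∀ a : ℕ, 2 ≤ a → a ^ 2 ≤ q → (∀ y z : F, (y + z) ^ a = y ^ a + z ^ a) → x ^ a ≠ x) :
    GenK q x := by
  intro L hL b hb
  have := hU.finite
  let K : Subfield F := (conj F q).eqLocusField (RingHom.id F)
  by_cases hR : L.toSubring.comap K.subtype = ⊤
  · exact (hR ▸ Subring.mem_top (⟨b, hb⟩ : K) : (⟨b, hb⟩ : K) ∈ L.toSubring.comap K.subtype)
  obtain ⟨a, d, ha, hd, h1, h2⟩ := subring_data _ hR
  have h3 : Nat.card K = q := card_fixed F q
  obtain ⟨p, k, hp, hc, hq, -⟩ := exists_prime_pow F q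
  have := Fact.mk hp
  obtain ⟨j, -, rfl⟩ := (Nat.dvd_prime_pow hp).1
    (show a ∣ p ^ k from hq ▸ h3 ▸ h1 ▸ dvd_pow_self a (by omega))
  refine absurd (congrArg Subtype.val (h2 ⟨x, hx⟩ hL)) (h _ ha ?_ fun y z => add_pow_char_pow ..)
  rw [← h3, h1]
  exact Nat.pow_le_pow_right (by omega) hd

theorem GenK.of_mem {x y : F} (h : GenK q x) (hy : ∀ L : Subfield F, y ∈ L → x ∈ L) : GenK q y :=
  fun L hL => h L (hy L hL)

theorem genK_trace {ρ : F} (h0 : ρ ≠ 0) (h1 : ρ ^ q = ρ⁻¹) (h : ∀ k, ρ ^ k = 1 → q + 1 ∣ k) :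
    GenK q (ρ + ρ⁻¹) := by
  refine genK_of (by rw [add_pow_q, inv_pow, h1, inv_inv, add_comm]) fun a ha haq hadd e => ?_
  obtain ⟨b, rfl⟩ : ∃ b, a = b + 2 := ⟨a - 2, by omega⟩
  have : (ρ ^ (b + 3) - 1) * (ρ ^ (b + 1) - 1) = 0 := by
    rw [hadd, inv_pow] at e
    field_simp at e
    apply mul_left_cancel₀ h0
    linear_combination e
  rcases mul_eq_zero.1 this with e | e <;>
    have := Nat.le_of_dvd (by omega) (h _ (sub_eq_zero.1 e)) <;> nlinarith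

variable (F q) in
theorem exists_prim : ∃ G : F, G ≠ 0 ∧ ∀ k, G ^ k = 1 ↔ (q + 1) * (q - 1) ∣ k := by
  have := hU.finite
  obtain ⟨G, hG⟩ := IsCyclic.exists_generator (α := Fˣ)
  refine ⟨G, G.ne_zero, fun k => ?_⟩
  rw [← card_units F q, ← orderOf_eq_card_of_forall_mem_zpowers hG, orderOf_dvd_iff_pow_eq_one,
    ← Units.val_pow_eq_pow_val, Units.val_eq_one]

theorem odd_q (h2 : (2 : F) ≠ 0) : ∃ r, 0 < r ∧ q = 2 * r + 1 := by
  have h1 := two_le_q F q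
  obtain ⟨p, k, hp, hc, hq, -⟩ := exists_prime_pow F q
  have : Odd q := hq ▸ (hp.odd_of_ne_two fun e => h2 (by
    subst e; exact CharP.cast_eq_zero F 2)).pow
  obtain ⟨r, hr⟩ := this
  exact ⟨r, by omega, hr⟩

theorem genK_prim {G : F} (h0 : G ≠ 0) (hG : ∀ k, G ^ k = 1 ↔ (q + 1) * (q - 1) ∣ k) :
    (G ^ (q + 1)) ^ q = G ^ (q + 1) ∧ GenK q (G ^ (q + 1)) := by
  have h1 := two_le_q F q
  have key : ∀ a, 0 < a → ((G ^ (q + 1)) ^ a = G ^ (q + 1) ↔ q - 1 ∣ a - 1) := fun a ha => by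
    obtain ⟨b, rfl⟩ : ∃ b, a = b + 1 := ⟨a - 1, by omega⟩
    rw [pow_succ, mul_eq_right₀ (pow_ne_zero _ h0), ← pow_mul, hG, Nat.add_sub_cancel,
      Nat.mul_dvd_mul_iff_left (by omega)]
  have h2 := (key q (by omega)).2 dvd_rfl
  refine ⟨h2, genK_of h2 fun a ha haq _ e => ?_⟩
  have := Nat.le_of_dvd (by omega) ((key a (by omega)).1 e)
  have : q ≤ a := by omega
  nlinarith

theorem pow_half {G : F} (hG : ∀ k, G ^ k = 1 ↔ (q + 1) * (q - 1) ∣ k) {r : ℕ} (hr : 0 < r)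
    (hq : q = 2 * r + 1) : G ^ (2 * r * (r + 1)) = -1 := by
  subst hq
  have h1 : (G ^ (2 * r * (r + 1))) ^ 2 = 1 := by
    rw [← pow_mul, hG, Nat.add_sub_cancel]
    exact Dvd.intro 1 (by ring)
  refine (sq_eq_one_iff.1 h1).resolve_left fun e => ?_
  have := Nat.le_of_dvd (by positivity) ((hG _).1 e)
  rw [Nat.add_sub_cancel] at this
  nlinarith

variable (F q) in
theorem exists_skew_gen (h2 : (2 : F) ≠ 0) : ∃ ζ : F, ζ ≠ 0 ∧ ζ ^ q = -ζ ∧ GenK q (ζ ^ 2) ∧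
    ((3 : F) = 0 → (ζ ^ 2) ^ 2 ≠ -1) := by
  obtain ⟨r, hr, hq⟩ := odd_q (q := q) h2
  obtain ⟨G, h0, hG⟩ := exists_prim F q
  have h1 := pow_half hG hr hq
  have h3 : (G ^ (r + 1)) ^ 2 = G ^ (q + 1) := by rw [← pow_mul, hq]; congr 1; ring
  refine ⟨G ^ (r + 1), pow_ne_zero _ h0, ?_, h3 ▸ (genK_prim h0 hG).2, fun h4 e => ?_⟩
  · rw [← neg_one_mul, ← h1, ← pow_mul, ← pow_add, hq]; congr 1; ring
  · rw [h3, ← pow_mul] at e
    have h5 : G ^ ((q + 1) * 4) = 1 := by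
      rw [show (q + 1) * 4 = (q + 1) * 2 * 2 by ring, pow_mul, e]; ring
    rw [hG, Nat.mul_dvd_mul_iff_left (by omega), hq, Nat.add_sub_cancel] at h5
    have h6 := Nat.le_of_dvd (by omega) h5
    obtain rfl | rfl : r = 1 ∨ r = 2 := by omega
    · rw [(hG _).2 (by rw [hq])] at e
      exact h2 (by linear_combination e)
    · have := hU.finite
      have := Fintype.ofFinite F
      have h7 := FiniteField.cast_card_eq_zero F
      rw [← Nat.card_eq_fintype_card, hU.card_eq, hq] at h7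
      exact one_ne_zero (α := F) (by push_cast at h7; linear_combination h7 - 8 * h4)

variable (F q) in
theorem exists_theta (h2 : (2 : F) ≠ 0) : ∃ θ : F, θ ≠ 0 ∧ θ ^ q = -θ⁻¹ ∧ θ ^ 4 ≠ 1 ∧
    (θ ^ 2) ^ q ≠ θ ^ 2 ∧ GenK q (θ ^ 2 + (θ ^ 2)⁻¹) := by
  obtain ⟨r, hr, hq⟩ := odd_q (q := q) h2
  obtain ⟨G, h0, hG⟩ := exists_prim F q
  have h1 := pow_half hG hr hq
  have h3 : (G ^ r) ^ q = -(G ^ r)⁻¹ := by
    have := pow_ne_zero r h0
    field_simp
    rw [← h1, ← pow_succ', ← pow_mul, hq]; congr 1; ring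
  have h4 : ∀ k, ((G ^ r) ^ 2) ^ k = 1 → q + 1 ∣ k := fun k e => by
    rw [← pow_mul, ← pow_mul, hG, hq, Nat.add_sub_cancel, show r * (2 * k) = k * (2 * r) by ring,
      Nat.mul_dvd_mul_iff_right (by omega)] at e
    exact hq ▸ e
  have h5 : ((G ^ r) ^ 2) ^ q = ((G ^ r) ^ 2)⁻¹ := by rw [pow_right_comm, h3, neg_sq, inv_pow]
  have h6 : (G ^ r) ^ 4 ≠ 1 := fun e => by
    have := Nat.le_of_dvd two_pos (h4 2 (by rw [← pow_mul, e]))
    omega
  refine ⟨G ^ r, pow_ne_zero _ h0, h3, h6, fun e => h6 ?_,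
    genK_trace (pow_ne_zero _ (pow_ne_zero _ h0)) h5 h4⟩
  rw [h5] at e
  rw [show 4 = 2 + 2 from rfl, pow_add]
  nth_rewrite 1 [← e]
  exact inv_mul_cancel₀ (pow_ne_zero _ (pow_ne_zero _ h0))

variable (F q) in
theorem exists_eta : ∃ η : F, η ≠ 0 ∧ η ^ q = η⁻¹ ∧ ∀ k, η ^ k = 1 → q + 1 ∣ k := by
  have h1 := two_le_q F q
  obtain ⟨G, h0, hG⟩ := exists_prim F q
  refine ⟨G ^ (q - 1), pow_ne_zero _ h0, eq_inv_of_mul_eq_one_left ?_, fun k e => ?_⟩
  · rw [← pow_succ, ← pow_mul, hG, mul_comm]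
  · rwa [← pow_mul, hG, mul_comm _ k, Nat.mul_dvd_mul_iff_right (by omega)] at e

variable (F q) in
theorem exists_genK_ne (hq : 3 ≤ q) (τ : F) :
    ∃ κ : F, κ ^ q = κ ∧ κ ≠ 0 ∧ κ ≠ τ ∧ GenK q κ := by
  obtain ⟨G, h0, hG⟩ := exists_prim F q
  obtain ⟨h1, h2⟩ := genK_prim h0 hG
  by_cases h : G ^ (q + 1) = τ
  · by_cases h3 : G ^ (q + 1) = -1
    · refine ⟨1, one_pow _, one_ne_zero, fun e => ?_, h2.of_mem fun L _ => by simp [h3]⟩
      have := Nat.le_of_dvd (by omega) ((hG _).1 (h.trans e.symm))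
      have : 2 ≤ q - 1 := by omega
      nlinarith
    · exact ⟨G ^ (q + 1) + 1, by rw [add_pow_q, h1, one_pow],
        fun e => h3 (eq_neg_of_add_eq_zero_left e), by simp [← h],
        h2.of_mem fun L hL => by simpa using L.sub_mem hL L.one_mem⟩
  · exact ⟨_, h1, pow_ne_zero _ h0, h, h2⟩

omit hU in
/-- A generator `s` of a finite field with `X ^ 2 + s X + 1` irreducible. -/
theorem exists_irred_trace [Finite F] : ∃ s : F, (∀ L : Subfield F, s ∈ L → L = ⊤) ∧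
    ∀ x : F, x ^ 2 - s * x + 1 ≠ 0 := by
  obtain ⟨p, hp⟩ := CharP.exists F
  have hpp : Fact p.Prime := ⟨CharP.char_is_prime F p⟩
  let E := FiniteField.Extension F p 2
  have hE : UF E (Nat.card F) := ⟨inferInstance, FiniteField.natCard_extension F p 2⟩
  obtain ⟨η, h0, h1, h2⟩ := exists_eta E (Nat.card F)
  let K : Subfield E := (conj E (Nat.card F)).eqLocusField (RingHom.id E)
  have h3 : Nat.card K = Nat.card F := card_fixed E _
  have := Fintype.ofFinite F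
  have := Fintype.ofFinite K
  let φ : K ≃+* F := FiniteField.ringEquivOfCardEq (by simpa using h3)
  have h4 : η + η⁻¹ ∈ K := by
    change (η + η⁻¹) ^ Nat.card F = _
    rw [add_pow_q, inv_pow, h1, inv_inv, add_comm]; rfl
  refine ⟨φ ⟨_, h4⟩, fun L hL => ?_, fun x e => ?_⟩
  · rw [eq_top_iff]
    intro a _
    obtain ⟨b, hb, e⟩ := genK_trace h0 h1 h2 ((L.comap φ.toRingHom).map K.subtype)
      ⟨⟨_, h4⟩, hL, rfl⟩ (φ.symm a) (φ.symm a).2
    rw [show b = φ.symm a from Subtype.ext e] at hb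
    simpa using hb
  · have e1 := congrArg (fun a => ((φ.symm a : K) : E)) e
    simp only [map_add, map_sub, map_mul, map_pow, map_one, map_zero, RingEquiv.symm_apply_apply]
      at e1
    have e2 : ((φ.symm x : K) : E) ^ Nat.card F = φ.symm x := (φ.symm x).2
    generalize hy : ((φ.symm x : K) : E) = y at e2
    have e3 : (y - η) * (y - η⁻¹) = 0 := by
      push_cast at e1
      rw [hy] at e1
      linear_combination e1 + mul_inv_cancel₀ h0
    have e4 : η ^ 2 = 1 := by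
      rcases mul_eq_zero.1 e3 with e3 | e3 <;> rw [sub_eq_zero.1 e3] at e2
      · rw [h1] at e2
        rw [sq]; nth_rewrite 1 [← e2]; exact inv_mul_cancel₀ h0
      · rw [inv_pow, h1, inv_inv] at e2
        rw [sq]; nth_rewrite 1 [e2]; exact inv_mul_cancel₀ h0
    have := Nat.le_of_dvd two_pos (h2 2 e4)
    have := two_le_q E (Nat.card F)
    omega

end Cfsg.Agent.KSG
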