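import Mathlib
import Cfsg.Agent.KSG.RegSpOdd
import Cfsg.Agent.KSG.RegUNum

/-!
Three conjugate regular unipotent generators of `SU_n(q)`, `n ≥ 5` odd.
-/

set_option autoImplicit false

namespace Cfsg.Agent.KSG

open Module Cfsg.Agent.Class Cfsg.Agent.Class.Max Cfsg.Agent.Class.U

variable {F V : Type*} [Field F] [AddCommGroup V] [Module F V] {Φ : Fm F V}
  {M : Subgroup (V ≃ₗ[F] V)} {u : V ≃ₗ[F] V} {e f w : V} {Y : Submodule F V} {j q : ℕ}

theorem GenK.fixK_le (hσ : ∀ a, Φ.σ a = a ^ q) {x : F} (h : GenK q x) (L : Subfield F)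
    (hL : x ∈ L) : fixK Φ ≤ L := fun a ha => h L hL a ((hσ a).symm.trans ha)

theorem IsU.exists_pi_ne (hU : IsU Φ) : ∃ a, Φ.π a ≠ 0 := by
  by_contra hc
  push Not at hc
  obtain ⟨a, ha⟩ := hU.ne
  have h1 := hc 1
  have h2 := hc a
  rw [hU.pi] at h1 h2
  rw [map_one] at h1
  exact ha (by linear_combination h2 - a * h1)

theorem IsU.exists_ns (hU : IsU Φ) [Nontrivial V] : ∃ w, Φ.B w w ≠ 0 := by
  by_contra hc
  push Not at hc
  obtain ⟨x, hx⟩ := exists_ne (0 : V)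
  obtain ⟨y, hy⟩ := Φ.exists_B_ne hx
  obtain ⟨a, ha⟩ := hU.exists_pi_ne
  have := Φ.add x ((a / Φ.B x y) • y)
  rw [hU.Q, hU.Q, hU.Q, hc, hc, hc, Φ.B_smul_right, div_mul_cancel₀ _ hy] at this
  exact ha (by linear_combination -this)

theorem IsU.sigma_B (hU : IsU Φ) (x y : V) : Φ.σ (Φ.B x y) = Φ.B y x := by
  rw [Φ.symm x y, hU.eps, one_mul]

theorem Reg.full_U [FiniteDimensional F V] (hU : IsU Φ) {m : ℕ} (h : Reg Φ u e f (2 * m + 2))
    (hd : finrank F V = 2 * m + 3) (hM : M ≤ Φ.Iso) (hu : u ∈ M) (h1 : FT Φ M e) (h2 : FT Φ M f)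
    {k : F} (hk : Φ.σ k = k) (hk0 : k ≠ 0) (hk1 : k ≠ 1) : Φ.Full M e := by
  have hef : Φ.B e f ≠ 0 := by simp [h.ef]
  have h3 := h.inA_nl_f hM hu (h1.tor hU.lamK h2 h.qe h.qf hef hk hk0) hk0 hk
  have h4 := sub_ne_zero.2 hk1.symm
  have h5 := hU.mem_subA hM h1 h2 h.qe h.qf hef hk hk0 hk1 (inA_nl hM hu h.fix h3 m) (by
    rw [map_smul, ← nl_pow_succ', Φ.smul, hU.Q]
    exact mul_ne_zero (mul_ne_zero h4 (Φ.σ_ne h4)) (h.mid (by ring))) h3
  refine h.full hd (by omega) hM hu h1 ?_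
  simpa [smul_smul, h4] using (subA Φ M h.qe).smul_mem (1 - k)⁻¹ h5

theorem IsU.exists_stage [FiniteDimensional F V] (hU : IsU Φ) (hd : Φ.d ≤ 2) {m : ℕ}
    (hn : finrank F V = 2 * m + 5) (a : F) :
    ∃ Y u w, Stage Φ Y u w (2 * m + 2) ∧ Φ.Q w = Φ.π a := by
  have : Nontrivial V := Module.nontrivial_of_finrank_pos (R := F) (by omega)
  obtain ⟨w₀, h₀⟩ := hU.exists_ns
  obtain ⟨Y, u, w, h⟩ := (stage_one h₀).iter hd m (by omega)
  rw [zero_add] at h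
  obtain ⟨e, he, f, hf, qe, qf, hef⟩ := h.exists_hyp hd (by omega)
  obtain ⟨c, hv⟩ := Fm.exists_valid qe (h.perp e he)
  refine ⟨_, _, _, h.step he hv hf qf hef a, ?_⟩
  rw [Φ.add, qf, Φ.Q_smul_zero qe, Φ.B_smul_right, Fm.B_eq_eps hef, hU.eps]
  simp

theorem gen3_u_odd [UF F q] [FiniteDimensional F V] (hU : IsU Φ) (hd : Φ.d ≤ 2)
    (hσ : ∀ a, Φ.σ a = a ^ q) (h2 : (2 : F) ≠ 0) {m : ℕ} (hn : finrank F V = 2 * m + 5) :
    Gen3 Φ := by
  have := UF.finite (F := F) q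
  obtain ⟨a, ha⟩ := hU.exists_pi_ne
  obtain ⟨Y, u, w, h, hw⟩ := hU.exists_stage hd hn a
  obtain ⟨e, he, f, hf, qe, qf, hef⟩ := h.exists_hyp hd (by omega)
  set κ := Φ.π a
  have hκ : Φ.σ κ = κ := by rw [← hw, hU.Q, hU.sigma_B]
  have hσ2 : Φ.σ 2 = 2 := map_ofNat _ 2
  have hv : Φ.Valid e w (κ / 2) := ⟨qe, h.perp e he, by
    rw [hU.pi, map_div₀, hκ, hσ2, hw]; field_simp; ring⟩
  have hR := h.reg he hv qf hef
  have hb := h.B_step hv hf qf hef
  generalize hv.eich * u = u at hR hb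
  obtain ⟨ζ, h0, h1, h3, h4⟩ := exists_skew_gen F q h2
  rw [← hσ] at h1
  obtain ⟨g, hg, H⟩ := hR.exists_tv_conj (by omega) (-ζ / κ)
  have hb0 : Φ.B f (u f) ≠ 0 := by simp [hb, ha, h2]
  refine hR.gen3 (by omega) (by omega) hb0 hg fun M hM hu hg' ⟨t, ht, e1⟩ => ?_
  have h5 : Φ.HasE M e 0 (2 * ζ / κ) := by
    convert H M hM hu hg' using 1
    rw [hU.eps, map_div₀, map_neg, h1, hκ]; ring
  have h6 := h5.conj ht (hM ht)
  rw [e1, map_zero] at h6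
  have h7 : Φ.π (2 * ζ / κ) = 0 := by rw [hU.pi, map_div₀, map_mul, h1, hκ, hσ2]; ring
  rcases dk_odd h2 qe (Φ.Q_smul_zero qf _) h7 h7 h5 h6 (lam := ζ ^ 2) (by
    simp only [Φ.bsimp, hb, hef, Fm.B_eq_eps hef, hU.eps, hκ, hσ2]
    field_simp) (pow_ne_zero _ h0) (h3.fixK_le hσ) with ⟨h8, -⟩ | ⟨h8, h9, -⟩
  · have h9 := h8.conj ht (hM ht)
    rw [e1] at h9
    exact hR.full_U hU (m := m + 1) hn hM hu h8 (h9.of_smul hb0) (k := -1) (by simp) (by simp)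
      fun c => h2 (by linear_combination -c)
  · exact absurd h9 (h4 h8)

theorem hasE_sq (h2 : (2 : F) = 0) {c : F} (hv : Φ.Valid e w c) (h : Φ.HasE M e w c) :
    Φ.HasE M e 0 (Φ.B w w) := by
  convert h.add hv hv h using 1
  · rw [← two_smul F, h2, zero_smul]
  · linear_combination -c * h2

theorem pl_upper {x y : V} {c c' : F} (hc' : c' ≠ 0) (h : Φ.B x y ≠ 0) (v : V) :
    Φ.ef x 0 c v = pl Φ x ((-(Φ.ε * c' * Φ.B y x)) • y)
      !![1, c * c' * Φ.B x y * Φ.B y x; 0, 1] v := by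
  have h5 := Φ.ne_symm h
  have h6 := Φ.eps_ne
  simp only [Fm.ef, pl, Φ.bsimp]
  simp
  match_scalars
  · rfl
  · field_simp
    linear_combination (-c * Φ.B x v) * Φ.eps_sq

theorem exists_reg_even [FiniteDimensional F V] (hU : IsU Φ) (hd : Φ.d ≤ 2) (h2 : (2 : F) = 0)
    {m : ℕ} (hn : finrank F V = 2 * m + 5) : ∃ u e f, Reg Φ u e f (2 * m + 4) ∧
      Φ.B f (u f) = 1 := by
  obtain ⟨Y, u, w, h, hw⟩ := hU.exists_stage hd hn 0
  obtain ⟨e, he, f, hf, qe, qf, hef⟩ := h.exists_hyp hd (by omega)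
  have hv : Φ.Valid e w 1 := ⟨qe, h.perp e he, by
    rw [hU.pi, map_one, hw, map_zero]; linear_combination h2⟩
  exact ⟨_, _, _, h.reg he hv qf hef, by rw [h.B_step hv hf qf hef]; linear_combination -h2⟩

theorem gen3_u_even [UF F q] [FiniteDimensional F V] (hU : IsU Φ) (hd : Φ.d ≤ 2)
    (hσ : ∀ a, Φ.σ a = a ^ q) (h2 : (2 : F) = 0) (hq : 3 ≤ q) {m : ℕ}
    (hn : finrank F V = 2 * m + 5) : Gen3 Φ := by
  have := UF.finite (F := F) q
  obtain ⟨u, e, f, hR, hb⟩ := exists_reg_even hU hd h2 hn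
  obtain ⟨κ, h0, h1, h3, h4⟩ := exists_genK_ne F q hq 1
  rw [← hσ] at h0
  obtain ⟨s, hs, e0⟩ := hR.bot
  obtain ⟨a, ha⟩ := hU.exists_pi_ne
  set ν := Φ.B ((nl u ^ (m + 2)) f) ((nl u ^ (m + 2)) f) with hν
  have hν0 : ν ≠ 0 := hR.mid (by ring)
  have hνσ : Φ.σ ν = ν := hU.sigma_B _ _
  have hσs := Φ.σ_ne hs
  have ha0 : a ≠ 0 := by rintro rfl; simp at ha
  have hσa := Φ.σ_ne ha0
  have hπ : Φ.σ (Φ.π a) = Φ.π a := by rw [hU.pi, map_add, Φ.invol, add_comm]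
  set k := κ * Φ.π a / (a / s * Φ.σ (a / s) * ν) with hk
  have hk0 : k ≠ 0 := by simp [hk, h1, ha, ha0, hs, hν0]
  have hkσ : Φ.σ k = k := by
    simp only [hk, Φ.bsimp, h0, hπ, hνσ]; ring
  obtain ⟨c, hv⟩ := Fm.exists_valid (w := (-(k * (a / s))) • (nl u ^ (m + 1)) f) hR.qe
    (by rw [Φ.B_smul_right, B_nl_pow_fix hR.iso hR.fix, mul_zero])
  refine hR.gen3 (by omega) (by omega) (by simp [hb]) hv.eich_mem
    fun M hM hu hg' ⟨t, ht, e1⟩ => ?_
  rw [hb, one_smul] at e1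
  obtain ⟨v1, h5⟩ := hasE_of_conj hM hu hR.fix hR.ne hv hg'
  rw [map_smul, ← nl_pow_succ, ← neg_smul, neg_neg] at v1 h5
  have h6 : Φ.HasE M e 0 (κ * (k * Φ.π a)) := by
    convert hasE_sq h2 v1 h5 using 1
    simp only [Φ.bsimp, ← hν, hkσ]
    rw [hk, map_div₀]
    field_simp
  have key : ∀ i, Φ.Valid e ((k * (a / s)) • (nl u ^ (m + 3 + i)) f) 0 ∧
      Φ.HasE M e ((k * (a / s)) • (nl u ^ (m + 3 + i)) f) 0 := fun i => by
    induction i with
    | zero =>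
      have := hasE_step hM hu hR.fix hR.ne v1 h5
      rwa [map_smul, ← nl_pow_succ, Φ.B_smul_left, Φ.B_smul_right, hR.B_big (by omega), mul_zero,
        mul_zero, neg_zero] at this
    | succ i ih =>
      have := hasE_step hM hu hR.fix hR.ne ih.1 ih.2
      rwa [map_smul, ← nl_pow_succ, Φ.B_smul_left, Φ.B_smul_right, hR.B_big (by omega), mul_zero,
        mul_zero, neg_zero] at this
  have h7 : Φ.HasE M e 0 (k * Φ.π a) := by
    have := (key (m + 1)).2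
    rw [show m + 3 + (m + 1) = 2 * m + 4 by ring, e0, smul_smul] at this
    convert hasE_smul_self this using 1
    rw [mul_assoc, div_mul_cancel₀ _ hs, hU.pi, hU.eps, map_mul, hkσ]
    linear_combination (k * a) * h2
  have h8 := h7.conj ht (hM ht)
  rw [e1, map_zero] at h8
  have hc : Φ.σ (k * Φ.π a) = k * Φ.π a := by rw [map_mul, hkσ, hπ]
  have hc0 := mul_ne_zero hk0 ha
  generalize k * Φ.π a = c at *
  have p1 : Φ.π c = 0 := by rw [hU.pi, hc]; linear_combination c * h2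
  obtain ⟨r, hr, er⟩ := h7
  have hfe : Φ.B f e = 1 := by rw [Fm.B_eq_eps hR.ef, hU.eps]
  have h9 := (dk_even h2 hR.qe hR.qf (hU.lamK.mul _ _ h0 p1) p1 h6 h8 rfl
    (by simp [h1, hc0, hR.ef, hfe]) (one_mem _) (lam_mem_fixK p1 p1 e f) (zero_mem _) (by simp)
    (by simp [hc0, hR.ef, hfe]) (fun e => h3 ?_) hr
    (fun v => by rw [er, pl_upper (y := f) hc0 (by simp [hR.ef])]) fun L a1 a2 _ => h4.fixK_le hσ L ?_).1
  · have h10 := h9.conj ht (hM ht)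
    rw [e1] at h10
    exact hR.full_U hU (m := m + 1) hn hM hu h9 h10 h0 h1 h3
  · rw [hR.ef, hfe] at e
    apply mul_left_cancel₀ (mul_ne_zero hc0 hc0)
    linear_combination e - c * c * h2
  · rw [hR.ef, hfe] at a1 a2
    convert L.div_mem a1 a2 using 1
    field_simp

theorem gen3_u_two [UF F 2] [FiniteDimensional F V] (hU : IsU Φ) (hd : Φ.d ≤ 2)
    (hσ : ∀ a, Φ.σ a = a ^ 2) {m : ℕ} (hn : finrank F V = 2 * m + 5) : Gen3 Φ := by
  have h2 : (2 : F) = 0 := by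
    have := hσ (1 + 1)
    rw [map_add, map_one] at this
    linear_combination -this
  have hK : ∀ k, Φ.σ k = k → k = 0 ∨ k = 1 := fun k hk => by
    rw [hσ] at hk
    exact (mul_eq_zero.1 (show k * (k - 1) = 0 by linear_combination hk)).imp id sub_eq_zero.1
  obtain ⟨u, e, f, hR, hb⟩ := exists_reg_even hU hd h2 hn
  obtain ⟨ω, hω⟩ := hU.ne
  set θ := Φ.B (nl u f) ((nl u ^ (2 * m + 3)) f) with hθ
  have hθ0 : θ ≠ 0 := by
    have := B_nl_pow hR.iso 1 f ((nl u ^ (2 * m + 3)) f) (by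
      rw [← nl_pow_add, ← hR.nil f]; congr 2; omega)
    rw [pow_one, pow_one, ← nl_pow_succ] at this
    rw [hθ, this]
    exact mul_ne_zero (by simp) hR.top
  set μ := (ω - θ⁻¹ * Φ.B (nl u f) ((nl u ^ (2 * m + 2)) f)) / θ with hμ
  obtain ⟨c, hv⟩ := Fm.exists_valid (w := -(θ⁻¹ • (nl u ^ 1) f + μ • (nl u ^ 2) f)) hR.qe
    (by simp only [Φ.bsimp, B_nl_pow_fix hR.iso hR.fix 0, B_nl_pow_fix hR.iso hR.fix 1]; simp)
  refine hR.gen3 (by omega) (by omega) (by simp [hb]) hv.eich_mem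
    fun M hM hu hg' ⟨t, ht, e1⟩ => ?_
  rw [hb, one_smul] at e1
  have key : ∀ i, Φ.InA M e (θ⁻¹ • (nl u ^ (i + 2)) f + μ • (nl u ^ (i + 3)) f) := fun i => by
    obtain ⟨v1, h5⟩ := hasE_of_conj hM hu hR.fix hR.ne hv hg'
    have := inA_nl hM hu hR.fix ⟨_, v1, h5⟩ i
    simpa only [map_neg, neg_neg, map_add, map_smul, ← nl_pow_succ, ← nl_pow_add] using this
  have h3 : FT Φ M e := fun c hc => by
    obtain ⟨c', v1, h5⟩ := key m
    have h6 := hasE_sq h2 v1 h5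
    simp only [Φ.bsimp, hR.B_big (show 2 * m + 4 < m + 2 + (m + 3) by omega),
      hR.B_big (show 2 * m + 4 < m + 3 + (m + 2) by omega),
      hR.B_big (show 2 * m + 4 < m + 3 + (m + 3) by omega), mul_zero, add_zero] at h6
    have h7 := hR.mid (m := m + 2) (by ring)
    rcases hK c (by rw [sigma_lam hc, hU.eps]; linear_combination -c * h2) with rfl | rfl
    · exact Fm.hasE_zero e
    · convert h6
      refine ((hK _ ?_).resolve_left (by simp [h7, hθ0])).symm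
      simp only [Φ.bsimp, hU.sigma_B]
      ring
  have h4 := h3.conj ht (hM ht)
  rw [e1] at h4
  have p1 : Φ.π 1 = 0 := by rw [hU.pi, map_one]; linear_combination h2
  have h5 : FT Φ M (nl u f) := by
    obtain ⟨r, hr, er⟩ := h4 1 p1
    convert (h4.conj hu (hM hu)).conj hr (hM hr) using 1
    simp [er, Fm.ef, hb, hU.eps, nl_apply]
  obtain ⟨r, hr, er⟩ := h5 1 p1
  have h6 : ∀ w, Φ.InA M e w → Φ.InA M e (Φ.B (nl u f) w • nl u f) := fun w hw => by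
    have h7 := hw.conj hr (hM hr)
    rw [er e, Fm.ef_apply_of_perp (Φ.perp_symm (B_nl_fix hR.iso hR.fix f)) (by simp)] at h7
    convert hw.sub h7 using 1
    simp [er, Fm.ef, hU.eps]
  refine hR.full (by omega) (by omega) hM hu h3 fun a => ?_
  have h7 := h6 _ (key (2 * m + 1))
  have h8 := h6 _ (key (2 * m))
  have h9 := hR.B_big (k := 1) (l := 2 * m + 1 + 3) (by omega) f f
  rw [pow_one] at h9
  rw [map_add, map_smul, map_smul, h9, ← hθ, smul_eq_mul, inv_mul_cancel₀ hθ0, smul_zero,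
    add_zero] at h7
  rw [map_add, map_smul, map_smul, ← hθ, hμ, smul_eq_mul, smul_eq_mul, div_mul_cancel₀ _ hθ0,
    add_sub_cancel] at h8
  obtain ⟨k₁, k₂, a1, a2, rfl⟩ := exists_coords hω a
  rw [add_smul]
  refine Fm.InA.add ?_ ?_
  · rcases hK _ a1 with rfl | rfl
    · rw [zero_smul]; exact Fm.inA_zero hR.qe
    · exact h7
  · rcases hK _ a2 with rfl | rfl
    · rw [zero_mul, zero_smul]; exact Fm.inA_zero hR.qe
    · rwa [one_mul]

end Cfsg.Agent.KSG
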