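import Mathlib
import Cfsg.Agent.KSG.RegU

/-!
Two conjugate regular unipotent generators of `SU_3(q)`, `q ≥ 3`.
-/

set_option autoImplicit false

namespace Cfsg.Agent.KSG

open Module Cfsg.Agent.Class Cfsg.Agent.Class.Max Cfsg.Agent.Class.U

variable {F V : Type*} [Field F] [AddCommGroup V] [Module F V] {Φ : Fm F V}
  {M : Subgroup (V ≃ₗ[F] V)} {u : V ≃ₗ[F] V} {x y w : V} {q : ℕ}

theorem IsU.le_of_three [FiniteDimensional F V] (hU : IsU Φ) (hn : finrank F V = 3)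
    (hM : M ≤ Φ.Iso) (hx : Φ.Q x = 0) (h1 : FT Φ M x) {g : V ≃ₗ[F] V} (hg : g ∈ M)
    (h : Φ.B x (g x) ≠ 0) {k : F} (hk : Φ.σ k = k) (hk0 : k ≠ 0) (hk1 : k ≠ 1)
    (hw : Φ.InA M x w) (hQ : Φ.Q w ≠ 0) : Φ.EG ≤ M := by
  have hx0 : x ≠ 0 := by rintro rfl; simp at h
  have hy : Φ.Q (g x) = 0 := by rw [(hM hg).2, hx]
  have h2 := hU.mem_subA hM h1 (h1.conj hg (hM hg)) hx hy h hk hk0 hk1 hw hQ hw
  obtain ⟨c, hv, t, ht, e⟩ := hw
  have e1 : t x = x := by rw [e, hv.ef_self]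
  have e2 : nl t w = (-Φ.B w w) • x := by
    rw [nl_apply, e, Fm.ef_apply_of_perp' hv.perp, hU.eps]; module
  have h3 := le_finrank_of_stable (N := nl t) 1
    (fun v hv => (subA Φ M hx).sub_mem (subA_map hM hx ht e1 hv) hv) h2
    (by rw [pow_one, e2, ← hU.Q]; simp [hQ, hx0])
    (by rw [nl_pow_succ, pow_one, e2, map_smul, nl_apply, e1, sub_self, smul_zero])
  have h4 := full_of_subA hx h1 (eq_ker_of_finrank hx0 (subA_le hx) (by omega))
  exact Fm.EG_le_of_full h4 (h4.conj hg (hM hg)) hx hy h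

/-- A standard basis of a three-dimensional unitary space. -/
structure Bas3 (Φ : Fm F V) (x y w : V) : Prop where
  qx : Φ.Q x = 0
  qy : Φ.Q y = 0
  xy : Φ.B x y = 1
  yx : Φ.B y x = 1
  xx : Φ.B x x = 0
  yy : Φ.B y y = 0
  ww : Φ.B w w = 1
  xw : Φ.B x w = 0
  wx : Φ.B w x = 0
  yw : Φ.B y w = 0
  wy : Φ.B w y = 0

theorem exists_bas3 [UF F q] [FiniteDimensional F V] (hU : IsU Φ) (hd : Φ.d ≤ 2)
    (hσ : ∀ a, Φ.σ a = a ^ q) (hn : finrank F V = 3) : ∃ x y w, Bas3 Φ x y w ∧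
      ∀ β (hv : Φ.Valid x w β), Reg Φ hv.eich x y 2 := by
  have : Nontrivial V := Module.nontrivial_of_finrank_pos (R := F) (by omega)
  obtain ⟨w₀, h₀⟩ := hU.exists_ns
  obtain ⟨a, ha⟩ := exists_norm_eq (q := q) (μ := (Φ.B w₀ w₀)⁻¹) (by
    rw [conj_apply, ← hσ, map_inv₀, hU.sigma_B])
  rw [conj_apply, ← hσ] at ha
  have h1 : Φ.B (a • w₀) (a • w₀) = 1 := by
    rw [Φ.B_smul_left, Φ.B_smul_right, ← mul_assoc, mul_comm _ a, ha, inv_mul_cancel₀ h₀]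
  have h := stage_one (Φ := Φ) (w := a • w₀) (by rw [h1]; exact one_ne_zero)
  obtain ⟨x, hx, y, hy, qx, qy, hxy⟩ := h.exists_hyp hd (by omega)
  refine ⟨x, y, _, ⟨qx, qy, hxy, by rw [Fm.B_eq_eps hxy, hU.eps], Φ.B_self qx, Φ.B_self qy, h1,
    h.perp x hx, hx.2, h.perp y hy, hy.2⟩, fun β hv => ?_⟩
  simpa using h.reg hx hv qy hxy

theorem mem_of_pow_mem [Finite F] {p : ℕ} (hp : p.Prime) (h2 : (p : F) = 0) {L : Subfield F} {a : F}
    (h : a ^ p ∈ L) : a ∈ L := by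
  have := Fintype.ofFinite F
  have : CharP F p := (CharP.charP_iff_prime_eq_zero hp).2 h2
  obtain ⟨n, -, hn⟩ := FiniteField.card F p
  obtain ⟨k, hk⟩ : ∃ k, (n : ℕ) = k + 1 := ⟨n - 1, by have := n.pos; omega⟩
  rw [← FiniteField.pow_card a, hn, hk, pow_succ', pow_mul]
  exact L.pow_mem h _

theorem gen2_u_odd [UF F q] [FiniteDimensional F V] (hU : IsU Φ) (hd : Φ.d ≤ 2)
    (hσ : ∀ a, Φ.σ a = a ^ q) (h2 : (2 : F) ≠ 0) (hn : finrank F V = 3) : Gen2 Φ := by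
  have := UF.finite (F := F) q
  obtain ⟨x, y, w, hB, hR⟩ := exists_bas3 hU hd hσ hn
  obtain ⟨θ, h0, h1, h3, h4, h5⟩ := exists_theta F q h2
  rw [← hσ] at h1 h4
  have hσ2 : Φ.σ 2 = 2 := map_ofNat _ 2
  have hσ3 : Φ.σ 3 = 3 := map_ofNat _ 3
  have hp : θ ^ 2 + 1 ≠ 0 := fun e => h3 (by linear_combination (θ ^ 2 - 1) * e)
  have hp' : 1 + θ ^ 2 ≠ 0 := by rwa [add_comm]
  have hm : θ ^ 2 - 1 ≠ 0 := fun e => h3 (by linear_combination (θ ^ 2 + 1) * e)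
  obtain ⟨β, hβ⟩ : ∃ β, β = θ ^ 2 / (θ ^ 2 + 1) := ⟨_, rfl⟩
  have hσβ : Φ.σ β = 1 / (θ ^ 2 + 1) := by
    simp only [hβ, map_div₀, map_add, map_pow, h1, map_one]
    field_simp
    ring
  have hv : Φ.Valid x w β := ⟨hB.qx, hB.xw, by
    rw [hU.pi, hU.Q, hB.ww, hσβ, hβ]; field_simp⟩
  obtain ⟨a, ha⟩ : ∃ a, a = 2 * (θ + θ⁻¹) := ⟨_, rfl⟩
  have hσa : Φ.σ a = -a := by simp only [ha, Φ.bsimp, h1, hσ2, inv_neg, inv_inv]; ring
  have hs : Φ.Valid y 0 a := ⟨hB.qy, map_zero _, by rw [hU.pi, hσa, Φ.Q_zero]; ring⟩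
  have hR := hR β hv
  set u := hv.eich
  have ux : u x = x := hR.fix
  have uy : u y = y + w - β • x := by simp [u, hv.eich_apply, Fm.ef, hB.xy, hB.wy, hU.eps]
  have uw : u w = w - x := by simp [u, hv.eich_apply, Fm.ef, hB.xw, hB.ww, hU.eps]
  refine ⟨u, hR.mem, hs.eich, hs.eich_mem, hR.nilp, hR.pow_ne hn, fun M hM hu hg => ?_⟩
  set z := u y + θ • y with hz
  have hz' : z = (1 + θ) • y + w - β • x := by rw [hz, uy]; module
  have b0 : Φ.B y (u y) = -β := by simp [uy, hB.yy, hB.yw, hB.yx]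
  have b0' : Φ.B (u y) y = -Φ.σ β := by rw [← hU.sigma_B, b0, map_neg]
  have qy1 : Φ.B (u y) (u y) = 0 := by rw [hR.iso.1, hB.yy]
  have p2 : Φ.π (2 * a) = 0 := by rw [hU.pi, map_mul, hσa, hσ2]; ring
  have hz0 : Φ.Q z = 0 := by
    rw [hU.Q, hz]
    simp only [Φ.bsimp, b0, b0', qy1, hB.yy, h1, hσβ]
    rw [hβ]
    field_simp
    ring
  have T0 : Φ.HasE M z 0 (2 * a) := by
    have e1 : ∀ v, (hs.eich * u * hs.eich⁻¹ * u⁻¹) v = Φ.ef y 0 a (Φ.ef (u y) 0 (-a) v) :=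
      fun v => by
        change Φ.ef y 0 a (u (Φ.ef y (-0) (Φ.ε * Φ.σ a) (u⁻¹ v))) = _
        rw [Fm.Iso.ef hR.iso, app_inv_app, hσa, hU.eps, neg_zero, map_zero, one_mul]
    have h6 := M.mul_mem hg (M.inv_mem hu)
    refine ⟨_, M.mul_mem h6 h6, fun v => ?_⟩
    rw [mul_app, e1, e1, hz]
    simp only [Fm.ef, Φ.bsimp, b0, b0', qy1, hB.yy, hU.eps, smul_zero, h1, hσβ]
    rw [hβ, ha]
    match_scalars <;> field_simp <;> ring
  have hz1 : u z = (1 + θ) • y + (2 + θ) • w - ((2 + θ) * β + 1) • x := by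
    rw [hz', map_sub, map_add, map_smul, map_smul, ux, uy, uw]; module
  have hz2 : u (u z) = (1 + θ) • y + (3 + 2 * θ) • w - ((3 + 2 * θ) * β + 3 + θ) • x := by
    rw [hz1, map_sub, map_add, map_smul, map_smul, map_smul, ux, uy, uw]; module
  have b1 : Φ.B z (u z) = (3 * θ ^ 2 + 1) / (θ * (θ ^ 2 + 1)) := by
    rw [hz1, hz']
    simp only [Φ.bsimp, hB.xy, hB.yx, hB.xx, hB.yy, hB.ww, hB.xw, hB.wx, hB.yw, hB.wy, h1, hσβ]
    rw [hβ]
    field_simp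
    ring
  have b1' : Φ.B (u z) z = -(θ * (θ ^ 2 + 3)) / (θ ^ 2 + 1) := by
    rw [← hU.sigma_B, b1]
    simp only [map_div₀, map_add, map_mul, map_pow, map_one, h1, hσ3]
    field_simp
    ring
  have b2 : Φ.B z (u (u z)) = (3 + 6 * θ ^ 2 - θ ^ 4) / (θ * (θ ^ 2 + 1)) := by
    rw [hz2, hz']
    simp only [Φ.bsimp, hB.xy, hB.yx, hB.xx, hB.yy, hB.ww, hB.xw, hB.wx, hB.yw, hB.wy, h1, hσβ]
    rw [hβ]
    field_simp
    ring
  have n1 : 3 * θ ^ 2 + 1 ≠ 0 := fun e => by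
    by_cases h6 : (3 : F) = 0
    · exact one_ne_zero (α := F) (by linear_combination e - θ ^ 2 * h6)
    · apply h4
      rw [show θ ^ 2 = -1 / 3 by field_simp; linear_combination e]
      simp only [Φ.bsimp, hσ3]
  have n2 : θ ^ 2 + 3 ≠ 0 := fun e => by
    apply h4
    rw [show θ ^ 2 = -3 by linear_combination e]
    simp only [Φ.bsimp, hσ3]
  have T1 := T0.conj hu (hM hu)
  have T2 := T1.conj hu (hM hu)
  simp only [map_zero] at T1 T2
  have qz1 : Φ.Q (u z) = 0 := by rw [hR.iso.2, hz0]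
  have qz2 : Φ.Q (u (u z)) = 0 := by rw [hR.iso.2, qz1]
  have F0 : FT Φ M z := by
    by_cases h6 : (3 : F) = 0
    swap
    · rcases dk_odd h2 hz0 qz1 p2 p2 T0 T1 (lam := -16 * (10 + 3 * (θ ^ 2 + (θ ^ 2)⁻¹)))
        (by rw [b1, b1', ha]; field_simp; ring) (by
          rw [show -16 * (10 + 3 * (θ ^ 2 + (θ ^ 2)⁻¹)) =
            -2 ^ 4 * (3 * θ ^ 2 + 1) * (θ ^ 2 + 3) / θ ^ 2 by field_simp; ring]
          simp [h0, h2, n1, n2])
        ((h5.of_mem fun L hL => by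
          have h7 : (16 : F) ≠ 0 := by
            rw [show (16 : F) = 2 ^ 4 by norm_num]; exact pow_ne_zero _ h2
          convert L.div_mem (L.sub_mem (L.div_mem hL (intCast_mem L (-16))) (natCast_mem L 10))
            (natCast_mem L 3) using 1
          push_cast
          field_simp
          ring).fixK_le hσ) with h7 | h7
      · exact h7.1
      · exact absurd h7.1 h6
    obtain ⟨η, hη, h7⟩ : ∃ η : F, (η = 1 ∨ η = -1) ∧
        (1 + η * (θ ^ 2 + (θ ^ 2)⁻¹) ^ 3) ^ 2 ≠ -1 := by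
      by_contra hc
      push Not at hc
      have e1 := hc 1 (Or.inl rfl)
      have e2 := hc (-1) (Or.inr rfl)
      generalize (θ ^ 2 + (θ ^ 2)⁻¹) ^ 3 = s at e1 e2
      apply h2
      grind
    obtain ⟨t, ht, et⟩ : Φ.HasE M (u z) 0 (η * (2 * a)) := by
      rcases hη with rfl | rfl
      · rwa [one_mul]
      · convert T1.neg ⟨qz1, map_zero _, by rw [p2, Φ.Q_zero]⟩ using 1
        · simp
        · rw [hU.eps, map_mul, hσa, hσ2]; ring
    have T3 := T0.conj ht (hM ht)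
    rw [map_zero] at T3
    have hση : Φ.σ η = η := by rcases hη with rfl | rfl <;> simp
    have b3 : Φ.B (t z) (u (u z)) = (η - θ ^ 6) / (θ ^ 3 * (θ ^ 2 + 1)) := by
      have := hU.sigma_B (u z) z
      simp only [et, Fm.ef, Φ.bsimp, smul_zero, hU.eps, this, hR.iso.1, b1, b2, hση, hσa, hσ2]
      rw [ha]
      field_simp
      grind
    have b3' : Φ.B (u (u z)) (t z) = (1 - η * θ ^ 6) / (θ * (θ ^ 2 + 1)) := by
      rw [← hU.sigma_B, b3]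
      simp only [map_div₀, map_add, map_sub, map_mul, map_pow, map_one, h1, hση]
      field_simp
      ring
    rcases dk_odd h2 (by rw [(hM ht).2, hz0]) qz2 p2 p2 T3 T2
      (lam := 1 + η * (θ ^ 2 + (θ ^ 2)⁻¹) ^ 3) (by
        rw [b3, b3', ha]
        field_simp
        rcases hη with rfl | rfl <;> grind) (fun e => by
        field_simp at e
        rcases hη with rfl | rfl
        · exact pow_ne_zero 6 hm (by grind)
        · exact pow_ne_zero 6 hp (by grind))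
      ((h5.of_mem fun L hL => mem_of_pow_mem Nat.prime_three h6 (by
        rcases hη with rfl | rfl
        · simpa using L.sub_mem hL L.one_mem
        · simpa using L.sub_mem L.one_mem hL)).fixK_le hσ) with h8 | h8
    · simpa using h8.1.conj (M.inv_mem ht) (hM (M.inv_mem ht))
    · exact absurd h8.2.1 h7
  have F1 := F0.conj hu (hM hu)
  have F2 := F1.conj hu (hM hu)
  have c1 : Φ.B (u z) (u (u z)) ≠ 0 := by rw [hR.iso.1, b1]; simp [h0, hp, n1]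
  have c2 : Φ.B (u z) z ≠ 0 := by rw [b1']; simp [h0, hp, n2]
  have k1 : (-1 : F) ≠ 1 := fun c => h2 (by linear_combination -c)
  have h8 := (F1.tor hU.lamK F2 qz1 qz2 c1 (k := -1) (by simp) (by simp)).inA_diff hM
    ((F1.tor hU.lamK F0 qz1 hz0 c2 (by simp) (by simp)).smul_right (div_ne_zero c1 c2))
    (by simp) (by simp) qz1 qz2 (Φ.Q_smul_zero hz0 _) c1
    (by rw [Φ.B_smul_right, div_mul_cancel₀ _ c2])
  refine hU.le_of_three hn hM qz1 F1 hu c1 (k := -1) (by simp) (by simp) k1 h8 ?_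
  rw [Φ.smul, Φ.smul, Φ.Q_sub, Φ.Q_smul_zero hz0, qz2, Φ.B_smul_left, map_div₀, hU.sigma_B,
    hU.sigma_B, hR.iso.1, hR.iso.1, b1, b1', b2]
  have c3 := sub_ne_zero.2 k1.symm
  refine mul_ne_zero (mul_ne_zero c3 (Φ.σ_ne c3)) (mul_ne_zero ?_ ?_)
  · have : ((3 * θ ^ 2 + 1) / (θ * (θ ^ 2 + 1)))⁻¹ ≠ 0 := by simp [h0, hp, n1]
    exact mul_ne_zero this (Φ.σ_ne this)
  · have hσ6 : Φ.σ 6 = 6 := map_ofNat _ 6
    have n1' : θ ^ 2 * 3 + 1 ≠ 0 := by rwa [mul_comm]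
    have n2' : 3 + θ ^ 2 ≠ 0 := by rwa [add_comm]
    rw [hU.pi]
    simp only [map_div₀, map_add, map_sub, map_mul, map_pow, map_one, map_neg, h1, hσ3, hσ6]
    intro e
    field_simp at e
    apply mul_ne_zero (mul_ne_zero hp (pow_ne_zero 3 hp)) (pow_ne_zero 3 hm)
    linear_combination -e

theorem gen2_u_even [UF F q] [FiniteDimensional F V] (hU : IsU Φ) (hd : Φ.d ≤ 2)
    (hσ : ∀ a, Φ.σ a = a ^ q) (h2 : (2 : F) = 0) (hq : 3 ≤ q) (hn : finrank F V = 3) :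
    Gen2 Φ := by
  have := UF.finite (F := F) q
  have : CharP F 2 := CharTwo.of_one_ne_zero_of_two_eq_zero one_ne_zero h2
  obtain ⟨x, y, w, hB, hR⟩ := exists_bas3 hU hd hσ hn
  obtain ⟨η, h0, h1, h3⟩ := exists_eta F q
  rw [← hσ] at h1
  have h4 : η ^ 6 + 1 ≠ 0 := fun e => by
    have e1 : (η ^ 3 - 1) ^ 2 = 0 := by linear_combination e - η ^ 3 * h2
    have := Nat.le_of_dvd (by omega) (h3 3 (sub_eq_zero.1 (pow_eq_zero_iff two_ne_zero |>.1 e1)))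
    omega
  have h4' : 1 + η ^ 6 ≠ 0 := by rwa [add_comm]
  obtain ⟨β, hβ⟩ : ∃ β, β = η ^ 6 / (η ^ 6 + 1) := ⟨_, rfl⟩
  have hσβ : Φ.σ β = 1 / (η ^ 6 + 1) := by
    simp only [hβ, map_div₀, map_add, map_pow, h1, map_one]
    field_simp
    ring
  have hβ0 : β ≠ 0 := by simp [hβ, h0, h4]
  have hv : Φ.Valid x w β := ⟨hB.qx, hB.xw, by
    rw [hU.pi, hU.Q, hB.ww, hσβ, hβ]; field_simp⟩
  have hR := hR β hv
  obtain ⟨a, ha⟩ : ∃ a, a = (η ^ 6 + 1) / η ^ 2 := ⟨_, rfl⟩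
  have hσa : Φ.σ a = (η ^ 6 + 1) / η ^ 4 := by
    simp only [ha, map_div₀, map_add, map_pow, h1, map_one]
    field_simp
    ring
  have ha0 : a ≠ 0 := by simp [ha, h0, h4]
  have hσa0 := Φ.σ_ne ha0
  obtain ⟨μ, hμ⟩ := exists_norm_eq (q := q) (μ := a + Φ.σ a) (by
    rw [conj_apply, ← hσ, map_add, Φ.invol, add_comm])
  rw [conj_apply, ← hσ] at hμ
  obtain ⟨κ, k0, k1, k2, k3⟩ := exists_genK_ne F q hq (β⁻¹ * Φ.σ β⁻¹)
  rw [← hσ] at k0
  obtain ⟨δ, hδ⟩ : ∃ δ, δ = κ + (1 + Φ.σ β⁻¹) / β := ⟨_, rfl⟩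
  have v1 : Φ.Valid y (μ • w) a := ⟨hB.qy, by simp [hB.yw], by
    rw [hU.pi, Φ.smul, hU.Q, hB.ww, mul_one, hμ]⟩
  have v2 : Φ.Valid x ((μ / a) • w) (Φ.σ a)⁻¹ := ⟨hB.qx, by simp [hB.xw], by
    rw [hU.pi, Φ.smul, hU.Q, hB.ww, mul_one, map_div₀, div_mul_div_comm, hμ, map_inv₀, Φ.invol]
    field_simp⟩
  have v3 : Φ.Valid y (β⁻¹ • w) δ := ⟨hB.qy, by simp [hB.yw], by
    rw [hU.pi, Φ.smul, hU.Q, hB.ww, mul_one, hδ]
    simp only [Φ.bsimp, k0, hσβ]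
    rw [hβ]
    field_simp
    grind⟩
  obtain ⟨g, hg, e1⟩ : ∃ g ∈ Φ.EG, ∀ v, (g * hv.eich * g⁻¹) v = Φ.ef y (β⁻¹ • w) δ v := by
    have g0 := Φ.EG.mul_mem v2.eich_mem v1.eich_mem
    have gx : (v2.eich * v1.eich) x = (-a) • y := by
      simp only [mul_app, Fm.Valid.eich_apply, Fm.ef, Φ.bsimp, hB.xy, hB.yx, hB.xx,
        hB.ww, hB.xw, hB.wx, hB.wy, hU.eps]
      match_scalars
      · field_simp
        linear_combination -hμ
      · field_simp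
        ring
      · ring
    have gw : (v2.eich * v1.eich) w = (-(Φ.σ a / a)) • w - Φ.σ μ • y := by
      simp only [mul_app, Fm.Valid.eich_apply, Fm.ef, Φ.bsimp, hB.xy,
        hB.ww, hB.xw, hB.yw, hB.wy, hU.eps]
      match_scalars
      · field_simp
        linear_combination -hμ
      · ring
      · field_simp
        ring
    generalize v2.eich * v1.eich = g at g0 gx gw
    have e2 : ∀ v, (g * hv.eich * g⁻¹) v = Φ.ef y (β⁻¹ • w) (a * Φ.σ a * β +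
        Φ.σ (Φ.σ a * Φ.σ μ) - Φ.ε * (Φ.σ a * Φ.σ μ)) v := fun v => by
      rw [mul_app, mul_app, hv.eich_apply, Fm.Iso.ef (Φ.EG_le_Iso g0), app_inv_app, gx, gw,
        Fm.ef_smul_left, ← Fm.ef_add_smul, map_neg]
      congr 1
      · match_scalars
        · rw [hσa, ha, hβ]; field_simp
        · ring
      · ring
    generalize a * Φ.σ a * β + Φ.σ (Φ.σ a * Φ.σ μ) - Φ.ε * (Φ.σ a * Φ.σ μ) = δ₀ at e2
    have v4 : Φ.Valid y (β⁻¹ • w) δ₀ := Fm.valid_of_Iso hB.qy (fun c => by simpa [c] using hB.xy)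
      v3.perp (Φ.EG_le_Iso (Φ.EG.mul_mem (Φ.EG.mul_mem g0 hR.mem) (Φ.EG.inv_mem g0))) e2
    obtain ⟨s, hs⟩ := exists_conj_sub_eq (q := q) (c := δ - δ₀) (by
      rw [conj_apply, ← hσ, ← hU.pi, map_sub, v3.norm, v4.norm, sub_self])
    rw [conj_apply, ← hσ] at hs
    obtain ⟨c, v5⟩ := Fm.exists_valid (w := Φ.σ (-s * β) • w) hB.qy (by simp [hB.yw])
    refine ⟨v5.eich * g, Φ.EG.mul_mem v5.eich_mem g0, fun v => ?_⟩
    have : (v5.eich * g * hv.eich * (v5.eich * g)⁻¹) v =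
        v5.eich ((g * hv.eich * g⁻¹) (v5.eich⁻¹ v)) := by simp only [mul_inv_rev, mul_app]
    rw [this, e2, Fm.Iso.ef (Φ.EG_le_Iso v5.eich_mem), app_inv_app, v5.eich_apply, v5.ef_self,
      v5.eich_apply, Fm.ef_apply_of_perp' v3.perp, sub_eq_add_neg, ← neg_smul, Fm.ef_add_smul]
    congr 1
    rw [Φ.B_smul_left, Φ.B_smul_right, Φ.invol, hB.ww, hU.eps,
      show -(1 * (-s * β * (β⁻¹ * 1))) = s by field_simp]
    linear_combination hs
  refine ⟨_, hR.mem, g, hg, hR.nilp, hR.pow_ne hn, fun M hM hu hg' => ?_⟩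
  generalize g * hv.eich * g⁻¹ = t at e1 hg'
  have T1 := hasE_sq h2 hv ⟨_, hu, hv.eich_apply⟩
  have T2 := hasE_sq h2 v3 ⟨_, hg', e1⟩
  rw [hB.ww] at T1
  rw [Φ.B_smul_left, Φ.B_smul_right, hB.ww, mul_one, mul_comm] at T2
  have T3 := (T2.conj hu (hM hu)).conj hg' (hM hg')
  have hσβ0 := Φ.σ_ne hβ0
  have hββ : β + Φ.σ β = 1 := by rw [← hU.pi, hv.norm, hU.Q, hB.ww]
  have e3 : t (hv.eich y) = (-β) • (x + κ • y) := by
    simp only [e1, Fm.Valid.eich_apply, Fm.ef, Φ.bsimp, hB.xy, hB.yx, hB.yy,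
      hB.ww, hB.yw, hB.wx, hB.wy, hU.eps, hδ]
    match_scalars
    · field_simp
      grind
    · field_simp
      ring
    · ring
  rw [e3, map_zero, map_zero, Fm.hasE_smul_left, smul_zero,
    show -β * Φ.σ (-β) * (β⁻¹ * Φ.σ β⁻¹) = 1 by rw [map_neg, map_inv₀]; field_simp] at T3
  have hτ : Φ.σ (β⁻¹ * Φ.σ β⁻¹) = β⁻¹ * Φ.σ β⁻¹ := by rw [map_mul, Φ.invol, mul_comm]
  have hτ0 : β⁻¹ * Φ.σ β⁻¹ ≠ 0 := by simp [hβ0]
  have hδ0 : δ ≠ 0 := fun c => hτ0 (by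
    have := v3.norm
    rwa [c, map_zero, Φ.smul, hU.Q, hB.ww, mul_one, eq_comm] at this)
  generalize β⁻¹ * Φ.σ β⁻¹ = τ at *
  obtain ⟨r, hr, er⟩ := T3
  have F0 := (dk_even h2 hB.qx hB.qy (by rw [hU.pi, map_one]; linear_combination h2)
    (by rw [hU.pi, hτ]; linear_combination τ * h2) T1 T2 (lam := τ) (by simp [hB.xy, hB.yx]) hτ0
    (α := 1 + κ) (β := τ) (γ := κ ^ 2 / τ) (by rw [mem_fixK, map_add, map_one, k0]) hτ
    (by rw [mem_fixK, map_div₀, map_pow, k0, hτ]) (by field_simp; grind) hτ0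
    (fun e => mul_ne_zero k1 (sub_ne_zero.2 k2) (by field_simp at e; grind)) hr (fun v => by
      simp only [er, Fm.ef, pl, Φ.bsimp, hB.xy, hB.yx, hU.eps, k0, hτ]
      simp
      match_scalars
      · rfl
      · field_simp
        grind
      · field_simp
        grind)
    fun L _ _ hL => k3.fixK_le hσ L (mem_of_sq_mem h2 (by
      rwa [mul_div_cancel₀ _ hτ0] at hL))).1
  obtain ⟨k, l0, l1, l2, -⟩ := exists_genK_ne F q hq 1
  refine hU.le_of_three hn hM hB.qx F0 hg' ?_ ((hσ k).trans l0) l1 l2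
    ⟨_, hv, _, hu, hv.eich_apply⟩ (by simp [hU.Q, hB.ww])
  simp [e1, Fm.ef, hB.xx, hB.xy, hB.yx, hB.xw, hB.wx, hU.eps, hδ0]

end Cfsg.Agent.KSG
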