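import Mathlib
import Cfsg.Agent.KSG.RegU3

/-!
Generation of `SU_n(q)`, `n` odd, by conjugate regular unipotent elements.
-/

set_option autoImplicit false

namespace Cfsg.Agent.KSG

open Module Cfsg.Agent.Class Cfsg.Agent.Class.Max Cfsg.Agent.Class.U

variable {F : Type*} [Field F] [Finite F] {n q : ℕ} [UF F q]

theorem isU_std : IsU (fmUStd F n q) := ⟨rfl, fun _ => rfl, fun _ => rfl, exists_conj_ne F q⟩

theorem gen2_std (hq : 3 ≤ q) : Gen2 (fmUStd F 3 q) := by
  by_cases h2 : (2 : F) = 0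
  · exact gen2_u_even (q := q) isU_std le_rfl (fun _ => rfl) h2 hq (by simp)
  · exact gen2_u_odd (q := q) isU_std le_rfl (fun _ => rfl) h2 (by simp)

theorem gen3_std (hn : 3 ≤ n) (hodd : Odd n) (h : ¬ (n = 3 ∧ q = 2)) : Gen3 (fmUStd F n q) := by
  have hq := two_le_q F q
  rcases hn.eq_or_lt with rfl | hn
  · exact (gen2_std (by omega)).gen3
  obtain ⟨k, hk⟩ := hodd
  obtain ⟨m, rfl⟩ : ∃ m, n = 2 * m + 5 := ⟨k - 2, by omega⟩
  rcases hq.eq_or_lt with rfl | hq
  · exact gen3_u_two isU_std le_rfl (fun _ => rfl) (m := m) (by simp)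
  by_cases h2 : (2 : F) = 0
  · exact gen3_u_even (q := q) isU_std le_rfl (fun _ => rfl) h2 hq (m := m) (by simp)
  · exact gen3_u_odd (q := q) isU_std le_rfl (fun _ => rfl) h2 (m := m) (by simp)

theorem su_bridge :
    (Gen3 (fmUStd F n q) → ∃ u g h : SU n F q,
      (IsNilpotent ((u.1 : Matrix (Fin n) (Fin n) F) - 1) ∧
        ((u.1 : Matrix (Fin n) (Fin n) F) - 1) ^ (n - 1) ≠ 0) ∧
      Subgroup.closure {u, g * u * g⁻¹, h * u * h⁻¹} = ⊤) ∧
    (Gen2 (fmUStd F n q) → ∃ u g : SU n F q,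
      (IsNilpotent ((u.1 : Matrix (Fin n) (Fin n) F) - 1) ∧
        ((u.1 : Matrix (Fin n) (Fin n) F) - 1) ^ (n - 1) ≠ 0) ∧
      Subgroup.closure {u, g * u * g⁻¹} = ⊤) := by
  have := gen_bridge (Φ := fmUStd F n q) (fun g : SU n F q => (g.1 : Matrix (Fin n) (Fin n) F))
    ((glEquiv _ F).toMonoidHom.comp (Matrix.SpecialLinearGroup.toGL.comp (SU n F q).subtype))
    (fun _ => rfl) ((glEquiv _ F).injective.comp
      (Matrix.SpecialLinearGroup.toGL_injective.comp Subtype.val_injective)) (by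
      rw [EG_fmUStd]
      apply le_antisymm
      · rintro _ ⟨g, rfl⟩
        exact ⟨⟨fun x y => g.2 y x, fun x => g.2 x x⟩,
          (mem_specialLinear_iff _).1 (Units.ext g.1.2)⟩
      · intro g hg
        obtain ⟨g, rfl⟩ := (glEquiv _ F).surjective g
        exact ⟨U.mkSU (q := q) g.1 (fun x y => hg.1.1 y x)
          (congrArg Units.val ((mem_specialLinear_iff g).2 hg.2)), LinearEquiv.ext fun _ => rfl⟩)
  rwa [Fintype.card_fin] at this

end Cfsg.Agent.KSG
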