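import Mathlib
import Cfsg.Agent.KSG.PresUG2
import Cfsg.Agent.KSG.PresU3d
import Cfsg.Agent.Class.U.SU2
import Cfsg.Agent.S2283

/-!
Finitely many relations gluing a small special unitary group and an alternating group to `SU_n`.
-/

set_option autoImplicit false
set_option linter.unusedSectionVars false

namespace Cfsg.Agent.KSG.UG

open Equiv Matrix Cfsg Cfsg.Agent.Class.U Cfsg.Agent.CT.U

universe u v

variable {F : Type u} [Field F] {q : ℕ} {n m : ℕ} [hU : UF F q]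

theorem pm_smul_apply (σ : alternatingGroup (Fin n)) (v : Fin n → F) (i : Fin n) :
    (pm F q σ • v) (σ.1 i) = v i := by
  change (mon σ.1 1 *ᵥ v) _ = _
  simp [mulVec, dotProduct, mon_apply]

theorem exists_blk_pm {k : ℕ} {f : Fin k → Fin n} (hf : Function.Injective f)
    (ρ : alternatingGroup (Fin k)) : ∃ ρ' : alternatingGroup (Fin n),
      (∀ i, (∀ a, f a ≠ i) → ρ'.1 i = i) ∧ blk hf (pm F q ρ) = pm F q ρ' := by
  have h1 : ∀ i, (∀ a, f a ≠ i) → Perm.viaEmbeddingHom ⟨f, hf⟩ ρ.1 i = i := fun i hi =>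
    Perm.viaEmbedding_apply_of_notMem _ _ _ (by rintro ⟨a, rfl⟩; exact hi a rfl)
  refine ⟨⟨Perm.viaEmbeddingHom ⟨f, hf⟩ ρ.1, (sign_viaEmbeddingHom _ _).trans ρ.2⟩, h1, ?_⟩
  refine inv_mul_eq_one.1 (SU_ext fun v => (smul_eq_of_ee fun i _ => ?_).trans
    (one_smul _ v).symm)
  rw [mul_smul, inv_smul_eq_iff, pm_smul]
  by_cases h : ∃ a, f a = i
  · obtain ⟨a, rfl⟩ := h
    rw [blk, emb_smul_basis (on_ee hf), pm_smul, comb_single]
    exact congrArg (ee F) (Perm.viaEmbedding_apply ρ.1 ⟨f, hf⟩ a)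
  · rw [(mem_range_blk hf).1 ⟨_, rfl⟩ i (not_exists.1 h)]
    exact congrArg (ee F) (h1 i (not_exists.1 h))

theorem exists_pair_two : ∃ x y : SU 2 F q, Subgroup.closure {x, y} = ⊤ := by
  have := hU.finite
  let K := ((conj F q).eqLocusField (RingHom.id F))
  obtain ⟨e⟩ := nonempty_SU2_equiv (F := F) (q := q) (K := K) (card_fixed F q)
  obtain ⟨a, b, h⟩ := exists_pair_SL (ι := Fin 2) (F := K)
  refine ⟨e.symm a, e.symm b, ?_⟩
  have := congrArg (Subgroup.map e.symm.toMonoidHom) h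
  rwa [MonoidHom.map_closure, Set.image_pair, Subgroup.map_top_of_surjective _ e.symm.surjective]
    at this

theorem borel_two [UF F 2] {e n f : Fin 3 → F} (h : Fr 2 e n f) : ∃ x y : SU 3 F 2,
    (∃ l : F, x • e = l • e) ∧ (∃ l : F, y • e = l • e) ∧ ∀ M : Subgroup (SU 3 F 2), x ∈ M → y ∈ M →
      ∀ (g : SU 3 F 2) (l : F), g • e = l • e → g ∈ M := by
  have := UF.finite (F := F) 2
  obtain ⟨ζ, hζ⟩ := IsCyclic.exists_monoid_generator (α := Fˣ)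
  obtain ⟨d, hd⟩ : ∃ d : SU 3 F 2, U3.Dg e f (ζ : F) d := h.exists_diag ζ.ne_zero
  have h2 : (2 : F) = 0 := by
    obtain ⟨p, k, hp, hc, h, -⟩ := exists_prime_pow F 2
    obtain rfl : p = 2 := ((Nat.Prime.pow_eq_iff Nat.prime_two).1 h.symm).1
    exact CharP.cast_eq_zero F 2
  have h3 : (ζ : F) ^ 3 = 1 := (U3.pow_eq_one_iff (q := 2) hζ).2 dvd_rfl
  have h4 : (ζ : F) ^ 2 = 1 + ζ := mul_left_cancel₀ (sub_ne_zero.2 (U3.conj_gen_ne (q := 2) hζ)) (by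
    rw [Class.U.conj_apply]; linear_combination (ζ : F) * h3 + (ζ - ζ ^ 3 : F) * h2)
  have ex : ∀ c : F, ∃ a u, IsSiegel (q := 2) e (c • n) a u := fun c => by
    obtain ⟨a, ha⟩ := exists_trace_eq (q := 2) (a := -(c * conj F 2 c))
      (by rw [map_neg, map_mul, conj_conj, mul_comm])
    exact ⟨a, h.exists_unip (by rw [ha]; simp)⟩
  obtain ⟨a, u, hu⟩ := ex 1
  obtain ⟨b, v, hv⟩ := ex ζ
  have hz := U3.sg_congr (U3.sg_mul h hu hu) (c' := 0) (a' := 1) (by linear_combination h2)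
    (by rw [map_one]; linear_combination (a - 1) * h2)
  refine ⟨u * d, v, ⟨ζ, by rw [mul_smul, hd.1, SU_smul_comm, h.unip_e hu]⟩,
    ⟨1, by rw [h.unip_e hv, one_smul]⟩, fun M h5 h6 g l hg => ?_⟩
  have c : Commute u d := Subgroup.mem_center_iff.1 (h.mem_center_of_diag rfl hd.1 hd.2) u
  have d3 : d ^ 3 = 1 := (hd.pow 3).unique h (by simp [h3, U3.Dg])
  have u4 : u ^ 4 = 1 := by
    rw [show u ^ 4 = u * u * (u * u) by simp only [pow_succ, pow_zero, one_mul, mul_assoc]]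
    exact (U3.sg_mul h hz hz).unique (U3.sg_congr (U3.sg_one h) (by simp)
      (by linear_combination -h2))
  have md : d ∈ M := by
    have := pow_mem h5 4
    rwa [c.mul_pow, u4, one_mul, pow_succ, d3, one_mul] at this
  have mu : u ∈ M := by simpa using mul_mem h5 (inv_mem md)
  obtain ⟨i, c, a', x, hx, rfl⟩ := U3.borel_decomp h hζ hd hg
  refine mul_mem ?_ (pow_mem md i)
  obtain ⟨k, hk, a'', hk'⟩ : ∃ k ∈ M, ∃ a, IsSiegel e (c • n) a k := by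
    by_cases h0 : c = 0
    · exact ⟨1, one_mem _, _, h0 ▸ U3.sg_one h⟩
    obtain ⟨j, rfl⟩ := U3.exists_pow hζ h0
    rw [← Nat.div_add_mod j 3, pow_add, pow_mul, h3, one_pow, one_mul]
    have := Nat.mod_lt j three_pos
    interval_cases j % 3
    · exact ⟨u, mu, a, by rwa [pow_zero]⟩
    · exact ⟨v, h6, b, by rwa [pow_one]⟩
    · exact ⟨_, mul_mem mu h6, _, h4 ▸ U3.sg_mul h hu hv⟩
  obtain ⟨s, hs⟩ := U3.sg_div h hk' hx
  have : Pres.Nn (u * u) d ≤ M := (Subgroup.closure_le _).2 (by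
    rintro _ ⟨i, rfl⟩
    exact mul_mem (mul_mem (pow_mem md _) (mul_mem mu mu)) (inv_mem (pow_mem md _)))
  simpa using mul_mem hk (this (U3.mem_Nn_of_sg h hζ hd hz one_ne_zero hs))

theorem exists_fr_std : ∃ e n f : Fin 3 → F, Fr q e n f ∧ e 1 ≠ 0 ∧ e 2 = 0 := by
  obtain ⟨w, w0, hw⟩ := exists_isotropic (F := F) (q := q) (n := 2) le_rfl
  rw [herm_eq, Fin.sum_univ_two] at hw
  have h1 : w 1 ≠ 0 := fun h => w0 (funext fun i => by
    fin_cases i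
    · simpa [h, conj_eq_zero] using hw
    · exact h)
  obtain ⟨n, f, h⟩ := exists_fr (q := q) (e := ![w 0, w 1, 0]) (fun h => h1 (congrFun h 1))
    (by simpa [herm_eq, Fin.sum_univ_three] using hw)
  exact ⟨_, n, f, h, h1, rfl⟩

theorem exists_pair_three : ∃ x y : SU 3 F q, ∀ M : Subgroup (SU 3 F q), x ∈ M → y ∈ M →
    (∀ ρ, pm F q ρ ∈ M) → M = ⊤ := by
  have := hU.finite
  have := Fintype.ofFinite F
  rcases (two_le_q F q).eq_or_lt with rfl | h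
  · obtain ⟨e, n, f, h, h1, h2⟩ := exists_fr_std (F := F) (q := 2)
    obtain ⟨x, y, -, -, H⟩ := borel_two h
    obtain ⟨t, te, tf⟩ := U3.exists_weyl h
    have z : finRotate 3 ∈ alternatingGroup (Fin 3) := by simp
    obtain ⟨ζ, hζ⟩ := IsCyclic.exists_monoid_generator (α := Fˣ)
    refine ⟨x, y, fun M hx hy hM => U3.eq_top_of_borel h hζ te tf (H M hx hy)
      (hM ⟨finRotate 3, z⟩) fun l hl => h1 ?_⟩
    rw [← pm_smul_apply (q := 2) ⟨finRotate 3, z⟩ e 1, hl]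
    exact (congrArg (l * ·) h2).trans (mul_zero l)
  · obtain ⟨x, g, -, H⟩ := S2283.result (F := F) q h (by rw [← Nat.card_eq_fintype_card, hU.card_eq])
    exact ⟨x, g * x * g⁻¹, fun M h1 h2 _ => eq_top_iff.2 (H ▸ (Subgroup.closure_le M).2
      (Set.pair_subset h1 h2))⟩

/-- The list `X` generates the coordinate subgroup together with permutation matrices. -/
def Gens (J : Finset (Fin n)) (X : List (SU n F q)) : Prop :=
  (∀ x ∈ X, Fx J x) ∧ ∀ M : Subgroup (SU n F q), (∀ x ∈ X, x ∈ M) →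
    (∀ ρ : alternatingGroup (Fin n), (∀ i ∉ J, ρ.1 i = i) → pm F q ρ ∈ M) → ∀ s, Fx J s → s ∈ M

theorem exists_gens {J : Finset (Fin n)} (h : J.card = 2 ∨ J.card = 3) :
    ∃ X : List (SU n F q), X.length = 2 ∧ Gens J X := by
  obtain ⟨x, y, H⟩ : ∃ x y : SU J.card F q, ∀ M : Subgroup (SU J.card F q), x ∈ M → y ∈ M →
      (∀ ρ, pm F q ρ ∈ M) → M = ⊤ := by
    rcases h with h | h <;> rw [h]
    · obtain ⟨x, y, H⟩ := exists_pair_two (F := F) (q := q)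
      exact ⟨x, y, fun M h1 h2 _ => eq_top_iff.2 (H ▸ (Subgroup.closure_le M).2
        (Set.pair_subset h1 h2))⟩
    · exact exists_pair_three
  have hf := (J.orderEmbOfFin rfl).injective
  have h1 : ∀ i, i ∈ J ↔ ∃ a, J.orderEmbOfFin rfl a = i := fun i => by
    rw [← Finset.mem_coe, ← J.range_orderEmbOfFin rfl]; rfl
  refine ⟨[blk hf x, blk hf y], rfl, ?_, fun M h2 h3 s hs => ?_⟩
  · simpa using ⟨(fx_iff hf h1).2 ⟨x, rfl⟩, (fx_iff hf h1).2 ⟨y, rfl⟩⟩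
  obtain ⟨g, rfl⟩ := (fx_iff hf h1).1 hs
  refine (H (M.comap (blk hf)) (h2 _ (by simp)) (h2 _ (by simp)) fun ρ => ?_).ge (Subgroup.mem_top g)
  obtain ⟨ρ', h4, h5⟩ := exists_blk_pm (F := F) (q := q) hf ρ
  exact Subgroup.mem_comap.2 (h5 ▸ h3 ρ' fun i hi => h4 i fun a e => hi ((h1 i).2 ⟨a, e⟩))

theorem eq_top_of (hm : 3 ≤ m) (hn : m ≤ n) {M : Subgroup (SU n F q)} (h1 : ∀ σ, pm F q σ ∈ M)
    (h2 : ∀ s, Fx (II n 0 m) s → s ∈ M) : M = ⊤ := by
  suffices H : ∀ k (J : Finset (Fin n)), J.card = k → ∀ s, Fx J s → s ∈ M from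
    eq_top_iff.2 fun s _ => H _ Finset.univ rfl s (by simp [Fx])
  intro k
  induction k with
  | zero => exact fun J a s b => b.eq_one (by omega) ▸ one_mem M
  | succ k ih =>
    intro J a s b
    by_cases h : J.card ≤ m
    · obtain ⟨τ, hτ⟩ := exists_alt_into (J := J) (T := II n 0 m) (by rwa [card_II hn])
        (by rw [card_II hn]; omega)
      simpa [mul_assoc] using mul_mem (mul_mem (inv_mem (h1 τ)) (h2 _ (b.conj hτ))) (h1 τ)
    · exact b.mem (by omega) fun t i hi => ih _ (by rw [Finset.card_erase_of_mem hi]; omega) t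

section

variable {Γ : Type*} [Group Γ] {p : Γ →* SU n F q} {α : alternatingGroup (Fin n) →* Γ}
  {Φ : Subgroup Γ} {J J' : Finset (Fin n)} {X Y : List (SU n F q)}

theorem Sec.mem_of_gens (S : Sec p J' Φ) (G : Gens J X) (pα : ∀ σ, p (α σ) = pm F q σ)
    {M : Subgroup Γ} (h1 : ∀ x ∈ X, ∃ y ∈ Φ ⊓ M, p y = x)
    (h2 : ∀ ρ : alternatingGroup (Fin n), (∀ i ∉ J, ρ.1 i = i) → α ρ ∈ Φ ⊓ M) {y : Γ} (hy : y ∈ Φ)
    (h : Fx J (p y)) : y ∈ M :=
  S.lift hy (G.2 ((Φ ⊓ M).map p) h1 (fun ρ hρ => ⟨_, h2 ρ hρ, pα ρ⟩) _ h)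

theorem Ctx.mem_of_gens (C : Ctx p α m Φ) (G : Gens J X) (hc : J.card ≤ m) {M : Subgroup Γ}
    (h1 : ∀ x ∈ X, ∃ y ∈ M, Rel α Φ y ∧ p y = x)
    (h2 : ∀ ρ : alternatingGroup (Fin n), (∀ i ∉ J, ρ.1 i = i) → α ρ ∈ M) {y : Γ}
    (hy : Rel α Φ y) (h : Fx J (p y)) : y ∈ M := by
  obtain ⟨Ψ, S, -, h3⟩ := C.exists_sec hc
  exact S.mem_of_gens G C.pα (fun x hx => let ⟨y, a, b, c⟩ := h1 x hx
    ⟨y, ⟨h3 y b (c ▸ G.1 x hx), a⟩, c⟩) (fun ρ hρ => ⟨h3 _ (C.rel_α hρ hc) (C.pα ρ ▸ fx_pm hρ),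
      h2 ρ hρ⟩) (h3 y hy h) h

theorem Ctx.comm_of_gens (C : Ctx p α m Φ) (G : Gens J X) (G' : Gens J' Y) (hc : J.card ≤ m)
    (hc' : J'.card ≤ m) (hd : Disjoint J J') {f : SU n F q → Γ}
    (hf : ∀ x, x ∈ X ∨ x ∈ Y → Rel α Φ (f x) ∧ p (f x) = x)
    (h : ∀ x ∈ X, ∀ y ∈ Y, Commute (f x) (f y)) {x y : Γ} (hx : Rel α Φ x) (hy : Rel α Φ y)
    (h1 : Fx J (p x)) (h2 : Fx J' (p y)) : Commute x y := by
  refine Subgroup.mem_centralizer_singleton_iff.1 (C.mem_of_gens G hc (fun a ha => ⟨f a, ?_,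
    hf a (.inl ha)⟩) (fun ρ hρ => Subgroup.mem_centralizer_singleton_iff.2
      (C.commute_α hρ hy h2 hd)) hx h1)
  refine Subgroup.mem_centralizer_singleton_iff.2 (Subgroup.mem_centralizer_singleton_iff.1
    (C.mem_of_gens G' hc' (fun b hb => ⟨f b, Subgroup.mem_centralizer_singleton_iff.2
      (h a ha b hb).symm, hf b (.inr hb)⟩) (fun ρ hρ => Subgroup.mem_centralizer_singleton_iff.2
      (C.commute_α hρ (hf a (.inl ha)).1 ((hf a (.inl ha)).2.symm ▸ G.1 a ha) hd.symm)) hy h2)).symm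

/-- The commutation hypothesis of the gluing theorem. -/
def Cm (p : Γ →* SU n F q) (α : alternatingGroup (Fin n) →* Γ) (Φ : Subgroup Γ) (b : ℕ) : Prop :=
  ∀ (J J' : Finset (Fin n)) x y, Disjoint J J' → J.card ≤ b → J'.card ≤ b → Rel α Φ x →
    Rel α Φ y → Fx J (p x) → Fx J' (p y) → Commute x y

theorem Ctx.cm_four (C : Ctx p α 4 Φ) : Cm p α Φ 2 := fun J J' x y hd h1 h2 hx hy h3 h4 => by
  obtain ⟨Ψ, S, -, h5⟩ := C.exists_sec (J := J ∪ J') ((Finset.card_union_le _ _).trans (by omega))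
  have a := h5 x hx (h3.mono Finset.subset_union_left)
  have b := h5 y hy (h4.mono Finset.subset_union_right)
  exact S.uniq (mul_mem a b) (mul_mem b a) (by simpa using (h3.commute h4 hd).eq)

theorem Ctx.cm_of (C : Ctx p α m Φ) {b : ℕ} (h2 : 2 ≤ b) (hb : 2 * b ≤ n + 1)
    (H : ∀ x y, Rel α Φ x → Rel α Φ y → Fx (II n 0 b) (p x) → Fx (II n b (min n (2 * b))) (p y) →
      Commute x y) : Cm p α Φ b := fun J J' x y hd h1 h3 hx hy h4 h5 => by
  wlog h : J'.card ≤ J.card generalizing J J' x y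
  · exact (this J' J y x hd.symm h3 h1 hy hx h5 h4 (by omega)).symm
  have h6 := Finset.card_le_univ (J ∪ J')
  rw [Finset.card_union_of_disjoint hd, Fintype.card_fin] at h6
  obtain ⟨σ, h7, h8⟩ := exists_alt_two (T := II n 0 b) (T' := II n b (min n (2 * b))) hd
    (Finset.disjoint_left.2 fun i a b => by rw [mem_II] at a b; omega)
    (by rw [card_II (by omega)]; omega) (by rw [card_II (by omega)]; omega)
    (by rw [card_II (by omega)]; omega)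
  simpa [mul_assoc] using (H _ _ (hx.conj σ) (hy.conj σ) (C.conj h4 h7)
    (C.conj h5 h8)).map (MulAut.conj (α σ)⁻¹)

end

variable {E : Type v} [Group E] {π : E →* SU n F q} {j : SU m F q →* E}
  {s : alternatingGroup (Fin n) → E} (hn : m < n)
  (h1 : ∀ g, π (j g) = blk (Fin.castLE_injective hn.le) g) (h2 : ∀ σ, π (s σ) = pm F q σ)
include h1 h2

omit h2 in
theorem fx_iff_range {x : SU n F q} : Fx (II n 0 m) x ↔ ∃ g, π (j g) = x := by
  simp only [h1]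
  exact fx_iff _ fun i => mem_II.trans ⟨fun h => ⟨⟨i, h.2⟩, rfl⟩, by rintro ⟨a, rfl⟩; simp⟩

theorem imp_ctx (hm : m = 4 ∨ m = 3 ∧ 4 ≤ q) : Imp.{u, v, v} π (m - 2 + 4) fun Γ _ ψ =>
    ∀ (α : alternatingGroup (Fin n) →* Γ) (p : Γ →* SU n F q), (∀ σ, α σ = ψ (s σ)) →
      p.comp ψ = π → Ctx p α m (ψ.comp j).range := by
  have c : (II n 0 (m - 1)).card = m - 1 := card_II (by omega)
  have sub : II n 0 (m - 1) ⊆ II n 0 m := fun i hi => mem_II.2 (by have := mem_II.1 hi; omega)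
  obtain ⟨LA, a1, a2, a3⟩ := exists_gens_sub (II n 0 m)
  obtain ⟨LN, b1, b2, b3⟩ := exists_gens_set (T := II n 0 (m - 1)) (by omega)
  obtain ⟨X, c1, G⟩ := exists_gens (F := F) (q := q) (J := II n 0 (m - 1)) (by omega)
  choose! f hf using fun x (hx : Fx (II n 0 m) x) => (fx_iff_range hn h1).1 hx
  have mem : ∀ {x}, Fx (II n 0 m) (π x) → Imp.{u, v, v} π 1 fun _ _ ψ => ψ x ∈ (ψ.comp j).range :=
    fun {x} hx => (Imp.mem (a := x) (M := j.range) ⟨_, ⟨_, rfl⟩, hf _ hx⟩).imp fun _ _ _ h => by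
      rwa [MonoidHom.range_comp]
  refine ((Imp.forall_mem LA fun ρ hρ => mem (x := s ρ) (h2 ρ ▸ fx_pm (a2 ρ hρ))).and
    (Imp.forall_mem LN fun ν hν => Imp.forall_mem X fun x hx => mem (x := s ν * j (f x) * (s ν)⁻¹)
      ?_)).mono (by rw [card_II hn.le] at a1; rw [b1, c1]; omega) fun Γ _ ψ H α p e1 e2 => ?_
  · rw [map_mul, map_mul, map_inv, h2, hf x ((G.1 x hx).mono sub)]
    exact ((G.1 x hx).conj (b2 ν hν)).mono sub
  have e3 : ∀ x, p (ψ x) = π x := fun x => DFunLike.congr_fun e2 x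
  have pα : ∀ σ, p (α σ) = pm F q σ := fun σ => by rw [e1, e3, h2]
  have S : Sec p (II n 0 m) (ψ.comp j).range := ⟨by
    rintro _ ⟨g, rfl⟩ e
    rw [emb_injective _ (((h1 g).symm.trans ((e3 _).symm.trans e)).trans (map_one _).symm), map_one],
    fun x hx => ⟨_, ⟨f x, rfl⟩, (e3 _).trans (hf x hx)⟩⟩
  have A := a3 ((ψ.comp j).range.comap α) fun ρ hρ => Subgroup.mem_comap.2 (e1 ρ ▸ H.1 ρ hρ)
  refine ⟨S, by rintro _ ⟨g, rfl⟩; exact (fx_iff_range hn h1).2 ⟨g, (e3 _).symm⟩, pα, hn.le, hm, A,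
    fun ν hν x hx h => ?_⟩
  let Ψ : Subgroup Γ := (ψ.comp j).range ⊓ (⨅ i ∉ II n 0 (m - 1),
    MulAction.stabilizer (SU n F q) (ee F i)).comap p
  have hΨ : ∀ x, x ∈ Ψ ↔ x ∈ (ψ.comp j).range ∧ Fx (II n 0 (m - 1)) (p x) := fun x => by
    simp only [Ψ, Subgroup.mem_inf, Subgroup.mem_comap, Subgroup.mem_iInf,
      MulAction.mem_stabilizer_iff, Fx]
  have := hU.finite
  have : Finite (Ψ : Set Γ) := (Set.finite_range (ψ.comp j)).subset fun x hx => hx.1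
  have key : ∀ ν : alternatingGroup (Fin n), (∀ i ∈ II n 0 (m - 1), ν.1 i ∈ II n 0 (m - 1)) →
      (∀ x ∈ Ψ, α ν * x * (α ν)⁻¹ ∈ (ψ.comp j).range) →
      ν ∈ (Subgroup.normalizer (Ψ : Set Γ)).comap α := fun ν hν h =>
    Subgroup.mem_normalizer_fintype fun x hx => (hΨ _).2 ⟨h x hx, by
      simpa only [map_mul, map_inv, pα] using ((hΨ x).1 hx).2.conj hν⟩
  refine ((Subgroup.mem_normalizer_iff.1 (b3 _ (fun ν hν => key ν (b2 ν hν) fun x hx => ?_)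
    (fun ρ hρ => key ρ (fun i hi => ?_) fun x hx => ?_) ν hν) x).1 ((hΨ x).2 ⟨hx, h⟩)).1
  · refine S.mem_of_gens G pα (M := (ψ.comp j).range.comap (MulAut.conj (α ν)).toMonoidHom)
      (fun y hy => ⟨ψ (j (f y)), ⟨⟨_, rfl⟩, Subgroup.mem_comap.2 ?_⟩, (e3 _).trans (hf y ((G.1 y hy).mono sub))⟩)
      (fun ρ hρ => ⟨A ρ fun i hi => hρ i fun h => hi (sub h), Subgroup.mem_comap.2 ?_⟩) hx.1 ((hΨ x).1 hx).2
    · have := H.2 ν hν y hy
      rwa [map_mul, map_mul, map_inv, ← e1] at this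
    · change α ν * α ρ * (α ν)⁻¹ ∈ _
      rw [← map_inv, ← map_mul, ← map_mul]
      refine A _ fun i hi => ?_
      change ν.1 (ρ.1 (ν.1⁻¹ i)) = i
      rw [hρ _ fun h' => hi (sub (by simpa using b2 ν hν _ h'))]
      simp
  · by_contra h
    exact h (by rwa [ρ.1.injective (hρ _ h)])
  · have := A ρ fun i hi => hρ i fun h => hi (sub h)
    exact mul_mem (mul_mem this hx.1) (inv_mem this)

theorem imp_cm (hm : m = 3 ∨ m = 4) : Imp.{u, v, v} π 4 fun Γ _ ψ =>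
    ∀ (α : alternatingGroup (Fin n) →* Γ) (p : Γ →* SU n F q), (∀ σ, α σ = ψ (s σ)) →
      p.comp ψ = π → Ctx p α m (ψ.comp j).range → Cm p α (ψ.comp j).range (m - 1) := by
  have c : (II n 0 (m - 1)).card = m - 1 := card_II (by omega)
  have c' : (II n (m - 1) (min n (2 * (m - 1)))).card = _ := card_II (by omega)
  obtain ⟨X, c1, G⟩ := exists_gens (F := F) (q := q) (J := II n 0 (m - 1)) (by omega)
  obtain ⟨Y, c2, G'⟩ := exists_gens (F := F) (q := q) (J := II n (m - 1) (min n (2 * (m - 1))))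
    (by omega)
  have : ∀ x, x ∈ X ∨ x ∈ Y → ∃ σ g, π ((s σ)⁻¹ * j g * s σ) = x := fun x hx => by
    obtain ⟨J, a, b⟩ : ∃ J : Finset (Fin n), J.card ≤ m ∧ Fx J x :=
      hx.elim (fun h => ⟨_, by omega, G.1 x h⟩) fun h => ⟨_, by omega, G'.1 x h⟩
    obtain ⟨τ, hτ⟩ := exists_alt_into (J := J) (T := II n 0 m) (by rwa [card_II hn.le])
      (by rw [card_II hn.le]; omega)
    obtain ⟨g, hg⟩ := (fx_iff_range hn h1).1 (b.conj hτ)
    exact ⟨τ, g, by simp [hg, h2, mul_assoc]⟩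
  choose! σ g e using this
  have d : Disjoint (II n 0 (m - 1)) (II n (m - 1) (min n (2 * (m - 1)))) :=
    Finset.disjoint_left.2 fun i a b => by rw [mem_II] at a b; omega
  refine (Imp.forall_mem X fun x hx => Imp.forall_mem Y fun y hy => Imp.comm
    (a := (s (σ x))⁻¹ * j (g x) * s (σ x)) (b := (s (σ y))⁻¹ * j (g y) * s (σ y)) ?_).mono
    (by rw [c1, c2]) fun Γ _ ψ H α p e1 e2 C => C.cm_of (by omega) (by omega) fun x y =>
      C.comm_of_gens G G' (by omega) (by omega) d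
        (f := fun x => ψ ((s (σ x))⁻¹ * j (g x) * s (σ x))) (fun x hx => ⟨⟨σ x, ?_⟩,
          (DFunLike.congr_fun e2 _).trans (e x hx)⟩) H
  · rw [e x (.inl hx), e y (.inr hy)]
    exact (G.1 x hx).commute (G'.1 y hy) d
  · exact ⟨g x, by simp [e1, mul_assoc]⟩

theorem pres_of {d r r' c : ℕ} (hE : Pres d r E)
    (hα : Imp.{u, v, v} π r' fun Γ _ ψ => ∃ α : alternatingGroup (Fin n) →* Γ,
      (∀ σ, α σ = ψ (s σ)) ∧ ∀ M : Subgroup Γ, α.range ≤ M → (ψ.comp j).range ≤ M → ψ.range ≤ M)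
    (hm : c = 4 ∧ (m = 4 ∨ m = 3 ∧ 4 ≤ q) ∨ c = 0 ∧ m = 4 ∧ 3 ≤ q) :
    Pres d (r + (r' + (m - 2 + 4) + c)) (SU n F q) := by
  have hπ : Function.Surjective π := MonoidHom.range_eq_top.1 (eq_top_of (by omega) hn.le
    (fun σ => ⟨_, h2 σ⟩) fun x hx => let ⟨_, h⟩ := (fx_iff_range hn h1).1 hx; ⟨_, h⟩)
  obtain ⟨b, hb, H⟩ : ∃ b, (b = 3 ∨ b = 2 ∧ 3 ≤ q) ∧ Imp.{u, v, v} π c fun Γ _ ψ =>
      ∀ (α : alternatingGroup (Fin n) →* Γ) (p : Γ →* SU n F q), (∀ σ, α σ = ψ (s σ)) →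
      p.comp ψ = π → Ctx p α m (ψ.comp j).range → Cm p α (ψ.comp j).range b := by
    rcases hm with ⟨rfl, hm⟩ | ⟨rfl, rfl, hm⟩
    · exact ⟨m - 1, by omega, imp_cm hn h1 h2 (by omega)⟩
    · exact ⟨2, by omega, Imp.triv fun _ _ _ _ _ _ _ C => C.cm_four⟩
  refine ((hα.and (imp_ctx hn h1 h2 (by omega))).and H).pres hE hπ ?_
  rintro Γ _ ψ p a1 a2 ⟨⟨⟨α, a3, a4⟩, a5⟩, a6⟩
  exact (a5 α p a3 a2).injective hb (a6 α p a3 a2 (a5 α p a3 a2))
    (fun M a b => eq_top_iff.2 (MonoidHom.range_eq_top.2 a1 ▸ a4 M a b))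
    (Function.Surjective.of_comp (g := ψ) (by rwa [← MonoidHom.coe_comp, a2]))

end Cfsg.Agent.KSG.UG
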