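import Mathlib
import Cfsg.Agent.KSG.PresUG3
import Cfsg.Agent.KSG.GenSp

/-!
The special unitary groups `SU_n(q)`, `n ≥ 3`, `(n, q) ≠ (3, 2)`, are generated by two elements.
-/

set_option autoImplicit false
set_option linter.unusedSectionVars false

namespace Cfsg.Agent.KSG

open Matrix Equiv Subgroup

theorem mem_of_coprime {G : Type*} [Group G] {K : Subgroup G} {u h : G} {p m : ℕ}
    (hc : Commute u h) (hu : u ^ p = 1) (hh : h ^ m = 1) (hpm : p.Coprime m) (hK : u * h ∈ K) :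
    u ∈ K ∧ h ∈ K := by
  have h1 : u ∈ K := by
    obtain ⟨j, hj⟩ := exists_pow_eq_self_of_coprime
      (Nat.Coprime.coprime_dvd_right (orderOf_dvd_of_pow_eq_one hu) hpm.symm)
    have := pow_mem (pow_mem hK m) j
    rwa [hc.mul_pow, hh, mul_one, hj] at this
  exact ⟨h1, (K.mul_mem_cancel_left h1).1 hK⟩

/-- `SL₂(q)`, `q ≥ 3`, is generated by two elements of coprime orders. -/
theorem exists_coprime_pair_SL2 {K : Type*} [Field K] [Fintype K] (hK : 3 ≤ Fintype.card K) :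
    ∃ (g h : SpecialLinearGroup (Fin 2) K) (a b : ℕ), g ^ a = 1 ∧ h ^ b = 1 ∧ a.Coprime b ∧
      closure {g, h} = ⊤ := by
  classical
  obtain ⟨p, hc, r, hp, e⟩ := FiniteField.card' K
  have := Fact.mk hp
  have up : ∀ g : SpecialLinearGroup (Fin 2) K, (g.1 - 1) ^ 2 = 0 → g ^ p = 1 := fun g hg =>
    Subtype.ext (by
      change g.1 ^ p = 1
      have := sub_pow_char_of_commute (p := p) (Commute.one_right g.1)
      rwa [pow_eq_zero_of_le hp.two_le hg, one_pow, eq_comm, sub_eq_zero] at this)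
  have ha : swap (0 : Fin 2) 1 0 ≠ 0 := by decide
  have hσ : ∀ i j : Fin 2, ∃ k : ℕ, (swap (0 : Fin 2) 1 ^ k) i = j := fun i j => by
    fin_cases i <;> fin_cases j
    exacts [⟨0, rfl⟩, ⟨1, rfl⟩, ⟨1, rfl⟩, ⟨0, rfl⟩]
  let w : SpecialLinearGroup (Fin 2) K := ⟨!![0, 1; -1, 0], by simp [det_fin_two]⟩
  have hw : w.1 = mon (swap 0 1) ![-1, 1] := by
    ext i j; fin_cases i <;> fin_cases j <;> simp [w, mon_apply]
  have ht : (SpecialLinearGroup.transvection ha (1 : K)).1 = !![1, 0; 1, 1] := by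
    ext i j; fin_cases i <;> fin_cases j <;> simp [SpecialLinearGroup.transvection, transvection]
  rcases hK.eq_or_lt with h3 | h3
  · obtain rfl : p = 3 := ((Nat.Prime.pow_eq_iff Nat.prime_three).1 (e.symm.trans h3.symm)).1
    refine ⟨_, w, 3, 4, up _ ?_, Subtype.ext ?_, by norm_num, closure_small_pair h3.ge hw ha hσ⟩
    · rw [ht]; ext i j; fin_cases i <;> fin_cases j <;> simp [sq, one_fin_two]
    · change w.1 ^ 4 = 1
      simp [w, pow_succ, one_fin_two]
  obtain ⟨k, hk⟩ := IsCyclic.exists_generator (α := Kˣ)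
  let h : Kˣ →* SpecialLinearGroup (Fin 2) K := MonoidHom.mk'
    (fun u => ⟨!![((u⁻¹ : Kˣ) : K), 0; 0, u], by simp [det_fin_two]⟩) fun a b => Subtype.ext (by
      change _ = _ * _
      simp [mul_comm])
  have hh : ∀ u, (h u).1 = !![(u : K)⁻¹, 0; 0, u] := fun u => by
    rw [← Units.val_inv_eq_inv_val]; rfl
  have cm : ∀ g h : SpecialLinearGroup (Fin 2) K, (g * h).1 = g.1 * h.1 := fun _ _ => rfl
  have key : ∀ g : SpecialLinearGroup (Fin 2) K, (g.1 - 1) ^ 2 = 0 →
      (∀ M : Subgroup (SpecialLinearGroup (Fin 2) K), g ∈ M → (∀ u, h u ∈ M) →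
        SpecialLinearGroup.transvection ha (1 : K) * w ∈ M) →
      ∃ (g h : SpecialLinearGroup (Fin 2) K) (a b : ℕ), g ^ a = 1 ∧ h ^ b = 1 ∧ a.Coprime b ∧
      closure {g, h} = ⊤ := fun g h1 h2 => by
    refine ⟨g, h k, p, Fintype.card K - 1, up g h1, by
      rw [← map_pow, ← Fintype.card_units, pow_card_eq_one, map_one], ?_, eq_top_iff.2 ?_⟩
    · rw [e]
      exact ((Nat.coprime_self_sub_left (Nat.one_le_pow _ _ hp.pos)).2
        (by simp)).symm.coprime_dvd_left (dvd_pow_self _ r.ne_zero)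
    rw [← closure_steinberg_pair (h := h k) h3 hk hw ha hσ (by
      ext i j; fin_cases i <;> fin_cases j <;> simp [hh]), closure_le]
    have h4 : h k ∈ closure {g, h k} := subset_closure (by simp)
    refine Set.pair_subset h4 (h2 _ (subset_closure (by simp)) fun u => ?_)
    obtain ⟨j, rfl⟩ := hk u
    exact map_zpow h k j ▸ zpow_mem h4 j
  by_cases h2 : (2 : K) = 0
  · obtain ⟨b, b0, b1⟩ : ∃ b : K, b ≠ 0 ∧ b + 1 ≠ 0 := ⟨k, k.ne_zero, fun h =>
      sq_ne_one_of_gen h3 hk (by rw [eq_neg_of_add_eq_zero_left h]; simp)⟩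
    let t : SpecialLinearGroup (Fin 2) K := ⟨!![b ^ 2, (b + 1) ^ 2; (b + 1) ^ 2, b ^ 2], by
      rw [det_fin_two_of]; linear_combination (-2 * b ^ 3 - 3 * b ^ 2 - 2 * b - 1) * h2⟩
    refine key t ?_ fun M a1 a2 => ?_
    · ext i j
      fin_cases i <;> fin_cases j <;> simp [t, sq, one_fin_two] <;> grind
    · convert mul_mem (mul_mem (mul_mem (mul_mem (a2 (.mk0 _ (mul_ne_zero b0 b1))) a1)
        (a2 (.mk0 _ (pow_ne_zero 2 (div_ne_zero b0 b1))))) a1) (a2 (.mk0 _ (mul_ne_zero b0 b1)))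
        using 1
      apply Subtype.ext
      rw [cm, cm, cm, cm, cm, ht, hh, hh]
      ext i j
      fin_cases i <;> fin_cases j <;> simp [t, w] <;> field_simp <;> grind
  · refine key (SpecialLinearGroup.transvection ha 1 * w * h (.mk0 _ h2)) ?_ fun M a1 a2 =>
      (mul_mem_cancel_right (a2 _)).1 a1
    rw [cm, cm, ht, hh]
    ext i j
    fin_cases i <;> fin_cases j <;> simp [w, sq, one_fin_two] <;> field_simp <;> ring

namespace UG

open Cfsg Cfsg.Agent.Class.U Cfsg.Agent.CT.U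

variable {F : Type*} [Field F] {q : ℕ} {n : ℕ} [hU : UF F q]

theorem exists_monSU (ρ : Perm (Fin n)) {c : Fin n → F} (hc : ∀ i, c i * conj F q (c i) = 1)
    (hd : ((Perm.sign ρ : ℤ) : F) * ∏ i, c i = 1) :
    ∃ w : SU n F q, ∀ i, w • ee F i = c i • ee F (ρ i) := by
  refine ⟨mkSU (mon ρ c) ?_ (by rw [det_mon, hd]), fun i => ?_⟩
  · rw [pres_iff]
    ext i j
    rw [show (mon ρ c).map (conj F q) = mon ρ fun i => conj F q (c i) by
      ext i j; simp [mon_apply, apply_ite (conj F q)], mul_mon_apply]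
    by_cases h : i = j
    · subst h; simp [mon_apply, hc]
    · simp [mon_apply, h, Ne.symm h]
  · rw [mkSU_smul, mon_mulVec_single, ← Pi.single_smul]; simp

/-- `w` is a monomial matrix over the permutation `ρ`. -/
def Mn (ρ : Perm (Fin n)) (w : SU n F q) : Prop := ∀ i, ∃ c : F, w • ee F i = c • ee F (ρ i)

theorem Mn.inv {ρ : Perm (Fin n)} {w : SU n F q} (h : Mn ρ w) : Mn ρ⁻¹ w⁻¹ := fun i => by
  obtain ⟨c, hc⟩ := h (ρ⁻¹ i)
  have h0 : c ≠ 0 := by
    rintro rfl
    simpa using congrFun ((smul_eq_zero_iff_eq w).1 (hc.trans (zero_smul _ _))) (ρ⁻¹ i)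
  exact ⟨c⁻¹, by rw [inv_smul_eq_iff, SU_smul_comm, hc, smul_smul, inv_mul_cancel₀ h0]; simp⟩

theorem Fx.mn {J J' : Finset (Fin n)} {s w : SU n F q} (h : Fx J s) {ρ : Perm (Fin n)}
    (hw : Mn ρ w) (hρ : ∀ i ∈ J, ρ i ∈ J') : Fx J' (w * s * w⁻¹) := fun i hi => by
  obtain ⟨c, hc⟩ := hw.inv i
  rw [mul_smul, mul_smul, hc, SU_smul_comm, h _ fun h' => hi (by simpa using hρ _ h'), ← hc,
    smul_inv_smul]

theorem val_finRotate {i : Fin (n + 1)} (h : (i : ℕ) < n) : (finRotate (n + 1) i : ℕ) = i + 1 := by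
  rw [finRotate_apply, Fin.val_add_one_of_lt (by exact h)]

theorem Fx.shift {a b : ℕ} {s w : SU (n + 1) F q} (h : Fx (II _ a b) s)
    (hw : Mn (finRotate _) w) (hb : b ≤ n) : Fx (II _ (a + 1) (b + 1)) (w * s * w⁻¹) :=
  h.mn hw fun i hi => by rw [mem_II] at hi ⊢; rw [val_finRotate (by omega)]; omega

theorem Fx.unshift {a b : ℕ} {s w : SU (n + 1) F q} (h : Fx (II _ (a + 1) (b + 1)) s)
    (hw : Mn (finRotate _) w) : Fx (II _ a b) (w⁻¹ * s * w) := by
  simpa using h.mn hw.inv (J' := II _ a b) fun i hi => by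
    obtain ⟨i, rfl⟩ := (finRotate _).surjective i
    rcases Fin.eq_castSucc_or_eq_last i with ⟨i, rfl⟩ | rfl
    · rw [mem_II, val_finRotate (by simp)] at hi
      simpa [-finRotate_apply, mem_II] using hi
    · simp [mem_II] at hi

theorem sup_fix (h : 3 ≤ n ∨ n = 2 ∧ 3 ≤ q) : MulAction.stabilizer (SU (n + 1) F q) (ee F (Fin.last n)) ⊔
    MulAction.stabilizer _ (ee F (0 : Fin (n + 1))) = ⊤ := by
  rw [eq_top_iff]
  rcases h with h | ⟨rfl, h⟩
  · intro s _
    obtain ⟨c, h2, h3⟩ : ∃ c : Fin (n + 1), 0 ≠ c ∧ Fin.last n ≠ c :=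
      ⟨⟨1, by omega⟩, by simp, by simp [Fin.ext_iff]; omega⟩
    have o := (on_single (F := F) (q := q) (n := n + 1)).orth
    have D : Data (MonoidHom.id (SU (n + 1) F q)) (MulAction.stabilizer _ (ee F (Fin.last n)))
        (MulAction.stabilizer _ (ee F 0)) (ee F 0) (ee F (Fin.last n)) (ee F c) :=
      ⟨fun _ _ => rfl, by omega, on3 (on_single.unit _) (on_single.unit _) (on_single.unit _)
        (o _ _ (by simp [Fin.ext_iff]; omega)) (o _ _ h2) (o _ _ h3), fun _ h => h,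
        fun s h => ⟨s, h, rfl⟩, fun _ h => h,
        fun s h => ⟨s, h, rfl⟩, fun _ _ h => h, fun x hx y _ e1 e2 =>
          commute_of_fix (fun i => i = Fin.last n ∨ i = c) (by rintro _ (rfl | rfl); exacts [hx, e1])
            fun i hi => e2 _ (o _ _ (not_or.1 hi).1) (o _ _ (not_or.1 hi).2)⟩
    obtain ⟨g, hg, rfl⟩ := D.surj s
    exact hg
  · rw [← sup_iL_iR h]
    exact sup_le_sup (fun x hx => mem_range_iL.1 hx) fun x hx => mem_range_iR.1 hx

theorem eq_top_of_shift {b : ℕ} (hb : b = 3 ∨ b = 2 ∧ 3 ≤ q) (hn : b ≤ n + 1)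
    {w : SU (n + 1) F q} (hw : Mn (finRotate _) w) {M : Subgroup (SU (n + 1) F q)} (h1 : w ∈ M)
    (h2 : ∀ s, Fx (II _ 0 b) s → s ∈ M) : M = ⊤ := by
  have h3 : ∀ i, ∀ s, Fx (II _ i (i + b)) s → s ∈ M := fun i => by
    induction i with
    | zero => simpa using h2
    | succ i ih =>
      intro s hs
      rw [Nat.add_right_comm] at hs
      simpa [mul_assoc] using mul_mem (mul_mem h1 (ih _ (hs.unshift hw))) (inv_mem h1)
  suffices H : ∀ k, b ≤ k → ∀ i, i + k ≤ n + 1 → ∀ s, Fx (II _ i (i + k)) s → s ∈ M from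
    eq_top_iff.2 fun s _ => H _ hn 0 (by omega) s fun i hi => (hi (mem_II.2 (by omega))).elim
  intro k hk
  induction k, hk using Nat.le_induction with
  | base => exact fun i _ => h3 i
  | succ k hk ih =>
    intro i hi s hs
    have hf : Function.Injective fun a : Fin (k + 1) => (⟨i + a, by omega⟩ : Fin (n + 1)) :=
      fun a b h => by simpa [Fin.ext_iff] using h
    have e := fun s : SU (n + 1) F q => fx_iff (s := s) (J := II _ i (i + (k + 1))) hf fun j => mem_II.trans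
      ⟨fun h => ⟨⟨j - i, by omega⟩, Fin.ext (by simp; omega)⟩, by rintro ⟨a, rfl⟩; simp; omega⟩
    obtain ⟨g, rfl⟩ := (e s).1 hs
    refine (sup_le (fun g hg => ih i (by omega) _ fun j hj => ?_)
      (fun g hg => ih (i + 1) (by omega) _ fun j hj => ?_) : _ ≤ M.comap (blk hf))
      ((sup_fix (by omega)).ge (mem_top g))
    · by_cases h : j = ⟨i + Fin.last k, by simp; omega⟩
      · exact h ▸ (blk_smul_ee_iff hf g _).2 hg
      · refine (e _).2 ⟨g, rfl⟩ j fun h' => ?_
        simp only [mem_II, Fin.ext_iff, Fin.val_last] at h h' hj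
        omega
    · by_cases h : j = ⟨i + (0 : Fin (k + 1)), by simp; omega⟩
      · exact h ▸ (blk_smul_ee_iff hf g _).2 hg
      · refine (e _).2 ⟨g, rfl⟩ j fun h' => ?_
        simp only [mem_II, Fin.ext_iff, Fin.val_zero] at h h' hj
        omega

theorem fx_castLE {m : ℕ} (h : m ≤ n) {s : SU n F q} :
    Fx (II n 0 m) s ↔ ∃ g, blk (Fin.castLE_injective h) g = s :=
  fx_iff _ fun i => mem_II.trans ⟨fun h => ⟨⟨i, h.2⟩, rfl⟩, by rintro ⟨a, rfl⟩; simp⟩

theorem exists_pair_large (hq : 3 ≤ q) (hn : 3 ≤ n) :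
    ∃ a b : SU (n + 1) F q, closure {a, b} = ⊤ := by
  have := hU.finite
  let K := ((conj F q).eqLocusField (RingHom.id F))
  have := Fintype.ofFinite K
  obtain ⟨e⟩ := nonempty_SU2_equiv (F := F) (q := q) (K := K) (card_fixed F q)
  obtain ⟨g, h, a, b, h1, h2, h3, h4⟩ := exists_coprime_pair_SL2 (K := K)
    (by rw [← Nat.card_eq_fintype_card]; exact hq.trans (card_fixed F q).ge)
  obtain ⟨w, hw⟩ := exists_monSU (F := F) (q := q) (finRotate (n + 1))
    (c := fun i => if i = 0 then ((Perm.sign (finRotate (n + 1)) : ℤ) : F) else 1)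
    (fun i => by
      rcases Int.units_eq_one_or (Perm.sign (finRotate (n + 1))) with h | h <;> rw [h] <;>
        split_ifs <;> simp)
    (by
      rw [Finset.prod_ite_eq']
      rcases Int.units_eq_one_or (Perm.sign (finRotate (n + 1))) with h | h <;> rw [h] <;> simp)
  replace hw : Mn (finRotate _) w := fun i => ⟨_, hw i⟩
  have h5 : 2 ≤ n + 1 := by omega
  let φ := (blk (F := F) (q := q) (Fin.castLE_injective h5)).comp e.symm.toMonoidHom
  have h6 : ∀ g, Fx (II _ 0 2) (φ g) := fun g => (fx_castLE h5).2 ⟨_, rfl⟩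
  refine ⟨φ g * (w * (w * φ h * w⁻¹) * w⁻¹), w, ?_⟩
  have a1 : w ∈ closure {φ g * (w * (w * φ h * w⁻¹) * w⁻¹), w} := subset_closure (by simp)
  obtain ⟨a2, a3⟩ := mem_of_coprime (p := a) (m := b) ((h6 g).commute
      (((h6 h).shift hw (by omega)).shift hw (by omega))
      (Finset.disjoint_left.2 fun i a b => by rw [mem_II] at a b; omega))
    (by rw [← map_pow, h1, map_one]) (by rw [conj_pow, conj_pow, ← map_pow, h2]; simp) h3
    (K := closure {φ g * (w * (w * φ h * w⁻¹) * w⁻¹), w}) (subset_closure (by simp))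
  rw [mul_mem_cancel_right (inv_mem a1), mul_mem_cancel_left a1,
    mul_mem_cancel_right (inv_mem a1), mul_mem_cancel_left a1] at a3
  refine eq_top_of_shift (.inr ⟨rfl, hq⟩) h5 hw a1 fun s hs => ?_
  obtain ⟨s, rfl⟩ := (fx_castLE h5).1 hs
  obtain ⟨s, rfl⟩ := e.symm.surjective s
  exact ((closure_le (Subgroup.comap φ _)).2 (Set.pair_subset (mem_comap.2 a2) (mem_comap.2 a3))) (h4.ge (mem_top s))

theorem emb_siegel {k : ℕ} {b : Fin k → Fin n → F} (hb : ON q b) {u w : Fin k → F} {a : F}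
    {g : SU k F q} (h : IsSiegel u w a g) : IsSiegel (comb b u) (comb b w) a (emb hb g) :=
  fun x => by
    rw [emb_smul, h]
    simp only [comb_add, comb_sub, comb_smul, herm_comb_right]
    abel

theorem borel_two' [UF F 2] {e n f : Fin 3 → F} (h : Fr 2 e n f) {ζ : Fˣ}
    (hζ : ∀ x, x ∈ Submonoid.powers ζ) {d u : SU 3 F 2} (hd : U3.Dg e f (ζ : F) d)
    (hu : IsSiegel e ((0 : F) • n) 1 u) {M : Subgroup (SU 3 F 2)} (md : d ∈ M) (mu : u ∈ M)
    (hM : ∀ c : F, c ≠ 0 → ∃ k ∈ M, ∃ a, IsSiegel e (c • n) a k) (g : SU 3 F 2) (l : F)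
    (hg : g • e = l • e) : g ∈ M := by
  obtain ⟨i, c, a', x, hx, rfl⟩ := U3.borel_decomp h hζ hd hg
  refine mul_mem ?_ (pow_mem md i)
  obtain ⟨k, hk, a'', hk'⟩ : ∃ k ∈ M, ∃ a, IsSiegel e (c • n) a k := by
    by_cases h0 : c = 0
    · exact ⟨1, one_mem _, _, h0 ▸ U3.sg_one h⟩
    · exact hM c h0
  obtain ⟨s, hs⟩ := U3.sg_div h hk' hx
  have : Pres.Nn u d ≤ M := (Subgroup.closure_le _).2 (by
    rintro _ ⟨i, rfl⟩
    exact mul_mem (mul_mem (pow_mem md _) mu) (inv_mem (pow_mem md _)))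
  simpa using mul_mem hk (this (U3.mem_Nn_of_sg h hζ hd hu one_ne_zero hs))

theorem exists_pair_small [UF F 2] (hn : 3 ≤ n) : ∃ a b : SU (n + 1) F 2, closure {a, b} = ⊤ := by
  have := UF.finite (F := F) 2
  obtain ⟨ζ, hζ⟩ := IsCyclic.exists_monoid_generator (α := Fˣ)
  have h2 : (2 : F) = 0 := by
    obtain ⟨p, k, hp, hc, h, -⟩ := exists_prime_pow F 2
    obtain rfl : p = 2 := ((Nat.Prime.pow_eq_iff Nat.prime_two).1 h.symm).1
    exact CharP.cast_eq_zero F 2
  have h3 : (ζ : F) ^ 3 = 1 := (U3.pow_eq_one_iff (q := 2) hζ).2 dvd_rfl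
  have h4 : (ζ : F) ^ 2 = 1 + ζ := mul_left_cancel₀ (sub_ne_zero.2 (U3.conj_gen_ne (q := 2) hζ)) (by
    rw [Class.U.conj_apply]; linear_combination (ζ : F) * h3 + (ζ - ζ ^ 3 : F) * h2)
  have h : Fr 2 ![1, 1, 0] ![0, 0, 1] ![(ζ : F), ζ ^ 2, 0] := by
    refine .mk' ?_ ?_ ?_ ?_ ?_ ?_ <;> simp [herm_eq, Fin.sum_univ_three, Class.U.conj_apply] <;> grind
  obtain ⟨d, hd⟩ := exists_monSU (F := F) (q := 2) (n := 3) 1 (c := fun _ => ζ)
    (fun _ => by rw [Class.U.conj_apply]; grind) (by simpa using h3)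
  replace hd : ∀ v : Fin 3 → F, d • v = (ζ : F) • v := fun v => by
    rw [← Finset.univ_sum_single v, Finset.smul_sum, Finset.smul_sum]
    refine Finset.sum_congr rfl fun i _ => ?_
    rw [show Pi.single i (v i) = v i • ee F i by rw [← Pi.single_smul]; simp, SU_smul_comm, hd,
      smul_comm]
    rfl
  have hd' : U3.Dg ![1, 1, 0] ![(ζ : F), ζ ^ 2, 0] (ζ : F) d :=
    ⟨hd _, by rw [hd, Class.U.conj_apply, inv_eq_of_mul_eq_one_right (b := (ζ : F)) (by grind)]⟩
  obtain ⟨u, hu⟩ := h.exists_unip (c := 1) (a := ζ) (by simp [Class.U.conj_apply]; grind)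
  have hz := U3.sg_congr (U3.sg_mul h hu hu) (c' := 0) (a' := 1) (by linear_combination h2)
    (by rw [map_one]; linear_combination (ζ - 1 : F) * h2)
  obtain ⟨w, hw⟩ := exists_monSU (F := F) (q := 2) (finRotate (n + 1)) (c := fun _ => 1) (by simp)
    (by rcases Int.units_eq_one_or (Perm.sign (finRotate (n + 1))) with h | h <;> rw [h] <;>
      simp; grind)
  simp only [one_smul] at hw
  have h5 : 3 ≤ n + 1 := by omega
  have hb := on_ee (F := F) (q := 2) (Fin.castLE_injective h5)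
  refine ⟨emb hb (u * d), w, ?_⟩
  have a1 : w ∈ closure {emb hb (u * d), w} := subset_closure (by simp)
  have a2 : emb hb (u * d) ∈ closure {emb hb (u * d), w} := subset_closure (by simp)
  generalize closure {emb hb (u * d), w} = M at a1 a2 ⊢
  obtain ⟨a3, a4⟩ := mem_of_coprime (K := M.comap (emb hb)) (p := 4) (m := 3)
    (SU_ext fun v => by rw [mul_smul, mul_smul, hd, hd, SU_smul_comm]) (by
      rw [show u ^ 4 = u * u * (u * u) by simp only [pow_succ, pow_zero, one_mul, mul_assoc]]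
      exact (U3.sg_mul h hz hz).unique (U3.sg_congr (U3.sg_one h) (by simp)
        (by linear_combination -h2)))
    ((hd'.pow 3).unique h (by simp [h3, U3.Dg])) (by norm_num) a2
  have w1 : ∀ i j : Fin 3, (j : ℕ) = i + 1 → w • ee F (i.castLE h5) = ee F (j.castLE h5) :=
    fun i j e => (hw _).trans (congrArg _ (Fin.ext ((val_finRotate (by simp; omega)).trans e.symm)))
  have c1 : ∀ x y z : F, comb (fun a => ee F (Fin.castLE h5 a)) ![x, y, z] =
      x • ee F (Fin.castLE h5 0) + y • ee F (Fin.castLE h5 1) + z • ee F (Fin.castLE h5 2) :=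
    fun x y z => by simp [comb, Fin.sum_univ_three]
  have d1 : ∀ i, emb hb d • ee F (Fin.castLE h5 i) = (ζ : F) • ee F (Fin.castLE h5 i) := fun i => by
    rw [emb_smul_basis hb, hd, comb_smul, comb_single]
  have k1 : ∀ j : ℕ, (w⁻¹ * emb hb d * w) ^ j • comb (fun a => ee F (Fin.castLE h5 a)) ![1, 1, 0] =
      (ζ : F) ^ j • comb (fun a => ee F (Fin.castLE h5 a)) ![1, 1, 0] := fun j => by
    induction j with
    | zero => simp
    | succ j ih =>
      rw [pow_succ', mul_smul, ih, SU_smul_comm, pow_succ, mul_smul, mul_smul, mul_smul,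
        ← SU_smul_comm, ← SU_smul_comm, inv_smul_eq_iff, SU_smul_comm, SU_smul_comm]
      simp only [c1, zero_smul, one_smul, add_zero, smul_add, w1 0 1 rfl, w1 1 2 rfl, d1,
        SU_smul_comm]
  have k2 : (w⁻¹ * emb hb d * w) • ee F (Fin.castLE h5 2) = ee F (Fin.castLE h5 2) := by
    rw [mul_smul, mul_smul, inv_smul_eq_iff, hw]
    refine (fx_castLE h5).2 ⟨d, rfl⟩ _ fun h => ?_
    rw [mem_II, val_finRotate (by simp; omega)] at h
    simp at h
  obtain ⟨t, te, tf⟩ := U3.exists_weyl h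
  obtain ⟨y, hy⟩ := exists_siegel (q := 2) (u := ![0, 1, (1 : F)]) (w := 0) (a := 1)
    (by simp [herm_eq, Fin.sum_univ_three]; grind) (herm_zero_left _)
    (by simp [herm_zero_left]; grind)
  refine eq_top_of_shift (.inl rfl) h5 (fun i => ⟨1, by rw [hw, one_smul]⟩) a1 fun s hs => ?_
  obtain ⟨s, rfl⟩ := (fx_castLE h5).1 hs
  refine (U3.eq_top_of_borel h hζ te tf (borel_two' h hζ hd' hz a4 (mul_mem a3 a3)
    fun c hc => ?_) (g := y) ?_ fun l hl => ?_).ge (mem_top s)
  · obtain ⟨j, hj⟩ := U3.exists_pow hζ (c := conj F 2 c) (by simpa [conj_eq_zero] using hc)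
    have e := (emb_siegel hb hu).conj ((w⁻¹ * emb hb d * w) ^ j)
    rw [k1, one_smul, c1 0, zero_smul, zero_smul, zero_add, zero_add, one_smul,
      (MulAction.stabilizer _ _).pow_mem k2 j] at e
    have e' := e.of_smul
    rw [hj, conj_conj] at e'
    obtain ⟨v, hv⟩ := h.exists_unip (c := c) (a := conj F 2 c * c * ζ) (by
      simp only [map_mul, conj_conj]
      rw [Class.U.conj_apply (x := (ζ : F))]
      linear_combination conj F 2 c * c * h4 + conj F 2 c * c * (1 + ζ) * h2)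
    have k := pow_mem (mul_mem (mul_mem (inv_mem a1) a4) a1) j
    refine ⟨v, mem_comap.2 ?_, _, hv⟩
    rw [(emb_siegel hb hv).unique (by simpa [comb_smul, c1] using e')]
    exact mul_mem (mul_mem k a3) (inv_mem k)
  · have e := (emb_siegel hb hz).conj w
    rw [mem_comap, (emb_siegel hb hy).unique (by
      simpa only [c1, comb_zero, w1 0 1 rfl, w1 1 2 rfl, zero_smul, one_smul, add_zero, zero_add,
        smul_add, smul_zero] using e)]
    exact mul_mem (mul_mem a1 (mul_mem a3 a3 : u * u ∈ M.comap _)) (inv_mem a1)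
  · simpa [herm_eq, Fin.sum_univ_three] using congrFun ((hy _).symm.trans hl) 2

theorem exists_pair_SU (hn : 3 ≤ n) (h : n = 3 → q ≠ 2) :
    ∃ a b : SU n F q, closure {a, b} = ⊤ := by
  have h2 := two_le_q F q
  obtain ⟨n, rfl⟩ : ∃ m, n = m + 1 := ⟨n - 1, by omega⟩
  by_cases h3 : n = 2
  · subst h3
    have := hU.finite
    have := Fintype.ofFinite F
    obtain ⟨x, g, -, H⟩ := S2283.result (F := F) q (by have := h rfl; omega)
      (by rw [← Nat.card_eq_fintype_card, hU.card_eq])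
    exact ⟨_, _, H⟩
  rcases h2.eq_or_lt with rfl | h2
  exacts [exists_pair_small (by omega), exists_pair_large h2 (by omega)]

end UG

end Cfsg.Agent.KSG
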