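import Mathlib
import Cfsg.Agent.KSG.GenO
import Cfsg.Agent.KSG.GenU
import Cfsg.Agent.KSG.PresO2

/-!
Two-element generation of the orthogonal groups of plus type.
-/

set_option autoImplicit false
set_option linter.unusedSectionVars false

namespace Cfsg.Agent.KSG.BN

open Matrix Equiv Subgroup Class.Orth QuadraticMap

variable {F : Type*} [Field F]

theorem unip_pow {p : ℕ} [hp : Fact p.Prime] [CharP F p] {g : SpecialLinearGroup (Fin 2) F}
    (hg : (g.1 - 1) ^ 2 = 0) : g ^ p = 1 := Subtype.ext (by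
  change g.1 ^ p = 1
  have := sub_pow_char_of_commute (p := p) (Commute.one_right g.1)
  rwa [pow_eq_zero_of_le hp.out.two_le hg, one_pow, eq_comm, sub_eq_zero] at this)

theorem wE_two : (wE tvE 0 1 1 : SpecialLinearGroup (Fin 2) F).1 = !![0, 1; -1, 0] := by
  rw [wE_tvE_coe zero_ne_one one_ne_zero]
  ext i j; fin_cases i <;> fin_cases j <;> simp [mon_apply, wC]

theorem tvE_two (t : F) : (tvE 1 0 t : SpecialLinearGroup (Fin 2) F).1 = !![1, 0; t, 1] := by
  rw [tvE_coe one_ne_zero]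
  ext i j; fin_cases i <;> fin_cases j <;> simp

theorem exists_regular {p : ℕ} (hp : p.Prime) : ∃ (c : F) (d : ℕ), (c = 0 ∨ c = -1) ∧ p.Coprime d ∧
    (tvE 1 0 c * wE tvE 0 1 1 : SpecialLinearGroup (Fin 2) F) ^ d = 1 := by
  by_cases h : p = 2
  · refine ⟨-1, 3, .inr rfl, by rw [h]; norm_num, Subtype.ext ?_⟩
    change ((tvE 1 0 (-1)).1 * (wE tvE 0 1 1).1) ^ 3 = 1
    simp [tvE_two, wE_two, pow_succ, one_fin_two]
  · refine ⟨0, 4, .inl rfl, ((Nat.coprime_primes hp Nat.prime_two).2 h).pow_right 2,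
      Subtype.ext ?_⟩
    change ((tvE 1 0 0).1 * (wE tvE 0 1 1).1) ^ 4 = 1
    simp [tvE_two, wE_two, pow_succ, one_fin_two]

/-- `SL₂(q)` is generated by a unipotent and a semisimple element. -/
theorem exists_unip_pair [Finite F] {p : ℕ} [hp : Fact p.Prime] [CharP F p] :
    ∃ (g h : SpecialLinearGroup (Fin 2) F) (b : ℕ), g ^ p = 1 ∧ h ^ b = 1 ∧ p.Coprime b ∧
      closure {g, h} = ⊤ := by
  classical
  have := Fintype.ofFinite F
  obtain ⟨r, -, e⟩ := FiniteField.card F p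
  have ha : swap (0 : Fin 2) 1 0 ≠ 0 := by decide
  have hσ : ∀ i j : Fin 2, ∃ k : ℕ, (swap (0 : Fin 2) 1 ^ k) i = j := fun i j => by
    fin_cases i <;> fin_cases j
    exacts [⟨0, rfl⟩, ⟨1, rfl⟩, ⟨1, rfl⟩, ⟨0, rfl⟩]
  have hw := wE_tvE_coe (F := F) (zero_ne_one (α := Fin 2)) one_ne_zero
  have ht : SpecialLinearGroup.transvection ha (1 : F) = tvE 1 0 1 := (tvE_eq ha 1).symm
  by_cases h3 : Fintype.card F ≤ 3
  · obtain ⟨c, d, h1, h2, h4⟩ := exists_regular (F := F) hp.out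
    refine ⟨tvE 1 0 1, _, d, unip_pow ?_, h4, h2, eq_top_iff.2 ?_⟩
    · rw [tvE_two]; ext i j; fin_cases i <;> fin_cases j <;> simp [pow_two, one_fin_two]
    rw [← closure_small_pair h3 hw ha hσ, ht, closure_le]
    have h5 : tvE 1 0 1 ∈ Subgroup.closure {tvE 1 0 (1 : F), tvE (1 : Fin 2) 0 c * wE tvE 0 1 1} :=
      subset_closure (by simp)
    refine Set.pair_subset h5 ((mul_mem_cancel_left (x := tvE 1 0 c) ?_).1 (subset_closure (by simp)))
    rcases h1 with rfl | rfl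
    · rw [stSL_tvE.zero one_ne_zero]; exact one_mem _
    · simpa only [stSL_tvE.inv one_ne_zero] using inv_mem h5
  obtain ⟨k, hk⟩ := IsCyclic.exists_generator (α := Fˣ)
  let h : Fˣ →* SpecialLinearGroup (Fin 2) F := MonoidHom.mk'
    (fun u => ⟨!![((u⁻¹ : Fˣ) : F), 0; 0, u], by simp [det_fin_two]⟩) fun a b => Subtype.ext (by
      change _ = _ * _
      simp [mul_comm])
  have hh : ∀ u, (h u).1 = !![(u : F)⁻¹, 0; 0, u] := fun u => by
    rw [← Units.val_inv_eq_inv_val]; rfl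
  have cm : ∀ g h : SpecialLinearGroup (Fin 2) F, (g * h).1 = g.1 * h.1 := fun _ _ => rfl
  have key : ∀ g : SpecialLinearGroup (Fin 2) F, (g.1 - 1) ^ 2 = 0 →
      (∀ M : Subgroup (SpecialLinearGroup (Fin 2) F), g ∈ M → (∀ u, h u ∈ M) →
        tvE 1 0 1 * wE tvE 0 1 1 ∈ M) →
      ∃ (g h : SpecialLinearGroup (Fin 2) F) (b : ℕ), g ^ p = 1 ∧ h ^ b = 1 ∧ p.Coprime b ∧
      closure {g, h} = ⊤ := fun g h1 h2 => by
    refine ⟨g, h k, Fintype.card F - 1, unip_pow h1, by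
      rw [← map_pow, ← Fintype.card_units, pow_card_eq_one, map_one], ?_, eq_top_iff.2 ?_⟩
    · rw [e]
      exact ((Nat.coprime_self_sub_left (Nat.one_le_pow _ _ hp.out.pos)).2
        (by simp)).symm.coprime_dvd_left (dvd_pow_self _ r.ne_zero)
    rw [← closure_steinberg_pair (h := h k) (not_le.1 h3) hk hw ha hσ (by
      ext i j; fin_cases i <;> fin_cases j <;> simp [hh]), closure_le, ht]
    have h4 : h k ∈ closure {g, h k} := subset_closure (by simp)
    refine Set.pair_subset h4 (h2 _ (subset_closure (by simp)) fun u => ?_)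
    obtain ⟨j, rfl⟩ := hk u
    exact map_zpow h k j ▸ zpow_mem h4 j
  by_cases h2 : (2 : F) = 0
  · obtain ⟨b, b0, b1⟩ : ∃ b : F, b ≠ 0 ∧ b + 1 ≠ 0 := ⟨k, k.ne_zero, fun h =>
      sq_ne_one_of_gen (not_le.1 h3) hk (by rw [eq_neg_of_add_eq_zero_left h]; simp)⟩
    let t : SpecialLinearGroup (Fin 2) F := ⟨!![b ^ 2, (b + 1) ^ 2; (b + 1) ^ 2, b ^ 2], by
      rw [det_fin_two_of]; linear_combination (-2 * b ^ 3 - 3 * b ^ 2 - 2 * b - 1) * h2⟩
    refine key t ?_ fun M a1 a2 => ?_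
    · ext i j
      fin_cases i <;> fin_cases j <;> simp [t, pow_two, one_fin_two] <;> grind
    · convert mul_mem (mul_mem (mul_mem (mul_mem (a2 (.mk0 _ (mul_ne_zero b0 b1))) a1)
        (a2 (.mk0 _ (pow_ne_zero 2 (div_ne_zero b0 b1))))) a1) (a2 (.mk0 _ (mul_ne_zero b0 b1)))
        using 1
      apply Subtype.ext
      rw [cm, cm, cm, cm, cm, tvE_two, wE_two, hh, hh]
      ext i j
      fin_cases i <;> fin_cases j <;> simp [t] <;> field_simp <;> grind
  · refine key (tvE 1 0 1 * wE tvE 0 1 1 * h (.mk0 _ h2)) ?_ fun M a1 a2 =>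
      (mul_mem_cancel_right (a2 _)).1 a1
    rw [cm, cm, tvE_two, wE_two, hh]
    ext i j
    fin_cases i <;> fin_cases j <;> simp [pow_two, one_fin_two] <;> field_simp <;> ring

variable {G : Type*} [Group G]

theorem comm_of_tvE [Finite F] {φ ψ : SpecialLinearGroup (Fin 2) F →* G}
    (h : ∀ t u, ∀ x ∈ [φ (tvE 0 1 t), φ (tvE 1 0 t)], ∀ y ∈ [ψ (tvE 0 1 u), ψ (tvE 1 0 u)],
      x * y = y * x) (x y : SpecialLinearGroup (Fin 2) F) : Commute (φ x) (ψ y) := by
  have c : ∀ i j : Fin 2, i ≠ j → (i = 0 ∧ j = 1) ∨ (i = 1 ∧ j = 0) := by decide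
  refine mem_centralizer_singleton_iff.1 ((eq_top_of_tvE ((centralizer {ψ y}).comap φ)
    fun i j hij t => mem_centralizer_singleton_iff.2 (mem_centralizer_singleton_iff.1
      ((eq_top_of_tvE ((centralizer {φ (tvE i j t)}).comap ψ) fun k l hkl u =>
        mem_centralizer_singleton_iff.2 (h t u _ ?_ _ ?_).symm).ge (mem_top y))).symm).ge (mem_top x))
  · rcases c i j hij with ⟨rfl, rfl⟩ | ⟨rfl, rfl⟩ <;> simp
  · rcases c k l hkl with ⟨rfl, rfl⟩ | ⟨rfl, rfl⟩ <;> simp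

theorem mem_of_normalizes [Finite F] {p : ℕ} [hp : Fact p.Prime] [CharP F p]
    {g h : SpecialLinearGroup (Fin 2) F} {b : ℕ} (hb : h ^ b = 1) (hpb : p.Coprime b)
    (hc : closure {g, h} = ⊤) {N : Subgroup (SpecialLinearGroup (Fin 2) F)} (hg : g ∈ N)
    (hh : ∀ x ∈ N, h * x * h⁻¹ ∈ N) : N = ⊤ := by
  have : N.Normal := normalizer_eq_top_iff.1 (eq_top_iff.2 (hc ▸ (closure_le _).2
    (Set.pair_subset (le_normalizer hg) (mem_normalizer_fintype hh))))
  refine eq_top_of_tvE N fun i j hij t => (QuotientGroup.eq_one_iff _).1 ?_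
  obtain ⟨k, hk⟩ : tvE i j t ∈ (zpowers (h : _ ⧸ N)).comap (QuotientGroup.mk' N) :=
    ((closure_le _).2 (Set.pair_subset (mem_comap.2 (((QuotientGroup.eq_one_iff g).2 hg).symm ▸
      one_mem _ : (g : _ ⧸ N) ∈ _)) (mem_zpowers _))) (hc.ge (mem_top _))
  refine (pow_eq_one_iff_of_coprime hpb).1 ⟨?_, ?_⟩
  · rw [← QuotientGroup.mk_pow, unip_pow, QuotientGroup.mk_one]
    rw [tvE_coe hij, add_sub_cancel_left, pow_two, single_mul_single_of_ne _ _ _ _ hij.symm]
  · change QuotientGroup.mk' N _ ^ b = 1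
    rw [← hk, ← zpow_natCast, ← _root_.zpow_mul, mul_comm, _root_.zpow_mul, zpow_natCast,
      ← QuotientGroup.mk_pow, hb, QuotientGroup.mk_one, _root_.one_zpow]

theorem eich_apply {m : ℕ} {x y : Fin m ⊕ Fin m} (h : y ≠ x.swap) (t : F) (v : Fin m ⊕ Fin m → F) :
    (eichler (plusQF m F) (Pi.single x 1) (t • Pi.single y 1)).1 v =
      v + (t * v y.swap) • Pi.single x 1 - (t * v x.swap) • Pi.single y 1 := by
  have h1 : ∀ x : Fin m ⊕ Fin m, polar (plusQF m F) v (Pi.single x 1) = v x.swap := by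
    rintro (i | i)
    exacts [polar_eV v i, polar_fV v i]
  have h2 : ∀ x : Fin m ⊕ Fin m, plusQF m F (Pi.single x 1) = 0 := by
    rintro (i | i)
    exacts [Q_eV i, Q_fV i]
  rw [eichler_apply (h2 x), polar_smul_right', h1, h1, Q_smul, h2, smul_smul]
  · simp [mul_comm]
  · rcases x with i | i <;> rcases y with j | j <;> simp_all [polar_eV, polar_fV, eq_comm]

theorem pair_plusQF [Finite F] {m : ℕ} (hm : 4 ≤ m) :
    ∃ x y : commutator (OG (plusQF m F)), closure {x, y} = ⊤ := by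
  obtain ⟨n, rfl⟩ : ∃ n, m = n + 1 := ⟨m - 1, by omega⟩
  obtain ⟨p, hc⟩ := CharP.exists F
  have hp := Fact.mk (CharP.char_is_prime F p)
  obtain ⟨g, h, b, g1, h1, h2, h3⟩ := exists_unip_pair (F := F) (p := p)
  obtain ⟨c, d, -, d1, d2⟩ := exists_regular (F := F) hp.out
  obtain ⟨i0, i1, i2, i3, r0, r1, r2, l0, l1, l2, n01, n02, n03, n12, n13, n23⟩ :
      ∃ i0 i1 i2 i3 : Fin (n + 1), finRotate _ i0 = i1 ∧ finRotate _ i1 = i2 ∧ finRotate _ i2 = i3 ∧
        i0 ≠ Fin.last n ∧ i1 ≠ Fin.last n ∧ i2 ≠ Fin.last n ∧ i0 ≠ i1 ∧ i0 ≠ i2 ∧ i0 ≠ i3 ∧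
        i1 ≠ i2 ∧ i1 ≠ i3 ∧ i2 ≠ i3 := by
    refine ⟨⟨0, by omega⟩, ⟨1, by omega⟩, ⟨2, by omega⟩, ⟨3, by omega⟩, Fin.ext ?_, Fin.ext ?_,
      Fin.ext ?_, ?_⟩
    iterate 3 exact UG.val_finRotate (by simp; omega)
    simp only [ne_eq, Fin.ext_iff, Fin.val_last]
    omega
  obtain ⟨ε, a1, a2⟩ := (stSL_tvE.stRel (F := F) (by simp; omega) n01).exists_hom
  have e1 : ∀ t, ε (tvE 0 1 t) = tvE i0 i1 t := fun t => by
    rw [← a1]; congr 1; apply Subtype.ext; rw [tvE_coe zero_ne_one]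
    ext i j; fin_cases i <;> fin_cases j <;> simp
  have e2 : ∀ t, ε (tvE 1 0 t) = tvE i1 i0 t := fun t => by
    rw [← a2]; congr 1; apply Subtype.ext; rw [tvE_coe one_ne_zero]
    ext i j; fin_cases i <;> fin_cases j <;> simp
  have e3 : ε (wE tvE 0 1 1) = wE tvE i0 i1 1 := by simp [wE, e1, e2]
  let φ := (oL (F := F)).comp ε
  let ψ := (MulAut.conj (oR F i1)).toMonoidHom.comp φ
  let κ := (MulAut.conj (oL (rot F n) * oL (rot F n))).toMonoidHom
  have we : ∀ {i}, i ≠ Fin.last n → (oL (rot F n)).1 (eV F i) = eV F (finRotate _ i) :=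
    fun h => by rw [oL_e rot_coe, if_neg h, one_smul]
  have wf : ∀ {i}, i ≠ Fin.last n → (oL (rot F n)).1 (fV F i) = fV F (finRotate _ i) :=
    fun h => by rw [oL_f rot_coe, if_neg h, inv_one, one_smul]
  have φ1 : ∀ t, φ (tvE 0 1 t) = eichler _ (eV F i0) (t • fV F i1) := fun t => by
    rw [← oL_tvE n01, ← e1]; rfl
  have φ2 : ∀ t, φ (tvE 1 0 t) = eichler _ (eV F i1) (t • fV F i0) := fun t => by
    rw [← oL_tvE n01.symm, ← e2]; rfl
  have ψ1 : ∀ t, ψ (tvE 0 1 t) = eichler _ (eV F i0) (t • eV F i1) := fun t => by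
    change _ * φ _ * _ = _
    rw [φ1, conj_eichler, map_smul, oR_e, oR_f, if_neg n01, if_pos rfl]
  have ψ2 : ∀ t, ψ (tvE 1 0 t) = eichler _ (fV F i1) (t • fV F i0) := fun t => by
    change _ * φ _ * _ = _
    rw [φ2, conj_eichler, map_smul, oR_e, oR_f, if_neg n01, if_pos rfl]
  have κ1 : ∀ x y, κ (eichler _ x y) = eichler _ ((oL (rot F n)).1 ((oL (rot F n)).1 x))
      ((oL (rot F n)).1 ((oL (rot F n)).1 y)) := fun x y => conj_eichler _ _ _
  have c1 := comm_of_tvE (φ := φ) (ψ := ψ) fun t u => by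
    simp only [List.forall_mem_cons, φ1, φ2, ψ1, ψ2, List.not_mem_nil, false_imp_iff, implies_true,
      and_true]
    refine ⟨⟨?_, ?_⟩, ?_, ?_⟩ <;> refine OG.ext fun v => ?_ <;>
      rw [OG.mul_apply, OG.mul_apply, eich_apply, eich_apply, eich_apply, eich_apply] <;>
      simp [n01, n01.symm] <;> module
  have c2 := comm_of_tvE (φ := φ) (ψ := κ.comp φ) fun t u => by
    simp only [List.forall_mem_cons, φ1, φ2, List.not_mem_nil, false_imp_iff, implies_true,
      and_true, MonoidHom.comp_apply κ, κ1, map_smul, we, wf, l0, l1, l2, r0, r1, r2, ne_eq,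
      not_false_eq_true]
    refine ⟨⟨?_, ?_⟩, ?_, ?_⟩ <;> refine OG.ext fun v => ?_ <;>
      rw [OG.mul_apply, OG.mul_apply, eich_apply, eich_apply, eich_apply, eich_apply] <;>
      simp [n01, n01.symm, n23, n23.symm, n02, n03, n12, n13, n02.symm, n03.symm, n12.symm,
        n13.symm] <;> module
  have c3 := comm_of_tvE (φ := φ) (ψ := κ.comp ψ) fun t u => by
    simp only [List.forall_mem_cons, φ1, φ2, ψ1, ψ2, List.not_mem_nil, false_imp_iff, implies_true,
      and_true, MonoidHom.comp_apply κ, κ1, map_smul, we, wf, l0, l1, l2, r0, r1, r2, ne_eq,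
      not_false_eq_true]
    refine ⟨⟨?_, ?_⟩, ?_, ?_⟩ <;> refine OG.ext fun v => ?_ <;>
      rw [OG.mul_apply, OG.mul_apply, eich_apply, eich_apply, eich_apply, eich_apply] <;>
      simp [n01, n01.symm, n23, n23.symm, n02, n03, n12, n13, n02.symm, n03.symm, n12.symm,
        n13.symm] <;> module
  have s1 : ∀ x, ψ x ∈ commutator (OG (plusQF (n + 1) F)) := fun x =>
    Normal.conj_mem inferInstance _ (oL_mem (by omega) _) _
  have hw := oL_mem (by omega) (rot F n)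
  have ha : φ g * κ (φ h * ψ (tvE 1 0 c * wE tvE 0 1 1)) ∈ commutator (OG (plusQF (n + 1) F)) :=
    mul_mem (oL_mem (by omega) _) (Normal.conj_mem inferInstance _
      (mul_mem (oL_mem (by omega) _) (s1 _)) _)
  refine ⟨⟨_, ha⟩, ⟨_, hw⟩, map_injective (commutator _).subtype_injective ?_⟩
  rw [MonoidHom.map_closure, Set.image_pair, ← MonoidHom.range_eq_map, range_subtype]
  refine le_antisymm ((closure_le _).2 (Set.pair_subset ha hw)) ?_
  change _ ≤ closure {φ g * κ (φ h * ψ (tvE 1 0 c * wE tvE 0 1 1)), oL (rot F n)}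
  have m1 : φ g * κ (φ h * ψ (tvE 1 0 c * wE tvE 0 1 1)) ∈
    closure {φ g * κ (φ h * ψ (tvE 1 0 c * wE tvE 0 1 1)), oL (rot F n)} := subset_closure (by simp)
  have m2 : oL (rot F n) ∈
    closure {φ g * κ (φ h * ψ (tvE 1 0 c * wE tvE 0 1 1)), oL (rot F n)} := subset_closure (by simp)
  generalize closure {φ g * κ (φ h * ψ (tvE 1 0 c * wE tvE 0 1 1)), oL (rot F n)} = M at m1 m2
  obtain ⟨m3, m4⟩ := mem_of_coprime (p := p) (m := b * d)
    (by rw [map_mul]; exact (c2 _ _).mul_right (c3 _ _)) (by rw [← map_pow, g1, map_one])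
    (by rw [← map_pow, (c1 _ _).mul_pow, ← map_pow, ← map_pow, pow_mul, h1, mul_comm b, pow_mul, d2]
        simp) (h2.mul_right d1) m1
  replace m4 : φ h * ψ (tvE 1 0 c * wE tvE 0 1 1) ∈ M := by
    have := mul_mem m2 m2
    exact (mul_mem_cancel_left this).1 ((mul_mem_cancel_right (inv_mem this)).1 m4)
  have m5 := mem_of_normalizes h1 h2 h3 (N := M.comap φ) m3 fun x hx => by
    have := mul_mem (mul_mem m4 hx) (inv_mem m4)
    rw [_root_.mul_inv_rev, mul_assoc (φ h), ← (c1 _ _).eq] at this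
    simpa [mul_assoc] using this
  have m6 := eq_top_of_cycle (H := M.comap oL) rot_coe m2 (a := i0) (fun i j => by
    obtain ⟨k, hk⟩ := finRotate_inv_trans n j i
    exact ⟨k, by rw [← hk, inv_pow]; simp⟩) (by
      rw [r0]
      exact fun h t => tvE_eq h t ▸ e2 t ▸ m5.ge (mem_top _))
  have m7 : ∀ g, oL g ∈ M := fun g => m6.ge (mem_top g)
  have m8 := (mul_mem_cancel_left (m7 (ε h))).1 m4
  have hz := wE_tvE_coe (F := F) n01 one_ne_zero
  have m9 : ψ (tvE 1 0 c) ∈ M := by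
    obtain ⟨y, τ, s, y1, y2, y3⟩ := exists_mon_pair (K := F) n12 n01.symm
    have := mul_mem (mul_mem m8 (m7 (tvE i0 i2 (-(s i1 * s i2 * c))))) (inv_mem m8)
    rw [oL_tvE n02, conj_eichler, map_mul, ψ2, map_smul] at this
    have k1 : (ψ (wE tvE 0 1 1)).1 (eV F i0) = -fV F i1 := by
      change (oR F i1).1 ((oL (ε _)).1 (((oR F i1)⁻¹).1 _)) = _
      rw [e3, oR, refl_inv, ← oR, oR_e, if_neg n01, oL_e hz]
      simp [wC, n01, oR_e]
    have k2 : (ψ (wE tvE 0 1 1)).1 (fV F i2) = fV F i2 := by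
      change (oR F i1).1 ((oL (ε _)).1 (((oR F i1)⁻¹).1 _)) = _
      rw [e3, oR, refl_inv, ← oR, oR_f, if_neg n12.symm, oL_f hz]
      simp [wC, n02.symm, n12.symm, oR_f, swap_apply_of_ne_of_ne]
    rw [OG.mul_apply, OG.mul_apply, k1, k2, eich_apply (by simp), eich_apply (by simp)] at this
    have := mul_mem (mul_mem (m7 y) this) (inv_mem (m7 y))
    rw [conj_eichler] at this
    have s0 := ne_zero_of_mon y1
    simp only [Sum.swap_inr, Pi.neg_apply, Pi.single_apply, reduceCtorEq, if_false, neg_zero,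
      mul_zero, zero_smul, add_zero, sub_zero, map_neg, map_smul, oL_f y1, y2, y3] at this
    rw [← neg_smul, smul_smul, eichler_smul_left (Q_fV _) (by simp [polar_fV]), smul_smul] at this
    convert this using 1
    rw [ψ2]
    congr 2
    field_simp [s0 i1, s0 i2]
  refine commutator_le_O (by omega) n01.symm m7 ?_
  rw [map_mul, mul_mem_cancel_left m9] at m8
  convert mul_mem m8 (inv_mem (m7 (wE tvE i0 i1 1))) using 1
  have := oL_conj_oR hz (i := i1) (by simp [wC])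
  rw [swap_apply_right] at this
  rw [← this, ← e3]
  change _ = oR F i1 * oL _ * (oR F i1)⁻¹ * _
  rw [oR, refl_inv]
  group

end Cfsg.Agent.KSG.BN
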