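import Cfsg.Agent.Comp.Basic

/-!
A collector with tails for a polycyclic presentation of a `p`-group, run inside a central
extension: exponent vectors and tail forms are packed into natural numbers.
-/

set_option autoImplicit false

namespace Cfsg.Agent.KSG.Pc

open Cfsg.Agent.Comp
open scoped IsMulCommutative

/-! ### Packed linear forms -/

section val
variable {A : Type*} [AddCommGroup A]

/-- The number `F` has digits (base `2^b`) bounded by `c` and the corresponding combination of
the elements `z t` is `x`. -/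
def Val (b : ℕ) (z : ℕ → A) (F c : ℕ) (x : A) : Prop :=
  ∃ d : ℕ →₀ ℕ, (∀ t, d t ≤ c) ∧ Finsupp.linearCombination ℕ (fun t => (2 ^ b) ^ t) d = F ∧
    Finsupp.linearCombination ℕ z d = x

variable {b : ℕ} {z : ℕ → A}

theorem Val.zero (c : ℕ) : Val b z 0 c 0 := ⟨0, fun _ => Nat.zero_le _, map_zero _, map_zero _⟩

theorem Val.mono {F c c' : ℕ} {x : A} (h : Val b z F c x) (hc : c ≤ c') : Val b z F c' x := by
  obtain ⟨d, h1, h2, h3⟩ := h
  exact ⟨d, fun t => (h1 t).trans hc, h2, h3⟩

theorem Val.add {F F' c c' : ℕ} {x x' : A} (h : Val b z F c x) (h' : Val b z F' c' x') :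
    Val b z (F + F') (c + c') (x + x') := by
  obtain ⟨d, h1, h2, h3⟩ := h
  obtain ⟨d', h1', h2', h3'⟩ := h'
  exact ⟨d + d', fun t => add_le_add (h1 t) (h1' t), by rw [map_add, h2, h2'],
    by rw [map_add, h3, h3']⟩

theorem Val.smul {F c : ℕ} {x : A} (h : Val b z F c x) (k : ℕ) :
    Val b z (k * F) (k * c) (k • x) := by
  obtain ⟨d, h1, h2, h3⟩ := h
  exact ⟨k • d, fun t => Nat.mul_le_mul_left k (h1 t), by rw [map_smul, h2, smul_eq_mul],
    by rw [map_smul, h3]⟩

theorem Val.single (k t : ℕ) : Val b z (k * 2 ^ (b * t)) k (k • z t) := by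
  refine ⟨Finsupp.single t k, fun s => ?_, by simp [pow_mul], by simp⟩
  rw [Finsupp.single_apply]; split_ifs <;> omega

theorem lc_inj {B : ℕ} (L : ℕ) {d d' : ℕ →₀ ℕ} (h : ∀ t, d t < B) (h' : ∀ t, d' t < B)
    (hs : ∀ t, L ≤ t → d t = 0) (hs' : ∀ t, L ≤ t → d' t = 0)
    (e : ∑ t ∈ Finset.range L, d t * B ^ t = ∑ t ∈ Finset.range L, d' t * B ^ t) : d = d' := by
  have key : ∀ (L : ℕ) (f g : ℕ → ℕ), (∀ t, f t < B) → (∀ t, g t < B) →
      ∑ t ∈ Finset.range L, f t * B ^ t = ∑ t ∈ Finset.range L, g t * B ^ t →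
      ∀ t < L, f t = g t := by
    intro L
    induction L with
    | zero => intro f g _ _ _ t ht; omega
    | succ L ih =>
      intro f g hf hg e t ht
      rw [Finset.sum_range_succ', Finset.sum_range_succ'] at e
      simp only [pow_succ, ← mul_assoc, ← Finset.sum_mul, pow_zero, mul_one] at e
      have h0 : f 0 = g 0 := by
        have := congrArg (· % B) e
        simpa [Nat.mul_add_mod_self_right, Nat.mod_eq_of_lt (hf 0), Nat.mod_eq_of_lt (hg 0)]
          using this
      cases t with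
      | zero => exact h0
      | succ t =>
        rw [h0, add_left_inj] at e
        exact ih (fun t => f (t + 1)) (fun t => g (t + 1)) (fun t => hf _) (fun t => hg _)
          (Nat.eq_of_mul_eq_mul_right (lt_of_le_of_lt (Nat.zero_le _) (hf 0)) e) t (by omega)
  ext t
  by_cases ht : t < L
  · exact key L d d' h h' e t ht
  · rw [hs t (not_lt.1 ht), hs' t (not_lt.1 ht)]

theorem lc_eq_sum {M : Type*} [AddCommMonoid M] (v : ℕ → M) (d : ℕ →₀ ℕ) (L : ℕ)
    (hs : ∀ t, L ≤ t → d t = 0) :
    Finsupp.linearCombination ℕ v d = ∑ t ∈ Finset.range L, d t • v t := by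
  rw [Finsupp.linearCombination_apply, Finsupp.sum_of_support_subset _ (s := Finset.range L)]
  · intro t ht
    rw [Finset.mem_range]
    by_contra h
    exact Finsupp.mem_support_iff.1 ht (hs t (not_lt.1 h))
  · intro t _; simp

theorem Val.unique {F c c' : ℕ} {x x' : A} (h : Val b z F c x) (h' : Val b z F c' x')
    (hc : c < 2 ^ b) (hc' : c' < 2 ^ b) : x = x' := by
  obtain ⟨d, h1, h2, h3⟩ := h
  obtain ⟨d', h1', h2', h3'⟩ := h'
  have hb : ∀ d : ℕ →₀ ℕ, ∃ L, ∀ t, L ≤ t → d t = 0 := fun d =>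
    ⟨d.support.sup id + 1, fun t ht => by
      by_contra h0
      have := Finset.le_sup (f := id) (Finsupp.mem_support_iff.2 h0)
      simp only [id] at this
      omega⟩
  obtain ⟨L, hL⟩ := hb d
  obtain ⟨L', hL'⟩ := hb d'
  have e1 : ∀ t, L + L' ≤ t → d t = 0 := fun t ht => hL t (by omega)
  have e2 : ∀ t, L + L' ≤ t → d' t = 0 := fun t ht => hL' t (by omega)
  have : d = d' := lc_inj (L + L') (fun t => (h1 t).trans_lt hc) (fun t => (h1' t).trans_lt hc')
    e1 e2 (by
      have := h2.trans h2'.symm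
      rwa [lc_eq_sum _ d _ e1, lc_eq_sum _ d' _ e2] at this)
  rw [← h3, ← h3', this]

/-- A number all of whose bits lie in the low `k` bits of the digits. -/
theorem exists_val_of_bits {k : ℕ} (L Q : ℕ) (hQ : Q < 2 ^ (b * L))
    (h : ∀ i, Q.testBit i = true → i % b < k) : ∃ x, Val b z Q (2 ^ k) x := by
  have key : ∀ L s Q, Q < 2 ^ (b * L) → (∀ i, Q.testBit i = true → i % b < k) →
      ∃ d : ℕ →₀ ℕ, (∀ t, d t ≤ 2 ^ k) ∧ (∀ t < s, d t = 0) ∧
        Finsupp.linearCombination ℕ (fun t => (2 ^ b) ^ t) d = Q * (2 ^ b) ^ s := by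
    intro L
    induction L with
    | zero =>
      intro s Q hQ _
      have : Q = 0 := by simpa using hQ
      exact ⟨0, by simp, by simp, by simp [this]⟩
    | succ L ih =>
      intro s Q hQ h
      obtain ⟨d, h1, h2, h3⟩ := ih (s + 1) (Q / 2 ^ b) (by
        rw [Nat.div_lt_iff_lt_mul (by positivity), ← pow_add]; simpa [mul_add] using hQ) (by
        intro i hi
        rw [Nat.testBit_div_two_pow] at hi
        simpa using h _ hi)
      have h4 : Q % 2 ^ b < 2 ^ k := by
        apply Nat.lt_pow_two_of_testBit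
        intro i hi
        by_contra h5
        rw [Bool.not_eq_false, Nat.testBit_mod_two_pow, Bool.and_eq_true, decide_eq_true_eq] at h5
        have := h i h5.2
        rw [Nat.mod_eq_of_lt h5.1] at this
        omega
      refine ⟨d + Finsupp.single s (Q % 2 ^ b), fun t => ?_, fun t ht => ?_, ?_⟩
      · rw [Finsupp.add_apply, Finsupp.single_apply]
        split_ifs with hst
        · rw [← hst, h2 s (by omega)]; omega
        · simpa using h1 t
      · rw [Finsupp.add_apply, h2 t (by omega), Finsupp.single_apply, if_neg (by omega), add_zero]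
      · rw [map_add, h3, Finsupp.linearCombination_single, smul_eq_mul, pow_succ]
        conv_rhs => rw [← Nat.div_add_mod Q (2 ^ b)]
        ring
  obtain ⟨d, h1, -, h3⟩ := key L 0 Q hQ h
  exact ⟨_, d, h1, by simpa using h3, rfl⟩

/-- The unknowns shifted by one place; the lowest digit carries no information. -/
def sh (z : ℕ → A) : ℕ → A
  | 0 => 0
  | t + 1 => z t

theorem Val.shift {F c : ℕ} {x : A} (h : Val b z F c x) (j : ℕ) :
    Val b (sh z) (F <<< b + j) (c + j) x := by
  obtain ⟨d, h1, h2, h3⟩ := h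
  have h4 : Val b (sh z) (F <<< b) c x := by
    refine ⟨d.mapDomain Nat.succ, fun t => ?_, ?_, ?_⟩
    · cases t with
      | zero => rw [Finsupp.mapDomain_of_notMem_range _ _ (by simp)]; exact Nat.zero_le _
      | succ t => rw [Finsupp.mapDomain_apply Nat.succ_injective]; exact h1 t
    · rw [Finsupp.linearCombination_mapDomain, Nat.shiftLeft_eq, ← h2,
        Finsupp.linearCombination_apply, Finsupp.linearCombination_apply, Finsupp.sum_mul]
      simp [pow_succ, mul_assoc]
    · rw [Finsupp.linearCombination_mapDomain, ← h3]; rfl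
  simpa [sh] using h4.add (Val.single (b := b) (z := sh z) j 0)

theorem Val.unshift {F c : ℕ} {x : A} (h : Val b (sh z) F c x) (hc : c < 2 ^ b) :
    Val b z (F >>> b) c x := by
  obtain ⟨d, h1, h2, h3⟩ := h
  have hL : ∀ t, d.support.sup id + 1 ≤ t → d t = 0 := fun t ht => by
    by_contra h0
    have := Finset.le_sup (f := id) (Finsupp.mem_support_iff.2 h0)
    simp only [id] at this
    omega
  have hL' : ∀ t, d.support.sup id ≤ t →
      d.comapDomain Nat.succ Nat.succ_injective.injOn t = 0 := fun t ht => hL _ (by omega)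
  rw [lc_eq_sum _ d _ hL, Finset.sum_range_succ'] at h2 h3
  refine ⟨d.comapDomain Nat.succ Nat.succ_injective.injOn, fun t => h1 _, ?_, ?_⟩
  · rw [lc_eq_sum _ _ _ hL', ← h2, Nat.shiftRight_eq_div_pow]
    simp only [pow_succ, smul_eq_mul, ← mul_assoc, ← Finset.sum_mul, pow_zero, mul_one]
    rw [add_comm, Nat.add_mul_div_right _ _ (by positivity), Nat.div_eq_of_lt ((h1 0).trans_lt hc),
      zero_add]
    rfl
  · rw [lc_eq_sum _ _ _ hL', ← h3]; simp [sh]

end val

/-! ### Words and exponent vectors -/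

/-- The first letter of a packed word, read from the table `tb` by the lowest set bit. -/
noncomputable def idx (tb v : ℕ) : ℕ :=
  Nat.land (Nat.shiftRight tb (Nat.mul 8 (Nat.mod (Nat.gcd v 73786976294838206464) 67))) 255

/-- Letters of a packed word (fuel version): the digit of width `w` at position `i` is the
exponent of the letter `i`. -/
noncomputable def toLF (tb w : ℕ) (f : ℕ) : ℕ → List ℕ :=
  Nat.rec (motive := fun _ => ℕ → List ℕ) (fun _ => []) (fun _ ih v =>
    ite' (Nat.beq v 0) [] (force (idx tb v) fun i =>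
      force (Nat.sub v (Nat.shiftLeft 1 (Nat.mul w i))) fun v' => i :: ih v')) f

/-- Letters of a packed word. -/
noncomputable def toL (tb w v : ℕ) : List ℕ := toLF tb w v v

theorem pop_lt {k v : ℕ} (hv : v ≠ 0) : v - 1 <<< k < v := by
  rw [Nat.one_shiftLeft]
  exact Nat.sub_lt (Nat.pos_of_ne_zero hv) (by positivity)

theorem toLF_succ (tb w f v : ℕ) : toLF tb w (f + 1) v = if v = 0 then [] else
    idx tb v :: toLF tb w f (v - 1 <<< (w * idx tb v)) := by
  have : toLF tb w (f + 1) v = ite' (Nat.beq v 0) [] (force (idx tb v) fun i =>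
      force (v - 1 <<< (w * i)) fun v' => i :: toLF tb w f v') := rfl
  rw [this, ite'_eq]
  simp only [force_eq, beq_iff]

theorem toLF_eq (tb w : ℕ) (f f' v : ℕ) (h : v ≤ f) (h' : v ≤ f') :
    toLF tb w f v = toLF tb w f' v := by
  induction f generalizing f' v with
  | zero =>
    have : v = 0 := by omega
    subst this
    cases f' with
    | zero => rfl
    | succ f' => rw [toLF_succ, if_pos rfl]; rfl
  | succ f ih =>
    by_cases hv : v = 0
    · subst hv
      cases f' with
      | zero => rw [toLF_succ, if_pos rfl]; rfl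
      | succ f' => rw [toLF_succ, toLF_succ, if_pos rfl, if_pos rfl]
    · obtain ⟨f', rfl⟩ : ∃ g, f' = g + 1 := ⟨f' - 1, by omega⟩
      have := pop_lt (k := w * idx tb v) hv
      rw [toLF_succ, toLF_succ, if_neg hv, if_neg hv, ih f' _ (by omega) (by omega)]

theorem toL_zero (tb w : ℕ) : toL tb w 0 = [] := rfl

theorem toL_pop (tb w : ℕ) {v : ℕ} (hv : v ≠ 0) :
    toL tb w v = idx tb v :: toL tb w (v - 1 <<< (w * idx tb v)) := by
  obtain ⟨f, rfl⟩ : ∃ g, v = g + 1 := ⟨v - 1, by omega⟩
  have := pop_lt (k := w * idx tb (f + 1)) hv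
  rw [toL, toLF_succ, if_neg hv, toL, toLF_eq tb w f _ _ (by omega) le_rfl]

theorem toL_le {tb n1 : ℕ} (h : ∀ v, idx tb v ≤ n1) (w v : ℕ) : ∀ k ∈ toL tb w v, k ≤ n1 := by
  induction v using Nat.strong_induction_on with
  | _ v ih =>
    by_cases hv : v = 0
    · subst hv; simp [toL_zero]
    · rw [toL_pop tb w hv, List.forall_mem_cons]
      exact ⟨h _, ih _ (pop_lt hv)⟩

theorem toL_single {tb w i : ℕ} (h : idx tb (1 <<< (w * i)) = i) :
    toL tb w (1 <<< (w * i)) = [i] := by
  rw [toL_pop tb w (by rw [Nat.one_shiftLeft]; positivity), h, Nat.sub_self, toL_zero]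

theorem idx_le {tb n1 : ℕ} (h : ∀ r < 67, (tb >>> (8 * r)) &&& 255 ≤ n1) (v : ℕ) :
    idx tb v ≤ n1 := h _ (Nat.mod_lt _ (by norm_num))

section ev
variable {Γ : Type*} [Group Γ]

/-- Value of a list of letters. -/
def evL (a : ℕ → Γ) (l : List ℕ) : Γ := (l.map a).prod

@[simp] theorem evL_nil (a : ℕ → Γ) : evL a [] = 1 := rfl
@[simp] theorem evL_cons (a : ℕ → Γ) (k : ℕ) (l : List ℕ) : evL a (k :: l) = a k * evL a l := by
  simp [evL]
@[simp] theorem evL_append (a : ℕ → Γ) (l l' : List ℕ) :
    evL a (l ++ l') = evL a l * evL a l' := by simp [evL]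

/-- Value of a packed word. -/
noncomputable def evW (a : ℕ → Γ) (tb w v : ℕ) : Γ := evL a (toL tb w v)

/-- Value of a stack of packed words. -/
noncomputable def evS (a : ℕ → Γ) (tb w : ℕ) (S : List ℕ) : Γ := evL (evW a tb w) S

/-- Value of an exponent vector with `m` digits of width `b`, starting at the generator `j`. -/
def evE (a : ℕ → Γ) (b : ℕ) : ℕ → ℕ → ℕ → Γ
  | 0, _, _ => 1
  | m + 1, j, e => a j ^ (e % 2 ^ b) * evE a b m (j + 1) (e / 2 ^ b)

/-- `e` has `m` digits, all below `p`. -/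
def Bd (b p : ℕ) : ℕ → ℕ → Prop
  | 0, e => e = 0
  | m + 1, e => e % 2 ^ b < p ∧ Bd b p m (e / 2 ^ b)

theorem bd_zero (b : ℕ) {p : ℕ} (hp : 0 < p) (m : ℕ) : Bd b p m 0 := by
  induction m with
  | zero => rfl
  | succ m ih => exact ⟨by simpa using hp, by simpa using ih⟩

theorem evE_zero (a : ℕ → Γ) (b m j : ℕ) : evE a b m j 0 = 1 := by
  induction m generalizing j with
  | zero => rfl
  | succ m ih => simp [evE, ih]

theorem split_div {b i lo t : ℕ} (hlo : lo < 2 ^ (b * (i + 1))) :
    (lo + 2 ^ (b * (i + 1)) * t) % 2 ^ b = lo % 2 ^ b ∧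
    (lo + 2 ^ (b * (i + 1)) * t) / 2 ^ b = lo / 2 ^ b + 2 ^ (b * i) * t ∧
      lo / 2 ^ b < 2 ^ (b * i) := by
  have e : 2 ^ (b * (i + 1)) = 2 ^ b * 2 ^ (b * i) := by rw [mul_add, mul_one, pow_add, mul_comm]
  rw [e] at hlo ⊢
  refine ⟨by rw [mul_assoc, Nat.add_mul_mod_self_left],
    by rw [mul_assoc, Nat.add_mul_div_left _ _ (by positivity)], ?_⟩
  rwa [Nat.div_lt_iff_lt_mul (by positivity), mul_comm]

theorem evE_split (a : ℕ → Γ) (b i m j lo t : ℕ) (hlo : lo < 2 ^ (b * i)) :
    evE a b (i + m) j (lo + 2 ^ (b * i) * t) = evE a b i j lo * evE a b m (j + i) t := by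
  induction i generalizing j lo with
  | zero =>
    have : lo = 0 := by simpa using hlo
    simp [this, evE]
  | succ i ih =>
    obtain ⟨h1, h2, h3⟩ := split_div (t := t) hlo
    rw [show i + 1 + m = (i + m) + 1 by ring, evE, evE, h1, h2, ih _ _ h3, mul_assoc,
      show j + 1 + i = j + (i + 1) by ring]

theorem bd_split (b p i m lo t : ℕ) (hlo : lo < 2 ^ (b * i)) :
    Bd b p (i + m) (lo + 2 ^ (b * i) * t) ↔ Bd b p i lo ∧ Bd b p m t := by
  induction i generalizing lo with
  | zero =>
    have : lo = 0 := by simpa using hlo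
    simp [this, Bd]
  | succ i ih =>
    obtain ⟨h1, h2, h3⟩ := split_div (t := t) hlo
    rw [show i + 1 + m = (i + m) + 1 by ring, Bd, Bd, h1, h2, ih _ h3, and_assoc]

theorem evE_three (a : ℕ → Γ) {b i m lo d hi : ℕ} (hlo : lo < 2 ^ (b * i)) (hd : d < 2 ^ b) :
    evE a b (i + (m + 1)) 0 (lo + 2 ^ (b * i) * (d + 2 ^ b * hi)) =
      evE a b i 0 lo * a i ^ d * evE a b m (i + 1) hi := by
  rw [evE_split a b i _ 0 lo _ hlo, evE, Nat.add_mul_mod_self_left, Nat.mod_eq_of_lt hd,
    Nat.add_mul_div_left _ _ (by positivity), Nat.div_eq_of_lt hd, zero_add, zero_add, mul_assoc]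

theorem bd_three {b p i m lo d hi : ℕ} (hlo : lo < 2 ^ (b * i)) (hd : d < 2 ^ b) :
    Bd b p (i + (m + 1)) (lo + 2 ^ (b * i) * (d + 2 ^ b * hi)) ↔
      Bd b p i lo ∧ d < p ∧ Bd b p m hi := by
  rw [bd_split b p i _ lo _ hlo, Bd, Nat.add_mul_mod_self_left, Nat.mod_eq_of_lt hd,
    Nat.add_mul_div_left _ _ (by positivity), Nat.div_eq_of_lt hd, zero_add]

theorem Bd.lt {b p m e : ℕ} (h : Bd b p m e) : e < 2 ^ (b * m) := by
  induction m generalizing e with
  | zero => rw [show e = 0 from h]; simp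
  | succ m ih =>
    have := ih h.2
    rwa [Nat.div_lt_iff_lt_mul (by positivity), ← pow_add] at this

/-- Removing one from the lowest nonzero digit. -/
theorem evE_pop (c : ℕ → Γ) {b m j e q : ℕ} (he : e < 2 ^ (b * m)) (h1 : 2 ^ (b * q) ∣ e)
    (h2 : e / 2 ^ (b * q) % 2 ^ b ≠ 0) :
    evE c b m j e = c (j + q) * evE c b m j (e - 2 ^ (b * q)) := by
  obtain ⟨t, rfl⟩ := h1
  have hp : 0 < 2 ^ (b * q) := by positivity
  rw [Nat.mul_div_cancel_left _ hp] at h2
  have h3 : q < m := by
    have h4 : 0 < t := Nat.pos_of_ne_zero fun h => h2 (by simp [h])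
    have := (Nat.le_mul_of_pos_right _ h4).trans_lt he
    rw [Nat.pow_lt_pow_iff_right (by norm_num)] at this
    exact lt_of_mul_lt_mul_left this (Nat.zero_le _)
  obtain ⟨m, rfl⟩ : ∃ k, m = q + (k + 1) := ⟨m - q - 1, by omega⟩
  obtain ⟨d, hd⟩ : ∃ d, t % 2 ^ b = d + 1 := ⟨t % 2 ^ b - 1, by omega⟩
  have h5 := Nat.mod_add_div t (2 ^ b)
  have h6 : d + 1 < 2 ^ b := hd ▸ Nat.mod_lt _ (by positivity)
  have e1 : 2 ^ (b * q) * t - 2 ^ (b * q) = 0 + 2 ^ (b * q) * (d + 2 ^ b * (t / 2 ^ b)) := by
    apply Nat.sub_eq_of_eq_add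
    conv_lhs => rw [← h5, hd]
    ring
  rw [e1, ← zero_add (2 ^ (b * q) * t), evE_split c b q _ j _ _ hp, evE_split c b q _ j _ _ hp,
    evE_zero, evE, evE, hd, Nat.add_mul_mod_self_left, Nat.mod_eq_of_lt (show d < 2 ^ b by omega),
    Nat.add_mul_div_left _ _ (by positivity), Nat.div_eq_of_lt (show d < 2 ^ b by omega), zero_add,
    pow_succ']
  group

theorem evE_congr {a c : ℕ → Γ} {b m j e N : ℕ} (h0 : e &&& N = 0)
    (h : ∀ q < m, c (j + q) = a (j + q) ∨ (N >>> (b * q)) % 2 ^ b = 2 ^ b - 1) :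
    evE c b m j e = evE a b m j e := by
  induction m generalizing j e N with
  | zero => rfl
  | succ m ih =>
    rw [evE, evE, ih (j := j + 1) (e := e / 2 ^ b) (N := N / 2 ^ b)]
    · rcases h 0 (by omega) with h1 | h1
      · rw [add_zero] at h1; rw [h1]
      · have : e % 2 ^ b = 0 := by
          rw [mul_zero, Nat.shiftRight_zero] at h1
          have h2 := congrArg (· % 2 ^ b) h0
          simp only [Nat.and_mod_two_pow, h1, Nat.zero_mod] at h2
          rwa [Nat.and_two_pow_sub_one_eq_mod, Nat.mod_mod] at h2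
        rw [this, pow_zero, pow_zero]
    · rw [← Nat.and_div_two_pow, h0, Nat.zero_div]
    · intro q hq
      have := h (q + 1) (by omega)
      rwa [← add_assoc, add_right_comm, mul_add, mul_one, add_comm (b * q) b, Nat.shiftRight_add,
        Nat.shiftRight_eq_div_pow N b] at this

/-- The central element of a member of the additive centre. -/
def ce (x : Additive (Subgroup.center Γ)) : Γ := (Additive.toMul x : Subgroup.center Γ)

theorem ce_add (x y : Additive (Subgroup.center Γ)) : ce (x + y) = ce x * ce y := rfl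
theorem ce_zero : ce (0 : Additive (Subgroup.center Γ)) = 1 := rfl
theorem ce_smul (k : ℕ) (x : Additive (Subgroup.center Γ)) : ce (k • x) = ce x ^ k := rfl
theorem ce_comm (x : Additive (Subgroup.center Γ)) (g : Γ) : ce x * g = g * ce x :=
  (Subgroup.mem_center_iff.1 (Additive.toMul x).2 g).symm
theorem ce_commute (x : Additive (Subgroup.center Γ)) (g : Γ) : Commute g (ce x) :=
  (ce_comm x g).symm
theorem ce_inj {x y : Additive (Subgroup.center Γ)} (h : ce x = ce y) : x = y :=
  Additive.toMul.injective (Subtype.ext h)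

theorem ce_left (x : Additive (Subgroup.center Γ)) (g h : Γ) : ce x * (g * h) = g * (ce x * h) := by
  rw [← mul_assoc, ce_comm, mul_assoc]

theorem ce_three (L W C V S : Γ) (x y t : Additive (Subgroup.center Γ)) :
    L * W * (C * (V * S)) * ce (x + (y + t)) = L * (W * ce t) * C * ce y * V * S * ce x := by
  simp only [mul_assoc, ce_left _ C, ce_left _ V, ce_left _ S, ← ce_add]
  congr 6
  abel

theorem ce_two (L C V S : Γ) (x y : Additive (Subgroup.center Γ)) :
    L * (C * (V * S)) * ce (x + y) = L * C * ce y * V * S * ce x := by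
  simp only [mul_assoc, ce_left _ V, ce_left _ S, ← ce_add, add_comm]

theorem evE_conj {a c : ℕ → Γ} {z : ℕ → Additive (Subgroup.center Γ)} {g : Γ}
    {b p m j s e : ℕ} (h : ∀ q < m, a (j + q) * g = g * c (j + q) * ce (z (s + q)))
    (he : Bd b p m e) :
    ∃ x, Val b z (e * 2 ^ (b * s)) (m * p) x ∧ evE a b m j e * g = g * evE c b m j e * ce x := by
  induction m generalizing j s e with
  | zero => exact ⟨0, by rw [show e = 0 from he]; simpa using Val.zero 0, by simp [evE, ce_zero]⟩
  | succ m ih =>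
    obtain ⟨x, h1, h2⟩ := ih (j := j + 1) (s := s + 1) (fun q hq => by
      have := h (q + 1) (by omega)
      rwa [← add_assoc, add_right_comm, ← add_assoc, add_right_comm s] at this) he.2
    refine ⟨x + (e % 2 ^ b) • z s, ?_, ?_⟩
    · have := h1.add ((Val.single (b := b) (z := z) (e % 2 ^ b) s).mono he.1.le)
      convert this using 1
      · conv_lhs => rw [← Nat.div_add_mod e (2 ^ b)]
        rw [mul_add b, mul_one, pow_add]; ring
      · ring
    · have h3 := h 0 (by omega)
      rw [add_zero, add_zero] at h3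
      have h4 : a j ^ (e % 2 ^ b) * g = g * c j ^ (e % 2 ^ b) * ce ((e % 2 ^ b) • z s) := by
        have : a j = g * (c j * ce (z s)) * g⁻¹ := by rw [← mul_assoc, ← h3]; group
        rw [this, conj_pow, (ce_commute _ _).mul_pow, ce_smul]; group
      rw [evE, evE, mul_assoc, h2, ← mul_assoc, ← mul_assoc, h4, ce_add, mul_assoc _ (ce _),
        ce_comm, mul_assoc, mul_assoc, mul_assoc, mul_assoc, ce_comm _ (ce x), mul_assoc]

end ev

/-! ### The collector -/

/-- Entry `t` of the rule table. -/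
noncomputable def ent (W WM CT t : ℕ) : ℕ := Nat.land (Nat.shiftRight CT (Nat.mul W t)) WM

/-- The conjugates of the letters of `H` in front of `T` (the lowest digit of `H` carries no
information). -/
noncomputable def push (ix : ℕ → ℕ) (b BM W WM CT r : ℕ) (T : List ℕ) (f : ℕ) : ℕ → List ℕ :=
  Nat.rec (motive := fun _ => ℕ → List ℕ) (fun _ => T)
    (fun _ ih H => Bool.rec (motive := fun _ => List ℕ)
      ((fun q => force (ent W WM CT (Nat.add r q)) fun c =>
        force (Nat.sub H (Nat.shiftLeft 1 (Nat.mul b q))) fun H' => c :: ih H')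
        (Nat.succ (ix (Nat.shiftRight H b)))) T (Nat.ble H BM)) f

/-- One letter `i` is multiplied to the collected part `e`.  The lowest digits of `e` and `F` are
step counters. -/
noncomputable def step (ix : ℕ → ℕ) (n p b BM W WM CT NW NC : ℕ) (i e v : ℕ) (S : List ℕ) (F : ℕ)
    (ih : ℕ → ℕ → List ℕ → ℕ → ℕ) : ℕ :=
  (fun s => (fun t => (fun d hi r =>
    Bool.rec (motive := fun _ => ℕ)
      (Bool.rec (motive := fun _ => ℕ)
        (force (Nat.succ (Nat.land e (Nat.pred (Nat.shiftLeft 1 s)))) fun e' =>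
          force (Nat.succ (Nat.add F (Nat.shiftLeft (Nat.succ (Nat.shiftLeft hi b))
            (Nat.mul b (Nat.succ r))))) fun F' => force (ent W WM CT r) fun c =>
              force (Nat.add (Nat.shiftLeft hi b) (Nat.land e BM)) fun H =>
                ih e' c (push ix b BM W WM CT r (v :: S) H H) F')
        (force (Nat.succ (Nat.add (Nat.land e (Nat.pred (Nat.shiftLeft 1 s)))
          (Nat.shiftLeft (Nat.succ d) s))) fun e' =>
            force (Nat.succ (Nat.add F (Nat.shiftLeft hi (Nat.mul b (Nat.add r 2))))) fun F' =>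
              force (Nat.add (Nat.shiftLeft hi b) (Nat.land e BM)) fun H =>
                ih e' 0 (push ix b BM W WM CT r (v :: S) H H) F')
        (Nat.blt (Nat.succ d) p))
      (Bool.rec (motive := fun _ => ℕ)
        (Bool.rec (motive := fun _ => ℕ)
          (force (Nat.succ (Nat.land e (Nat.pred (Nat.shiftLeft 1 s)))) fun e' =>
            force (Nat.succ (Nat.add F (Nat.shiftLeft (Nat.succ (Nat.shiftLeft hi b))
              (Nat.mul b (Nat.succ r))))) fun F' => force (ent W WM CT r) fun c =>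
                force (Nat.add (Nat.shiftLeft hi b) (Nat.land e BM)) fun H =>
                  ih e' c (push ix b BM W WM CT r (v :: S) H H) F')
          (force (Nat.succ (Nat.sub e (Nat.shiftLeft d s))) fun e' =>
            force (Nat.succ (Nat.add F (Nat.shiftLeft (Nat.succ (Nat.shiftLeft hi b))
              (Nat.mul b (Nat.succ r))))) fun F' => ih e' v S F')
          (Nat.beq (ent W WM CT r) 0))
        (force (Nat.succ (Nat.add e (Nat.shiftLeft 1 s))) fun e' =>
          force (Nat.succ (Nat.add F (Nat.shiftLeft hi (Nat.mul b (Nat.add r 2))))) fun F' =>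
            ih e' v S F')
        (Nat.blt (Nat.succ d) p))
      (Nat.beq (Nat.land hi (Nat.shiftRight NC (Nat.mul NW i))) 0))
    (Nat.land t BM) (Nat.shiftRight t b) (Nat.mul i (Nat.succ n)))
    (Nat.shiftRight e s)) (Nat.mul b (Nat.succ i))

/-- The collector: collected part `e`, current word `v`, stack `S`, tail form `F`. -/
noncomputable def col (ix : ℕ → ℕ) (n1 tb p w b BM W WM CT NW NC : ℕ) (k : ℕ → ℕ → ℕ) (f : ℕ) :
    ℕ → ℕ → List ℕ → ℕ → ℕ :=
  Nat.rec (motive := fun _ => ℕ → ℕ → List ℕ → ℕ → ℕ) (fun _ _ _ _ => 0)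
    (fun _ ih e v S F => Bool.rec (motive := fun _ => ℕ)
      (force (idx tb v) fun i => force (Nat.sub v (Nat.shiftLeft 1 (Nat.mul w i))) fun v' =>
        step ix (Nat.succ n1) p b BM W WM CT NW NC i e v' S F ih)
      (List.rec (motive := fun _ => ℕ) (k (Nat.shiftRight e b) (Nat.shiftRight F b))
        (fun v' S' _ => ih e v' S' F) S)
      (Nat.beq v 0)) f

section spec
variable {Γ : Type*} [Group Γ]

/-- The rules of the table hold for the elements `a i` up to the central tails `z t`. -/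
structure Rules (a : ℕ → Γ) (z : ℕ → Additive (Subgroup.center Γ)) (ix : ℕ → ℕ)
    (n1 tb p w b BM W WM CT NW NC : ℕ) : Prop where
  low : ∀ h, h ≠ 0 → h < 2 ^ (b * (n1 + 1)) → 2 ^ (b * ix h) ∣ h ∧ h / 2 ^ (b * ix h) % 2 ^ b ≠ 0
  le : ∀ v, idx tb v ≤ n1
  hp : p < 2 ^ b
  hp0 : 0 < p
  hBM : BM = 2 ^ b - 1
  conj : ∀ i j, i < j → j ≤ n1 → a j * a i =
    a i * evW a tb w (ent W WM CT (i * (n1 + 1) + j)) * ce (z (i * (n1 + 1) + j))
  pow : ∀ i ≤ n1, a i ^ p = evW a tb w (ent W WM CT (i * (n1 + 1) + i)) * ce (z (i * (n1 + 1) + i))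
  nc : ∀ i j, i < j → j ≤ n1 → evW a tb w (ent W WM CT (i * (n1 + 1) + j)) = a j ∨
    (NC >>> (NW * i)) >>> (b * (j - i - 1)) % 2 ^ b = 2 ^ b - 1

theorem evS_push {a c : ℕ → Γ} {ix : ℕ → ℕ} {tb w b BM W WM CT r m n j jk : ℕ}
    (hBM : BM = 2 ^ b - 1) (hj : jk < 2 ^ b) (hmn : m ≤ n)
    (low : ∀ h, h ≠ 0 → h < 2 ^ (b * n) → 2 ^ (b * ix h) ∣ h ∧ h / 2 ^ (b * ix h) % 2 ^ b ≠ 0)
    (hc : ∀ q, c (j + q) = evW a tb w (ent W WM CT (r + (q + 1)))) (T : List ℕ) (f hi : ℕ)
    (hf : hi ≤ f) (hhi : hi < 2 ^ (b * m)) :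
    evS a tb w (push ix b BM W WM CT r T f (hi <<< b + jk)) = evE c b m j hi * evS a tb w T := by
  induction f generalizing hi with
  | zero => rw [show hi = 0 by omega, evE_zero, one_mul]; rfl
  | succ f ih =>
    have e : ∀ H, push ix b BM W WM CT r T (f + 1) H = ite' (Nat.ble H BM) T
        (force (ent W WM CT (r + (ix (H >>> b) + 1))) fun c =>
          force (H - 1 <<< (b * (ix (H >>> b) + 1))) fun H' =>
            c :: push ix b BM W WM CT r T f H') := fun _ => rfl
    have hp : 0 < 2 ^ b := by positivity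
    have e1 : (hi <<< b + jk) >>> b = hi := by
      rw [Nat.shiftRight_eq_div_pow, Nat.shiftLeft_eq, add_comm, Nat.add_mul_div_right _ _ hp,
        Nat.div_eq_of_lt hj, zero_add]
    rw [e, ite'_eq, e1]
    split_ifs with h
    · rw [ble_iff, hBM, Nat.shiftLeft_eq] at h
      have : hi = 0 := by
        by_contra h1
        have := Nat.le_mul_of_pos_left (2 ^ b) (Nat.pos_of_ne_zero h1)
        omega
      rw [this, evE_zero, one_mul]
    · have h1 : hi ≠ 0 := fun h1 => h (by rw [ble_iff, h1, hBM, Nat.zero_shiftLeft]; omega)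
      obtain ⟨h2, h3⟩ := low hi h1
        (hhi.trans_le (Nat.pow_le_pow_right (by norm_num) (Nat.mul_le_mul_left _ hmn)))
      have h4 := Nat.le_of_dvd (Nat.pos_of_ne_zero h1) h2
      have h5 : 0 < 2 ^ (b * ix hi) := by positivity
      have e2 : hi <<< b + jk - 1 <<< (b * (ix hi + 1)) = (hi - 2 ^ (b * ix hi)) <<< b + jk := by
        apply Nat.sub_eq_of_eq_add
        rw [Nat.one_shiftLeft, Nat.shiftLeft_eq, Nat.shiftLeft_eq, mul_add, mul_one, pow_add,
          add_right_comm, ← add_mul, Nat.sub_add_cancel h4]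
      rw [force_eq, force_eq, e2, evS, evL_cons, ← evS, ih _ (by omega) (by omega),
        evE_pop c hhi h2 h3, hc, mul_assoc]

theorem step_ind {a : ℕ → Γ} {z : ℕ → Additive (Subgroup.center Γ)}
    {ix : ℕ → ℕ} {n1 tb p w b BM W WM CT NW NC : ℕ}
    (R : Rules a z ix n1 tb p w b BM W WM CT NW NC)
    {P : ℕ → Prop} (h0 : P 0) {i e v jk : ℕ} {S : List ℕ} {F c : ℕ}
    {x : Additive (Subgroup.center Γ)} (ih : ℕ → ℕ → List ℕ → ℕ → ℕ) (hi1 : i ≤ n1)
    (hj : jk < 2 ^ b) (he : Bd b p (n1 + 1) e) (hF : Val b (sh z) F c x)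
    (hk : ∀ e' v' S' F' x', Bd b p (n1 + 1) e' → Val b (sh z) F' (c + ((n1 + 1) * p + 1)) x' →
      evE a b (n1 + 1) 0 e' * evW a tb w v' * evS a tb w S' * ce x' =
        evE a b (n1 + 1) 0 e * a i * evW a tb w v * evS a tb w S * ce x →
          P (ih (jk + 1 + 2 ^ b * e') v' S' F')) :
    P (step ix (n1 + 1) p b BM W WM CT NW NC i (jk + 2 ^ b * e) v S F ih) := by
  obtain ⟨m, hm⟩ : ∃ m, n1 + 1 = i + (m + 1) := ⟨n1 - i, by omega⟩
  set lo := e % 2 ^ (b * i) with hlo
  set d := e / 2 ^ (b * i) % 2 ^ b with hd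
  set hi := e / 2 ^ (b * i) / 2 ^ b with hhi
  set r := i * (n1 + 1 + 1) with hr
  have hlo1 : lo < 2 ^ (b * i) := Nat.mod_lt _ (by positivity)
  have hd1 : d < 2 ^ b := Nat.mod_lt _ (by positivity)
  have hdec : e = lo + 2 ^ (b * i) * (d + 2 ^ b * hi) := by
    rw [hlo, hd, hhi, Nat.mod_add_div, Nat.mod_add_div]
  have hr1 : r = i * (n1 + 1) + i := by rw [hr]; ring
  have he' := he
  rw [hm, hdec, bd_three hlo1 hd1] at he'
  obtain ⟨hb1, hb2, hb3⟩ := he'
  have hev : evE a b (n1 + 1) 0 e = evE a b i 0 lo * a i ^ d * evE a b m (i + 1) hi := by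
    rw [hm, hdec, evE_three a hlo1 hd1]
  set cc : ℕ → Γ := fun t => evW a tb w (ent W WM CT (r + 1 + (t - (i + 1)))) with hcc
  obtain ⟨y, hy1, hy2⟩ := evE_conj (a := a) (c := cc) (z := sh z) (g := a i) (b := b) (p := p)
    (m := m) (j := i + 1) (s := r + 1 + 1) (e := hi) (fun q hq => by
      have := R.conj i (i + 1 + q) (by omega) (by omega)
      rw [this, hcc, add_right_comm (r + 1), sh]
      simp only [Nat.add_sub_cancel_left]
      rw [hr1, show i * (n1 + 1) + i + 1 + q = i * (n1 + 1) + (i + 1 + q) by ring]) hb3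
  have hmp : m * p + 1 ≤ (n1 + 1) * p := by rw [hm]; have := R.hp0; nlinarith
  have hone : Val b (sh z) 1 1 0 := by simpa [sh] using Val.single (b := b) (z := sh z) 1 0
  have hF1 : Val b (sh z) (F + hi <<< (b * (r + 2)) + 1) (c + ((n1 + 1) * p + 1)) (x + y) := by
    have := ((hF.add hy1).add hone).mono (show _ ≤ c + ((n1 + 1) * p + 1) by omega)
    rwa [add_zero, ← Nat.shiftLeft_eq] at this
  have hF2 : Val b (sh z) (F + (hi <<< b + 1) <<< (b * (r + 1)) + 1) (c + ((n1 + 1) * p + 1))
      (x + (y + z r)) := by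
    have := ((hF.add (hy1.add (Val.single (b := b) (z := sh z) 1 (r + 1)))).add hone).mono
      (show _ ≤ c + ((n1 + 1) * p + 1) by omega)
    rw [one_smul, add_zero, sh] at this
    convert this using 3
    rw [Nat.shiftLeft_eq, Nat.shiftLeft_eq, mul_add b (r + 1), mul_one, pow_add]; ring
  have epw : 2 ^ (b * (i + 1)) = 2 ^ b * 2 ^ (b * i) := by rw [mul_add, mul_one, pow_add, mul_comm]
  have eland : (jk + 2 ^ b * e) &&& (1 <<< (b * (i + 1)) - 1) = jk + 2 ^ b * lo := by
    rw [Nat.one_shiftLeft, Nat.and_two_pow_sub_one_eq_mod, epw, Nat.mod_mul,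
      Nat.add_mul_mod_self_left, Nat.mod_eq_of_lt hj, Nat.add_mul_div_left _ _ (by positivity),
      Nat.div_eq_of_lt hj, zero_add]
  have hS' : evS a tb w (push ix b BM W WM CT r (v :: S) (hi <<< b + jk) (hi <<< b + jk)) =
      evE cc b m (i + 1) hi * evS a tb w (v :: S) :=
    evS_push R.hBM hj (show m ≤ n1 + 1 by omega) R.low (fun q => by
      rw [hcc]; simp only [Nat.add_sub_cancel_left]; rw [add_assoc, add_comm 1 q]) _ _ _
      (by rw [Nat.shiftLeft_eq]; exact (Nat.le_mul_of_pos_right _ (by positivity)).trans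
            (Nat.le_add_right _ _)) hb3.lt
  have hpw := R.pow i hi1
  rw [← hr1] at hpw
  -- the two general cases
  have g1 : ¬ (d + 1 < p) → P (ih (jk + 2 ^ b * lo + 1) (ent W WM CT r)
      (push ix b BM W WM CT r (v :: S) (hi <<< b + jk) (hi <<< b + jk))
        (F + (hi <<< b + 1) <<< (b * (r + 1)) + 1)) := by
    intro hlt
    rw [add_right_comm jk]
    refine hk _ _ _ _ _ ?_ hF2 ?_
    · have := (bd_three (m := m) (p := p) (d := 0) (hi := 0) hlo1 (by positivity)).2
        ⟨hb1, R.hp0, bd_zero b R.hp0 m⟩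
      rw [hm]; simpa using this
    · have h1 := evE_three a (m := m) (d := 0) (hi := 0) hlo1 (by positivity)
      simp only [mul_zero, add_zero, pow_zero, mul_one, evE_zero] at h1
      have h2 : p = d + 1 := by omega
      rw [h2, pow_succ] at hpw
      rw [hev, hm, h1, hS', mul_assoc _ _ (a i), hy2, evS, evL_cons,
        ← mul_assoc _ (a i * _), ← mul_assoc _ (a i), mul_assoc _ _ (a i), hpw]
      exact ce_three _ _ _ _ _ _ _ _
  have g2 : d + 1 < p → P (ih (jk + 2 ^ b * lo + (d + 1) <<< (b * (i + 1)) + 1) 0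
      (push ix b BM W WM CT r (v :: S) (hi <<< b + jk) (hi <<< b + jk))
        (F + hi <<< (b * (r + 2)) + 1)) := by
    intro hlt
    have hd2 : d + 1 < 2 ^ b := hlt.trans R.hp
    rw [show jk + 2 ^ b * lo + (d + 1) <<< (b * (i + 1)) + 1 =
      jk + 1 + 2 ^ b * (lo + (d + 1) <<< (b * i)) by
        rw [Nat.shiftLeft_eq, Nat.shiftLeft_eq, epw]; ring]
    refine hk _ _ _ _ _ ?_ hF1 ?_
    · have := (bd_three (m := m) (p := p) (d := d + 1) (hi := 0) hlo1 hd2).2
        ⟨hb1, hlt, bd_zero b R.hp0 m⟩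
      rw [hm, Nat.shiftLeft_eq, mul_comm]; simpa using this
    · have h1 := evE_three a (m := m) (d := d + 1) (hi := 0) hlo1 hd2
      simp only [mul_zero, add_zero, mul_one, evE_zero] at h1
      rw [hev, hm, Nat.shiftLeft_eq, mul_comm (d + 1), h1, hS', mul_assoc _ _ (a i), hy2, evS,
        evL_cons, pow_succ, evW, toL_zero, evL_nil, mul_one, ← mul_assoc _ (a i * _),
        ← mul_assoc _ (a i), mul_assoc _ _ (a i)]
      exact ce_two _ _ _ _ _ _
  set E := jk + 2 ^ b * e with hE
  have e0 : step ix (n1 + 1) p b BM W WM CT NW NC i E v S F ih =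
      ite' (Nat.beq ((E >>> (b * (i + 1))) >>> b &&& NC >>> (NW * i)) 0)
        (ite' (Nat.blt (((E >>> (b * (i + 1))) &&& BM) + 1) p)
          (force (E + 1 <<< (b * (i + 1)) + 1) fun e' =>
            force (F + ((E >>> (b * (i + 1))) >>> b) <<< (b * (r + 2)) + 1) fun F' => ih e' v S F')
          (ite' (Nat.beq (ent W WM CT r) 0)
            (force (E - ((E >>> (b * (i + 1))) &&& BM) <<< (b * (i + 1)) + 1) fun e' =>
              force (F + (((E >>> (b * (i + 1))) >>> b) <<< b + 1) <<< (b * (r + 1)) + 1)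
                fun F' => ih e' v S F')
            (force ((E &&& (1 <<< (b * (i + 1)) - 1)) + 1) fun e' =>
              force (F + (((E >>> (b * (i + 1))) >>> b) <<< b + 1) <<< (b * (r + 1)) + 1)
                fun F' => force (ent W WM CT r) fun c =>
                  force (((E >>> (b * (i + 1))) >>> b) <<< b + (E &&& BM)) fun H =>
                    ih e' c (push ix b BM W WM CT r (v :: S) H H) F')))
        (ite' (Nat.blt (((E >>> (b * (i + 1))) &&& BM) + 1) p)
          (force ((E &&& (1 <<< (b * (i + 1)) - 1)) +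
            (((E >>> (b * (i + 1))) &&& BM) + 1) <<< (b * (i + 1)) + 1) fun e' =>
              force (F + ((E >>> (b * (i + 1))) >>> b) <<< (b * (r + 2)) + 1) fun F' =>
                force (((E >>> (b * (i + 1))) >>> b) <<< b + (E &&& BM)) fun H =>
                  ih e' 0 (push ix b BM W WM CT r (v :: S) H H) F')
          (force ((E &&& (1 <<< (b * (i + 1)) - 1)) + 1) fun e' =>
            force (F + (((E >>> (b * (i + 1))) >>> b) <<< b + 1) <<< (b * (r + 1)) + 1)
              fun F' => force (ent W WM CT r) fun c =>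
                force (((E >>> (b * (i + 1))) >>> b) <<< b + (E &&& BM)) fun H =>
                  ih e' c (push ix b BM W WM CT r (v :: S) H H) F')) := rfl
  have e00 : E >>> (b * (i + 1)) = e / 2 ^ (b * i) := by
    rw [Nat.shiftRight_eq_div_pow, epw, ← Nat.div_div_eq_div_mul, hE,
      Nat.add_mul_div_left _ _ (by positivity), Nat.div_eq_of_lt hj, zero_add]
  have e1 : (e / 2 ^ (b * i)) >>> b = hi := Nat.shiftRight_eq_div_pow _ _
  have e2 : (e / 2 ^ (b * i)) &&& BM = d := by rw [R.hBM, Nat.and_two_pow_sub_one_eq_mod]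
  have e4 : E &&& BM = jk := by
    rw [R.hBM, Nat.and_two_pow_sub_one_eq_mod, hE, Nat.add_mul_mod_self_left, Nat.mod_eq_of_lt hj]
  rw [e0, e00, e1, e2, eland, e4]
  simp only [ite'_eq, force_eq, beq_iff, blt_iff]
  split_ifs with c1 c2 c3 c4
  · -- in place, no overflow
    have h3 : evE cc b m (i + 1) hi = evE a b m (i + 1) hi := evE_congr c1 fun q hq => by
      have := R.nc i (i + 1 + q) (by omega) (by omega)
      rw [show i + 1 + q - i - 1 = q by omega] at this
      rw [hcc]
      simp only [Nat.add_sub_cancel_left]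
      rwa [hr1, show i * (n1 + 1) + i + 1 + q = i * (n1 + 1) + (i + 1 + q) by ring]
    have hd2 : d + 1 < 2 ^ b := c2.trans R.hp
    have e3 : E + 1 <<< (b * (i + 1)) + 1 =
        jk + 1 + 2 ^ b * (lo + 2 ^ (b * i) * (d + 1 + 2 ^ b * hi)) := by
      rw [Nat.one_shiftLeft, epw, hE]; conv_lhs => rw [hdec]
      ring
    rw [e3]
    refine hk _ _ _ _ _ ?_ hF1 ?_
    · rw [hm]; exact (bd_three hlo1 hd2).2 ⟨hb1, c2, hb3⟩
    · rw [hev, hm, evE_three a hlo1 hd2, mul_assoc _ _ (a i), hy2, h3, pow_succ,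
        ← mul_assoc _ (a i * _), ← mul_assoc _ (a i), mul_assoc _ _ (a i), ← ce_two]
      simp only [mul_assoc]
  · -- in place, overflow with a trivial power
    have h3 : evE cc b m (i + 1) hi = evE a b m (i + 1) hi := evE_congr c1 fun q hq => by
      have := R.nc i (i + 1 + q) (by omega) (by omega)
      rw [show i + 1 + q - i - 1 = q by omega] at this
      rw [hcc]
      simp only [Nat.add_sub_cancel_left]
      rwa [hr1, show i * (n1 + 1) + i + 1 + q = i * (n1 + 1) + (i + 1 + q) by ring]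
    have e3 : E - d <<< (b * (i + 1)) + 1 =
        jk + 1 + 2 ^ b * (lo + 2 ^ (b * i) * (0 + 2 ^ b * hi)) := by
      rw [add_right_comm jk, add_left_inj]
      apply Nat.sub_eq_of_eq_add
      rw [Nat.shiftLeft_eq, epw, hE]; conv_lhs => rw [hdec]
      ring
    rw [e3]
    have h2 : p = d + 1 := by omega
    rw [h2, pow_succ, c3, evW, toL_zero, evL_nil, one_mul] at hpw
    refine hk _ _ _ _ _ ?_ hF2 ?_
    · rw [hm]; exact (bd_three hlo1 (by positivity)).2 ⟨hb1, R.hp0, hb3⟩
    · rw [hev, hm, evE_three a hlo1 (by positivity), mul_assoc _ _ (a i), hy2, h3,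
        ← mul_assoc _ (a i * _), ← mul_assoc _ (a i), mul_assoc _ _ (a i), hpw, ← one_mul (ce (z r)),
        ← ce_three]
      simp only [mul_assoc, pow_zero]
  · exact g1 c2
  · exact g2 c4
  · exact g1 c4

theorem col_ind {a : ℕ → Γ} {z : ℕ → Additive (Subgroup.center Γ)}
    {ix : ℕ → ℕ} {n1 tb p w b BM W WM CT NW NC : ℕ}
    (R : Rules a z ix n1 tb p w b BM W WM CT NW NC)
    {P : ℕ → Prop} (h0 : P 0) (k : ℕ → ℕ → ℕ) (f e jk v : ℕ) (S : List ℕ) (F c : ℕ)
    (x : Additive (Subgroup.center Γ)) (hj : jk + f < 2 ^ b)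
    (hc : c + f * ((n1 + 1) * p + 1) < 2 ^ b) (he : Bd b p (n1 + 1) e) (hF : Val b (sh z) F c x)
    (hk : ∀ e' F' x', Val b z F' (c + f * ((n1 + 1) * p + 1)) x' →
      evE a b (n1 + 1) 0 e' * ce x' =
        evE a b (n1 + 1) 0 e * evW a tb w v * evS a tb w S * ce x → P (k e' F')) :
    P (col ix n1 tb p w b BM W WM CT NW NC k f (jk + 2 ^ b * e) v S F) := by
  induction f generalizing e jk v S F c x with
  | zero => exact h0
  | succ f ih =>
    have e0 : ∀ E, col ix n1 tb p w b BM W WM CT NW NC k (f + 1) E v S F = ite' (Nat.beq v 0)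
        (List.rec (motive := fun _ => ℕ) (k (E >>> b) (F >>> b))
          (fun v' S' _ => col ix n1 tb p w b BM W WM CT NW NC k f E v' S' F) S)
        (force (idx tb v) fun i => force (v - 1 <<< (w * i)) fun v' =>
          step ix (n1 + 1) p b BM W WM CT NW NC i E v' S F
            (col ix n1 tb p w b BM W WM CT NW NC k f)) := fun _ => rfl
    rw [e0, ite'_eq]
    rw [add_mul f] at hc hk
    split_ifs with h
    · rw [beq_iff] at h
      subst h
      cases S with
      | nil =>
        refine hk _ _ x ((hF.unshift (by omega)).mono (by omega)) ?_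
        rw [evW, toL_zero, evS, Nat.shiftRight_eq_div_pow, Nat.add_mul_div_left _ _ (by positivity),
          Nat.div_eq_of_lt (by omega)]
        simp
      | cons v' S' =>
        refine ih e jk v' S' F c x (by omega) (by omega) he hF fun e' F' x' h1 h2 =>
          hk e' F' x' (h1.mono (by omega)) ?_
        rw [h2, evS, evS, evL_cons, evW, evW, toL_zero]; simp [mul_assoc]
    · rw [beq_iff] at h
      rw [force_eq, force_eq]
      refine step_ind R h0 _ (R.le _) (by omega) he hF fun e' v' S' F' x' h1 h2 h3 =>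
        ih e' _ v' S' F' _ x' (by omega) (by omega) h1 h2 fun e'' F'' x'' h4 h5 =>
          hk e'' F'' x'' (h4.mono (by omega)) ?_
      rw [h5, h3, evW, evW, toL_pop tb w h, evL_cons]; simp [mul_assoc]

end spec

/-- Position of the lowest nonzero digit (base `2^48`) of a number below `2^1776`. -/
noncomputable def idxW (h : ℕ) : ℕ :=
  Nat.land (Nat.shiftRight (nat_lit 0x121207121207111222120507211107120c22081207050e0711211711030714121f0c11222208161219071305210e0a07111101210d170411220304071f142112201f000c03111b220922060804160b120c1923070b131d050021200e090a07071c11141105011621060d19170004171106220d030b040b071d1f0e141021101208200b1f0700160c0b030311241b1322020906221d061c081b041416010b02120d0c15191f231e070a0b1713101d10051f0008210e20140e2209240a16070f07141c1511141403111a05020118161d212006020d10191317130123041a171a1121060322210d1e03040b0905000b1007241d011f100e161418101a210010001208082120120b181f0d071a000816050c150b04030803241122241d1b2113182205021109200604220a1d1c06121c1f081e1b0f040b14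16160501200b18021b120e0d010c1f151b19091f0d230d1e0007140a210b0717101302100f1d1a100005181f1b0000081321220e12200814080e03220c091624060a11161807050f13070314231c0c15071100140b1515032111011a23050c02150109180116041d22211d20050603021a0d0a101e1909130e1717131d0103230204201a1917241a121122210c0711031f221921110d221f200309040c0b24091c050600060b1d1008070b24021d1b010d1f0a101f0e221614141a182010131a202104002410180008120c081508222105200a121e0b05180e1f090d1407021a1800220803161105030c0015010c09041d030a0817032024221119220924061d0b1b0a211a1304180c220a050902221100090a2019060a040a220a0a0a1d1d1c1c061d12101c1c1f17081c1e181b060f0e041d0b1c1412162416100515011c20180b1c180f021f1b0612170e010d08010f0c1c1f09151e1b0a191809121f1b0d0f23060d231e0f0011070e14160a04211b0b1d0716170b1016131c021e10140f021d131a1e10160018052418041f161b1b00100013080513072115221a0e02121f201c080d142008050e18031d220b0c00091c160d2418060f0a0f111b1602181b071f05000f1b131307060323141223131c170c0e150e070811010023140d0b061508150203012104110f01211a0c2323051c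0c0c021f15140109090a18150112161e04191d1b2223210a1e1e201905130619031702091a1c0d120b1e101f1e17191b0915130d0e0c170f172013231d0f01060310230d0215042320191a1e190e170f24241a0012071111220521070c08070e111703141f1122161913210a11010d0422041f212000031b0906040b0c230b1d242009071c14051606190017060d0b0b1d0e1010080b07160b03241302061d1c1b1401020d151f1e0a1710101f080e142224160f141514031a02181d2002101313231a1a2103211e0409001024011016181a0000082112180c1a080515040824221d2118051120040a1c121f1e0f0b160520181b0e011f1b090d0d0014210710020f1a00181b001322120808030c16051118051303230c07000b152101230c15090104221d05031a0a1e090e171d030220192412220c111f19112220090c241c06061d080b021b0d0a1f21141a201320042418080c1522050a1e050e09140218220311030001091d0a1720221909060b0a1a040c0a0922000a190a0a0a0a1d1c1d101c161c18060e1d1c122410151c181c0f1f061701080f1c091e0a18121b0f06230f110e16041b1d160b161c1e1402121e16182404161b10130507151a011f1c0d2005181d0b001c0d180f0f1b021b1f001b1306231213170e0e0801230d06080201040f210c231c0c1f14090a15121e191b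230a1e19131917091c121e1f171b150d0c0f20230e06100d1523191e0e0f240007110507080e17141116130a01040421001b060b231d2007141619170d0b0e100b160313061c1402151e17100814240f1502021d0213231a031e091001161a0021181a0504241d1811041c1f0f16201b011b0d0021100f001b1312080c05181323070b2123150122051a1e0e1c0219120c1f10200c1c0608020d1f141f20240815051e0e14180303011d1722090b1a0c0900190a0a1c1016180d1c2415180f06010f090a120f2311161b15161e021e18041b1307191f0d051d000d0f1b1b001323130e082306020421230c140a1219231e13171c1e17150c200e0f15190e2407050817111301040006232014190d0e0b03061415170824150202230309011a211a041d111c0f20010d210f1b120c18230b2301051e1c190c100c06021f1f24151e14030117091a09190a10181b150f0109122316151e1e0413190d1d0d1b00220e2302210c0a191e171e15200f1924051713040620190e031417240223091a1a1d1c200d0f12180b011e1910061f241e03171a19101b0f0923151e130d0d000e020c1917150f241704200e1424231a1d200f1701190624031a100f231e0d0002191524040e241a201719241a0f1e0019240e1a17240f00241a24001a000000)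
    (Nat.mul 8 (Nat.mod (Nat.gcd h (Nat.shiftLeft 1 1776)) 1787))) 255

theorem idxW_pow : allB 1776 (fun t => Nat.beq (idxW (Nat.shiftLeft 1 t)) (Nat.div t 48)) = true := by
  decide +kernel

theorem idxW_low (h : ℕ) (h0 : h ≠ 0) (h1 : h < 2 ^ 1776) :
    2 ^ (48 * idxW h) ∣ h ∧ h / 2 ^ (48 * idxW h) % 2 ^ 48 ≠ 0 := by
  obtain ⟨t, ht, e⟩ := (Nat.dvd_prime_pow Nat.prime_two).1 (Nat.gcd_dvd_right h (2 ^ 1776))
  have h2 : 2 ^ t ∣ h := e ▸ Nat.gcd_dvd_left _ _
  have h3 : t < 1776 := by
    have := (Nat.le_of_dvd (Nat.pos_of_ne_zero h0) h2).trans_lt h1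
    rwa [Nat.pow_lt_pow_iff_right (by norm_num)] at this
  have h4 : ¬ 2 ^ (t + 1) ∣ h := fun h5 => by
    have := Nat.dvd_gcd h5 (pow_dvd_pow 2 (show t + 1 ≤ 1776 by omega))
    rw [e, Nat.pow_dvd_pow_iff_le_right (by norm_num)] at this
    omega
  have h5 : idxW h = t / 48 := by
    rw [← show idxW (1 <<< t) = t / 48 from (beq_iff _ _).1 ((allB_iff _ _).1 idxW_pow t h3)]
    have e1 : Nat.shiftLeft 1 1776 = 2 ^ 1776 := Nat.one_shiftLeft _
    rw [idxW, idxW, e1, e, Nat.one_shiftLeft, Nat.gcd_eq_left (pow_dvd_pow 2 ht)]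
  rw [h5]
  have h6 : 2 ^ (48 * (t / 48)) ∣ h := (pow_dvd_pow 2 (Nat.mul_div_le _ _)).trans h2
  refine ⟨h6, fun h7 => h4 ((pow_dvd_pow 2 (show t + 1 ≤ 48 * (t / 48) + 48 by omega)).trans ?_)⟩
  rw [pow_add]
  exact Nat.mul_dvd_of_dvd_div h6 (Nat.dvd_of_mod_eq_zero h7)

end Cfsg.Agent.KSG.Pc
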