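import Mathlib

/-!
# Arithmetic for nilpotent permutation groups
-/

set_option autoImplicit false

namespace Cfsg.Agent.KSG.NilSym

open Nat Finset

/-- `1 + p + ⋯ + p^(a-1)`. -/
def geo (p a : ℕ) : ℕ := ∑ i ∈ range a, p ^ i

theorem geo_mono (p : ℕ) {a b : ℕ} (h : a ≤ b) : geo p a ≤ geo p b :=
  sum_le_sum_of_subset (range_subset_range.2 h)

theorem le_geo_of_dvd {p a k : ℕ} (hp : p.Prime) (h : p ^ k ∣ (p ^ a)!) : k ≤ geo p a := by
  rw [(Nat.finiteMultiplicity_iff.2 ⟨hp.ne_one, (p ^ a).factorial_pos⟩).pow_dvd_iff_le_multiplicity,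
    hp.multiplicity_factorial_pow] at h
  exact h

theorem geo_succ (p a : ℕ) : geo p (a + 1) = geo p a + p ^ a := sum_range_succ _ _

theorem mul_geo (q a : ℕ) : q * geo (q + 1) a + 1 = (q + 1) ^ a := by
  induction a with
  | zero => simp [geo]
  | succ a ih => rw [geo_succ, pow_succ, mul_add, ← ih]; ring

/-- Bound for the order of a transitive nilpotent group of degree `d`. -/
def tn (d : ℕ) : ℕ := d.factorization.prod fun p a => p ^ geo p a

theorem tn_mul {a b : ℕ} (h : a.Coprime b) : tn (a * b) = tn a * tn b := by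
  unfold tn
  rw [Nat.factorization_mul_of_coprime h, Finsupp.prod_add_index_of_disjoint]
  exact h.disjoint_primeFactors

theorem tn_prime_pow {p : ℕ} (hp : p.Prime) (a : ℕ) : tn (p ^ a) = p ^ geo p a := by
  unfold tn
  rw [hp.factorization_pow, Finsupp.prod_single_index]
  simp [geo]

theorem tn_prime {p : ℕ} (hp : p.Prime) : tn p = p := by
  have := tn_prime_pow hp 1
  simpa [geo] using this

theorem tn_one : tn 1 = 1 := by simp [tn]

theorem pow_geo_dvd_tn (p d : ℕ) : p ^ geo p (d.factorization p) ∣ tn d := by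
  by_cases h : p ∈ d.factorization.support
  · exact Finset.dvd_prod_of_mem (fun p => p ^ geo p (d.factorization p)) h
  · rw [Finsupp.notMem_support_iff.1 h]; simp [geo]

theorem dvd_tn {c d : ℕ} (h : ∀ p k, p.Prime → p ^ k ∣ c → k ≤ geo p (d.factorization p)) :
    c ∣ tn d := by
  rw [Nat.dvd_iff_prime_pow_dvd_dvd]
  exact fun p k hp hk => (pow_dvd_pow p (h p k hp hk)).trans (pow_geo_dvd_tn p d)

theorem sq_le_three_pow (q : ℕ) (hq : 2 ≤ q) : (q + 1) ^ 2 ≤ 3 ^ q := by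
  induction q, hq using Nat.le_induction with
  | base => norm_num
  | succ q hq ih => rw [pow_succ 3]; nlinarith

theorem tn_sq_le_of_odd (d : ℕ) (hd : Odd d) : 3 * tn d ^ 2 ≤ 3 ^ d := by
  induction d using Nat.recOnPosPrimePosCoprime with
  | zero => exact absurd hd (by decide)
  | one => simp [tn_one]
  | prime_pow p n hp hn =>
    have hp2 : p ≠ 2 := by
      rintro rfl
      exact absurd hd (by simp [Nat.even_pow, hn.ne'])
    obtain ⟨q, rfl⟩ : ∃ q, p = q + 1 := ⟨p - 1, by have := hp.pos; omega⟩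
    have hq : 2 ≤ q := by have := hp.two_le; omega
    rw [tn_prime_pow hp, ← mul_geo q n, pow_succ' 3, pow_mul, ← pow_mul, mul_comm _ 2, pow_mul]
    exact Nat.mul_le_mul_left _ (Nat.pow_le_pow_left (sq_le_three_pow q hq) _)
  | coprime a b ha hb hab iha ihb =>
    have h1 := iha (Nat.odd_mul.1 hd).1
    have h2 := ihb (Nat.odd_mul.1 hd).2
    rw [tn_mul hab]
    have h3 : 3 ^ (a + b) ≤ 3 ^ (a * b + 1) := Nat.pow_le_pow_right (by norm_num) (by nlinarith)
    rw [pow_add, pow_succ] at h3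
    have := Nat.mul_le_mul h1 h2
    nlinarith

theorem tn_sq_le (d : ℕ) (hd : ∀ j, d ≠ 2 ^ j) (h0 : d ≠ 0) : 3 * tn d ^ 2 ≤ 3 ^ d := by
  obtain ⟨a, k, hk, rfl⟩ := Nat.exists_eq_two_pow_mul_odd h0
  have h3 : 3 ≤ k := by
    have : k ≠ 1 := by rintro rfl; exact hd a (by simp)
    obtain ⟨j, rfl⟩ := hk
    omega
  rw [tn_mul (Nat.Coprime.pow_left _ (Nat.coprime_two_left.2 hk)), tn_prime_pow Nat.prime_two]
  have h1 := tn_sq_le_of_odd k hk
  have h2 := mul_geo 1 a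
  norm_num at h2
  rw [← h2]
  generalize geo 2 a = e at *
  have h4 : (2 ^ e) ^ 2 ≤ 3 ^ (e * k) := by
    rw [← pow_mul, mul_comm e 2, pow_mul, mul_comm e k, pow_mul]
    apply Nat.pow_le_pow_left
    exact le_trans (by norm_num) (Nat.pow_le_pow_right (by norm_num) h3)
  rw [add_mul, one_mul, pow_add, mul_pow]
  nlinarith [Nat.mul_le_mul h4 h1]

/-- Table of `tn` for small non-powers of two. -/
def tab (d : ℕ) : ℕ := [0, 0, 0, 3, 0, 5, 6, 7, 0, 81, 10, 11, 24, 13, 14, 15].getD d 0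

theorem tn_le_tab (d : ℕ) (hd : ∀ j, d ≠ 2 ^ j) (h0 : d ≠ 0) (h : d ≤ 15) : tn d ≤ tab d := by
  have p2 := tn_prime Nat.prime_two
  have p3 := tn_prime Nat.prime_three
  have p5 := tn_prime Nat.prime_five
  have p7 := tn_prime Nat.prime_seven
  have p11 := tn_prime Nat.prime_eleven
  have p13 := tn_prime (p := 13) (by norm_num)
  have p4 : tn 4 = 8 := tn_prime_pow Nat.prime_two 2
  have p9 : tn 9 = 81 := tn_prime_pow Nat.prime_three 2
  have p6 : tn 6 = tn 2 * tn 3 := tn_mul (a := 2) (b := 3) (by norm_num)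
  have p10 : tn 10 = tn 2 * tn 5 := tn_mul (a := 2) (b := 5) (by norm_num)
  have p12 : tn 12 = tn 4 * tn 3 := tn_mul (a := 4) (b := 3) (by norm_num)
  have p14 : tn 14 = tn 2 * tn 7 := tn_mul (a := 2) (b := 7) (by norm_num)
  have p15 : tn 15 = tn 3 * tn 5 := tn_mul (a := 3) (b := 5) (by norm_num)
  have := hd 0
  have := hd 1
  have := hd 2
  have := hd 3
  interval_cases d <;> simp_all [tab]

/-- Table of the best products of `tab`. -/
def utab (m : ℕ) : ℕ := [1, 0, 0, 3, 0, 5, 9, 7, 15, 81, 25, 45, 243, 75, 405, 729].getD m 0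

/-- Admissible bound `c` on `m` points. -/
def Good (m c : ℕ) : Prop := (m ≠ 0 → 3 * c ^ 2 ≤ 3 ^ m) ∧ (m ≤ 15 → c ≤ utab m)

theorem good_zero : Good 0 1 := ⟨fun h => absurd rfl h, fun _ => le_rfl⟩

theorem tab_mul_utab : ∀ d ≤ 15, ∀ m ≤ 15, d + m ≤ 15 → tab d * utab m ≤ utab (d + m) := by
  decide

theorem Good.step {m c : ℕ} (h : Good m c) (d : ℕ) (hd : ∀ j, d ≠ 2 ^ j) (h0 : d ≠ 0) :
    Good (d + m) (tn d * c) := by
  constructor
  · intro _
    have h1 := tn_sq_le d hd h0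
    have h2 : c ^ 2 ≤ 3 ^ m := by
      rcases Nat.eq_zero_or_pos m with rfl | hm
      · have := h.2 (by norm_num)
        have e : utab 0 = 1 := rfl
        rw [e] at this
        nlinarith
      · have := h.1 hm.ne'
        omega
    rw [pow_add, mul_pow, ← mul_assoc]
    exact Nat.mul_le_mul h1 h2
  · intro h15
    exact (Nat.mul_le_mul (tn_le_tab d hd h0 (by omega)) (h.2 (by omega))).trans
      (tab_mul_utab d (by omega) m (by omega) h15)

/-- The `2`-part of `n!`. -/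
def s2 (n : ℕ) : ℕ := 2 ^ (n !).factorization 2

theorem s2_pos (n : ℕ) : 0 < s2 n := Nat.two_pow_pos _

theorem dvd_s2 {k n : ℕ} (h : 2 ^ k ∣ n !) : 2 ^ k ∣ s2 n :=
  pow_dvd_pow 2 ((Nat.prime_two.pow_dvd_iff_le_factorization (factorial_ne_zero n)).1 h)

theorem le_s2 {k n : ℕ} (h : 2 ^ k ∣ n !) : 2 ^ k ≤ s2 n := Nat.le_of_dvd (s2_pos n) (dvd_s2 h)

theorem s2_dvd (n : ℕ) : s2 n ∣ n ! := Nat.ordProj_dvd _ _

theorem s2_mul_le (a b : ℕ) : s2 a * s2 b ≤ s2 (a + b) := by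
  have := (mul_dvd_mul (s2_dvd a) (s2_dvd b)).trans (factorial_mul_factorial_dvd_factorial_add a b)
  unfold s2 at this ⊢
  rw [← pow_add] at this ⊢
  exact le_s2 this

theorem s2_succ (n : ℕ) : s2 (n + 1) = 2 ^ (n + 1).factorization 2 * s2 n := by
  unfold s2
  rw [factorial_succ, Nat.factorization_mul (by omega) (factorial_ne_zero n), Finsupp.add_apply,
    pow_add]

theorem s2_succ_of_even {n : ℕ} (h : n % 2 = 0) : s2 (n + 1) = s2 n := by
  rw [s2_succ, Nat.factorization_eq_zero_of_not_dvd (by omega)]; simp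

theorem s2_add_three_of_mod {n : ℕ} (h : n % 4 = 0) : s2 (n + 3) = 2 * s2 n := by
  rw [s2_succ_of_even (by omega), s2_succ, s2_succ_of_even (by omega)]
  obtain ⟨k, rfl⟩ : ∃ k, n = 4 * k := ⟨n / 4, by omega⟩
  rw [show 4 * k + 1 + 1 = 2 * (2 * k + 1) by ring, Nat.factorization_mul (by omega) (by omega),
    Finsupp.add_apply, Nat.prime_two.factorization_self,
    Nat.factorization_eq_zero_of_not_dvd (by omega)]
  simp

theorem s2_add_three_of_mod_ne {n : ℕ} (h : n % 4 ≠ 0) : 4 * s2 n ≤ s2 (n + 3) := by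
  have : 4 ∣ (n + 3) * ((n + 2) * (n + 1)) := by
    obtain h | h | h : 4 ∣ n + 3 ∨ 4 ∣ n + 2 ∨ 4 ∣ n + 1 := by omega
    · exact h.mul_right _
    · exact (h.mul_right _).mul_left _
    · exact (h.mul_left _).mul_left _
  have h2 := mul_dvd_mul this (s2_dvd n)
  have e : (n + 3) * ((n + 2) * (n + 1)) * n ! = (n + 3)! := by
    simp only [factorial_succ]; ring
  rw [e] at h2
  unfold s2 at h2 ⊢
  rw [show 4 = 2 ^ 2 by norm_num, ← pow_add] at h2 ⊢
  exact le_s2 h2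

theorem s2_large (m : ℕ) (h : 16 ≤ m) : 4 * 3 ^ m ≤ 3 * s2 m ^ 2 := by
  induction m using Nat.strong_induction_on with
  | _ m ih =>
    by_cases h24 : 24 ≤ m
    · obtain ⟨k, rfl⟩ : ∃ k, m = 8 + k := ⟨m - 8, by omega⟩
      have h1 := ih k (by omega) (by omega)
      have h2 := s2_mul_le 8 k
      have h3 : 2 ^ 7 ≤ s2 8 := le_s2 (by decide)
      have h4 : 128 * s2 k ≤ s2 (8 + k) := le_trans (Nat.mul_le_mul_right _ h3) h2
      have h5 := Nat.pow_le_pow_left h4 2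
      rw [pow_add]
      nlinarith
    · have a1 : 2 ^ 15 ≤ s2 16 := le_s2 (by decide)
      have a2 : 2 ^ 15 ≤ s2 17 := le_s2 (by decide)
      have a3 : 2 ^ 16 ≤ s2 18 := le_s2 (by decide)
      have a4 : 2 ^ 16 ≤ s2 19 := le_s2 (by decide)
      have a5 : 2 ^ 18 ≤ s2 20 := le_s2 (by decide)
      have a6 : 2 ^ 18 ≤ s2 21 := le_s2 (by decide)
      have a7 : 2 ^ 19 ≤ s2 22 := le_s2 (by decide)
      have a8 : 2 ^ 19 ≤ s2 23 := le_s2 (by decide)
      have : m ≤ 23 := by omega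
      interval_cases m <;> nlinarith

theorem s2_small : 2 ≤ s2 2 ∧ 2 ≤ s2 3 ∧ 8 ≤ s2 4 ∧ 8 ≤ s2 5 ∧ 16 ≤ s2 6 ∧ 16 ≤ s2 7 ∧ 128 ≤ s2 8 ∧
    128 ≤ s2 9 ∧ 256 ≤ s2 10 ∧ 256 ≤ s2 11 ∧ 1024 ≤ s2 12 ∧ 1024 ≤ s2 13 ∧ 2048 ≤ s2 14 ∧
    2048 ≤ s2 15 :=
  ⟨le_s2 (k := 1) (by decide), le_s2 (k := 1) (by decide), le_s2 (k := 3) (by decide),
    le_s2 (k := 3) (by decide), le_s2 (k := 4) (by decide), le_s2 (k := 4) (by decide),
    le_s2 (k := 7) (by decide), le_s2 (k := 7) (by decide), le_s2 (k := 8) (by decide),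
    le_s2 (k := 8) (by decide), le_s2 (k := 10) (by decide), le_s2 (k := 10) (by decide),
    le_s2 (k := 11) (by decide), le_s2 (k := 11) (by decide)⟩

theorem Good.cases {m c : ℕ} (h : Good m c) :
    2 * c ≤ s2 m ∨ (m = 0 ∧ c ≤ 1) ∨ (m = 3 ∧ c ≤ 3) ∨ (m = 5 ∧ c ≤ 5) ∨ (m = 6 ∧ c ≤ 9) ∨
      (m = 9 ∧ c ≤ 81) := by
  by_cases h15 : m ≤ 15
  · have h1 := h.2 h15
    have h2 := s2_small
    interval_cases m <;> simp [utab] at h1 <;> omega
  · left
    have h1 := h.1 (by omega)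
    have h2 := s2_large m (by omega)
    by_contra! hlt
    nlinarith [Nat.pow_le_pow_left hlt.le 2, Nat.pow_lt_pow_left hlt (by norm_num : 2 ≠ 0)]

theorem Good.le_s2 {m c : ℕ} (h : Good m c) (h3 : m ≠ 3) : c ≤ s2 m := by
  have := s2_small
  have := s2_pos m
  rcases h.cases with h | ⟨rfl, h⟩ | ⟨rfl, h⟩ | ⟨rfl, h⟩ | ⟨rfl, h⟩ | ⟨rfl, h⟩ <;> omega

end Cfsg.Agent.KSG.NilSym
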