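import Mathlib
import Cfsg.Agent.KSG.NilArith
import Cfsg.Agent.KSG.AbelAlt
import Cfsg.Agent.KSG.SymEmbed
import Cfsg.Agent.FGS.NilpPi
import Cfsg.Agent.Char.Elementary
import Cfsg.Agent.Grp.Card

/-!
# Nilpotent subgroups of symmetric and alternating groups
-/

set_option autoImplicit false

namespace Cfsg.Agent.KSG.NilSym

open Nat Finset Equiv Equiv.Perm Cfsg.Agent.KSG.AbelSym

section Abstract

variable {G : Type*} [Group G] [Finite G]

theorem index_normalCore_dvd_factorial (H : Subgroup G) : H.normalCore.index ∣ H.index ! := by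
  classical
  rw [Subgroup.normalCore_eq_ker, Subgroup.index_ker]
  have := Subgroup.card_subgroup_dvd_card (MulAction.toPermHom G (G ⧸ H)).range
  rwa [Nat.card_perm] at this

theorem mem_sylow_of_normal {p : ℕ} [Fact p.Prime] (P : Sylow p G) [P.Normal] {x : G} {k : ℕ}
    (hx : orderOf x = p ^ k) : x ∈ P := by
  have h1 : IsPGroup p (Subgroup.zpowers x) := IsPGroup.of_card (by rw [Nat.card_zpowers, hx])
  obtain ⟨Q, hQ⟩ := h1.exists_le_sylow
  have := Sylow.unique_of_normal P ‹_›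
  rw [Subsingleton.elim P Q]
  exact hQ (Subgroup.mem_zpowers x)

theorem index_normalCore_dvd_tn [Group.IsNilpotent G] (H : Subgroup G) :
    H.normalCore.index ∣ tn H.index := by
  apply dvd_tn
  intro p k hp hk
  have := Fact.mk hp
  obtain ⟨P⟩ : Nonempty (Sylow p G) := inferInstance
  have hP : ¬ p ∣ P.index := P.not_dvd_index
  have h1 : ((H.subgroupOf P).normalCore).map (P : Subgroup G).subtype ≤ H.normalCore := by
    rintro _ ⟨u, hu, rfl⟩ g
    obtain ⟨x, y, -, -, rfl, hc, ⟨j, hj⟩, hy⟩ := Char.exists_pPart_mul_pPrimePart hp g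
    have hx : x ∈ P := mem_sylow_of_normal P hj
    obtain ⟨i, hi⟩ := IsPGroup.iff_orderOf.1 P.isPGroup' u
    have hyu : Commute y u.1 := by
      apply FGS.commute_of_coprime_of_isNilpotent
      rw [Subgroup.orderOf_coe, hi]
      exact hy.pow_right _
    have := hu ⟨x, hx⟩
    rw [Subgroup.mem_subgroupOf] at this
    have e : x * y * (P : Subgroup G).subtype u * (x * y)⁻¹ = x * u.1 * x⁻¹ := by
      rw [Subgroup.coe_subtype, mul_assoc x y, hyu.eq]; group
    rw [e]; exact this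
  have h2 := hk.trans (Subgroup.index_dvd_of_le h1)
  rw [Subgroup.index_map_subtype] at h2
  have h3 := (((Nat.Prime.coprime_iff_not_dvd hp).2 hP).pow_left k).dvd_of_dvd_mul_right h2
  obtain ⟨j, hj⟩ := P.isPGroup'.index (H.subgroupOf P)
  have h4 := h3.trans (index_normalCore_dvd_factorial _)
  rw [hj] at h4
  refine (le_geo_of_dvd hp h4).trans (geo_mono p ?_)
  rw [← hp.pow_dvd_iff_le_factorization Subgroup.index_ne_zero_of_finite]
  have e1 := Subgroup.relIndex_mul_index (inf_le_right : H ⊓ (P : Subgroup G) ≤ P)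
  have e2 := Subgroup.relIndex_mul_index (inf_le_left : H ⊓ (P : Subgroup G) ≤ H)
  rw [Subgroup.inf_relIndex_right] at e1
  rw [Subgroup.inf_relIndex_left] at e2
  have e3 : ¬ p ∣ (P : Subgroup G).relIndex H :=
    fun h => hP (h.trans (Subgroup.relIndex_dvd_index_of_normal _ _))
  apply (((Nat.Prime.coprime_iff_not_dvd hp).2 e3).pow_left j).dvd_of_dvd_mul_left
  rw [e2, ← e1, ← hj]
  exact Dvd.intro _ rfl

theorem coprime_tn {a d : ℕ} (h : a.Coprime d) : a.Coprime (tn d) := by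
  unfold tn Finsupp.prod
  apply Nat.Coprime.prod_right
  intro p hp
  exact (h.coprime_dvd_right (Nat.dvd_of_mem_primeFactors hp)).pow_right _

theorem mem_of_coprime_index [Group.IsNilpotent G] (H : Subgroup G) {g : G}
    (h : (orderOf g).Coprime H.index) : g ∈ H := by
  apply H.normalCore_le
  rw [← QuotientGroup.eq_one_iff, ← orderOf_eq_one_iff]
  have h1 : orderOf (g : G ⧸ H.normalCore) ∣ orderOf g := orderOf_map_dvd (QuotientGroup.mk' _) g
  have h2 : orderOf (g : G ⧸ H.normalCore) ∣ tn H.index :=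
    (orderOf_dvd_natCard _).trans (index_normalCore_dvd_tn H)
  exact Nat.eq_one_of_dvd_coprimes (coprime_tn h) h1 h2

end Abstract

variable {α : Type*} [Fintype α] [DecidableEq α]

theorem index_stabilizer_eq (A : Subgroup (Perm α)) (x : α) :
    (MulAction.stabilizer A x).index = #(orb A x) := by
  rw [MulAction.index_stabilizer, ← Set.ncard_coe_finset]
  congr 1
  ext y
  simp only [MulAction.mem_orbit_iff, mem_coe, mem_orb]
  exact ⟨fun ⟨g, hg⟩ => ⟨g.1, g.2, hg⟩, fun ⟨g, h, hg⟩ => ⟨⟨g, h⟩, hg⟩⟩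

theorem apply_eq_of_coprime {A : Subgroup (Perm α)} (hA : Group.IsNilpotent A) {g : Perm α}
    (hg : g ∈ A) {x : α} (h : (orderOf g).Coprime #(orb A x)) : g x = x :=
  mem_of_coprime_index (MulAction.stabilizer A x) (g := ⟨g, hg⟩)
    (by rwa [index_stabilizer_eq, ← Subgroup.orderOf_coe])

theorem card_le_tn_mul {A B : Subgroup (Perm α)} (hA : Group.IsNilpotent A) (hB : B ≤ A) (x : α) :
    Nat.card B ≤ tn #(orb A x) * Nat.card (fixOn B (orb A x)) := by
  have h1 : (MulAction.stabilizer A x).normalCore ≤ (fixOn A (orb A x)).subgroupOf A := by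
    intro g hg
    refine ⟨g.2, fun y hy => ?_⟩
    obtain ⟨k, hk, rfl⟩ := mem_orb.1 hy
    have : k⁻¹ (g.1 (k⁻¹⁻¹ x)) = x := hg (⟨k, hk⟩ : A)⁻¹
    rwa [Perm.inv_eq_iff_eq, inv_inv] at this
  have h2 := (Subgroup.index_dvd_of_le h1).trans (index_normalCore_dvd_tn _)
  rw [index_stabilizer_eq] at h2
  have h3 : 0 < tn #(orb A x) := by
    unfold tn Finsupp.prod
    apply Finset.prod_pos
    intro p hp
    exact Nat.pow_pos (Nat.pos_of_mem_primeFactors hp)
  have h4 := (Subgroup.relIndex_le_of_le_right (H := fixOn A (orb A x)) hB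
    Subgroup.index_ne_zero_of_finite).trans (Nat.le_of_dvd h3 h2)
  have h5 : fixOn A (orb A x) ⊓ B = fixOn B (orb A x) := by
    ext g
    exact ⟨fun h => ⟨h.2, h.1.2⟩, fun h => ⟨⟨hB h.1, h.2⟩, h.1⟩⟩
  rw [← Grp.card_inf_mul_relIndex' (fixOn A (orb A x)) B, h5, mul_comm]
  exact Nat.mul_le_mul_right _ h4

theorem exists_good {A : Subgroup (Perm α)} (hA : Group.IsNilpotent A) (S : Finset α)
    (hS : ∀ x ∈ S, orb A x ⊆ S ∧ ∀ j, #(orb A x) ≠ 2 ^ j) :
    ∃ c, Good #S c ∧ ∀ B ≤ A, Nat.card B ≤ c * Nat.card (fixOn B S) := by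
  induction hn : #S using Nat.strong_induction_on generalizing S with
  | _ n ih =>
    subst hn
    rcases S.eq_empty_or_nonempty with rfl | ⟨x, hx⟩
    · refine ⟨1, good_zero, fun B _ => ?_⟩
      rw [one_mul]
      exact card_le_of_le fun g hg => ⟨hg, by simp⟩
    have hO := (hS x hx).1
    have hc : #(orb A x) + #(S \ orb A x) = #S := by
      rw [add_comm, card_sdiff_add_card_eq_card hO]
    have hpos := card_orb_pos A x
    obtain ⟨c, h1, h2⟩ := ih #(S \ orb A x) (by omega) (S \ orb A x) (by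
      intro y hy
      rw [mem_sdiff] at hy
      refine ⟨fun z hz => mem_sdiff.2 ⟨(hS y hy.1).1 hz, fun e => hy.2 ?_⟩, (hS y hy.1).2⟩
      rw [← orb_eq_of_mem e, orb_eq_of_mem hz]
      exact self_mem_orb A y) rfl
    refine ⟨tn #(orb A x) * c, hc ▸ h1.step _ (hS x hx).2 hpos.ne', fun B hB => ?_⟩
    refine (card_le_tn_mul hA hB x).trans ?_
    rw [mul_assoc]
    refine Nat.mul_le_mul_left _ ((h2 _ ((fixOn_le _ _).trans hB)).trans
      (Nat.mul_le_mul_left _ (card_le_of_le ?_)))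
    intro g hg
    refine ⟨hg.1.1, fun y hy => ?_⟩
    by_cases e : y ∈ orb A x
    · exact hg.1.2 y e
    · exact hg.2 y (mem_sdiff.2 ⟨hy, e⟩)

/-- Splitting of the points according to whether their orbit has `2`-power length. -/
theorem exists_split {A : Subgroup (Perm α)} (hA : Group.IsNilpotent A) :
    ∃ (M : Finset α) (c : ℕ), Good #M c ∧ Nat.card A ≤ c * Nat.card (fixOn A M) ∧
      IsPGroup 2 (fixOn A M) ∧ (∀ g ∈ A, Odd (orderOf g) → ∀ x ∉ M, g x = x) ∧
      ∀ x ∈ M, orb A x ⊆ M ∧ ∀ j, #(orb A x) ≠ 2 ^ j := by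
  classical
  let M : Finset α := {x | ∀ j, #(orb A x) ≠ 2 ^ j}
  have hM : ∀ x ∈ M, orb A x ⊆ M ∧ ∀ j, #(orb A x) ≠ 2 ^ j := by
    intro x hx
    simp only [M, mem_filter, mem_univ, true_and] at hx
    refine ⟨fun y hy => ?_, hx⟩
    simp only [M, mem_filter, mem_univ, true_and]
    rwa [orb_eq_of_mem hy]
  have hodd : ∀ g ∈ A, Odd (orderOf g) → ∀ x ∉ M, g x = x := by
    intro g hg ho x hx
    simp only [M, mem_filter, mem_univ, true_and, not_forall, not_not] at hx
    obtain ⟨j, hj⟩ := hx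
    apply apply_eq_of_coprime hA hg
    rw [hj]
    exact (Nat.coprime_two_right.2 ho).pow_right _
  obtain ⟨c, h1, h2⟩ := exists_good hA M hM
  refine ⟨M, c, h1, h2 A le_rfl, ?_, hodd, hM⟩
  rw [IsPGroup.iff_orderOf]
  intro g
  obtain ⟨x, y, -, hy, e, -, ⟨j, hj⟩, ho⟩ := Char.exists_pPart_mul_pPrimePart Nat.prime_two g
  have : y = 1 := by
    ext z
    by_cases hz : z ∈ M
    · exact y.2.2 z hz
    · exact hodd y.1 y.2.1 (by rw [Subgroup.orderOf_coe]; exact Nat.coprime_two_right.1 ho) z hz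
  rw [this, mul_one] at e
  exact ⟨j, e ▸ hj⟩

theorem card_fixOn_top (M : Finset α) :
    Nat.card (fixOn ⊤ M) = (Fintype.card α - #M)! := by
  have e : Perm {x // x ∉ M} ≃ fixOn (⊤ : Subgroup (Perm α)) M :=
    (Perm.subtypeEquivSubtypePerm fun x => x ∉ M).trans
      (Equiv.subtypeEquivRight fun g => by simp [mem_fixOn])
  rw [← Nat.card_congr e, Nat.card_perm, Nat.card_eq_fintype_card, Fintype.card_subtype_compl]
  simp

theorem two_mul_card_fixOn_alt (M : Finset α) (h : #M + 2 ≤ Fintype.card α) :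
    2 * Nat.card (fixOn (alternatingGroup α) M) = (Fintype.card α - #M)! := by
  obtain ⟨a, ha, b, hb, hab⟩ := one_lt_card.1 (show 1 < #Mᶜ by rw [card_compl]; omega)
  have : Nontrivial α := ⟨a, b, hab⟩
  have h1 : alternatingGroup α ⊓ fixOn ⊤ M = fixOn (alternatingGroup α) M := by
    ext g
    exact ⟨fun h => ⟨h.1, h.2.2⟩, fun h => ⟨h.1, trivial, h.2⟩⟩
  rw [← card_fixOn_top, ← Grp.card_inf_mul_relIndex' (alternatingGroup α) (fixOn ⊤ M), h1, mul_comm]
  congr 1
  have h2 := Subgroup.relIndex_dvd_index_of_normal (alternatingGroup α) (fixOn ⊤ M)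
  rw [alternatingGroup.index_eq_two] at h2
  rcases (Nat.dvd_prime Nat.prime_two).1 h2 with h3 | h3
  · exfalso
    rw [Subgroup.relIndex_eq_one] at h3
    have := h3 (show swap a b ∈ fixOn ⊤ M from ⟨trivial, fun x hx => swap_apply_of_ne_of_ne
      (by rintro rfl; exact mem_compl.1 ha hx) (by rintro rfl; exact mem_compl.1 hb hx)⟩)
    rw [mem_alternatingGroup, sign_swap hab] at this
    exact absurd this (by decide)
  · exact h3.symm

theorem card_fixOn_dvd (A : Subgroup (Perm α)) (M : Finset α) :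
    Nat.card (fixOn A M) ∣ (Fintype.card α - #M)! := by
  rw [← card_fixOn_top]
  exact Subgroup.card_dvd_of_le fun g hg => ⟨trivial, hg.2⟩

theorem card_fixOn_le_s2 {A : Subgroup (Perm α)} {M : Finset α} (h : IsPGroup 2 (fixOn A M)) :
    Nat.card (fixOn A M) ≤ s2 (Fintype.card α - #M) := by
  obtain ⟨k, hk⟩ := h.exists_card_eq
  rw [hk]
  exact le_s2 (hk ▸ card_fixOn_dvd A M)

theorem two_mul_card_fixOn_le_s2 {A : Subgroup (Perm α)} (hA : A ≤ alternatingGroup α)
    {M : Finset α} (h : IsPGroup 2 (fixOn A M)) (hM : #M + 2 ≤ Fintype.card α) :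
    2 * Nat.card (fixOn A M) ≤ s2 (Fintype.card α - #M) := by
  obtain ⟨k, hk⟩ := h.exists_card_eq
  rw [hk, ← pow_succ']
  apply le_s2
  rw [pow_succ', ← hk, ← two_mul_card_fixOn_alt M hM]
  exact Nat.mul_dvd_mul_left _ (Subgroup.card_dvd_of_le fun g hg => ⟨hA hg.1, hg.2⟩)

theorem card_fixOn_eq_one (A : Subgroup (Perm α)) {M : Finset α} (hM : Fintype.card α ≤ #M + 1) :
    Nat.card (fixOn A M) = 1 := by
  have := card_fixOn_dvd A M
  obtain h | h : Fintype.card α - #M = 0 ∨ Fintype.card α - #M = 1 := by omega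
  all_goals
    rw [h] at this
    exact Nat.dvd_one.1 this

omit [DecidableEq α] in
theorem card_sylow_perm (P : Sylow 2 (Perm α)) : Nat.card P = s2 (Fintype.card α) := by
  rw [P.card_eq_multiplicity, Nat.card_perm, Nat.card_eq_fintype_card]; rfl

theorem two_mul_two_pow_factorization {a n : ℕ} (h : 2 * a = n !) :
    2 * 2 ^ a.factorization 2 = s2 n := by
  have h0 : a ≠ 0 := by rintro rfl; exact factorial_ne_zero n h.symm
  unfold s2
  rw [← h, Nat.factorization_mul (by norm_num) h0, Finsupp.add_apply,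
    Nat.prime_two.factorization_self, pow_add, pow_one]

theorem two_mul_card_sylow_alt (h : 2 ≤ Fintype.card α) (P : Sylow 2 (alternatingGroup α)) :
    2 * Nat.card P = s2 (Fintype.card α) := by
  have : Nontrivial α := Fintype.one_lt_card_iff_nontrivial.1 h
  rw [P.card_eq_multiplicity]
  apply two_mul_two_pow_factorization
  rw [Nat.card_eq_fintype_card, two_mul_card_alternatingGroup, Fintype.card_perm]

/-- Structure of an extremal nilpotent subgroup. -/
structure Ext (E N : Subgroup (Perm α)) (M : Finset α) : Prop where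
  nil : Group.IsNilpotent N
  le : N ≤ E
  three : #M = 3
  pgrp : IsPGroup 2 (fixOn N M)
  card : Nat.card N = 3 * 2 ^ (Nat.card (fixOn E M)).factorization 2
  card_fix : Nat.card (fixOn N M) = 2 ^ (Nat.card (fixOn E M)).factorization 2
  odd : ∀ g ∈ N, Odd (orderOf g) → ∀ x ∉ M, g x = x
  orbit : ∀ x ∈ M, orb N x ⊆ M ∧ ∀ j, #(orb N x) ≠ 2 ^ j

theorem Ext.threeCycle {E N : Subgroup (Perm α)} {M : Finset α} (h : Ext E N M) {c : Perm α}
    (hc : c ∈ N) (h3 : orderOf c = 3) : c.IsThreeCycle ∧ c.support = M := by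
  have h1 : c.support ⊆ M := fun x hx => by
    by_contra e
    exact mem_support.1 hx (h.odd c hc (by rw [h3]; decide) x e)
  obtain ⟨k, hk⟩ := cycleType_prime_order (σ := c) (h3 ▸ Nat.prime_three)
  have h2 := c.sum_cycleType
  rw [hk, h3, Multiset.sum_replicate, smul_eq_mul] at h2
  have h4 := card_le_card h1
  have h5 := h.three
  exact ⟨card_support_eq_three_iff.1 (by omega), eq_of_subset_of_card_le h1 (by omega)⟩

theorem Ext.exists_three {E N : Subgroup (Perm α)} {M : Finset α} (h : Ext E N M) :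
    ∃ c ∈ N, orderOf c = 3 := by
  have := Fact.mk Nat.prime_three
  obtain ⟨c, hc⟩ := exists_prime_orderOf_dvd_card' (G := N) 3 (by rw [h.card]; exact Dvd.intro _ rfl)
  exact ⟨c.1, c.2, by rw [Subgroup.orderOf_coe, hc]⟩

theorem Ext.conj {E N₁ N₂ : Subgroup (Perm α)} {M : Finset α} (h₁ : Ext E N₁ M) (h₂ : Ext E N₂ M) :
    ∃ g ∈ E, N₂ = N₁.map (MulAut.conj g).toMonoidHom := by
  have l1 : fixOn N₁ M ≤ fixOn E M := fun g hg => ⟨h₁.le hg.1, hg.2⟩
  have l2 : fixOn N₂ M ≤ fixOn E M := fun g hg => ⟨h₂.le hg.1, hg.2⟩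
  obtain ⟨g, hg⟩ := MulAction.exists_smul_eq (fixOn E M)
    (Sylow.ofCard ((fixOn N₁ M).subgroupOf (fixOn E M))
      (by rw [Grp.card_subgroupOf_of_le l1, h₁.card_fix]))
    (Sylow.ofCard ((fixOn N₂ M).subgroupOf (fixOn E M))
      (by rw [Grp.card_subgroupOf_of_le l2, h₂.card_fix]))
  have hg' : ∀ u ∈ fixOn N₁ M, g.1 * u * g.1⁻¹ ∈ N₂ := by
    intro u hu
    have : MulAut.conj g • (⟨u, l1 hu⟩ : fixOn E M) ∈ (Sylow.ofCard ((fixOn N₂ M).subgroupOf (fixOn E M))
      (by rw [Grp.card_subgroupOf_of_le l2, h₂.card_fix]) : Sylow 2 (fixOn E M)) := by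
      rw [← hg]
      exact Subgroup.smul_mem_pointwise_smul _ _ _ hu
    exact this.1
  refine ⟨g.1, g.2.1, (Subgroup.eq_of_le_of_card_ge ?_ ?_).symm⟩
  · rintro _ ⟨x, hx, rfl⟩
    obtain ⟨u, v, hu, hv, e, -, ⟨j, hj⟩, ho⟩ := Char.exists_pPart_mul_pPrimePart Nat.prime_two x
    have hu' : u ∈ N₁ := (Subgroup.zpowers_le.2 hx) hu
    have hv' : v ∈ N₁ := (Subgroup.zpowers_le.2 hx) hv
    have ho' := Nat.coprime_two_right.1 ho
    have a1 : u ∈ fixOn N₁ M := by
      refine ⟨hu', fun y hy => apply_eq_of_coprime h₁.nil hu' ?_⟩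
      have b1 := card_le_card (h₁.orbit y hy).1
      have b2 := (h₁.orbit y hy).2 0
      have b3 := (h₁.orbit y hy).2 1
      have b4 := card_orb_pos N₁ y
      have b5 := h₁.three
      rw [hj, show #(orb N₁ y) = 3 by omega]
      exact Nat.Coprime.pow_left _ (by norm_num)
    have a2 : v ∈ fixOn (alternatingGroup α) Mᶜ :=
      ⟨mem_alternatingGroup_of_odd_orderOf ho', fun y hy => h₁.odd v hv' ho' y (mem_compl.1 hy)⟩
    obtain ⟨c, hc, h3⟩ := h₂.exists_three
    have a3 : Subgroup.zpowers c = fixOn (alternatingGroup α) Mᶜ := by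
      have b0 : 3 ≤ Fintype.card α := h₁.three ▸ card_le_univ M
      have b1 := two_mul_card_fixOn_alt Mᶜ (by rw [card_compl, h₁.three]; omega)
      rw [card_compl, h₁.three, show Fintype.card α - (Fintype.card α - 3) = 3 by omega] at b1
      apply Subgroup.eq_of_le_of_card_ge
      · rw [Subgroup.zpowers_le]
        exact ⟨mem_alternatingGroup_of_odd_orderOf (by rw [h3]; decide),
          fun y hy => h₂.odd c hc (by rw [h3]; decide) y (mem_compl.1 hy)⟩
      · rw [Nat.card_zpowers, h3]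
        have : (3 : ℕ)! = 6 := rfl
        omega
    have a4 : v ∈ N₂ := (Subgroup.zpowers_le.2 hc) (a3 ▸ a2)
    have a5 : Commute g.1 v := by
      apply Perm.Disjoint.commute
      intro y
      by_cases hy : y ∈ M
      · exact Or.inl (g.2.2 y hy)
      · exact Or.inr (a2.2 y (mem_compl.2 hy))
    have : (MulAut.conj g.1).toMonoidHom x = (g.1 * u * g.1⁻¹) * v := by
      rw [← e, MulEquiv.coe_toMonoidHom, MulAut.conj_apply, mul_assoc (g.1 * u), a5.inv_left.eq]
      group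
    rw [this]
    exact N₂.mul_mem (hg' u a1) a4
  · rw [Subgroup.card_map_of_injective (MulAut.conj g.1).injective, h₁.card, h₂.card]

/-- Conjugacy of extremal nilpotent subgroups. -/
theorem conj_of_ext {E N₁ N₂ : Subgroup (Perm α)} {k : ℕ}
    (hE : ∀ N ≤ E, Group.IsNilpotent N → Nat.card N = k → ∃ M, Ext E N M)
    (h3 : ∀ c d : Perm α, c.IsThreeCycle → d.IsThreeCycle → ∃ g ∈ E, g * c * g⁻¹ = d)
    (l₁ : N₁ ≤ E) (l₂ : N₂ ≤ E) (n₁ : Group.IsNilpotent N₁) (n₂ : Group.IsNilpotent N₂)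
    (c₁ : Nat.card N₁ = k) (c₂ : Nat.card N₂ = k) :
    ∃ g ∈ E, N₂ = N₁.map (MulAut.conj g).toMonoidHom := by
  obtain ⟨M₁, h₁⟩ := hE N₁ l₁ n₁ c₁
  obtain ⟨M₂, h₂⟩ := hE N₂ l₂ n₂ c₂
  obtain ⟨c, hc, oc⟩ := h₁.exists_three
  obtain ⟨d, hd, od⟩ := h₂.exists_three
  obtain ⟨g, hg, e⟩ := h3 c d (h₁.threeCycle hc oc).1 (h₂.threeCycle hd od).1
  obtain ⟨M, h⟩ := hE (N₁.map (MulAut.conj g).toMonoidHom) (by
      rintro _ ⟨x, hx, rfl⟩
      exact E.mul_mem (E.mul_mem hg (l₁ hx)) (E.inv_mem hg))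
    (Group.nilpotent_of_mulEquiv (N₁.equivMapOfInjective _ (MulAut.conj g).injective))
    (by rw [Subgroup.card_map_of_injective (MulAut.conj g).injective, c₁])
  have : M = M₂ := ((h.threeCycle ⟨c, hc, e⟩ od).2.symm.trans (h₂.threeCycle hd od).2)
  subst this
  obtain ⟨k, hk, e2⟩ := h.conj h₂
  refine ⟨k * g, E.mul_mem hk hg, ?_⟩
  rw [e2, Subgroup.map_map]
  congr 1

end Cfsg.Agent.KSG.NilSym
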