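import Mathlib
import Cfsg.Agent.KSG.SL2Pres1

/-!
Abstract commutation lemmas for the Borel subgroup of `SU₃(q)`.
-/

set_option autoImplicit false

namespace Cfsg.Agent.KSG.Pres

open Polynomial Subgroup

variable {Γ : Type*} [Group Γ]

theorem map_cj' {Γ' : Type*} [Group Γ'] (φ : Γ →* Γ') (u h : Γ) (i : ℕ) :
    φ (cj u h i) = cj (φ u) (φ h) i := by simp [cj]

theorem map_Nn {Γ' : Type*} [Group Γ'] (φ : Γ →* Γ') (u h : Γ) :
    (Nn u h).map φ = Nn (φ u) (φ h) := by
  rw [Nn, MonoidHom.map_closure, ← Set.range_comp]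
  exact congrArg (fun f => Subgroup.closure (Set.range f)) (funext fun i => map_cj' φ u h i)

theorem cj_mem (u h : Γ) (i : ℕ) : cj u h i ∈ Nn u h := subset_closure ⟨i, rfl⟩

theorem cj_mem_img {u h : Γ} {S : Set ℕ} {i : ℕ} (hi : i ∈ S) :
    cj u h i ∈ closure (cj u h '' S) := subset_closure ⟨i, hi, rfl⟩

theorem pow_conj_mem_Nn {u h g : Γ} (hg : g ∈ Nn u h) (i : ℕ) : h ^ i * g * (h ^ i)⁻¹ ∈ Nn u h := by
  induction i with
  | zero => simpa using hg
  | succ i ih => convert conj_mem_Nn ih using 1; rw [pow_succ']; group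

theorem commute_of_closure {S T : Set Γ} (H : ∀ a ∈ S, ∀ b ∈ T, Commute a b) {a b : Γ}
    (ha : a ∈ closure S) (hb : b ∈ closure T) : Commute a b := by
  induction ha using closure_induction with
  | mem x hx =>
    induction hb using closure_induction with
    | mem y hy => exact H x hx y hy
    | one => exact Commute.one_right _
    | mul _ _ _ _ h1 h2 => exact h1.mul_right h2
    | inv _ _ h => exact h.inv_right
  | one => exact Commute.one_left _
  | mul _ _ _ _ h1 h2 => exact h1.mul_left h2
  | inv _ _ h => exact h.inv_left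

/-- Baumslag's trick with a relation of degree `r`. -/
theorem baumslag' {u h m : Γ} {k r : ℕ} (hr : 1 ≤ r) (h1 : ∀ i ≤ r, Commute u (cj u h i))
    (hm : m ∈ closure (cj u h '' Set.Ioo 0 r)) (hk : cj u h k = u * m * cj u h r) (i j : ℕ) :
    Commute (cj u h i) (cj u h j) := by
  have key : ∀ n, ∀ i ≤ n + r, Commute u (cj u h i) := by
    intro n
    induction n with
    | zero => simpa using h1
    | succ n ih =>
      have c : ∀ a b, a ≤ b + (n + r) → b ≤ a + (n + r) → Commute (cj u h a) (cj u h b) := by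
        intro a b hab hba
        rcases le_total a b with h | h
        · obtain ⟨d, rfl⟩ := Nat.exists_eq_add_of_le h
          exact cj_shift (ih d (by omega)) a
        · obtain ⟨d, rfl⟩ := Nat.exists_eq_add_of_le h
          exact (cj_shift (ih d (by omega)) b).symm
      intro i hi
      rcases Nat.lt_or_ge i (n + 1 + r) with hi' | hi'
      · exact ih i (by omega)
      obtain rfl : i = n + 1 + r := by omega
      have hm' : h ^ (n + 1) * m * (h ^ (n + 1))⁻¹ ∈
          closure (cj u h '' Set.Ioo (n + 1) (n + 1 + r)) := by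
        refine (closure_le (K := comap (MulAut.conj (h ^ (n + 1))).toMonoidHom
          (closure (cj u h '' Set.Ioo (n + 1) (n + 1 + r))))).2 ?_ hm
        rintro _ ⟨a, ha, rfl⟩
        exact Subgroup.subset_closure ⟨n + 1 + a,
          ⟨by have := ha.1; omega, by have := ha.2; omega⟩, cj_add u h _ a⟩
      set m' := h ^ (n + 1) * m * (h ^ (n + 1))⁻¹ with hm''
      have e1 : cj u h (k + (n + 1)) = cj u h (n + 1) * m' * cj u h (n + 1 + r) := by
        rw [add_comm k, cj_add, hk, cj_add u h (n + 1) r, hm'', cj, cj]; group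
      have e2 := cj_shift (ih (n + 1) (by omega)) k
      rw [e1, hk] at e2
      have e3 : Commute (m * cj u h r) (cj u h (n + 1) * m' * cj u h (n + 1 + r)) := by
        refine commute_of_closure (S := cj u h '' Set.Icc 1 r)
          (T := cj u h '' Set.Icc (n + 1) (n + 1 + r)) ?_ (mul_mem (Subgroup.closure_mono
            (Set.image_mono fun a ha => Set.mem_Icc.2 ⟨ha.1, ha.2.le⟩) hm) (cj_mem_img ⟨hr, le_rfl⟩))
          (mul_mem (mul_mem (cj_mem_img ⟨le_rfl, by omega⟩) (Subgroup.closure_mono
            (Set.image_mono Set.Ioo_subset_Icc_self) hm'))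
            (cj_mem_img ⟨by omega, le_rfl⟩))
        rintro _ ⟨a, ha, rfl⟩ _ ⟨b, hb, rfl⟩
        exact c a b (by have := ha.2; omega) (by have := ha.1; have := hb.2; omega)
      have e4 := e2.mul_left e3.inv_left
      rw [mul_assoc u, mul_inv_cancel_right] at e4
      have e5 : Commute u (cj u h (n + 1) * m') := (ih _ (by omega)).mul_right
        (commute_of_closure (S := {u}) (by
          rintro _ rfl _ ⟨b, hb, rfl⟩
          exact ih b (by have := hb.2; omega)) (subset_closure rfl) hm')
      have := e5.inv_right.mul_right e4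
      rwa [inv_mul_cancel_left] at this
  rcases le_total i j with h | h
  · obtain ⟨d, rfl⟩ := Nat.exists_eq_add_of_le h
    exact cj_shift (key d d (by omega)) i
  · obtain ⟨d, rfl⟩ := Nat.exists_eq_add_of_le h
    exact (cj_shift (key d d (by omega)) j).symm

theorem baumslag_one {u h : Γ} {k : ℕ} (h1 : Commute u (cj u h 1))
    (hk : cj u h k = u * cj u h 1) (i j : ℕ) : Commute (cj u h i) (cj u h j) :=
  baumslag' (m := 1) le_rfl (fun i hi => by
    interval_cases i
    · rw [cj_zero]
    · exact h1) (one_mem _) (by rw [hk, mul_one]) i j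

theorem baumslag_three {u h : Γ} {k : ℕ} (h1 : Commute u (cj u h 1)) (h2 : Commute u (cj u h 2))
    (h3 : Commute u (cj u h 3)) (hk : cj u h k = u * (cj u h 1 ^ 3 * cj u h 2 ^ 3) * cj u h 3)
    (i j : ℕ) : Commute (cj u h i) (cj u h j) :=
  baumslag' (by norm_num) (fun i hi => by
    interval_cases i
    · rw [cj_zero]
    exacts [h1, h2, h3]) (mul_mem (pow_mem (cj_mem_img (by simp)) _)
      (pow_mem (cj_mem_img (by simp)) _)) hk i j

theorem Nn_eq_zpowers {u h : Γ} (hk : u * cj u h 1 = 1) (i : ℕ) : cj u h i ∈ zpowers u := by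
  induction i with
  | zero => rw [cj_zero]; exact mem_zpowers u
  | succ i ih =>
    obtain ⟨n, hn⟩ := ih
    have : h * u * h⁻¹ = u⁻¹ := by simpa [cj] using eq_inv_of_mul_eq_one_right hk
    rw [cj_succ, ← hn, ← conj_zpow, this]
    exact zpow_mem (inv_mem (mem_zpowers u)) _

/-- Normal form in the cyclic module generated by `u`. -/
theorem exists_horner {F : Type*} [Field F] [Finite F] (p : ℕ) [Fact p.Prime] [Algebra (ZMod p) F]
    {η : F} {u h : Γ} (H : ∀ i j, Commute (cj u h i) (cj u h j)) (hu : u ^ p = 1) {M : List ℕ}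
    (hM : hpoly (ZMod p) M = minpoly (ZMod p) η) (hM1 : horner u h M = 1) {w : Γ}
    (hw : w ∈ Nn u h) : ∃ L, w = horner u h L ∧ (hval η L = 0 → w = 1) := by
  have hi : IsIntegral (ZMod p) η := Algebra.IsIntegral.isIntegral η
  let η' := IntermediateField.AdjoinSimple.gen (ZMod p) η
  have hη : ∀ c, ∃ f : (ZMod p)[X], aeval η' f = c := fun c =>
    let ⟨f, hf⟩ := (IntermediateField.adjoin.powerBasis hi).exists_eq_aeval' c
    ⟨f, hf.symm⟩
  obtain ⟨x, h1, h2, h3⟩ := exists_root_map p hη H hu
    (hM.trans (IntermediateField.minpoly_gen _ η).symm) hM1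
  obtain ⟨c, rfl⟩ : ∃ c, w = x c := by
    induction hw using closure_induction with
    | mem y hy =>
      obtain ⟨i, rfl⟩ := hy
      induction i with
      | zero => exact ⟨_, by rw [h3 [1]]; simp [horner, cj]⟩
      | succ i ih => exact ih.elim fun c hc => ⟨_, by rw [cj_succ, hc, h2]⟩
    | one => exact ⟨0, (x_zero h1).symm⟩
    | mul _ _ _ _ a b =>
      obtain ⟨a, rfl⟩ := a
      obtain ⟨b, rfl⟩ := b
      exact ⟨_, (h1 a b).symm⟩
    | inv _ _ a =>
      obtain ⟨a, rfl⟩ := a
      exact ⟨_, (x_neg h1 a).symm⟩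
  obtain ⟨f, rfl⟩ := hη c
  obtain ⟨L, rfl⟩ := hpoly_surjective p f
  refine ⟨L, by rw [aeval_hpoly, h3], fun h0 => ?_⟩
  have : aeval η' (hpoly (ZMod p) L) = 0 := Subtype.ext (by
    rw [← aeval_hpoly (ZMod p)] at h0
    exact (IntermediateField.AdjoinSimple.coe_aeval_gen_apply _ η _).trans h0)
  rw [this, x_zero h1]

/-- A two-variable version of Baumslag's trick. -/
theorem cent_Nn {u h z : Γ} {k m : ℕ} (H : ∀ i j, Commute (cj z h i) (cj z h j))
    (hk : cj z h k = z * cj z h 1) (per : cj z h m = z) (c : ∀ i < 4, Commute u (cj z h i))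
    (hu : (u * cj u h (m + 2))⁻¹ * cj u h (k * (m + 2)) ∈ Nn z h) (i : ℕ) :
    Commute u (cj z h i) := by
  have p1 : ∀ j i, cj z h (j * m + i) = cj z h i := fun j i => by
    induction j with
    | zero => simp
    | succ j ih => rw [add_mul, one_mul, add_right_comm, cj_add, per, ← ih, cj]
  have p2 : ∀ i, cj z h (k + i) = cj z h i * cj z h (i + 1) := fun i => by
    rw [cj_add, Nn_baum H hk (cj_mem z h i), cj_succ]
  have key : ∀ n, ∀ i < n + 4, Commute u (cj z h i) := by
    intro n
    induction n with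
    | zero => simpa using c
    | succ n ih =>
      intro i hi
      rcases Nat.lt_or_ge i (n + 4) with hi' | hi'
      · exact ih i hi'
      obtain rfl : i = n + 4 := by omega
      have a1 : ∀ j < n + 4, Commute (cj u h (m + 2)) (cj z h (j + 2)) := fun j hj => by
        have := commute_conj (h ^ (m + 2)) (ih j hj)
        rw [← cj_add] at this
        rwa [← p1 1 (j + 2), one_mul, show m + (j + 2) = m + 2 + j by ring]
      have a2 : Commute (cj u h (k * (m + 2))) (cj z h (n + 2) * cj z h (n + 3) *
          (cj z h (n + 3) * cj z h (n + 4))) := by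
        have := commute_conj (h ^ (k * (m + 2))) (ih (n + 2) (by omega))
        rwa [← cj_add, show k * (m + 2) + (n + 2) = k * m + (k + (k + (n + 2))) by ring, p1,
          p2, add_assoc k, p2, p2] at this
      have a3 : Commute (cj u h (m + 2)) (cj z h (n + 2) * cj z h (n + 3) *
          (cj z h (n + 3) * cj z h (n + 4))) :=
        ((a1 n (by omega)).mul_right (a1 (n + 1) (by omega))).mul_right
          ((a1 (n + 1) (by omega)).mul_right (a1 (n + 2) (by omega)))
      have a4 := (a2.mul_left (Nn_comm H (inv_mem hu) (mul_mem (mul_mem (cj_mem _ _ _)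
        (cj_mem _ _ _)) (mul_mem (cj_mem _ _ _) (cj_mem _ _ _))))).mul_left a3.inv_left
      rw [show cj u h (k * (m + 2)) * ((u * cj u h (m + 2))⁻¹ * cj u h (k * (m + 2)))⁻¹ *
        (cj u h (m + 2))⁻¹ = u by group] at a4
      have := (ih (n + 3) (by omega)).inv_right.mul_right
        (((ih (n + 2) (by omega)).mul_right (ih (n + 3) (by omega))).inv_right.mul_right a4)
      rwa [inv_mul_cancel_left, inv_mul_cancel_left] at this
  exact key i i (by omega)

end Cfsg.Agent.KSG.Pres
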