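import Mathlib
import Cfsg.Agent.Class.U.Frame3
import Cfsg.Agent.KSG.PresU3a

/-!
The Borel subgroup and the Bruhat decomposition of `SU₃(q)` in terms of generators `u, d, t`.
-/

set_option autoImplicit false
set_option linter.unusedSectionVars false

namespace Cfsg.Agent.KSG.U3

open Cfsg Cfsg.Agent.Class.U Cfsg.Agent.KSG.Pres Polynomial

variable {F : Type*} [Field F] {q : ℕ} [hU : UF F q]

local notation "σ" => conj F q
local notation "𝐡" => hermForm 3 F q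

/-- Diagonal elements. -/
def Dg (e f : Fin 3 → F) (l : F) (d : SU 3 F q) : Prop := d • e = l • e ∧ d • f = (σ l)⁻¹ • f

omit hU in
theorem sg_congr {e n : Fin 3 → F} {c a c' a' : F} {g : SU 3 F q} (hg : IsSiegel e (c • n) a g)
    (h1 : c = c') (h2 : a = a') : IsSiegel e (c' • n) a' g := h1 ▸ h2 ▸ hg

section frame

variable {e n f : Fin 3 → F} (h : Fr q e n f)
include h

theorem sg_one : IsSiegel e ((0 : F) • n) 0 (1 : SU 3 F q) := by
  rw [zero_smul]; exact isSiegel_one e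

theorem sg_cond {c a : F} {g : SU 3 F q} (hg : IsSiegel e (c • n) a g) :
    a + σ a + c * σ c = 0 := by
  have := hg.cond h.e_ne h.ee (by rw [herm_smul_left, h.ne, mul_zero])
  rwa [herm_smul_left, herm_smul_right, h.nn, mul_one] at this

theorem sg_mul {c a c' a' : F} {g k : SU 3 F q} (hg : IsSiegel e (c • n) a g)
    (hk : IsSiegel e (c' • n) a' k) : IsSiegel e ((c + c') • n) (a + a' - c' * σ c) (g * k) := by
  have := hg.mul hk h.ee (by rw [herm_smul_left, h.ne, mul_zero])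
    (by rw [herm_smul_left, h.ne, mul_zero])
  rwa [← add_smul, herm_smul_left, herm_smul_right, h.nn, mul_one] at this

theorem sg_inv {c a : F} {g : SU 3 F q} (hg : IsSiegel e (c • n) a g) :
    IsSiegel e ((-c) • n) (σ a) g⁻¹ := by
  have := hg.inv h.ee (by rw [herm_smul_left, h.ne, mul_zero])
  rw [← neg_smul, herm_smul_left, herm_smul_right, h.nn, mul_one] at this
  convert this using 1
  linear_combination sg_cond h hg

theorem sg_inj {c a c' a' : F} {g : SU 3 F q} (hg : IsSiegel e (c • n) a g)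
    (hk : IsSiegel e (c' • n) a' g) : c = c' ∧ a = a' :=
  let ⟨h1, h2, _⟩ := h.comb_inj (c := 1) (c' := 1)
    (by simpa using (h.unip_f hg).symm.trans (h.unip_f hk))
  ⟨h2, h1⟩

theorem sg_conj {l c a : F} {g d : SU 3 F q} (hd : Dg e f l d) (hg : IsSiegel e (c • n) a g) :
    IsSiegel e ((σ l ^ 2 / l * c) • n) (l * σ l * a) (d * g * d⁻¹) := by
  have h1 := hg.conj d
  rw [hd.1, SU_smul_comm, (h.n_of_diag hd.1 hd.2).2] at h1
  convert h1.of_smul using 1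
  rw [smul_smul, smul_smul]; congr 1; ring

theorem sg_pow {c a : F} {g : SU 3 F q} (hg : IsSiegel e (c • n) a g) (m : ℕ) :
    ∃ a', IsSiegel e ((m * c) • n) a' (g ^ m) ∧ (c = 0 → a' = m * a) := by
  induction m with
  | zero => exact ⟨0, by simpa using sg_one h, by simp⟩
  | succ m ih =>
    obtain ⟨a', h1, h2⟩ := ih
    refine ⟨_, by convert sg_mul h h1 hg using 2; push_cast; ring; rw [pow_succ], ?_⟩
    rintro rfl
    rw [h2 rfl]; push_cast; ring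

theorem sg_cj {l c a : F} {g d : SU 3 F q} (hd : Dg e f l d) (hg : IsSiegel e (c • n) a g)
    (i : ℕ) : IsSiegel e (((σ l ^ 2 / l) ^ i * c) • n) ((l * σ l) ^ i * a) (cj g d i) := by
  induction i with
  | zero => simpa [cj] using hg
  | succ i ih => exact cj_succ g d i ▸ sg_congr (sg_conj h hd ih) (by ring) (by ring)

theorem sg_horner {l c a : F} {g d : SU 3 F q} (hd : Dg e f l d) (hg : IsSiegel e (c • n) a g)
    (L : List ℕ) : ∃ a', IsSiegel e ((hval (σ l ^ 2 / l) L * c) • n) a' (horner g d L) ∧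
      (c = 0 → a' = hval (l * σ l) L * a) := by
  induction L with
  | nil => exact ⟨0, by simpa [hval, horner] using sg_one h, by simp [hval]⟩
  | cons m L ih =>
    obtain ⟨a', h1, h2⟩ := ih
    obtain ⟨a'', h3, h4⟩ := sg_pow h hg m
    refine ⟨_, sg_congr (sg_mul h h3 (sg_conj h hd h1)) (by rw [hval]; ring) rfl, ?_⟩
    rintro rfl
    rw [h2 rfl, h4 rfl, hval]; simp; ring

theorem sg_div {c a a' : F} {g k : SU 3 F q} (hg : IsSiegel e (c • n) a g)
    (hk : IsSiegel e (c • n) a' k) : ∃ s, IsSiegel e ((0 : F) • n) s (g⁻¹ * k) :=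
  ⟨_, by convert sg_mul h (sg_inv h hg) hk using 2; ring⟩

theorem sg_comm {c a s : F} {g z : SU 3 F q} (hg : IsSiegel e (c • n) a g)
    (hz : IsSiegel e ((0 : F) • n) s z) : Commute g z :=
  (sg_mul h hg hz).unique (by convert sg_mul h hz hg using 2 <;> simp [add_comm])

theorem sg_cmt {c a c' a' : F} {g k : SU 3 F q} (hg : IsSiegel e (c • n) a g)
    (hk : IsSiegel e (c' • n) a' k) :
    IsSiegel e ((0 : F) • n) (c * σ c' - c' * σ c) (g * k * g⁻¹ * k⁻¹) := by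
  refine sg_congr (sg_mul h (sg_mul h (sg_mul h hg hk) (sg_inv h hg)) (sg_inv h hk)) (by ring) ?_
  simp only [map_add, map_neg]
  linear_combination sg_cond h hg + sg_cond h hk

omit h in
theorem Dg.mul {l l' : F} {d d' : SU 3 F q} (hd : Dg e f l d) (hd' : Dg e f l' d') :
    Dg e f (l * l') (d * d') :=
  ⟨by rw [mul_smul, hd'.1, SU_smul_comm, hd.1, smul_smul, mul_comm],
    by rw [mul_smul, hd'.2, SU_smul_comm, hd.2, smul_smul, map_mul, mul_inv, mul_comm]⟩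

omit h in
theorem Dg.pow {l : F} {d : SU 3 F q} (hd : Dg e f l d) (i : ℕ) : Dg e f (l ^ i) (d ^ i) := by
  induction i with
  | zero => simp [Dg]
  | succ i ih => rw [pow_succ, pow_succ]; exact ih.mul hd

theorem Dg.unique {l : F} {d d' : SU 3 F q} (hd : Dg e f l d) (hd' : Dg e f l d') : d = d' :=
  inv_mul_eq_one.1 (h.eq_one (by rw [mul_smul, hd'.1, ← hd.1, inv_smul_smul])
    (by rw [mul_smul, hd'.2, ← hd.2, inv_smul_smul]))

theorem dg_of {l l' : F} {d : SU 3 F q} (h1 : d • e = l • e) (h2 : d • f = l' • f) :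
    Dg e f l d := by
  have h3 := congrArg σ (h.n_of_diag h1 h2).1
  rw [map_mul, conj_conj, map_one] at h3
  exact ⟨h1, by rw [h2, eq_inv_of_mul_eq_one_right h3]⟩

theorem exists_weyl : ∃ t : SU 3 F q, t • e = f ∧ t • f = e :=
  exists_SU_pair le_rfl h.ee h.ff h.ff h.ee (h.ef.trans h.fe.symm) (h.ef ▸ one_ne_zero)

variable {t : SU 3 F q} (te : t • e = f) (tf : t • f = e)
include te tf

theorem weyl_sq : t * t = 1 := h.eq_one (by rw [mul_smul, te, tf]) (by rw [mul_smul, tf, te])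

theorem weyl_inv : t⁻¹ = t := inv_eq_of_mul_eq_one_right (weyl_sq h te tf)

theorem weyl_conj {l : F} {d : SU 3 F q} (hd : Dg e f l d) : Dg e f (σ l)⁻¹ (t * d * t) :=
  ⟨by rw [mul_smul, mul_smul, te, hd.2, SU_smul_comm, tf],
    by rw [mul_smul, mul_smul, tf, hd.1, SU_smul_comm, te, map_inv₀, conj_conj, inv_inv]⟩

theorem weyl_comb : ∃ κ : F, κ * σ κ = 1 ∧ ∀ a c : F,
    t • (a • e + c • n + f) = (1 : F) • e + (c * κ) • n + a • f := by
  obtain ⟨κ, h1, h2⟩ := h.exists_n (g := t) (by rw [te, h.fn]) (by rw [tf, h.en])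
  refine ⟨κ, h1, fun a c => ?_⟩
  simp only [smul_add, SU_smul_comm, te, tf, h2]
  module

theorem bruhat (g : SU 3 F q) : (∃ l : F, g • e = l • e) ∨ ∃ (c a l : F) (x b : SU 3 F q),
    IsSiegel e (c • n) a x ∧ b • e = l • e ∧ g = x * t * b := by
  by_cases h0 : 𝐡 (g • e) e = 0
  · exact Or.inl (iso_par h.e_ne h.ee (by rw [SU_herm, h.ee]) h0)
  obtain ⟨a, x, hx, h1, h2⟩ := exists_siegel_move (x := 𝐡 (g • e) e • f) (y := g • e) h.ee
    (by rw [herm_smul_left, h.fe, mul_one]) (by rwa [herm_smul_left, h.fe, mul_one])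
    (by rw [SU_herm, herm_smul_left, herm_smul_right, h.ee, h.ff, mul_zero, mul_zero])
  obtain ⟨c, a, hx⟩ := h.isSiegel_of_fix h2
  refine Or.inr ⟨c, a, 𝐡 (g • e) e, x, t * x⁻¹ * g, hx, ?_, ?_⟩
  · rw [mul_smul, mul_smul]
    nth_rewrite 1 [← h1]
    rw [inv_smul_smul, SU_smul_comm, tf]
  · calc g = x * (t * t) * x⁻¹ * g := by rw [weyl_sq h te tf]; group
      _ = _ := by group

/-- The invariant of the third side of a triangle. -/
theorem triangle {c a s l₁ l₂ l₃ : F} {x z b₁ b₂ b₃ b₄ : SU 3 F q} (hx : IsSiegel e (c • n) a x)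
    (hz : IsSiegel e ((0 : F) • n) s z) (h₁ : b₁ • e = l₁ • e) (h₂ : b₂ • e = l₂ • e)
    (h₃ : b₄ • e = l₃ • e) (e₁ : t * x * t = b₁ * t * b₂) (e₂ : t * z * t = b₃ * t * b₄) :
    ∃ l : F, l ≠ 0 ∧ 𝐡 ((b₂ * b₃) • f) f * (l * σ l * a * s) = (a + s) * 𝐡 ((b₂ * b₃) • f) e := by
  obtain ⟨κ, k1, k2⟩ := weyl_comb h te tf
  have n2 := eigen_ne_zero h.e_ne h₂
  have ti := weyl_inv h te tf
  have a1 : b₂ * b₃ = t * b₁⁻¹ * (t * (x * z) * t) * b₄⁻¹ * t := by
    calc b₂ * b₃ = t⁻¹ * b₁⁻¹ * ((b₁ * t * b₂) * (b₃ * t * b₄)) * b₄⁻¹ * t⁻¹ := by group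
      _ = t⁻¹ * b₁⁻¹ * (t * x * (t * t) * z * t) * b₄⁻¹ * t⁻¹ := by rw [← e₁, ← e₂]; group
      _ = _ := by rw [weyl_sq h te tf, ti]; group
  have a2 : b₁ • f = l₂⁻¹ • ((1 : F) • e + (c * κ) • n + a • f) := by
    rw [show b₁ = t * x * t * b₂⁻¹ * t by
      rw [e₁, mul_inv_cancel_right, mul_assoc, weyl_sq h te tf, mul_one]]
    simp only [mul_smul, tf, te, inv_smul_of_eigen n2 h₂, SU_smul_comm, h.unip_f hx, k2]
  have a3 : (b₂ * b₃) • f = l₃⁻¹ • t • b₁⁻¹ • ((1 : F) • e + (c * κ) • n + (a + s) • f) := by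
    have := h.unip_f (sg_mul h hx hz)
    rw [add_zero, zero_mul, sub_zero] at this
    rw [a1]
    simp only [mul_smul _ _ f, mul_smul t, mul_smul _ b₁⁻¹, tf, te, mul_smul _ _ e,
      inv_smul_of_eigen (eigen_ne_zero h.e_ne h₃) h₃, SU_smul_comm, mul_smul _ t]
    rw [← mul_smul x, this, k2]
  have a4 := (h.smul b₁).ef
  rw [h₁, a2, herm_smul_left, herm_smul_right, ← herm_conj, h.comb_e] at a4
  have a5 : ∀ v, 𝐡 (t • b₁⁻¹ • v) f = 𝐡 v (b₁ • e) := fun v => by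
    rw [← te, SU_herm, ← SU_herm b₁, smul_inv_smul]
  have a6 : ∀ v, 𝐡 (t • b₁⁻¹ • v) e = 𝐡 v (b₁ • f) := fun v => by
    nth_rewrite 1 [← tf]; rw [SU_herm, ← SU_herm b₁, smul_inv_smul]
  have a7 := congrArg σ a4
  simp only [map_mul, conj_conj, map_one] at a7
  refine ⟨l₂⁻¹, inv_ne_zero n2, ?_⟩
  rw [a3, herm_smul_left, herm_smul_left, a5, a6, h₁, a2, herm_smul_right, herm_smul_right,
    h.comb_e, h.herm_comb, map_mul, map_one]
  linear_combination (l₃⁻¹ * (a + s) * σ l₂⁻¹ * s) * a7 -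
    (l₃⁻¹ * (a + s) * σ l₂⁻¹ * c * σ c) * k1 - (l₃⁻¹ * (a + s) * σ l₂⁻¹) * sg_cond h hx

end frame

section field

variable {ζ : Fˣ} (hζ : ∀ a : Fˣ, a ∈ Submonoid.powers ζ)
include hζ

theorem exists_pow {c : F} (hc : c ≠ 0) : ∃ i : ℕ, (ζ : F) ^ i = c := by
  obtain ⟨n, hn⟩ := hζ (Units.mk0 c hc)
  exact ⟨n, by simpa using congrArg Units.val hn⟩

theorem pow_eq_one_iff {k : ℕ} : (ζ : F) ^ k = 1 ↔ (q + 1) * (q - 1) ∣ k := by
  rw [← card_units F q, ← orderOf_eq_card_of_forall_mem_powers hζ, orderOf_dvd_iff_pow_eq_one,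
    Units.ext_iff, Units.val_pow_eq_pow_val, Units.val_one]

theorem exists_norm_pow {c : F} (hc : c ≠ 0) (h : σ c = c) : ∃ i : ℕ, ((ζ : F) * σ ζ) ^ i = c := by
  obtain ⟨x, rfl⟩ := exists_norm_eq h
  obtain ⟨i, rfl⟩ := exists_pow hζ (left_ne_zero_of_mul hc)
  exact ⟨i, by rw [map_pow, mul_pow]⟩

omit hζ in
theorem mu_pow : (σ ζ ^ 2 / ζ : F) ^ (2 * q + 1) = (ζ : F) ^ 3 := by
  have h1 : σ (ζ : F) ≠ 0 := conj_ne_zero.2 ζ.ne_zero
  rw [pow_succ, pow_mul, ← conj_apply, map_pow, map_div₀, map_pow, conj_conj]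
  field_simp

theorem conj_mu_ne (hq : 3 ≤ q) : σ (σ ζ ^ 2 / ζ : F) ≠ σ ζ ^ 2 / ζ := fun h => by
  have h1 : σ ((ζ : F) ^ 3) = ζ ^ 3 := by rw [← mu_pow (q := q), map_pow, h]
  rw [conj_eq_self_iff (pow_ne_zero _ ζ.ne_zero), ← pow_mul, pow_eq_one_iff (q := q) hζ] at h1
  have := Nat.le_of_dvd three_pos (Nat.dvd_of_mul_dvd_mul_right (by omega) h1)
  omega

theorem conj_gen_ne : σ (ζ : F) ≠ ζ := fun h => by
  obtain ⟨x, hx⟩ := exists_conj_ne F q
  obtain ⟨i, rfl⟩ := exists_pow hζ (c := x) (by rintro rfl; simp at hx)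
  exact hx (by rw [map_pow, h])

theorem exists_mu_pow {c : F} (hc : c ≠ 0) :
    ∃ i < 3, ∃ m : ℕ, c = (σ ζ ^ 2 / ζ : F) ^ m * ζ ^ i := by
  obtain ⟨j, rfl⟩ := exists_pow hζ hc
  exact ⟨j % 3, Nat.mod_lt _ three_pos, (2 * q + 1) * (j / 3), by
    rw [pow_mul, mu_pow, ← pow_mul, ← pow_add, Nat.div_add_mod]⟩

theorem hval_mu_surj (hq : 3 ≤ q) (c : F) : ∃ L, hval (σ ζ ^ 2 / ζ : F) L = c := by
  obtain ⟨p, k, hp, hc, -⟩ := exists_prime_pow F q
  have := Fact.mk hp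
  have := hU.finite
  let _ := ZMod.algebra F p
  set μ : F := σ ζ ^ 2 / ζ with hμ
  let A := (aeval (R := ZMod p) μ).range
  have hA : μ ∈ A := ⟨X, aeval_X μ⟩
  have h3 : ∀ x : F, x ^ 3 ∈ A := fun x => by
    by_cases hx : x = 0
    · simp [hx]
    obtain ⟨i, rfl⟩ := exists_pow hζ hx
    rw [← pow_mul, mul_comm, pow_mul, ← mu_pow (q := q)]
    exact pow_mem (pow_mem hA _) _
  have hd : ∀ b ∈ A, b ≠ 0 → ∀ y, b * y ∈ A → y ∈ A := fun b hb b0 y hy => by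
    obtain ⟨i, rfl⟩ := exists_pow hζ b0
    obtain ⟨N, hN⟩ : ∃ N, (q + 1) * (q - 1) = N + 1 :=
      Nat.exists_eq_add_one_of_ne_zero (Nat.mul_ne_zero (by omega) (by omega))
    have := mul_mem (pow_mem hb N) hy
    rwa [← mul_assoc, ← pow_succ, ← pow_mul, (pow_eq_one_iff (q := q) hζ).2 ⟨i, by
      rw [hN, mul_comm]⟩, one_mul] at this
  have hc : c ∈ A := by
    by_cases h : (3 : F) = 0
    · obtain ⟨y, rfl⟩ := Finite.surjective_of_injective (f := fun x : F => x ^ 3) (fun x y e => by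
        have : (x - y) ^ 3 = 0 := by linear_combination e + (x * y ^ 2 - x ^ 2 * y) * h
        exact sub_eq_zero.1 (pow_eq_zero_iff three_ne_zero |>.1 this)) c
      exact h3 y
    have key : ∀ a ∈ A, a ≠ 0 → c ^ 2 + a * c ∈ A := fun a ha a0 =>
      hd (3 * a) (mul_mem (by exact_mod_cast natCast_mem A 3) ha) (mul_ne_zero h a0) _ (by
        convert sub_mem (sub_mem (h3 (c + a)) (h3 c)) (h3 a) using 1; ring)
    have h1 := conj_mu_ne hζ hq
    refine hd (μ - 1) (sub_mem hA (one_mem _)) (fun h0 => h1 ?_) c ?_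
    · rw [← hμ, sub_eq_zero.1 h0, map_one]
    · convert sub_mem (key μ hA fun h0 => h1 (by rw [← hμ, h0, map_zero]))
        (key 1 (one_mem _) one_ne_zero) using 1
      ring
  obtain ⟨g, hg⟩ := hc
  obtain ⟨L, rfl⟩ := hpoly_surjective p g
  exact ⟨L, by rw [← hg, ← aeval_hpoly (ZMod p)]; rfl⟩

end field

variable {e n f : Fin 3 → F} (h : Fr q e n f) {ζ : Fˣ} (hζ : ∀ a : Fˣ, a ∈ Submonoid.powers ζ)
  {d : SU 3 F q} (hd : Dg e f (ζ : F) d)
include h hζ hd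

theorem borel_decomp {g : SU 3 F q} {l : F} (hg : g • e = l • e) :
    ∃ (i : ℕ) (c a : F) (x : SU 3 F q), IsSiegel e (c • n) a x ∧ g = x * d ^ i := by
  have h0 := eigen_ne_zero h.e_ne hg
  obtain ⟨i, rfl⟩ := exists_pow hζ h0
  obtain ⟨c, a, hx⟩ := h.isSiegel_of_fix (g := g * (d ^ i)⁻¹) (by
    rw [mul_smul, inv_smul_of_eigen h0 (hd.pow i).1, SU_smul_comm, hg, inv_smul_smul₀ h0])
  exact ⟨i, c, a, _, hx, by group⟩

theorem exists_cj {s s' : F} {z w : SU 3 F q} (hz : IsSiegel e ((0 : F) • n) s z) (hs : s ≠ 0)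
    (hw : IsSiegel e ((0 : F) • n) s' w) (hs' : s' ≠ 0) : ∃ i, w = cj z d i := by
  have h1 := sg_cond h hz
  have h2 := sg_cond h hw
  obtain ⟨i, hi⟩ := exists_norm_pow (q := q) hζ (div_ne_zero hs' hs) (by
    rw [map_div₀, show σ s = -s by linear_combination h1, show σ s' = -s' by linear_combination h2,
      neg_div_neg_eq])
  refine ⟨i, hw.unique ?_⟩
  exact sg_congr (sg_cj h hd hz i) (mul_zero _) (by rw [hi, div_mul_cancel₀ _ hs])

theorem mem_Nn_of_sg {s s' : F} {z w : SU 3 F q} (hz : IsSiegel e ((0 : F) • n) s z) (hs : s ≠ 0)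
    (hw : IsSiegel e ((0 : F) • n) s' w) : w ∈ Nn z d := by
  by_cases h0 : s' = 0
  · rw [hw.unique (sg_congr (sg_one h) rfl h0.symm)]; exact one_mem _
  · obtain ⟨i, rfl⟩ := exists_cj h hζ hd hz hs hw h0
    exact cj_mem _ _ _

theorem sg_z {a : F} {u : SU 3 F q} (hu : IsSiegel e ((1 : F) • n) a u) (hq : 3 ≤ q) :
    ∃ s, s ≠ 0 ∧ IsSiegel e ((0 : F) • n) s (u * cj u d 1 * u⁻¹ * (cj u d 1)⁻¹) :=
  ⟨_, by simpa [sub_eq_zero] using conj_mu_ne hζ hq, sg_cmt h hu (sg_cj h hd hu 1)⟩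

theorem mem_of_borel {a : F} {u : SU 3 F q} (hu : IsSiegel e ((1 : F) • n) a u) (hq : 3 ≤ q)
    {M : Subgroup (SU 3 F q)} (h1 : u ∈ M) (h2 : d ∈ M) {g : SU 3 F q} {l : F}
    (hg : g • e = l • e) : g ∈ M := by
  have hN : ∀ z ∈ M, Nn z d ≤ M := fun z hz => (Subgroup.closure_le _).2 (by
    rintro _ ⟨i, rfl⟩
    exact mul_mem (mul_mem (pow_mem h2 _) hz) (inv_mem (pow_mem h2 _)))
  obtain ⟨i, c, a', x, hx, rfl⟩ := borel_decomp h hζ hd hg
  obtain ⟨L, rfl⟩ := hval_mu_surj hζ hq c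
  obtain ⟨a'', h3, -⟩ := sg_horner h hd hu L
  rw [mul_one] at h3
  obtain ⟨s, hs⟩ := sg_div h h3 hx
  obtain ⟨s', hs', hz⟩ := sg_z h hζ hd hu hq
  have h4 := hN u h1 (cj_mem u d 1)
  have := mul_mem (hN u h1 (horner_mem u d L)) (hN _ (mul_mem (mul_mem (mul_mem h1 h4)
    (inv_mem h1)) (inv_mem h4)) (mem_Nn_of_sg h hζ hd hz hs' hs))
  rw [mul_inv_cancel_left] at this
  exact mul_mem this (pow_mem h2 _)

end Cfsg.Agent.KSG.U3
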