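import Mathlib

/-!
# Certificates for word identities in groups

Words are lists of naturals: letter `2 i` is the generator `i`, letter `2 i + 1` its inverse.
A certificate expresses a word as a product of conjugates of known relators (or inverses),
checked by free reduction.  Use `decide +kernel` on `checkAll`.
-/

set_option autoImplicit false

namespace Cfsg.Agent.KSG.Word

variable {G : Type*} [Group G]

/-- Value of a letter. -/
def lv (x : ℕ → G) (l : ℕ) : G := if l % 2 = 0 then x (l / 2) else (x (l / 2))⁻¹

/-- Value of a word. -/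
def ev (x : ℕ → G) : List ℕ → G
  | [] => 1
  | a :: w => lv x a * ev x w

/-- Inverse letter. -/
def il (l : ℕ) : ℕ := if l % 2 = 0 then l + 1 else l - 1

theorem lv_il (x : ℕ → G) (l : ℕ) : lv x (il l) = (lv x l)⁻¹ := by
  unfold lv il
  by_cases h : l % 2 = 0
  · have h1 : (l + 1) % 2 ≠ 0 := by omega
    have h2 : (l + 1) / 2 = l / 2 := by omega
    simp [h, h1, h2]
  · have h1 : (l - 1) % 2 = 0 := by omega
    have h2 : (l - 1) / 2 = l / 2 := by omega
    simp [h, h1, h2]

theorem ev_nil (x : ℕ → G) : ev x [] = 1 := rfl

theorem ev_cons (x : ℕ → G) (a : ℕ) (w : List ℕ) : ev x (a :: w) = lv x a * ev x w := rfl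

theorem ev_append (x : ℕ → G) (u v : List ℕ) : ev x (u ++ v) = ev x u * ev x v := by
  induction u with
  | nil => simp [ev]
  | cons a u ih => simp [ev, ih, mul_assoc]

theorem map_ev {H : Type*} [Group H] (f : G →* H) (x : ℕ → G) (w : List ℕ) :
    f (ev x w) = ev (fun i => f (x i)) w := by
  induction w with
  | nil => simp [ev]
  | cons a u ih =>
    simp only [ev, map_mul, ih, lv]
    split_ifs <;> simp

theorem ev_mem {H : Subgroup G} {x : ℕ → G} (hx : ∀ i, x i ∈ H) (w : List ℕ) : ev x w ∈ H := by
  induction w with
  | nil => exact H.one_mem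
  | cons a u ih =>
    refine H.mul_mem ?_ ih
    unfold lv
    split_ifs
    · exact hx _
    · exact H.inv_mem (hx _)

/-- Push a letter on a reduced word. -/
def push (a : ℕ) : List ℕ → List ℕ
  | [] => [a]
  | b :: t => if b = il a then t else a :: b :: t

theorem ev_push (x : ℕ → G) (a : ℕ) (w : List ℕ) : ev x (push a w) = lv x a * ev x w := by
  cases w with
  | nil => rfl
  | cons b t =>
    simp only [push]
    split_ifs with h
    · subst h; simp [ev, lv_il]
    · rfl

/-- `pushW u w` is a reduced form of `u ++ w`. -/
def pushW : List ℕ → List ℕ → List ℕ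
  | [], w => w
  | a :: u, w => push a (pushW u w)

theorem ev_pushW (x : ℕ → G) (u w : List ℕ) : ev x (pushW u w) = ev x u * ev x w := by
  induction u with
  | nil => simp [pushW, ev]
  | cons a u ih => simp [pushW, ev, ev_push, ih, mul_assoc]

/-- `pushI u w` is a reduced form of `u⁻¹ ++ w`. -/
def pushI : List ℕ → List ℕ → List ℕ
  | [], w => w
  | a :: u, w => pushI u (push (il a) w)

theorem ev_pushI (x : ℕ → G) (u w : List ℕ) : ev x (pushI u w) = (ev x u)⁻¹ * ev x w := by
  induction u generalizing w with
  | nil => simp [pushI, ev]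
  | cons a u ih => simp [pushI, ev, ev_push, ih, lv_il, mul_assoc]

/-- Product of the conjugates `A r^(±1) A⁻¹` listed in a certificate. -/
def certWord (rels : List (List ℕ)) : List (List ℕ × ℕ × Bool) → List ℕ
  | [] => []
  | (A, i, s) :: c =>
    pushW A ((if s then pushW (rels.getD i []) else pushI (rels.getD i []))
      (pushI A (certWord rels c)))

theorem ev_certWord (x : ℕ → G) (rels : List (List ℕ)) (h : ∀ r ∈ rels, ev x r = 1)
    (c : List (List ℕ × ℕ × Bool)) : ev x (certWord rels c) = 1 := by
  induction c with
  | nil => rfl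
  | cons a c ih =>
    obtain ⟨A, i, s⟩ := a
    have hr : ev x (rels.getD i []) = 1 := by
      rw [List.getD_eq_getElem?_getD]
      cases e : rels[i]? with
      | none => rfl
      | some r => exact h r (List.mem_of_getElem? e)
    cases s <;> simp [-List.getD_eq_getElem?_getD, certWord, ev_pushW, ev_pushI, hr, ih]

/-- Check that the certificate proves `w = 1`. -/
def check (rels : List (List ℕ)) (w : List ℕ) (c : List (List ℕ × ℕ × Bool)) : Bool :=
  (pushI w (certWord rels c)).isEmpty

theorem ev_eq_one_of_check (x : ℕ → G) (rels : List (List ℕ)) (h : ∀ r ∈ rels, ev x r = 1)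
    {w : List ℕ} {c : List (List ℕ × ℕ × Bool)} (hc : check rels w c = true) : ev x w = 1 := by
  have e := ev_pushI x w (certWord rels c)
  rw [List.isEmpty_iff.1 hc, ev_certWord x rels h, mul_one, ev_nil] at e
  exact inv_eq_one.1 e.symm

/-- Check a sequence of certificates; each proved word is appended to the relators. -/
def checkAll : List (List ℕ) → List (List ℕ × List (List ℕ × ℕ × Bool)) → Bool
  | _, [] => true
  | rels, (w, c) :: t => check rels w c && checkAll (rels ++ [w]) t

theorem ev_eq_one_of_checkAll (x : ℕ → G) (L : List (List ℕ × List (List ℕ × ℕ × Bool)))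
    (rels : List (List ℕ)) (h : ∀ r ∈ rels, ev x r = 1) (hc : checkAll rels L = true) :
    ∀ w ∈ L.map Prod.fst, ev x w = 1 := by
  induction L generalizing rels with
  | nil => simp
  | cons a t ih =>
    obtain ⟨w, c⟩ := a
    simp only [checkAll, Bool.and_eq_true] at hc
    have hw := ev_eq_one_of_check x rels h hc.1
    intro v hv
    rcases List.mem_cons.1 hv with rfl | hv
    · exact hw
    · refine ih (rels ++ [w]) ?_ hc.2 v hv
      intro r hr
      rcases List.mem_append.1 hr with hr | hr
      · exact h r hr
      · rw [List.mem_singleton.1 hr]; exact hw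

/-- Substitution of words for generators. -/
def subst (s : ℕ → List ℕ) : List ℕ → List ℕ
  | [] => []
  | a :: w => (if a % 2 = 0 then pushW (s (a / 2)) else pushI (s (a / 2))) (subst s w)

theorem ev_subst (x : ℕ → G) (s : ℕ → List ℕ) (w : List ℕ) :
    ev x (subst s w) = ev (fun i => ev x (s i)) w := by
  induction w with
  | nil => rfl
  | cons a w ih =>
    simp only [subst, ev, lv]
    split_ifs <;> simp [ev_pushW, ev_pushI, ih]

end Cfsg.Agent.KSG.Word
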