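import Mathlib
import Cfsg.Agent.KSG.PresUG3
import Cfsg.Agent.KSG.PresU4c
import Cfsg.Agent.S3377

/-!
Bounded presentations of the special unitary groups.
-/

set_option autoImplicit false
set_option linter.unusedSectionVars false

namespace Cfsg.Agent.KSG.UG

open Equiv Matrix Cfsg Cfsg.Agent.Class.U Cfsg.Agent.CT.U

variable {F : Type*} [Field F] {q n d r : ℕ} [hU : UF F q]

theorem pres_big (hq : 4 ≤ q) (hn : 3 < n) (hA : Pres d r (alternatingGroup (Fin n))) :
    Pres (3 + d) (r + 30) (SU n F q) := by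
  refine (pres_of (π := Monoid.Coprod.lift (blk (Fin.castLE_injective hn.le)) (pm F q))
    (j := Monoid.Coprod.inl) (s := Monoid.Coprod.inr) hn (fun _ => rfl) (fun _ => rfl)
    ((U3.pres_SU_three (by omega)).coprod hA) (Imp.triv fun Γ _ ψ =>
      ⟨ψ.comp Monoid.Coprod.inr, fun _ => rfl, fun M a b => ?_⟩) (.inl ⟨rfl, .inr ⟨rfl, hq⟩⟩)).mono
      (by omega)
  rintro _ ⟨x, rfl⟩
  induction x using Monoid.Coprod.induction_on with
  | inl g => exact b ⟨g, rfl⟩
  | inr g => exact a ⟨g, rfl⟩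
  | mul x y hx hy => rw [map_mul]; exact mul_mem hx hy

theorem exists_alt_gen (hn : 3 ≤ n) : ∃ b : alternatingGroup (Fin n),
    ∀ M : Subgroup (alternatingGroup (Fin n)), b ∈ M →
      (∀ ρ : alternatingGroup (Fin n), (∀ i ∉ II n 0 3, ρ.1 i = i) → ρ ∈ M) → M = ⊤ := by
  obtain ⟨k, rfl⟩ : ∃ k, n = k + 1 := ⟨n - 1, by omega⟩
  obtain ⟨c, h1, h2, -⟩ := exists_gen_swap (k := k) (by omega) 1
  have ne : ∀ {i j}, i < 3 → j < 3 → i ≠ j → Fin.ofNat (k + 1) i ≠ Fin.ofNat (k + 1) j :=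
    fun a b c e => c (ofNat_inj _ _ (by omega) (by omega) e)
  have mem : ∀ {i}, i < 3 → Fin.ofNat (k + 1) i ∈ II (k + 1) 0 3 := fun {i} h =>
    mem_II.2 ⟨Nat.zero_le _, (Nat.mod_le _ _).trans_lt h⟩
  refine ⟨⟨c, h1⟩, fun M a b => eq_top_iff.2 fun σ _ => ?_⟩
  obtain ⟨τ, h3, h4⟩ := alt_le_of_rotate (H := M.map (alternatingGroup _).subtype) (by omega)
    (h2.imp (fun h => ⟨_, a, h⟩) fun h => ⟨_, a, h⟩) ⟨⟨_, c3_mem_alternatingGroup
      (ne (by omega) (by omega) (by omega)) (ne (by omega) (by omega) (by omega))⟩,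
      b _ fun i hi => c3_apply_of_ne (ne_of_mem_of_not_mem (mem (by omega)) hi).symm
        (ne_of_mem_of_not_mem (mem (by omega)) hi).symm
        (ne_of_mem_of_not_mem (mem (by omega)) hi).symm, rfl⟩ σ.2
  exact (Subtype.ext h4 : τ = σ) ▸ h3

theorem pres_four (hq : q = 2 ∨ q = 3) : ∃ r c, r + c = 24 ∧ (c = 4 ∨ c = 0 ∧ 3 ≤ q) ∧
    Pres 5 r (SU 4 F q) := by
  have := hU.finite
  rcases hq with rfl | rfl
  · obtain ⟨p, k, hp, hc, h, -⟩ := exists_prime_pow F 2
    obtain rfl : p = 2 := ((Nat.Prime.pow_eq_iff Nat.prime_two).1 h.symm).1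
    let _ := ZMod.algebra F 2
    exact ⟨20, 4, rfl, .inl rfl, BN.pres_SU_four (.inl rfl) (Pres.pres_even (CharP.cast_eq_zero F 2))⟩
  · exact ⟨24, 0, rfl, .inr ⟨rfl, le_rfl⟩, BN.pres_SU_four (.inr rfl) pres_SL_two⟩

theorem pres_small (hq : q = 2 ∨ q = 3) (hn : 4 < n) (hA : Pres d r (alternatingGroup (Fin n))) :
    Pres 6 (r + 31) (SU n F q) := by
  obtain ⟨r', c, h1, h2, h3⟩ := pres_four (F := F) hq
  obtain ⟨b, hb⟩ := exists_alt_gen (n := n) (by omega)
  let π := Monoid.Coprod.lift (blk (F := F) (q := q) (Fin.castLE_injective hn.le))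
    (FreeGroup.lift fun _ : Fin 1 => pm F q b)
  have e : π (.inr (.of 0)) = pm F q b := FreeGroup.lift_apply_of
  obtain ⟨s, s1, s2⟩ := Imp.exists_hom (π := π) hA (pm F q) fun σ =>
    (hb (π.range.comap (pm F q)) ⟨_, e⟩ fun ρ hρ => ((fx_iff_range (π := π)
      (j := Monoid.Coprod.inl) hn fun _ => rfl).1 (fx_pm (J := II n 0 4) fun i hi =>
        hρ i fun h => hi (mem_II.2 (by have := mem_II.1 h; omega)))).elim fun _ h => ⟨_, h⟩).ge
      (Subgroup.mem_top σ)
  refine (pres_of (π := π) (j := Monoid.Coprod.inl) hn (fun _ => rfl) s1 (h3.coprod (Pres.free 1))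
    ((s2.and (Imp.eq ((s1 b).trans e.symm))).imp fun Γ _ ψ ⟨⟨α, h4⟩, h5⟩ =>
      ⟨α, h4, fun M a b => ?_⟩) (c := c) (by omega)).mono (by omega)
  rintro _ ⟨x, rfl⟩
  induction x using Monoid.Coprod.induction_on with
  | inl g => exact b ⟨g, rfl⟩
  | inr g =>
    refine (Subgroup.closure_le (M.comap (ψ.comp Monoid.Coprod.inr))).2 ?_
      ((FreeGroup.closure_range_of _).ge (Subgroup.mem_top g))
    rintro _ ⟨i, rfl⟩
    exact a ⟨_, (h4 _).trans (h5.trans (by rw [Subsingleton.elim i 0]; rfl))⟩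
  | mul x y hx hy => rw [map_mul]; exact mul_mem hx hy

theorem pres_alt_five' : Pres 2 3 (alternatingGroup (Fin 5)) := by
  classical
  exact ⟨{FreeGroup.of 0 ^ 3, FreeGroup.of 1 ^ 5, (FreeGroup.of 0 * FreeGroup.of 1) ^ 2},
    Finset.card_le_three, by rw [Finset.coe_insert, Finset.coe_pair]; exact S3377.result⟩

theorem pres_SU4 : Pres 6 34 (SU 4 F q) := by
  have := two_le_q F q
  by_cases h : 4 ≤ q
  · exact (pres_big h (by norm_num) pres_alt_four).pad' (by norm_num) (by norm_num)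
  · obtain ⟨r, c, h1, -, h3⟩ := pres_four (F := F) (q := q) (by omega)
    exact h3.pad' (by norm_num) (by omega)

theorem pres_SU5 : Pres 6 34 (SU 5 F q) := by
  have := two_le_q F q
  by_cases h : 4 ≤ q
  · exact (pres_big h (by norm_num) pres_alt_five').pad' (by norm_num) (by norm_num)
  · exact pres_small (by omega) (by norm_num) pres_alt_five'

theorem pres_SU (hn : 4 ≤ n) : Pres 6 38 (SU n F q) := by
  have := two_le_q F q
  rcases hn.eq_or_lt with rfl | hn
  · exact pres_SU4.mono (by norm_num)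
  by_cases h : 4 ≤ q
  · exact (pres_big h (by omega) (pres_alt n hn)).mono (by norm_num)
  · exact pres_small (by omega) hn (pres_alt n hn)

end Cfsg.Agent.KSG.UG
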