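import Mathlib
import Cfsg.Agent.Grp.Fitting

/-! Constructions of groups with a given prime graph: fibre products and coinduced extensions. -/

set_option autoImplicit false

namespace Cfsg.Agent.KSG.PG

open Subgroup

/-- `p` and `q` are joined in the prime graph. -/
def E (H : Type*) [Group H] (p q : ℕ) : Prop := ∃ g : H, orderOf g = p * q

/-- Equality of prime graphs. -/
def Same (H W : Type*) [Group H] [Group W] : Prop :=
  (∀ p : ℕ, p.Prime → (p ∣ Nat.card H ↔ p ∣ Nat.card W)) ∧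
  (∀ p q : ℕ, p.Prime → q.Prime → p ≠ q → (E H p q ↔ E W p q))

/-- A nontrivial normal subgroup whose primes form a clique. -/
def Cl (H : Type*) [Group H] : Prop :=
  ∃ N : Subgroup H, N.Normal ∧ N ≠ ⊥ ∧ ∀ p q : ℕ, p.Prime → q.Prime → p ≠ q →
    p ∣ Nat.card N → q ∣ Nat.card N → E H p q

section basic
variable {H W Y : Type*} [Group H] [Group W] [Group Y] {p q : ℕ}

theorem Same.refl : Same H H := ⟨fun _ _ => Iff.rfl, fun _ _ _ _ _ => Iff.rfl⟩

theorem Same.trans (a : Same H W) (b : Same W Y) : Same H Y :=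
  ⟨fun p h => (a.1 p h).trans (b.1 p h), fun p q h1 h2 h3 =>
    (a.2 p q h1 h2 h3).trans (b.2 p q h1 h2 h3)⟩

theorem E.symm (h : E H p q) : E H q p := by rwa [E, mul_comm]

theorem E.of_dvd [Finite H] {g : H} (h : p * q ∣ orderOf g) : E H p q :=
  ⟨_, orderOf_pow_orderOf_div (orderOf_pos g).ne' h⟩

theorem E.of_surj [Finite W] (f : W →* H) (hf : Function.Surjective f) (h : E H p q) :
    E W p q := by
  obtain ⟨g, hg⟩ := h
  obtain ⟨w, rfl⟩ := hf g
  exact E.of_dvd (hg ▸ orderOf_map_dvd f w)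

theorem E.of_inj (f : W →* H) (hf : Function.Injective f) (h : E W p q) : E H p q := by
  obtain ⟨g, hg⟩ := h
  exact ⟨f g, by rwa [orderOf_injective f hf]⟩

theorem E.of_commute [Finite H] (hp : p.Prime) (hq : q.Prime) (hpq : p ≠ q) {x y : H}
    (hx : p ∣ orderOf x) (hy : q ∣ orderOf y) (h : Commute x y) : E H p q := by
  have a := orderOf_pow_orderOf_div (orderOf_pos x).ne' hx
  have b := orderOf_pow_orderOf_div (orderOf_pos y).ne' hy
  refine ⟨x ^ (orderOf x / p) * y ^ (orderOf y / q), ?_⟩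
  rw [(h.pow_pow _ _).orderOf_mul_eq_mul_orderOf_of_coprime
    (by rw [a, b]; exact (Nat.coprime_primes hp hq).2 hpq), a, b]

theorem same_of_surj [Finite W] (f : W →* H) (hf : Function.Surjective f)
    (ha : ∀ p : ℕ, p.Prime → p ∣ Nat.card W → p ∣ Nat.card H)
    (hb : ∀ p q : ℕ, p.Prime → q.Prime → p ≠ q → E W p q → E H p q) : Same H W :=
  ⟨fun p hp => ⟨fun h => h.trans (card_dvd_of_surjective f hf), ha p hp⟩,
    fun p q hp hq hpq => ⟨E.of_surj f hf, hb p q hp hq hpq⟩⟩

theorem same_of_equiv [Finite W] (f : W ≃* H) : Same H W :=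
  same_of_surj f.toMonoidHom f.surjective (fun _ _ h => by rwa [← Nat.card_congr f.toEquiv])
    fun _ _ _ _ _ => E.of_inj f.toMonoidHom f.injective

theorem dvd_cases (hp : p.Prime) (hq : q.Prime) {d : ℕ} (h : d ∣ p * q) :
    d = 1 ∨ d = p ∨ d = q ∨ d = p * q := by
  obtain ⟨a, b, ha, hb, rfl⟩ := exists_dvd_and_dvd_of_dvd_mul h
  rcases (Nat.dvd_prime hp).1 ha with rfl | rfl <;> rcases (Nat.dvd_prime hq).1 hb with rfl | rfl <;>
    simp

theorem card_eq_of_surj [Finite W] (f : W →* H) (hf : Function.Surjective f) :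
    Nat.card W = Nat.card H * Nat.card f.ker := by
  rw [← f.ker.index_mul_card, index_ker, MonoidHom.range_eq_top.2 hf, card_top]

end basic

/-- Fibre products. -/
theorem fp {H Y Q : Type} [Group H] [Group Y] [Group Q] [Finite H] [Finite Y] (π : H →* Q)
    (φ : Y →* Q) (hs : ∀ h, ∃ y, φ y = π h)
    (ha : ∀ p : ℕ, p.Prime → p ∣ Nat.card Y → p ∣ Nat.card H)
    (hb : ∀ p q : ℕ, p.Prime → q.Prime → p ≠ q → E Y p q → E H p q)
    (hc : ∀ p q : ℕ, p.Prime → q.Prime → p ≠ q → p ∣ Nat.card φ.ker → q ∣ Nat.card π.ker →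
      E H p q) :
    ∃ (W : Type) (_ : Group W) (_ : Finite W) (N : Subgroup W), Same H W ∧ N.Normal ∧
      Nat.card N = Nat.card φ.ker ∧ Nat.card W = Nat.card H * Nat.card N := by
  let W := (π.comp (MonoidHom.fst H Y)).eqLocus (φ.comp (MonoidHom.snd H Y))
  let f : W →* H := (MonoidHom.fst H Y).comp W.subtype
  have hf : Function.Surjective f := fun h => by
    obtain ⟨y, hy⟩ := hs h
    exact ⟨⟨(h, y), hy.symm⟩, rfl⟩
  refine ⟨W, inferInstance, inferInstance, f.ker, same_of_surj f hf (fun p hp h => ?_) ?_,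
    inferInstance, ?_, card_eq_of_surj f hf⟩
  · have := h.trans (card_subgroup_dvd_card W)
    rw [Nat.card_prod] at this
    exact ((Nat.Prime.dvd_mul hp).1 this).elim id (ha p hp)
  · rintro p q hp hq hpq ⟨⟨⟨h, y⟩, hw⟩, hg⟩
    replace hw : π h = φ y := hw
    rw [orderOf_mk, Prod.orderOf_mk] at hg
    have key : ∀ {p q : ℕ}, p.Prime → q.Prime → p ≠ q → orderOf h = q → orderOf y = p →
        E H p q := by
      intro p q hp hq hpq e1 e2
      have e : π h = 1 := by
        rw [← orderOf_eq_one_iff]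
        exact Nat.eq_one_of_dvd_coprimes ((Nat.coprime_primes hp hq).2 hpq)
          (by rw [hw, ← e2]; exact orderOf_map_dvd _ _) (e1 ▸ orderOf_map_dvd _ _)
      exact hc p q hp hq hpq (e2 ▸ Subgroup.orderOf_dvd_natCard _ (show y ∈ φ.ker from hw.symm.trans e))
        (e1 ▸ Subgroup.orderOf_dvd_natCard _ (show h ∈ π.ker from e))
    have n1 : p * q ≠ 1 := fun e => hp.one_lt.ne' (Nat.eq_one_of_mul_eq_one_right e)
    have n2 : p ≠ p * q := fun e => hq.one_lt.ne (Nat.eq_of_mul_eq_mul_left hp.pos (by simpa using e))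
    have n3 : q ≠ p * q := fun e => hp.one_lt.ne (Nat.eq_of_mul_eq_mul_right hq.pos (by simpa using e))
    rcases dvd_cases hp hq (hg ▸ Nat.dvd_lcm_right (orderOf h) (orderOf y)) with e | e | e | e
    · exact ⟨h, by simpa [e] using hg⟩
    · rcases dvd_cases hp hq (hg ▸ Nat.dvd_lcm_left (orderOf h) (orderOf y)) with e' | e' | e' | e'
      · exact absurd (by simpa [e, e'] using hg) n2
      · exact absurd (by simpa [e, e'] using hg) n2
      · exact key hp hq hpq e' e
      · exact ⟨h, e'⟩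
    · rcases dvd_cases hp hq (hg ▸ Nat.dvd_lcm_left (orderOf h) (orderOf y)) with e' | e' | e' | e'
      · exact absurd (by simpa [e, e'] using hg) n3
      · exact (key hq hp hpq.symm e' e).symm
      · exact absurd (by simpa [e, e'] using hg) n3
      · exact ⟨h, e'⟩
    · exact hb p q hp hq hpq ⟨y, e⟩
  · refine Nat.card_congr ⟨fun w => ⟨w.1.1.2, ?_⟩, fun y => ⟨⟨(1, y), ?_⟩, rfl⟩, ?_, fun y => rfl⟩
    · have a : π w.1.1.1 = φ w.1.1.2 := w.1.2
      have b : w.1.1.1 = 1 := w.2
      rw [MonoidHom.mem_ker, ← a, b, map_one]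
    · exact (map_one π).trans (Eq.symm y.2)
    · intro w
      exact Subtype.ext (Subtype.ext (Prod.ext (Eq.symm w.2) rfl))

theorem Cl.step {H : Type} [Group H] [Finite H] (h : Cl H) :
    ∃ (W : Type) (_ : Group W) (_ : Finite W), Same H W ∧ Cl W ∧ Nat.card H < Nat.card W := by
  obtain ⟨N, hN, h0, hc⟩ := h
  obtain ⟨W, _, _, M, a, b, c, d⟩ := fp (QuotientGroup.mk' N) (QuotientGroup.mk' N)
    (fun h => ⟨h, rfl⟩) (fun _ _ h => h) (fun _ _ _ _ _ h => h) (by rwa [QuotientGroup.ker_mk'])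
  rw [QuotientGroup.ker_mk'] at c
  have h1 := N.one_lt_card_iff_ne_bot.2 h0
  refine ⟨W, inferInstance, inferInstance, a, ⟨M, b, M.one_lt_card_iff_ne_bot.1 (c ▸ h1),
    fun p q hp hq hpq h2 h3 => (a.2 p q hp hq hpq).1 (hc p q hp hq hpq (c ▸ h2) (c ▸ h3))⟩, ?_⟩
  rw [d, c]
  exact lt_mul_of_one_lt_right Nat.card_pos h1

theorem Cl.unbounded {H : Type} [Group H] [Finite H] (h : Cl H) (n : ℕ) :
    ∃ (W : Type) (_ : Group W) (_ : Finite W), Same H W ∧ Cl W ∧ n < Nat.card W := by
  induction n with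
  | zero => exact ⟨H, inferInstance, inferInstance, Same.refl, h, Nat.card_pos⟩
  | succ n ih =>
    obtain ⟨W, _, _, a, b, c⟩ := ih
    obtain ⟨W', _, _, a', b', c'⟩ := b.step
    exact ⟨W', inferInstance, inferInstance, a.trans a', b', by omega⟩

theorem cl_of_isPGroup {H : Type*} [Group H] [Finite H] {r : ℕ} (hr : r.Prime) {N : Subgroup H}
    (hN : N.Normal) (h0 : N ≠ ⊥) (h : IsPGroup r N) : Cl H := by
  have := Fact.mk hr
  obtain ⟨k, hk⟩ := h.exists_card_eq
  refine ⟨N, hN, h0, fun p q hp hq hpq h1 h2 => absurd ?_ hpq⟩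
  rw [hk] at h1 h2
  rw [(Nat.prime_dvd_prime_iff_eq hp hr).1 (hp.dvd_of_dvd_pow h1),
    (Nat.prime_dvd_prime_iff_eq hq hr).1 (hq.dvd_of_dvd_pow h2)]

/-- Extensions by a `2`-group on which the primes not joined to `2` act without fixed points. -/
theorem same_of_two {H W : Type*} [Group H] [Group W] [Finite W] (f : W →* H)
    (hf : Function.Surjective f) (hk : IsPGroup 2 f.ker) (h2 : 2 ∣ Nat.card H)
    (h : ∀ g v : W, v ∈ f.ker → v ≠ 1 → Commute g v → (orderOf (f g)).Prime →
      orderOf (f g) ≠ 2 → E H 2 (orderOf (f g))) : Same H W := by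
  obtain ⟨k, hk'⟩ := hk.exists_card_eq
  refine same_of_surj f hf (fun p hp d => ?_) ?_
  · rw [card_eq_of_surj f hf, hk'] at d
    refine ((Nat.Prime.dvd_mul hp).1 d).elim id fun d => ?_
    rwa [(Nat.prime_dvd_prime_iff_eq hp Nat.prime_two).1 (hp.dvd_of_dvd_pow d)]
  have two : ∀ {g : W} {d p : ℕ}, p.Prime → orderOf (f g) = d → d * p ∣ orderOf g → p = 2 := by
    intro g d p hp e hd
    have m : g ^ d ∈ f.ker := by rw [MonoidHom.mem_ker, map_pow, ← e, pow_orderOf_eq_one]
    have d0 : d ≠ 0 := by rintro rfl; exact (orderOf_pos g).ne' (by simpa using hd)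
    have := orderOf_dvd_natCard _ m
    rw [orderOf_pow_of_dvd d0 ((Dvd.intro _ rfl).trans hd), hk'] at this
    exact (Nat.prime_dvd_prime_iff_eq hp Nat.prime_two).1 (hp.dvd_of_dvd_pow
      ((Nat.dvd_div_of_mul_dvd hd).trans this))
  have key : ∀ {p q : ℕ} {g : W}, p.Prime → q.Prime → p ≠ q → orderOf g = p * q →
      orderOf (f g) = p → E H p q := by
    intro p q g hp hq hpq e1 e2
    obtain rfl := two hq e2 e1.symm.dvd
    have := h g (g ^ p) (by rw [MonoidHom.mem_ker, map_pow, ← e2, pow_orderOf_eq_one])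
      (pow_ne_one_of_lt_orderOf hp.ne_zero (by have := hp.pos; omega)) (Commute.self_pow g p)
      (e2 ▸ hp) (e2 ▸ hpq)
    exact (e2 ▸ this).symm
  rintro p q hp hq hpq ⟨g, hg⟩
  rcases dvd_cases hp hq (hg ▸ orderOf_map_dvd f g) with e | e | e | e
  · exact absurd ((two hp e (by simp [hg])).trans (two hq e (by simp [hg])).symm) hpq
  · exact key hp hq hpq hg e
  · exact (key hq hp hpq.symm (by rw [hg, mul_comm]) e).symm
  · exact ⟨_, e⟩

section coind
variable {H T : Type} [Group H] [Group T] (K : Subgroup H) (θ : K →* MulAut T)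

/-- The coinduced group. -/
def coind : Subgroup (H → T) where
  carrier := {f | ∀ (k : K) (h : H), f (k * h) = θ k (f h)}
  mul_mem' := fun {a b} ha hb k h => by simp [ha k h, hb k h]
  one_mem' := fun k h => by simp
  inv_mem' := fun {a} ha k h => by simp [ha k h]

/-- The action on the coinduced group. -/
def coindAct : H →* MulAut (coind K θ) where
  toFun x :=
    { toFun := fun f => ⟨fun y => f.1 (y * x), fun k h => by beta_reduce; rw [mul_assoc, f.2]⟩
      invFun := fun f => ⟨fun y => f.1 (y * x⁻¹), fun k h => by beta_reduce; rw [mul_assoc, f.2]⟩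
      left_inv := fun f => Subtype.ext (funext fun y => by simp)
      right_inv := fun f => Subtype.ext (funext fun y => by simp)
      map_mul' := fun _ _ => rfl }
  map_one' := MulEquiv.ext fun f => Subtype.ext (funext fun y => by simp)
  map_mul' x x' := MulEquiv.ext fun f => Subtype.ext (funext fun y => by simp [mul_assoc])

theorem exists_coind [Finite H] [Finite T] [Nontrivial T] (hT : IsPGroup 2 T)
    (hcomm : ∀ a b : T, a * b = b * a) (h2 : 2 ∣ Nat.card H)
    (h : ∀ x : H, (orderOf x).Prime → orderOf x ≠ 2 → ¬ E H 2 (orderOf x) →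
      ∃ hx : x ∈ K, ∀ t, θ ⟨x, hx⟩ t = t → t = 1) :
    ∃ (W : Type) (_ : Group W) (_ : Finite W), Same H W ∧ Cl W := by
  classical
  let W := coind K θ ⋊[coindAct K θ] H
  have : Finite W := Finite.of_equiv _ SemidirectProduct.equivProd.symm
  have hV : IsPGroup 2 (coind K θ) := by
    obtain ⟨k, hk⟩ := hT.exists_card_eq
    exact fun f => ⟨k, Subtype.ext (funext fun y => by
      change f.1 y ^ 2 ^ k = 1
      rw [← hk, pow_card_eq_one'])⟩
  have hk : IsPGroup 2 (SemidirectProduct.rightHom : W →* H).ker := by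
    rw [← SemidirectProduct.range_inl_eq_ker_rightHom]
    exact hV.of_surjective _ (MonoidHom.rangeRestrict_surjective _)
  refine ⟨W, inferInstance, this, same_of_two SemidirectProduct.rightHom
    SemidirectProduct.rightHom_surjective hk h2 ?_, cl_of_isPGroup Nat.prime_two
      inferInstance ?_ hk⟩
  · rintro ⟨w, x⟩ ⟨v, y⟩ hv h1 hc hp hp2
    obtain rfl : y = 1 := hv
    change (orderOf x).Prime at hp
    change orderOf x ≠ 2 at hp2
    change E H 2 (orderOf x)
    by_contra hE
    refine h1 (SemidirectProduct.ext (Subtype.ext (funext fun y => ?_)) rfl)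
    have e := congrFun (congrArg Subtype.val (congrArg SemidirectProduct.left hc)) y
    change w.1 y * v.1 (y * x) = v.1 y * w.1 (y * 1) at e
    rw [mul_one, hcomm, mul_left_inj] at e
    have eo : orderOf (y * x * y⁻¹) = orderOf x := by
      simpa using orderOf_injective (MulAut.conj y).toMonoidHom (MulAut.conj y).injective x
    obtain ⟨hx, hf⟩ := h (y * x * y⁻¹) (eo ▸ hp) (eo ▸ hp2) (eo ▸ hE)
    refine hf (v.1 y) ?_
    rw [← v.2 ⟨_, hx⟩ y, ← e]
    simp
  · obtain ⟨t, ht⟩ := exists_ne (1 : T)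
    let f : coind K θ := ⟨fun y => if hy : y ∈ K then θ ⟨y, hy⟩ t else 1, fun k y => by
      beta_reduce
      by_cases hy : y ∈ K
      · rw [dif_pos hy, dif_pos (K.mul_mem k.2 hy), ← MulAut.mul_apply, ← map_mul]; rfl
      · rw [dif_neg hy, dif_neg (fun e => hy ((K.mul_mem_cancel_left k.2).1 e)), map_one]⟩
    intro e
    have : (SemidirectProduct.inl f : W) ∈ (SemidirectProduct.rightHom : W →* H).ker := rfl
    rw [e, mem_bot, ← map_one SemidirectProduct.inl] at this
    have := congrFun (congrArg Subtype.val (SemidirectProduct.inl_injective this)) 1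
    refine ht ?_
    simpa [f, show (⟨1, K.one_mem⟩ : K) = 1 from rfl] using this

end coind

end Cfsg.Agent.KSG.PG
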