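import Mathlib
import Cfsg.Agent.KSG.RegSpOdd

/-!
Symplectic spaces in characteristic two: subgroups containing the Siegel transformations of a
quadratic form at a point.
-/

set_option autoImplicit false

namespace Cfsg.Agent.KSG

open Module Polynomial Cfsg.Agent.Class Cfsg.Agent.Class.Max

variable {F V : Type*} [Field F] [AddCommGroup V] [Module F V] {Φ : Fm F V}
  {M : Subgroup (V ≃ₗ[F] V)} {u g : V ≃ₗ[F] V} {e f v w x y : V} {j : ℕ} {q q' : V → F}

/-- `q` is a quadratic form with polar form `B`. -/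
structure IsQ (Φ : Fm F V) (q : V → F) : Prop where
  add : ∀ x y, q (x + y) = q x + q y + Φ.B x y
  smul : ∀ (a : F) x, q (a • x) = a ^ 2 * q x

/-- Symplectic type in characteristic two. -/
structure IsS2 (Φ : Fm F V) : Prop extends IsS Φ where
  two : (2 : F) = 0

namespace IsS2

variable (hS : IsS2 Φ)
include hS

theorem eps1 : Φ.ε = 1 := by rw [hS.eps]; linear_combination -hS.two

theorem symm (x y : V) : Φ.B y x = Φ.B x y := by rw [Φ.symm, hS.eps1, hS.sigma, one_mul]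

theorem self (x : V) : Φ.B x x = 0 := Φ.B_self (hS.Q x)

theorem ef_eq (e w : V) (c : F) (x : V) :
    Φ.ef e w c x = x + Φ.B e x • w + (Φ.B w x + c * Φ.B e x) • e := by
  rw [Fm.ef, hS.eps]; module

theorem sub_eq (x y : V) : x - y = x + y := by
  rw [sub_eq_add_neg, ← neg_one_smul F y, show (-1 : F) = 1 by linear_combination -hS.two, one_smul]

theorem modQ (hq : IsQ Φ q) (a : F) (y : V) : IsQ Φ fun x => q x + a * Φ.B y x ^ 2 where
  add x z := by
    rw [hq.add, map_add]; linear_combination a * Φ.B y x * Φ.B y z * hS.two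
  smul b x := by rw [hq.smul, Φ.B_smul_right]; ring

theorem q_ef (hq : IsQ Φ q) (he : q e = 0) (hw : Φ.B e w = 0) (c : F) (x : V) :
    q (Φ.ef e w c x) = q x + (c + q w) * Φ.B e x ^ 2 := by
  simp only [hS.ef_eq, hq.add, hq.smul, Φ.bsimp, hS.sigma, he, hS.symm e w, hw, hS.symm e x,
    hS.symm w x]
  linear_combination (Φ.B e x * Φ.B w x) * hS.two

theorem q_tv (hq : IsQ Φ q) {a : F} (ha : a * q v = 1) (x : V) : q (Φ.ef v 0 a x) = q x := by
  simp only [hS.ef_eq, hq.add, hq.smul, Φ.bsimp, smul_zero, add_zero, hS.symm v x]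
  linear_combination a * Φ.B v x ^ 2 * ha + a * Φ.B v x ^ 2 * hS.two

theorem exists_diff [Finite F] [FiniteDimensional F V] (hq : IsQ Φ q) (hq' : IsQ Φ q') :
    ∃ y, ∀ x, q' x = q x + Φ.B y x ^ 2 := by
  have : CharP F 2 := CharTwo.of_one_ne_zero_of_two_eq_zero one_ne_zero hS.two
  let r := (frobeniusEquiv F 2).symm
  have hr : ∀ a, r a ^ 2 = a := (frobeniusEquiv F 2).apply_symm_apply
  have hr' : ∀ a, r (a ^ 2) = a := (frobeniusEquiv F 2).symm_apply_apply
  obtain ⟨y, hy⟩ := Φ.exists_eq_dual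
    { toFun x := r (q x + q' x)
      map_add' x z := by
        rw [← map_add, hq.add, hq'.add]; congr 1; linear_combination Φ.B x z * hS.two
      map_smul' a x := by
        rw [hq.smul, hq'.smul, ← mul_add, map_mul, hr']; rfl }
  refine ⟨y, fun x => ?_⟩
  rw [hy]
  change _ = _ + r _ ^ 2
  rw [hr]
  linear_combination -q x * hS.two

end IsS2

theorem IsQ.comp (hq : IsQ Φ q) (hg : g ∈ Φ.Iso) : IsQ Φ fun x => q (g x) where
  add x y := by rw [map_add, hq.add, hg.1]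
  smul a x := by rw [map_smul, hq.smul]

theorem IsQ.add_smul (hq : IsQ Φ q) (he : q e = 0) (hw : Φ.B e w = 0) (t : F) :
    q (w + t • e) = q w := by
  rw [hq.add, hq.smul, he, Φ.B_smul_right, Φ.perp_symm hw]; ring

/-- `M` contains the Siegel transformations of `q` with centre `x`. -/
structure Half (Φ : Fm F V) (M : Subgroup (V ≃ₗ[F] V)) (x : V) (q : V → F) : Prop where
  isQ : IsQ Φ q
  zero : q x = 0
  mem : ∀ w, Φ.B x w = 0 → Φ.HasE M x w (q w)
  big : 5 ≤ finrank F V ∨ ∀ w, Φ.B x w = 0 → q w = 0 → ∃ t : F, w = t • x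

theorem Half.conj (h : Half Φ M x q) (hg : g ∈ M) (hI : g ∈ Φ.Iso) :
    Half Φ M (g x) fun v => q (g⁻¹ v) where
  isQ := h.isQ.comp (Φ.Iso.inv_mem hI)
  zero := by rw [inv_app_app, h.zero]
  mem w hw := by simpa using (h.mem (g⁻¹ w) (by rwa [Fm.Iso.B_inv hI])).conj hg hI
  big := h.big.imp id fun h1 w hw h2 => by
    obtain ⟨t, ht⟩ := h1 (g⁻¹ w) (by rwa [Fm.Iso.B_inv hI]) h2
    exact ⟨t, by rw [← map_smul, ← ht, app_inv_app]⟩

theorem Half.smul (hS : IsS2 Φ) (h : Half Φ M x q) {a : F} (ha : a ≠ 0) : Half Φ M (a • x) q where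
  isQ := h.isQ
  zero := by rw [h.isQ.smul, h.zero, mul_zero]
  mem w hw := by
    rw [Φ.B_smul_left, mul_eq_zero, Φ.σ_eq_zero, or_iff_right ha] at hw
    rw [Fm.hasE_smul_left, hS.sigma, ← sq, ← h.isQ.smul]
    exact h.mem _ (by rw [Φ.B_smul_right, hw, mul_zero])
  big := h.big.imp id fun h1 w hw h2 => by
    rw [Φ.B_smul_left, mul_eq_zero, Φ.σ_eq_zero, or_iff_right ha] at hw
    obtain ⟨t, ht⟩ := h1 w hw h2
    exact ⟨t / a, by rw [smul_smul, div_mul_cancel₀ _ ha, ht]⟩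

theorem Half.congr (h : Half Φ M x q) (hq : IsQ Φ q') (hx : Φ.B x x = 0)
    (e : ∀ w, Φ.B x w = 0 → q' w = q w) : Half Φ M x q' where
  isQ := hq
  zero := by rw [e x hx, h.zero]
  mem w hw := e w hw ▸ h.mem w hw
  big := h.big.imp id fun h1 w hw h2 => h1 w hw (e w hw ▸ h2)

theorem Half.full [Finite F] (hS : IsS2 Φ) (h : Half Φ M x q) (h' : Half Φ M x q')
    (hw : Φ.B x w = 0) (hne : q w ≠ q' w) : Φ.Full M x := by
  have : CharP F 2 := CharTwo.of_one_ne_zero_of_two_eq_zero one_ne_zero hS.two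
  have hT : FT Φ M x := fun c _ => by
    obtain ⟨a, ha⟩ := (frobeniusEquiv F 2).surjective (c / (q w - q' w))
    have h1 : Φ.B x (a • w) = 0 := by rw [Φ.B_smul_right, hw, mul_zero]
    convert Fm.HasE.sub (hS.valid h1 _) (hS.valid h1 _) (h.mem _ h1) (h'.mem _ h1) using 1
    · rw [sub_self]
    · rw [h.isQ.smul, h'.isQ.smul, sub_self, ← mul_sub, show a ^ 2 = _ from ha,
        div_mul_cancel₀ _ (sub_ne_zero.2 hne)]
      simp
  exact fun w c hv => Fm.InA.hasE ⟨_, hS.valid hv.perp _, h.mem w hv.perp⟩ hT hv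

theorem Half.exists_ns [FiniteDimensional F V] (hS : IsS2 Φ) (h : Half Φ M x q)
    (h4 : 4 ≤ finrank F V) (hxy : Φ.B x y = 1) (z : V) :
    ∃ w, Φ.B x w = 0 ∧ Φ.B y w = 0 ∧ Φ.B z w = 0 ∧ q w ≠ 0 := by
  rcases h.big with h5 | h5
  · by_contra hc
    push Not at hc
    have hW := Φ.nd_top.inf_hyp trivial trivial (hS.Q x) (hS.Q y) hxy
    by_cases h1 : ∃ m, Φ.B x m = 0 ∧ Φ.B y m = 0 ∧ Φ.B z m = 1
    · obtain ⟨m, m1, m2, m3⟩ := h1
      obtain ⟨k, -, k0, hk⟩ := exists_ne_zero_ker [Φ.B x, Φ.B y, Φ.B z, Φ.B m] ⊤ (by simp; omega)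
      simp only [List.mem_cons, List.not_mem_nil, or_false, forall_eq_or_imp, forall_eq] at hk
      refine k0 (hW k ⟨⟨trivial, hk.1⟩, hk.2.1⟩ fun w hw => ?_)
      have w1 : Φ.B x (w - Φ.B z w • m) = 0 := by simp [m1, show Φ.B x w = 0 from hw.1.2]
      have w2 : Φ.B y (w - Φ.B z w • m) = 0 := by simp [m2, show Φ.B y w = 0 from hw.2]
      have w3 : Φ.B z (w - Φ.B z w • m) = 0 := by simp [m3]
      have := h.isQ.add k (w - Φ.B z w • m)
      rw [hc _ w1 w2 w3, hc k hk.1 hk.2.1 hk.2.2.1, hc _ (by simp [hk.1, w1]) (by simp [hk.2.1, w2])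
        (by simp [hk.2.2.1, w3])] at this
      simpa [hS.symm m k, hk.2.2.2] using this.symm
    · have h2 : ∀ m, Φ.B x m = 0 → Φ.B y m = 0 → q m = 0 := fun m m1 m2 => hc m m1 m2 (by
        by_contra m3
        exact h1 ⟨(Φ.B z m)⁻¹ • m, by simp [m1], by simp [m2], by simp [m3]⟩)
      obtain ⟨k, -, k0, hk⟩ := exists_ne_zero_ker [Φ.B x, Φ.B y] ⊤ (by simp; omega)
      simp only [List.mem_cons, List.not_mem_nil, or_false, forall_eq_or_imp, forall_eq] at hk
      refine k0 (hW k ⟨⟨trivial, hk.1⟩, hk.2⟩ fun w hw => ?_)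
      have := h.isQ.add k w
      rw [h2 w hw.1.2 hw.2, h2 k hk.1 hk.2, h2 _ (by simp [hk.1, show Φ.B x w = 0 from hw.1.2])
        (by simp [hk.2, show Φ.B y w = 0 from hw.2])] at this
      simpa using this.symm
  · obtain ⟨k, -, k0, hk⟩ := exists_ne_zero_ker [Φ.B x, Φ.B y, Φ.B z] ⊤ (by simp; omega)
    simp only [List.mem_cons, List.not_mem_nil, or_false, forall_eq_or_imp, forall_eq] at hk
    refine ⟨k, hk.1, hk.2.1, hk.2.2, fun c => k0 ?_⟩
    obtain ⟨t, rfl⟩ := h5 k hk.1 c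
    have := hk.2.1
    rw [Φ.B_smul_right, hS.symm, hxy, mul_one] at this
    rw [this, zero_smul]

theorem Half.full_or_eq [Finite F] [FiniteDimensional F V] (hS : IsS2 Φ) (hM : M ≤ Φ.Iso)
    (h4 : 4 ≤ finrank F V) (h : Half Φ M x q) (h' : Half Φ M y q') (hxy : Φ.B x y ≠ 0) :
    Φ.Full M x ∨ ∀ w, Φ.B x w = 0 → Φ.B y w = 0 → q w = q' w := by
  wlog h1 : Φ.B x y = 1 generalizing y
  · exact (this (h'.smul hS (inv_ne_zero hxy)) (by simp [hxy]) (by simp [hxy])).imp id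
      fun h2 w a b => h2 w a (by simp [b])
  obtain ⟨z, hz⟩ := hS.exists_diff h.isQ h'.isQ
  obtain ⟨w, w1, w2, w3, w4⟩ := h.exists_ns hS h4 h1 z
  have w5 : q' w = q w := by rw [hz, w3]; ring
  obtain ⟨s, hs, es⟩ := h.mem w w1
  obtain ⟨t, ht, et⟩ := h'.mem ((q w)⁻¹ • w) (by simp [w2])
  rw [h'.isQ.smul, w5] at et
  have hyx : Φ.B y x = 1 := by rw [hS.symm, h1]
  have e1 : (t * s) y = q w • x := by
    simp only [mul_app, es, et, hS.ef_eq, Φ.bsimp, hS.sigma, h1, hyx, hS.self, w1, w2,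
      hS.symm x w, hS.symm y w]
    match_scalars
    · field_simp
      linear_combination q w * hS.two
    · field_simp
      linear_combination q w * hS.two
    · ring
  have h2 := (h'.conj (M.mul_mem ht hs) (hM (M.mul_mem ht hs))).smul hS (inv_ne_zero w4)
  rw [e1, smul_smul, inv_mul_cancel₀ w4, one_smul] at h2
  by_cases h3 : ∃ v, Φ.B x v = 0 ∧ q v ≠ q' ((t * s)⁻¹ v)
  · obtain ⟨v, v1, v2⟩ := h3
    exact Or.inl (h.full hS h2 v1 v2)
  push Not at h3
  refine Or.inr fun v v1 v2 => ?_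
  have e2 : (t * s) v = v + (Φ.B w v / q w) • w + Φ.B w v • x := by
    simp only [mul_app, es, et, hS.ef_eq, Φ.bsimp, hS.sigma, hyx, v1, v2, hS.symm x w, w1]
    match_scalars
    · ring
    · field_simp
      ring
    · ring
    · field_simp
      linear_combination Φ.B w v * hS.two
  have := h3 ((t * s) v) (by simp [e2, v1, w1, hS.self])
  rw [inv_app_app, e2, h.isQ.add_smul h.zero (by simp [v1, w1]), h.isQ.add, h.isQ.smul,
    Φ.B_smul_right, hS.symm w v] at this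
  rw [← this]
  field_simp
  linear_combination -Φ.B w v ^ 2 * hS.two

theorem Reg.full_of_half [Finite F] [FiniteDimensional F V] (hS : IsS2 Φ) (hM : M ≤ Φ.Iso)
    (h4 : 4 ≤ finrank F V) (hR : Reg Φ u e f j) (hu : u ∈ M) (h : Half Φ M e q) (hf : q f = 0)
    (hq : ∀ x, q (u x) = q x + Φ.B e x ^ 2) {m : V} (hw : Φ.B e w = 0) (hm : Φ.B e m = 0)
    (hwm : Φ.B w m ≠ 0) (hw1 : q w ≠ 1) {b : F} (hb : b ≠ 0) (hg : g ∈ M) (hge : g e = b • f) :
    Φ.Full M e := by
  by_contra hc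
  have h1 := (h.conj hg (hM hg)).smul hS (inv_ne_zero hb)
  rw [hge, smul_smul, inv_mul_cancel₀ hb, one_smul] at h1
  have hfe : Φ.B f e = 1 := by rw [hS.symm, hR.ef]
  have h2 := (h.full_or_eq hS hM h4 h1 (by simp [hR.ef])).resolve_left hc
  have h3 : Half Φ M f q := h1.congr h.isQ (hS.self f) fun v hv => by
    have v1 : Φ.B f (v - Φ.B e v • f) = 0 := by simp [hv, hS.self]
    have := h2 (v - Φ.B e v • f) (by simp [hR.ef]) v1
    rw [← h.isQ.add_smul hf v1 (Φ.B e v), ← h1.isQ.add_smul h1.zero v1 (Φ.B e v)] at this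
    simpa using this
  have n0 := B_nl_fix hR.iso hR.fix f
  obtain ⟨s, hs, es⟩ := h.mem (nl u f + w) (by simp [n0, hw])
  have hsq : ∀ x, q (s x) = q x := fun x => by
    rw [es, hS.q_ef h.isQ h.zero (by simp [n0, hw])]
    linear_combination q (nl u f + w) * Φ.B e x ^ 2 * hS.two
  obtain ⟨t, ht⟩ : ∃ t : F, s f = u f + (w + t • e) :=
    ⟨Φ.B (nl u f + w) f + q (nl u f + w) * 1, by
      rw [es, hS.ef_eq, hR.ef, one_smul, app_eq_nl u f]; abel⟩
  have h5 : Φ.B (s f) (u f) ≠ 0 := fun c => hw1 (by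
    have := hsq f
    rw [ht, h.isQ.add, hq, hf, hR.ef, h.isQ.add_smul h.zero hw] at this
    rw [ht, Φ.B_add_left, hS.self, zero_add, hS.symm] at c
    linear_combination this - c - hS.two)
  rcases (h3.conj hs (hM hs)).full_or_eq hS hM h4 (h3.conj hu (hM hu)) h5 with h6 | h6
  · have h7 := (h6.conj (M.inv_mem hs) (hM (M.inv_mem hs))).smul b
    rw [inv_app_app, ← hge] at h7
    exact hc (by simpa using h7.conj (M.inv_mem hg) (hM (M.inv_mem hg)))
  have h7 : e ∉ Submodule.span F {s f, u f} := fun c => by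
    obtain ⟨α, β, c⟩ := Submodule.mem_span_pair.1 c
    have c1 := congrArg (Φ.B e) c
    have c3 : Φ.B e (u f) = 1 := by rw [app_eq_nl, map_add, n0, hR.ef, add_zero]
    simp only [ht, Φ.bsimp, c3, hw, hS.self] at c1
    have c4 : β = -α := by linear_combination c1
    rw [c4, ht] at c
    have c2 := congrArg (fun x => Φ.B x m) c
    simp only [Φ.bsimp, hm, hS.sigma] at c2
    have c5 : α = 0 := (mul_eq_zero.1 (show α * Φ.B w m = 0 by linear_combination c2)).resolve_right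
      hwm
    exact hR.ne (by simpa [c5] using c.symm)
  obtain ⟨v, hv, v1⟩ := Φ.exists_perp_not_perp h7
  have h8 := h6 v (hv _ (Submodule.subset_span (by simp))) (hv _ (Submodule.subset_span (by simp)))
  have h9 := hq (u⁻¹ v)
  rw [← hsq, app_inv_app] at h8
  rw [app_inv_app, ← h8, Fm.Iso.B_inv hR.iso, hR.fix, hS.symm, v1] at h9
  simp at h9

end Cfsg.Agent.KSG
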