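import Mathlib
import Cfsg.Agent.KSG.RegHalf
import Cfsg.Agent.KSG.RegUNum

/-!
Three conjugate regular unipotent generators of `Sp_{2n}(q)`, `q` even.
-/

set_option autoImplicit false

namespace Cfsg.Agent.KSG

open Module Polynomial Cfsg.Agent.Class Cfsg.Agent.Class.Max

variable {F V : Type*} [Field F] [AddCommGroup V] [Module F V] {Φ : Fm F V}
  {M : Subgroup (V ≃ₗ[F] V)} {u g z : V ≃ₗ[F] V} {e f v v' w x y : V} {Y : Submodule F V} {j : ℕ}
  {q : V → F} {a : F}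

theorem IsS2.tv_tv (hS : IsS2 Φ) (hz : ∀ x, z x = Φ.ef v 0 a (Φ.ef v' 0 a x)) (x : V) :
    z x = x + (a * Φ.B v' x) • v' + (a * (Φ.B v x + a * Φ.B v' x * Φ.B v v')) • v := by
  simp only [hz, hS.ef_eq, Φ.bsimp, smul_zero]
  module

theorem IsS2.exists_odd [Finite F] (hS : IsS2 Φ) (h : a * Φ.B v v' ≠ 0)
    (hz : ∀ x, z x = Φ.ef v 0 a (Φ.ef v' 0 a x)) : ∃ m, z ^ (2 * m + 1) = 1 := by
  have h2 := hS.two
  set τ := (a * Φ.B v v') ^ 2 with hτ
  have h2' : (2 : F[X]) = 0 := by rw [← C_ofNat, h2, map_zero]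
  have hτ0 : τ ≠ 0 := pow_ne_zero 2 h
  obtain ⟨m, hm, r, hr⟩ := exists_dvd_X_pow_sub_one
    (f := X ^ 3 + C (τ + 1) * X ^ 2 + C (τ + 1) * X + 1) (by monicity!)
    (Separable.squarefree ⟨C (τ ^ 2)⁻¹, C (τ ^ 2)⁻¹ * (X + C (τ + 1)), by
      have : C (τ ^ 2)⁻¹ * C τ ^ 2 = 1 := by
        rw [← map_pow, ← map_mul, inv_mul_cancel₀ (pow_ne_zero 2 hτ0), map_one]
      simp only [derivative_add, derivative_mul, derivative_X_pow, derivative_C, derivative_X,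
        derivative_one, map_add, map_one, map_natCast]
      push_cast
      linear_combination this + C (τ ^ 2)⁻¹ * (2 * X ^ 3 + 3 * (C τ + 1) * X ^ 2 +
        (C τ + 1) * (C τ + 2) * X + C τ + 1) * h2'⟩) (by simp)
  have h3 : aeval (z : Module.End F V) (X ^ 3 + C (τ + 1) * X ^ 2 + C (τ + 1) * X + 1) = 0 := by
    ext x
    simp only [map_add, map_mul, aeval_X, aeval_C, map_one, pow_succ, pow_zero, one_mul,
      LinearMap.add_apply, Module.End.mul_apply, Module.End.one_apply, LinearEquiv.coe_coe,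
      Module.algebraMap_end_apply, LinearMap.zero_apply, hS.tv_tv hz, map_smul, smul_eq_mul,
      hS.self, hS.symm v v']
    match_scalars <;> grind
  have h4 : z ^ m = 1 := LinearEquiv.toLinearMap_injective (by
    have := congrArg (aeval (z : Module.End F V)) hr
    rw [map_mul, h3, zero_mul, map_sub, map_pow, aeval_X, map_one, sub_eq_zero] at this
    rw [coe_pow_eq, this]; rfl)
  obtain ⟨k, rfl | rfl⟩ := Nat.even_or_odd' m
  · exact absurd (by push_cast; rw [h2, zero_mul]) hm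
  · exact ⟨k, h4⟩

theorem Reg.half_of [FiniteDimensional F V] (hS : IsS2 Φ) (hM : M ≤ Φ.Iso) (hR : Reg Φ u e f j)
    (hd : finrank F V = j + 1) (hj : 0 < j) (hu : u ∈ M) (hQ : IsQ Φ q)
    (hq : ∀ x, q (u x) = q x + Φ.B e x ^ 2) (hv : Φ.B e v = 0) (v1 : (nl u ^ (j - 1)) v ≠ 0)
    (v2 : (nl u ^ j) v = 0) (ha : a * q v = 1)
    (hgen : ∀ L : Subring F, (a * Φ.B v (u v)) ^ 2 ∈ L → L = ⊤) (hb : Φ.B v (u v) ≠ 0)
    (hzM : z ∈ M) (hz : ∀ x, z x = Φ.ef v 0 a (Φ.ef (u v) 0 a x)) {m : V} (hw : Φ.B e w = 0)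
    (hm : Φ.B e m = 0) (hwm : Φ.B w m ≠ 0) (hwM : Φ.HasE M e w (q w)) :
    ∀ w, Φ.B e w = 0 → Φ.HasE M e w (q w) := by
  have h2 := hS.two
  have ha0 : a ≠ 0 := left_ne_zero_of_mul_eq_one ha
  have q0 : q 0 = 0 := by simpa using hQ.smul 0 0
  let A : AddSubgroup V :=
    { carrier := {w | Φ.B e w = 0 ∧ Φ.HasE M e w (q w)}
      zero_mem' := ⟨map_zero _, q0.symm ▸ Fm.hasE_zero e⟩
      add_mem' := fun {x y} hx hy => ⟨by rw [map_add, hx.1, hy.1, add_zero],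
        hQ.add x y ▸ hx.2.add (hS.valid hx.1 _) (hS.valid hy.1 _) hy.2⟩
      neg_mem' := fun {x} hx => by rwa [← zero_sub, hS.sub_eq, zero_add] }
  have hA : ∀ g ∈ M, g e = e → (∀ x, Φ.B e x = 0 → q (g x) = q x) → ∀ x ∈ A, g x ∈ A :=
    fun g hg h1 h3 x hx => ⟨by rw [← hx.1, ← (hM hg).1 e x, h1], by
      have := hx.2.conj hg (hM hg)
      rwa [h1, ← h3 x hx.1] at this⟩
  have hA' : ∀ g ∈ M, g e = e → (∀ x, Φ.B e x = 0 → q (g x) = q x) → ∀ x ∈ A, g⁻¹ x ∈ A :=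
    fun g hg h1 h3 => hA _ (M.inv_mem hg) (g.injective (by rw [app_inv_app, h1])) fun x hx => by
      rw [← h3 _ (by rw [Fm.Iso.B_inv (hM hg), h1, hx]), app_inv_app]
  have u1 : ∀ x, Φ.B e x = 0 → q (u x) = q x := fun x hx => by rw [hq, hx]; ring
  have huv : Φ.B e (u v) = 0 := by rw [← hv, ← hR.iso.1 e v, hR.fix]
  have z1 : z e = e := by simp [hS.tv_tv hz, hS.symm e, hv, huv]
  have z2 : ∀ x, Φ.B e x = 0 → q (z x) = q x := fun x _ => by
    rw [hz, hS.q_tv hQ ha, hS.q_tv hQ (by rw [u1 v hv, ha])]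
  obtain ⟨w', hw', b1⟩ : ∃ w' ∈ A, Φ.B v w' ≠ 0 := by
    by_contra hc
    push Not at hc
    let W : Submodule F V :=
      { carrier := {x | Φ.B e x = 0 ∧ ∀ w ∈ A, Φ.B w x = 0}
        zero_mem' := ⟨map_zero _, fun _ _ => map_zero _⟩
        add_mem' := fun {x y} hx hy => ⟨by rw [map_add, hx.1, hy.1, add_zero],
          fun w hw => by rw [map_add, hx.2 w hw, hy.2 w hw, add_zero]⟩
        smul_mem' := fun c x hx => ⟨by rw [map_smul, hx.1, smul_zero],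
          fun w hw => by rw [map_smul, hx.2 w hw, smul_zero]⟩ }
    have h3 : W = LinearMap.ker (Φ.B e) := hR.cyc hd hj (fun x hx => hx.1) (fun x hx =>
      ⟨by rw [← hx.1, ← hR.iso.1 e x, hR.fix], fun w hw => by
        rw [← Fm.Iso.B_inv_left hR.iso]; exact hx.2 _ (hA' u hu hR.fix u1 w hw)⟩)
      ⟨hv, fun w hw => by rw [hS.symm, hc w hw]⟩ v1 v2
    exact hwm ((h3.ge hm).2 w ⟨hw, hwM⟩)
  set b := Φ.B v (u v) with hbd
  have z3 : ∀ α β : F, z (α • v + β • u v) =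
      (α + a * β * b + a ^ 2 * b ^ 2 * α) • v + (β + a * α * b) • u v := fun α β => by
    simp only [hS.tv_tv hz, Φ.bsimp, hS.self, hS.symm v (u v), ← hbd]
    module
  have z4 : ∀ α β : F, z⁻¹ (α • v + β • u v) =
      (α + a * β * b) • v + (β + a * α * b + a ^ 2 * b ^ 2 * β) • u v := fun α β => by
    apply z.injective
    rw [app_inv_app, z3]
    match_scalars <;> grind
  let R : Subring F :=
    { carrier := {k | ∀ α β : F, α • v + β • u v ∈ A → (k * α) • v + (k * β) • u v ∈ A}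
      zero_mem' := fun α β _ => by simp
      one_mem' := fun α β h => by simpa using h
      add_mem' := fun {k l} hk hl α β h => by
        convert A.add_mem (hk α β h) (hl α β h) using 1; module
      neg_mem' := fun {k} hk α β h => by convert A.neg_mem (hk α β h) using 1; module
      mul_mem' := fun {k l} hk hl α β h => by simpa only [mul_assoc] using hk _ _ (hl α β h) }
  have hR' : R = ⊤ := hgen R fun α β h => by
    convert A.add_mem (hA z hzM z1 z2 _ h) (hA' z hzM z1 z2 _ h) using 1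
    rw [z3, z4]
    match_scalars <;> grind
  obtain ⟨α, β, h3, h4⟩ : ∃ α β : F, α • v + β • u v ∈ A ∧ α + β ≠ 0 := by
    have h3 : (a * (Φ.B v w' + a * Φ.B (u v) w' * b)) • v + (a * Φ.B (u v) w') • u v ∈ A := by
      convert A.sub_mem (hA z hzM z1 z2 _ hw') hw' using 1
      rw [hS.tv_tv hz]
      module
    by_cases h4 : a * (Φ.B v w' + a * Φ.B (u v) w' * b) + a * Φ.B (u v) w' = 0
    · refine ⟨_, _, z3 _ _ ▸ hA z hzM z1 z2 _ h3, fun h5 => ?_⟩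
      have h6 : a ^ 3 * b ^ 2 * Φ.B (u v) w' = 0 := by grind
      have h7 : Φ.B (u v) w' = 0 := by simpa [ha0, hb] using h6
      simp [h7, ha0, b1] at h4
    · exact ⟨_, _, h3, h4⟩
  let W : Submodule F V :=
    { carrier := {x | ∀ k : F, k • x ∈ A}
      zero_mem' := fun k => by simp
      add_mem' := fun {x y} hx hy k => by rw [smul_add]; exact A.add_mem (hx k) (hy k)
      smul_mem' := fun c x hx k => by rw [smul_smul]; exact hx _ }
  have h5 : W = LinearMap.ker (Φ.B e) := hR.cyc hd hj (fun x hx => by simpa using (hx 1).1)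
    (fun x hx k => by rw [← map_smul]; exact hA u hu hR.fix u1 _ (hx k)) (v := α • v + β • u v)
    (fun k => by
      rw [smul_add, smul_smul, smul_smul]
      exact (hR'.ge (Subring.mem_top k)) α β h3) (by
      rw [app_eq_nl u v, map_add, map_smul, map_smul, map_add, ← nl_pow_succ',
        Nat.sub_add_cancel hj, v2, add_zero, ← add_smul]
      exact smul_ne_zero h4 v1) (by
      rw [map_add, map_smul, map_smul, nl_pow_app, v2]; simp)
  intro x hx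
  simpa using (h5.ge hx 1).2

/-- A stage preserving a quadratic form. -/
def QStage (Φ : Fm F V) (Y : Submodule F V) (u : V ≃ₗ[F] V) (w : V) (j : ℕ) (q : V → F) : Prop :=
  Stage Φ Y u w j ∧ IsQ Φ q ∧ ∀ x, q (u x) = q x

theorem QStage.next (hS : IsS2 Φ) (h : QStage Φ Y u w j q) (hn : j + 3 ≤ finrank F V) :
    ∃ e ∈ Y, ∃ f ∈ Y, Φ.B e f = 1 ∧ ∃ q', QStage Φ Y u w j q' ∧ q' e = 0 ∧ q' f = 0 ∧
      ∀ x, (∀ y ∈ Y, Φ.B y x = 0) → q' x = q x := by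
  obtain ⟨e, he, f, hf, -, -, hef⟩ := h.1.exists_hyp hS.d hn
  have hI := Φ.EG_le_Iso h.1.mem
  refine ⟨e, he, f, hf, hef, _, ⟨h.1, hS.modQ (hS.modQ h.2.1 (q e) f) (q f) e, fun x => ?_⟩,
    ?_, ?_, fun x hx => by simp [hx e he, hx f hf]⟩
  · rw [h.2.2, ← hI.1 f x, ← hI.1 e x, h.1.fix e he, h.1.fix f hf]
  · simp only [hS.self, hS.symm e f, hef]; linear_combination q e * hS.two
  · simp only [hS.self, hef]; linear_combination q f * hS.two

theorem QStage.step [FiniteDimensional F V] (hS : IsS2 Φ) (h : QStage Φ Y u w j q) (he : e ∈ Y)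
    (hf : f ∈ Y) (hef : Φ.B e f = 1) (qe : q e = 0) (a : F) :
    QStage Φ (Y ⊓ LinearMap.ker (Φ.B e) ⊓ LinearMap.ker (Φ.B f))
      ((hS.valid (h.1.perp e he) (q w)).eich * u) (f + a • e) (j + 2) q :=
  ⟨h.1.step he _ hf (hS.Q f) hef a, h.2.1, fun x => by
    rw [mul_app, Fm.Valid.eich_apply, hS.q_ef h.2.1 qe (h.1.perp e he), h.2.2]
    linear_combination q w * Φ.B e (u x) ^ 2 * hS.two⟩

theorem qStage_base [FiniteDimensional F V] (hS : IsS2 Φ) (hq : IsQ Φ q) (hef : Φ.B e f = 1)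
    (δ : F) : ∃ q', QStage Φ (⊤ ⊓ LinearMap.ker (Φ.B e) ⊓ LinearMap.ker (Φ.B f))
      (hS.valid (map_zero (Φ.B e)) 1).eich f 1 q' ∧ q' e = 1 ∧ q' f = δ := by
  have h1 := hS.modQ (hS.modQ hq (1 + q e) f) (δ + q f) e
  have h2 : q e + (1 + q e) * Φ.B f e ^ 2 + (δ + q f) * Φ.B e e ^ 2 = 1 := by
    simp only [hS.self, hS.symm e f, hef]; linear_combination q e * hS.two
  refine ⟨_, ⟨stage_two _ one_ne_zero (hS.Q f) hef, h1, fun x => ?_⟩, h2, ?_⟩
  · exact hS.q_tv h1 (by rw [one_mul, h2]) x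
  · simp only [hS.self, hef]; linear_combination q f * hS.two

theorem QStage.iter [FiniteDimensional F V] (hS : IsS2 Φ) (h : QStage Φ Y u w j q) (hw : q w = 1)
    (k : ℕ) (hn : j + 1 + 2 * k ≤ finrank F V) :
    ∃ Y' u' w' q', QStage Φ Y' u' w' (j + 2 * k) q' ∧ q' w' = 1 := by
  induction k with
  | zero => exact ⟨Y, u, w, q, h, hw⟩
  | succ k ih =>
    obtain ⟨Y', u', w', q', h', -⟩ := ih (by omega)
    obtain ⟨e, he, f, hf, hef, q'', h'', qe, qf, -⟩ := h'.next hS (by omega)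
    refine ⟨_, _, _, _, h''.step hS he hf hef qe 1, ?_⟩
    rw [one_smul, h''.2.1.add, qe, qf, hS.symm, hef]; ring

theorem conj_tv (hS : IsS2 Φ) (hu : u ∈ Φ.Iso) (hv : Φ.Valid v 0 a) (x : V) :
    (hv.eich * u * hv.eich⁻¹ * u⁻¹) x = Φ.ef v 0 a (Φ.ef (u v) 0 a x) := by
  change Φ.ef v 0 a (u (Φ.ef v (-0) (Φ.ε * Φ.σ a) (u⁻¹ x))) = _
  rw [Fm.Iso.ef hu, app_inv_app, hS.eps1, hS.sigma, neg_zero, map_zero, one_mul]

theorem Stage.step_perp_pow (h : Stage Φ Y u w j) (he : e ∈ Y) {c : F} (hv : Φ.Valid e w c)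
    (h1 : Φ.B e v = 0) :
    (nl (hv.eich * u) ^ (j + 1)) v = (-(Φ.ε * Φ.B w ((nl u ^ j) v))) • e := by
  have hI := Φ.EG_le_Iso h.mem
  have h2 : Φ.B e ((nl u ^ j) v) = 0 := by
    cases j
    · exact h1
    · exact B_nl_pow_fix hI (h.fix e he) _ _
  obtain ⟨t, ht⟩ : ∃ t : F, (nl (hv.eich * u) ^ j) v = (nl u ^ j) v + t • e := by
    cases j with
    | zero => exact ⟨0, by simp⟩
    | succ k => simpa [h1] using h.step_pow he hv k v
  rw [nl_pow_succ, ht, map_add, map_smul, nl_apply _ e, h.step_e he hv, sub_self, smul_zero,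
    add_zero, h.step_perp he hv h2, app_eq_nl u, ← nl_pow_succ, h.nil, add_zero, zero_sub, neg_smul]

theorem QStage.gen3 [Finite F] [FiniteDimensional F V] (hS : IsS2 Φ) (h : QStage Φ Y u w j q)
    (hd : finrank F V = j + 3) (h4 : 4 ≤ finrank F V) (he : e ∈ Y) (hf : f ∈ Y) (hef : Φ.B e f = 1)
    (qe : q e = 0) (qf : q f = 0) (hw : q w ≠ 1) (hv : Φ.B e v = 0)
    (hwv : Φ.B w ((nl u ^ j) v) ≠ 0) (ha : a * q v = 1) (hb : Φ.B v (u v) ≠ 0)
    (hgen : ∀ L : Subring F, (a * Φ.B v (u v)) ^ 2 ∈ L → L = ⊤)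
    (big : ∀ u', Reg Φ u' e f (j + 2) → (∀ x, Φ.B e x = 0 → ∃ t : F, u' x = u x + t • e) →
      (nl u' ^ (j + 1)) v ≠ 0 → (nl u' ^ (j + 2)) v = 0 →
      5 ≤ finrank F V ∨ ∀ w, Φ.B e w = 0 → q w = 0 → ∃ t : F, w = t • e)
    (H : ∀ u', Reg Φ u' e f (j + 2) → (∀ x, u' x = Φ.ef e w (q w + 1) (u x)) →
      (∀ x, q (u' x) = q x + Φ.B e x ^ 2) → Φ.B v (u' v) = Φ.B v (u v) →
      (nl u' ^ (j + 1)) v ≠ 0 → (nl u' ^ (j + 2)) v = 0 →
      ∃ g ∈ Φ.EG, ∀ M ≤ Φ.Iso, u' ∈ M → g * u' * g⁻¹ ∈ M →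
        (∃ z ∈ M, ∀ x, z x = Φ.ef v 0 a (Φ.ef (u' v) 0 a x)) ∧
        ∃ w₁ m, Φ.B e w₁ = 0 ∧ Φ.B e m = 0 ∧ Φ.B w₁ m ≠ 0 ∧ Φ.HasE M e w₁ (q w₁)) : Gen3 Φ := by
  have hI := Φ.EG_le_Iso h.1.mem
  have hV := hS.valid (h.1.perp e he) (q w + 1)
  have hR := h.1.reg he hV (hS.Q f) hef
  have hB := h.1.B_step hV hf (hS.Q f) hef
  have h0 : ∀ x, Φ.B e (u x) = Φ.B e x := fun x => by rw [← hI.1 e x, h.1.fix e he]
  have h1 : ∀ x, q ((hV.eich * u) x) = q x + Φ.B e x ^ 2 := fun x => by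
    rw [mul_app, hV.eich_apply, hS.q_ef h.2.1 qe hV.perp, h.2.2, h0]
    linear_combination q w * Φ.B e x ^ 2 * hS.two
  have h2 : ∀ x, Φ.B e x = 0 → ∃ t : F, (hV.eich * u) x = u x + t • e := fun x hx =>
    ⟨_, by rw [mul_app, hV.eich_apply, Fm.ef_apply_of_perp' (by rw [h0, hx]), sub_eq_add_neg,
      ← neg_smul]⟩
  have h3 : Φ.B v ((hV.eich * u) v) = Φ.B v (u v) := by
    obtain ⟨t, ht⟩ := h2 v hv
    rw [ht, map_add, map_smul, Φ.perp_symm hv, smul_zero, add_zero]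
  have h5 := h.1.step_perp_pow he hV hv
  have h6 : (nl (hV.eich * u) ^ (j + 1)) v ≠ 0 :=
    h5 ▸ smul_ne_zero (neg_ne_zero.2 (mul_ne_zero Φ.eps_ne hwv)) hR.ne
  have h7 : (nl (hV.eich * u) ^ (j + 2)) v = 0 := by
    rw [nl_pow_succ, h5, map_smul, nl_apply, hR.fix, sub_self, smul_zero]
  obtain ⟨g, hg, H⟩ := H _ hR (fun _ => rfl) h1 h3 h6 h7
  have hb0 : Φ.B f ((hV.eich * u) f) ≠ 0 := by
    rw [hB]; exact fun c => hw (by linear_combination -c - hS.two)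
  refine hR.gen3 hd (by have := hS.d; omega) hb0 hg fun M hM hu hg' ⟨t, ht, e1⟩ => ?_
  obtain ⟨⟨z, hz, ez⟩, w₁, m, w1, m1, wm, w2⟩ := H M hM hu hg'
  have h8 := hR.half_of hS hM hd (by omega) hu h.2.1 h1 hv h6 h7 ha (h3 ▸ hgen) (h3 ▸ hb) hz ez
    w1 m1 wm w2
  exact hR.full_of_half hS hM h4 hu ⟨h.2.1, qe, h8, big _ hR h2 h6 h7⟩ qf h1 (h.1.perp e he)
    (m := (nl u ^ j) v) (by
      cases j
      · exact hv
      · exact B_nl_pow_fix hI (h.1.fix e he) _ _) hwv hw hb0 ht e1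

theorem subring_top_of_pow [Finite F] (h2 : (2 : F) = 0) {s : F}
    (hs : ∀ L : Subfield F, s ∈ L → L = ⊤) (L : Subring F) (h : s ^ 2 ∈ L ∨ (s ^ 2) ^ 2 ∈ L) :
    L = ⊤ := by
  have := hs (L.toSubfield fun _ => inv_mem_subring L) (mem_of_sq_mem h2 (h.elim id fun h =>
    mem_of_sq_mem h2 (L := L.toSubfield fun _ => inv_mem_subring L) h))
  exact congrArg Subfield.toSubring this

theorem gen3_sp_four [Finite F] [FiniteDimensional F V] (hS : IsS2 Φ) (hq : IsQ Φ q)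
    (hF : Nat.card F ≠ 2) (hn : finrank F V = 4) : Gen3 Φ := by
  have hd := hS.d
  obtain ⟨s, hs, hs'⟩ := exists_irred_trace (F := F)
  have s0 : s ≠ 0 := fun c => hs' 1 (by rw [c]; linear_combination hS.two)
  have s1 : s ≠ 1 := fun c => hF (by
    have : CharP F 2 := CharTwo.of_one_ne_zero_of_two_eq_zero one_ne_zero hS.two
    exact closure_empty_iff.1 (subring_top_of_pow hS.two hs _ (Or.inl (by simp [c]))))
  obtain ⟨e₀, -, f₀, -, -, -, h₀⟩ := Φ.nd_top.exists_hyp (by rw [finrank_top]; omega)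
  obtain ⟨q₁, h, q1, q2⟩ := qStage_base hS hq h₀ (s ^ 2)⁻¹
  obtain ⟨e, he, f, hf, hef, q₂, h', qe, qf, hq₂⟩ := h.next hS (by omega)
  rw [← hq₂ _ fun y hy => Φ.perp_symm hy.1.2] at q1
  rw [← hq₂ _ fun y hy => Φ.perp_symm hy.2] at q2
  have e1 : Φ.B e₀ e = 0 := he.1.2
  have e2 : Φ.B f₀ e = 0 := he.2
  have e3 : ∀ x, (hS.valid (map_zero (Φ.B e₀)) 1).eich x = x + Φ.B e₀ x • e₀ := fun x => by
    simp [Fm.Valid.eich_apply, hS.ef_eq]
  have e4 : Φ.B f₀ ((hS.valid (map_zero (Φ.B e₀)) 1).eich f₀) = 1 := by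
    simp [e3, hS.self, h₀, hS.symm e₀ f₀]
  refine h'.gen3 hS hn hn.ge he hf hef qe qf (fun c => s1 ?_) (Φ.perp_symm e2) h'.1.top
    (a := s ^ 2) (by rw [q2, mul_inv_cancel₀ (pow_ne_zero 2 s0)]) (by simp [e4])
    (fun L hL => subring_top_of_pow hS.two hs L (Or.inr (by simpa [e4] using hL)))
    (fun u' hR h1 h2 h3 => Or.inr fun w w1 w2 => ?_) fun u' hR h1 h2 h3 h4 h5 => ?_
  · rw [q2, inv_eq_one] at c
    have : (s - 1) ^ 2 = 0 := by linear_combination c + (1 - s) * hS.two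
    exact sub_eq_zero.1 (pow_eq_zero_iff two_ne_zero |>.1 this)
  · have k1 : e ∈ Submodule.span F {e, e₀, f₀} := Submodule.subset_span (by simp)
    have k2 : e₀ ∈ Submodule.span F {e, e₀, f₀} := Submodule.subset_span (by simp)
    have k3 : f₀ ∈ Submodule.span F {e, e₀, f₀} := Submodule.subset_span (by simp)
    have k4 : Submodule.span F {e, e₀, f₀} ≤ LinearMap.ker (Φ.B e) := by
      rw [Submodule.span_le]
      rintro x (rfl | rfl | rfl)
      exacts [hS.self _, Φ.perp_symm e1, Φ.perp_symm e2]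
    have := hR.cyc hn (by omega) k4 (fun x hx => by
      obtain ⟨t, ht⟩ := h1 x (k4 hx)
      rw [ht, e3]
      exact add_mem (add_mem hx (Submodule.smul_mem _ _ k2)) (Submodule.smul_mem _ _ k1)) k3 h2 h3
    obtain ⟨t, α, β, rfl⟩ := Submodule.mem_span_triple.1 (this.ge w1)
    rw [add_assoc, add_comm, h'.2.1.add_smul qe (by simp [Φ.perp_symm e1, Φ.perp_symm e2]),
      h'.2.1.add, h'.2.1.smul, h'.2.1.smul, q1, q2, Φ.B_smul_left, Φ.B_smul_right, h₀,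
      hS.sigma] at w2
    have b0 : β = 0 := by
      by_contra b0
      apply hs' (α * s / β)
      field_simp at w2 ⊢
      linear_combination w2 - α * s ^ 2 * β * hS.two
    have a0 : α = 0 := by simpa [b0] using w2
    exact ⟨t, by simp [a0, b0]⟩
  · refine ⟨_, (hS.valid (map_zero (Φ.B f₀)) (s ^ 2)).eich_mem, fun M hM hu hg =>
      ⟨⟨_, M.mul_mem hg (M.inv_mem hu), conj_tv hS hR.iso _⟩, e₀, f₀, Φ.perp_symm e1,
        Φ.perp_symm e2, by simp [h₀], u' * u', M.mul_mem hu hu, fun x => ?_⟩⟩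
    simp only [mul_app, h1, e3, hS.ef_eq, Φ.bsimp, hS.self, q1, e1, e2, h₀, hS.symm e₀ e,
      hS.symm f₀ e, hS.symm e₀ f₀]
    have := hS.two
    match_scalars <;> grind

theorem gen3_sp_six [Finite F] [FiniteDimensional F V] (hS : IsS2 Φ) (hq : IsQ Φ q) {n : ℕ}
    (hn : finrank F V = 2 * n + 6) : Gen3 Φ := by
  have hd := hS.d
  obtain ⟨s, hs, hs'⟩ := exists_irred_trace (F := F)
  have s0 : s ≠ 0 := fun c => hs' 1 (by rw [c]; linear_combination hS.two)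
  obtain ⟨e₀, -, f₀, -, -, -, h₀⟩ := Φ.nd_top.exists_hyp (by rw [finrank_top]; omega)
  obtain ⟨q₁, h, -, q2⟩ := qStage_base hS hq h₀ 1
  obtain ⟨Y, u, w, q₂, h, hw⟩ := h.iter hS q2 n (by omega)
  obtain ⟨e₂, he₂, f₂, hf₂, hef₂, q₃, h', qe₂, qf₂, hq₃⟩ := h.next hS (by omega)
  rw [← hq₃ w h.1.perp] at hw
  have h1 := h'.step hS he₂ hf₂ hef₂ qe₂ 0
  have h2 := (h'.step hS he₂ hf₂ hef₂ qe₂ s⁻¹).1
  have h3 := h'.1.step_bot he₂ (hS.valid (h'.1.perp _ he₂) (q₃ w)) (v := f₂ + s⁻¹ • e₂)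
    (by simp [hef₂, hS.self])
  have h4 : Φ.B (f₂ + s⁻¹ • e₂) (((hS.valid (h'.1.perp _ he₂) (q₃ w)).eich * u)
      (f₂ + s⁻¹ • e₂)) = 1 := by
    rw [LinearEquiv.map_add, LinearEquiv.map_smul, h'.1.step_e he₂, h'.1.step_f _ hf₂ hef₂]
    simp only [Φ.bsimp, hS.self, hef₂, hS.symm e₂ f₂, h'.1.perp _ he₂, h'.1.perp _ hf₂, hw,
      hS.sigma, hS.eps]
    linear_combination s⁻¹ * hS.two
  generalize (hS.valid (h'.1.perp _ he₂) (q₃ w)).eich * u = u₁ at h1 h2 h3 h4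
  rw [zero_smul, add_zero] at h1
  obtain ⟨e, he, f, hf, hef, q₄, h5, qe, qf, hq₄⟩ := h1.next hS (by omega)
  have v1 : q₄ (f₂ + s⁻¹ • e₂) = s⁻¹ := by
    rw [hq₄ _ h2.perp, h'.2.1.add, h'.2.1.smul, qe₂, qf₂, Φ.B_smul_right, hS.symm, hef₂]; ring
  have v2 := h2.perp e he
  generalize f₂ + s⁻¹ • e₂ = v at h2 h3 h4 v1 v2
  refine h5.gen3 hS (by omega) (by omega) he hf hef qe qf (by simp [hq₄ _ h1.1.perp, qf₂]) v2
    (by rw [h3]; simp [hS.symm e₂ f₂, hef₂, Φ.eps_ne, h'.1.top]) (a := s)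
    (by rw [v1, mul_inv_cancel₀ s0]) (by simp [h4])
    (fun L hL => subring_top_of_pow hS.two hs L (Or.inl (by simpa [h4] using hL)))
    (fun _ _ _ _ _ => Or.inl (by omega)) fun u' hR _ h7 h8 h9 h10 => ?_
  obtain ⟨k, -, k0, hk⟩ := exists_ne_zero_ker [Φ.B e, Φ.B f, Φ.B v, Φ.B v ∘ₗ nl u',
    Φ.B (u' v) ∘ₗ nl u'] ⊤ (by simp; omega)
  simp only [List.mem_cons, List.not_mem_nil, or_false, forall_eq_or_imp, forall_eq,
    LinearMap.comp_apply] at hk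
  obtain ⟨k1, k2, k3, k4, k5⟩ := hk
  have hk := hS.valid k1 0
  have hv := hS.valid (map_zero (Φ.B v)) s
  refine ⟨hv.eich * hk.eich, Φ.EG.mul_mem hv.eich_mem hk.eich_mem, fun M hM hu hg => ?_⟩
  have n1 := B_nl_fix hR.iso hR.fix k
  have n2 : Φ.B e (u' v) = 0 := by rw [← v2, ← hR.iso.1 e v, hR.fix]
  have hE := hS.valid n1 (q₄ (nl u' k))
  have e1 : hk.eich * u' * hk.eich⁻¹ * u'⁻¹ = hE.eich := by
    obtain ⟨t, ht, et⟩ := (hasE_of_conj (M := Φ.Iso) le_rfl hR.iso hR.fix hR.ne hk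
      (Φ.Iso.mul_mem (Φ.Iso.mul_mem (Φ.EG_le_Iso hk.eich_mem) hR.iso)
        (Φ.Iso.inv_mem (Φ.EG_le_Iso hk.eich_mem)))).2
    refine LinearEquiv.ext fun x => ?_
    have hv1 := hk.neg.map hR.iso
    rw [hR.fix] at hv1
    change Φ.ef e k 0 (u' (Φ.ef e (-k) (Φ.ε * Φ.σ 0) (u'⁻¹ x))) = _
    rw [Fm.Iso.ef hR.iso, hR.fix, app_inv_app, hk.ef_ef hv1, hE.eich_apply, nl_apply, hS.sub_eq,
      h5.2.1.add, h7, k1, map_neg, ← sub_eq_add_neg, hS.sub_eq, add_comm k, map_neg, hS.symm k]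
    congr 1
    rw [map_zero]
    linear_combination (-q₄ k - Φ.B k (u' k)) * hS.two
  set z := hv.eich * u' * hv.eich⁻¹ * u'⁻¹ with hz
  have ez := conj_tv hS hR.iso hv
  have comm : ∀ t ∈ Φ.Iso, t e = e → t (nl u' k) = nl u' k → Commute t hE.eich :=
    fun t ht t1 t2 => LinearEquiv.ext fun x => by
      rw [mul_app, mul_app, hE.eich_apply, hE.eich_apply, Fm.Iso.ef ht, t1, t2]
  have c1 := comm hv.eich (Φ.EG_le_Iso hv.eich_mem)
    (Fm.ef_apply_of_perp (Φ.perp_symm v2) (by simp)) (Fm.ef_apply_of_perp k4 (by simp))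
  have c2 := comm z (Φ.EG_le_Iso (Φ.EG.mul_mem (Φ.EG.mul_mem (Φ.EG.mul_mem hv.eich_mem hR.mem)
    (Φ.EG.inv_mem hv.eich_mem)) (Φ.EG.inv_mem hR.mem)))
    (by rw [hz, hS.tv_tv ez]; simp [Φ.perp_symm v2, Φ.perp_symm n2])
    (by rw [hz, hS.tv_tv ez]; simp [k4, k5])
  have e2 : hE.eich * z ∈ M := by
    convert M.mul_mem hg (M.inv_mem hu) using 1
    rw [hz, ← mul_assoc, ← mul_assoc, ← mul_assoc, ← c1.eq, ← e1]
    group
  have e3 : hE.eich ^ 2 = 1 := LinearEquiv.ext fun x => by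
    rw [sq, mul_app, hE.eich_apply, hE.eich_apply, hE.ef_ef hE, ← hS.sub_eq, sub_self, hS.self,
      ← two_mul, hS.two, zero_mul, add_zero, Fm.ef_zero]
    rfl
  obtain ⟨m, hm⟩ := hS.exists_odd (by rw [h8, h4, mul_one]; exact s0) ez
  have e4 : hE.eich ∈ M := by
    have := M.pow_mem e2 (2 * m + 1)
    rwa [c2.symm.mul_pow, hm, mul_one, pow_succ, pow_mul, e3, one_pow, one_mul] at this
  refine ⟨⟨z, by simpa using M.mul_mem (M.inv_mem e4) e2, ez⟩, nl u' k, ?_⟩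
  by_contra hc
  push Not at hc
  have h11 : ∀ m, Φ.B e m = 0 → Φ.B (nl u' k) m = 0 := fun m hm => by
    by_contra c
    exact hc m n1 hm c ⟨_, e4, hE.eich_apply⟩
  have h12 := hR.cyc (W := LinearMap.ker (Φ.B e) ⊓ LinearMap.ker (Φ.B k)) (by omega) (by omega)
    inf_le_left (fun x hx => ?_) (v := v) ⟨v2, Φ.perp_symm k3⟩ h9 h10
  · refine k0 (Φ.nondeg k fun y => ?_)
    have : Φ.B k (y - Φ.B e y • f) = 0 := (h12.ge (show Φ.B e (y - Φ.B e y • f) = 0 by simp [hef])).2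
    simpa [Φ.perp_symm k2] using this
  · have x1 : Φ.B e (u' x) = 0 := by rw [← show Φ.B e x = 0 from hx.1, ← hR.iso.1 e x, hR.fix]
    have := h11 _ x1
    rw [nl_apply, Φ.B_sub_left, hR.iso.1, show Φ.B k x = 0 from hx.2, zero_sub, neg_eq_zero] at this
    exact ⟨x1, this⟩

end Cfsg.Agent.KSG
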