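import Mathlib
import Cfsg.Agent.KSG.WeightBound

/-!
# Traces on weight spaces; integrality of eigenvalues of sums of group elements
-/

set_option autoImplicit false

namespace Cfsg.Agent.KSG

open Module

section
variable {F : Type*} [Field F] {A : Type*} [AddCommGroup A] [Module F A]
  {V : Type*} [AddCommGroup V] [Module ℂ V]

/-- The projection on a weight space. -/
noncomputable def wtP [Fintype A] (ψ : AddChar F ℂ) (τ : AddChar A (Module.End ℂ V))
    (f : Module.Dual F A) : Module.End ℂ V :=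
  (Fintype.card A : ℂ)⁻¹ • wtProj ψ τ f

variable [Fintype A] {ψ : AddChar F ℂ} {τ : AddChar A (Module.End ℂ V)}

theorem wtP_mem (f : Module.Dual F A) (v : V) : wtP ψ τ f v ∈ wtSpace ψ τ f :=
  Submodule.smul_mem _ _ (wtProj_mem ψ τ f v)

theorem wtP_of_mem (hψ : ψ ≠ 1) {f : Module.Dual F A} {v : V} (hv : v ∈ wtSpace ψ τ f) :
    wtP ψ τ f v = v := by
  rw [wtP, LinearMap.smul_apply, (wtProj_of_mem hψ hv).1 rfl, smul_smul, inv_mul_cancel₀ (by simp),
    one_smul]

theorem wtP_of_mem_ne (hψ : ψ ≠ 1) {f g : Module.Dual F A} (h : f ≠ g) {v : V}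
    (hv : v ∈ wtSpace ψ τ g) : wtP ψ τ f v = 0 := by
  rw [wtP, LinearMap.smul_apply, (wtProj_of_mem hψ hv).2 h, smul_zero]

theorem isProj_wtP (hψ : ψ ≠ 1) (f : Module.Dual F A) :
    LinearMap.IsProj (wtSpace ψ τ f) (wtP ψ τ f) :=
  ⟨wtP_mem f, fun _ h => wtP_of_mem hψ h⟩

theorem sum_wtP_apply [Finite F] [Fintype (Module.Dual F A)] (hψ : ψ ≠ 1) (v : V) :
    ∑ f : Module.Dual F A, wtP ψ τ f v = v := by
  simp only [wtP, LinearMap.smul_apply]
  rw [← Finset.smul_sum, sum_wtProj hψ, smul_smul, inv_mul_cancel₀ (by simp), one_smul]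

theorem sum_wtP [Finite F] [Fintype (Module.Dual F A)] (hψ : ψ ≠ 1) :
    ∑ f : Module.Dual F A, wtP ψ τ f = 1 := by
  ext v
  rw [LinearMap.sum_apply, sum_wtP_apply hψ]; rfl

/-- An operator commuting with `τ` commutes with the projections. -/
theorem wtP_comm {T : Module.End ℂ V} (h : ∀ a, T * τ a = τ a * T) (f : Module.Dual F A) :
    T * wtP ψ τ f = wtP ψ τ f * T := by
  simp only [wtP, wtProj, mul_smul_comm, smul_mul_assoc, Finset.mul_sum, Finset.sum_mul, h]

/-- The weight components of an eigenvector of `τ a`. -/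
theorem wtP_eq_zero_of_eigen {f : Module.Dual F A} {a : A} {v : V} {c : ℂ}
    (hv : τ a v = c • v) (h : ψ (f a) ≠ c) : wtP ψ τ f v = 0 := by
  have h1 := wtP_mem (ψ := ψ) (τ := τ) f v a
  have h2 : τ a (wtP ψ τ f v) = c • wtP ψ τ f v := by
    rw [← Module.End.mul_apply, wtP_comm (fun b => by
      rw [← AddChar.map_add_eq_mul, add_comm, AddChar.map_add_eq_mul]), Module.End.mul_apply, hv,
      map_smul]
  rw [h2, ← sub_eq_zero, ← sub_smul, smul_eq_zero] at h1
  exact h1.resolve_left fun h' => h (sub_eq_zero.1 h').symm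

/-- To prove a linear property of `v`, prove it for the non-zero weight components. -/
theorem mem_of_wtP_mem [Finite F] (hψ : ψ ≠ 1) (U : Submodule ℂ V) {v : V}
    (h : ∀ f : Module.Dual F A, wtP ψ τ f v ≠ 0 → wtP ψ τ f v ∈ U) : v ∈ U := by
  have := finite_dual (F := F) (A := A)
  have := Fintype.ofFinite (Module.Dual F A)
  rw [← sum_wtP_apply (τ := τ) hψ v]
  refine U.sum_mem fun f _ => ?_
  by_cases h0 : wtP ψ τ f v = 0
  · rw [h0]; exact U.zero_mem
  · exact h f h0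

variable [FiniteDimensional ℂ V]

theorem trace_wtP (hψ : ψ ≠ 1) (f : Module.Dual F A) :
    LinearMap.trace ℂ V (wtP ψ τ f) = finrank ℂ (wtSpace ψ τ f) :=
  (isProj_wtP hψ f).trace

theorem finrank_wt_eq (hψ : ψ ≠ 1) (f : Module.Dual F A) :
    (finrank ℂ (wtSpace ψ τ f) : ℂ) =
      (Fintype.card A : ℂ)⁻¹ * ∑ a, ψ (-f a) * LinearMap.trace ℂ V (τ a) := by
  rw [← trace_wtP hψ]
  simp [wtP, wtProj]

theorem trace_eq_sum_wtP [Finite F] [Fintype (Module.Dual F A)] (hψ : ψ ≠ 1)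
    (τ : AddChar A (Module.End ℂ V)) (T : Module.End ℂ V) :
    LinearMap.trace ℂ V T = ∑ f, LinearMap.trace ℂ V (T * wtP ψ τ f) := by
  rw [← map_sum, ← Finset.mul_sum, sum_wtP hψ, mul_one]

theorem trace_mul_wtP_of_map (hψ : ψ ≠ 1) {T : Module.End ℂ V} {f g : Module.Dual F A}
    (hfg : f ≠ g) (h : ∀ v ∈ wtSpace ψ τ f, T v ∈ wtSpace ψ τ g) :
    LinearMap.trace ℂ V (T * wtP ψ τ f) = 0 := by
  have h1 : wtP ψ τ f * wtP ψ τ f = wtP ψ τ f := by
    ext v; exact wtP_of_mem hψ (wtP_mem f v)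
  rw [← h1, ← mul_assoc, LinearMap.trace_mul_comm]
  have : wtP ψ τ f * (T * wtP ψ τ f) = 0 := by
    ext v; exact wtP_of_mem_ne hψ hfg (h _ (wtP_mem f v))
  rw [this, map_zero]

theorem trace_mul_wtP_of_smul (hψ : ψ ≠ 1) {T : Module.End ℂ V} {f : Module.Dual F A} {c : ℂ}
    (h : ∀ v ∈ wtSpace ψ τ f, T v = c • v) :
    LinearMap.trace ℂ V (T * wtP ψ τ f) = c * finrank ℂ (wtSpace ψ τ f) := by
  have : T * wtP ψ τ f = c • wtP ψ τ f := by
    ext v; exact h _ (wtP_mem f v)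
  rw [this, map_smul, trace_wtP hψ, smul_eq_mul]

omit [Fintype A] in
theorem trace_mul_proj {U : Submodule ℂ V} {P T : Module.End ℂ V} (hP : LinearMap.IsProj U P)
    (h : ∀ v ∈ U, T v ∈ U) :
    LinearMap.trace ℂ V (T * P) = LinearMap.trace ℂ U (T.restrict h) := by
  have : T * P = U.subtype ∘ₗ (T.restrict h ∘ₗ hP.codRestrict) := by
    ext v; rfl
  rw [this, LinearMap.trace_comp_comm']
  congr 1
  ext v
  simp [hP.map_id v v.2]

theorem trace_mul_wtP_restrict (hψ : ψ ≠ 1) {T : Module.End ℂ V} {f : Module.Dual F A}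
    (h : ∀ v ∈ wtSpace ψ τ f, T v ∈ wtSpace ψ τ f) :
    LinearMap.trace ℂ V (T * wtP ψ τ f) = LinearMap.trace ℂ (wtSpace ψ τ f) (T.restrict h) :=
  trace_mul_proj (isProj_wtP hψ f) h

theorem trace_addChar_eq_sum [Finite F] [Fintype (Module.Dual F A)] (hψ : ψ ≠ 1)
    (τ : AddChar A (Module.End ℂ V)) (a : A) :
    LinearMap.trace ℂ V (τ a) = ∑ f : Module.Dual F A, ψ (f a) * finrank ℂ (wtSpace ψ τ f) := by
  rw [trace_eq_sum_wtP hψ τ]
  exact Finset.sum_congr rfl fun f _ => trace_mul_wtP_of_smul hψ fun v hv => hv a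

theorem finrank_eq_sum_wt [Finite F] [Fintype (Module.Dual F A)] (hψ : ψ ≠ 1)
    (τ : AddChar A (Module.End ℂ V)) :
    finrank ℂ V = ∑ f : Module.Dual F A, finrank ℂ (wtSpace ψ τ f) := by
  have := trace_addChar_eq_sum hψ τ 0
  simp only [AddChar.map_zero_eq_one, LinearMap.trace_one, map_zero, one_mul] at this
  exact_mod_cast this

theorem sum_addChar_eq_wtP : ∑ a, τ a = (Fintype.card A : ℂ) • wtP ψ τ 0 := by
  rw [wtP, smul_smul, mul_inv_cancel₀ (by simp), one_smul]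
  simp [wtProj]

end

section
variable {F : Type*} [Field F] {A : Type*} [AddCommGroup A] [Module F A]

theorem sum_dual_apply_eq_zero [Finite F] [Finite A] [Fintype (Module.Dual F A)] {ψ : AddChar F ℂ}
    (hψ : ψ ≠ 1) {a : A} (ha : a ≠ 0) : ∑ f : Module.Dual F A, ψ (f a) = 0 := by
  have := Module.Finite.of_finite (R := F) (M := A)
  exact sum_addChar_dual_eq_zero (A := Module.Dual F A) hψ (f := Module.Dual.eval F A a)
    (fun h => ha ((Module.evalEquiv F A).injective (by simpa using h)))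

theorem addChar_mul_ne [Finite F] {ψ : AddChar F ℂ} (hψ : ψ ≠ 1) {x y : F} (h : x ≠ y) :
    ∃ c, ψ (c * x) ≠ ψ (c * y) := by
  obtain ⟨t, ht⟩ := AddChar.ne_one_iff.1 hψ
  refine ⟨t / (x - y), fun e => ht ?_⟩
  have : t = t / (x - y) * x - t / (x - y) * y := by
    field_simp [sub_ne_zero.2 h]
  rw [this, AddChar.map_sub_eq_div, e, div_self]
  intro h0
  have := AddChar.map_add_eq_mul ψ (t / (x - y) * y) (-(t / (x - y) * y))
  rw [h0] at this
  simp at this

end

section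
variable {G : Type*} [Group G] {V : Type*} [AddCommGroup V] [Module ℂ V]

theorem isIntegral_of_sum_eigen [Finite G] (ρ : G →* Module.End ℂ V) (m : Multiset G) {v : V}
    (hv : v ≠ 0) {ω : ℂ} (h : (m.map ρ).sum v = ω • v) : IsIntegral ℤ ω := by
  let x : MonoidAlgebra ℤ G := (m.map (MonoidAlgebra.of ℤ G)).sum
  let φ : MonoidAlgebra ℤ G →ₐ[ℤ] Module.End ℂ V := MonoidAlgebra.lift ℤ (Module.End ℂ V) G ρ
  have hx : φ x = (m.map ρ).sum := by
    simp only [x, map_multiset_sum, Multiset.map_map]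
    congr 2
    ext1 g
    simp [φ]
  have hi : IsIntegral ℤ (φ x) := (Algebra.IsIntegral.isIntegral x).map φ
  obtain ⟨p, hp, hp0⟩ := hi
  refine ⟨p, hp, ?_⟩
  have he : Module.End.HasEigenvector (φ x) ω v := ⟨Module.End.mem_eigenspace_iff.2 (hx ▸ h), hv⟩
  have h1 := Module.End.aeval_apply_of_hasEigenvector (p := p.map (algebraMap ℤ ℂ)) he
  rw [Polynomial.aeval_map_algebraMap, Polynomial.aeval_def, hp0, Polynomial.eval_map] at h1
  exact (smul_eq_zero.1 h1.symm).resolve_right hv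

theorem nat_dvd_of_isIntegral {ω : ℂ} (h : IsIntegral ℤ ω) {D : ℕ} {M : ℤ} (e : ω * D = M) :
    (D : ℤ) ∣ M := by
  rcases Nat.eq_zero_or_pos D with rfl | hD
  · simp only [Nat.cast_zero, mul_zero] at e
    have : M = 0 := by exact_mod_cast e.symm
    simp [this]
  have hD' : (D : ℂ) ≠ 0 := by exact_mod_cast hD.ne'
  have h1 : ω = algebraMap ℚ ℂ ((M : ℚ) / D) := by
    simp [eq_div_iff hD', e]
  rw [h1, isIntegral_algebraMap_iff (algebraMap ℚ ℂ).injective] at h
  obtain ⟨y, hy⟩ := IsIntegrallyClosed.isIntegral_iff.1 h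
  refine ⟨y, ?_⟩
  have h2 : (M : ℚ) = D * y := by
    have hD'' : (D : ℚ) ≠ 0 := by exact_mod_cast hD.ne'
    rw [show (y : ℚ) = M / D from hy]
    field_simp
  exact_mod_cast h2

end

end Cfsg.Agent.KSG
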