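import Mathlib
import Cfsg.Agent.KSG.WtTrace

/-!
# Representations of transvection systems with multiplicity-one weights
-/

set_option autoImplicit false

namespace Cfsg.Agent.KSG.SLM

open Module

universe u v

section Lin
variable {F : Type*} [Field F] {N : Type*} [AddCommGroup N] [Module F N]

theorem exists_dual_one_zero {w u : N} (h : w ∉ Submodule.span F {u}) :
    ∃ β : Dual F N, β w = 1 ∧ β u = 0 := by
  obtain ⟨f, hf, hf'⟩ := Submodule.exists_dual_map_eq_bot_of_notMem h inferInstance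
  refine ⟨(f w)⁻¹ • f, by simp [hf], ?_⟩
  have : f u ∈ (Submodule.span F {u}).map f :=
    Submodule.mem_map_of_mem (Submodule.mem_span_singleton_self u)
  rw [hf', Submodule.mem_bot] at this
  simp [this]

theorem exists_ker_notMem [FiniteDimensional F N] {ι : Type*} [Fintype ι] (f : ι → Dual F N)
    (U : Submodule F N) (h : Fintype.card ι + finrank F U < finrank F N) :
    ∃ w, (∀ i, f i w = 0) ∧ w ∉ U := by
  by_contra! H
  have h1 : LinearMap.ker (LinearMap.pi f) ≤ U := fun w hw =>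
    H w fun i => congrFun (LinearMap.mem_ker.1 hw) i
  have h2 := (LinearMap.pi f).finrank_range_add_finrank_ker
  have h3 := Submodule.finrank_mono h1
  have h4 := (LinearMap.range (LinearMap.pi f)).finrank_le
  rw [Module.finrank_fintype_fun_eq_card] at h4
  omega

/-- Independence of a pair of linear forms. -/
def Indep (φ g : Dual F N) : Prop := (∃ u, φ u = 0 ∧ g u ≠ 0) ∧ ∃ u, g u = 0 ∧ φ u ≠ 0

theorem Indep.symm {φ g : Dual F N} (h : Indep φ g) : Indep g φ := ⟨h.2, h.1⟩

theorem Indep.ne_zero {φ g : Dual F N} (h : Indep φ g) : φ ≠ 0 := by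
  rintro rfl
  obtain ⟨u, -, hu⟩ := h.2
  exact hu rfl

theorem indep_of {φ g : Dual F N} (h0 : φ ≠ 0) {u : N} (h1 : φ u = 0) (h2 : g u ≠ 0) :
    Indep φ g := by
  obtain ⟨z, hz⟩ := DFunLike.ne_iff.1 h0
  exact ⟨⟨u, h1, h2⟩, z - (g z / g u) • u, by simp [h2], by simpa [h1] using hz⟩

theorem trans_fix [FiniteDimensional F N] (h3 : 3 ≤ finrank F N) {R : Dual F N → Dual F N → Prop}
    (hR : ∀ φ g w α, α w = 0 → R φ g → R (φ - φ w • α) (g - g w • α)) {φ g g' : Dual F N}
    (h : Indep φ g) (h' : Indep φ g') (H : R φ g) : R φ g' := by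
  have step : ∀ {g g' : Dual F N} {w}, φ w = 0 → g w = 1 → g' w = 1 → R φ g → R φ g' := by
    intro g g' w h1 h2 h3 H
    simpa [h1, h2] using hR φ g w (g - g') (by simp [h2, h3]) H
  obtain ⟨u, hu, hu'⟩ := h.1
  obtain ⟨u', hv, hv'⟩ := h'.1
  obtain ⟨k, hk, hk'⟩ := exists_ker_notMem ![φ, g] ⊥ (by simp; omega)
  have hk0 : φ k = 0 := hk 0
  have hk1 : g k = 0 := hk 1
  set w2 := (g' u')⁻¹ • u'
  have e2 : g' w2 = 1 := by simp [w2, hv']
  have e2' : φ w2 = 0 := by simp [w2, hv]
  obtain ⟨w1, e1, e1', hw⟩ : ∃ w1, φ w1 = 0 ∧ g w1 = 1 ∧ w2 ∉ Submodule.span F {w1 - w2} := by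
    by_contra! H
    have a := H ((g u)⁻¹ • u) (by simp [hu]) (by simp [hu'])
    have b := H ((g u)⁻¹ • u + k) (by simp [hu, hk0]) (by simp [hu', hk1])
    obtain ⟨c, hc⟩ := Submodule.mem_span_singleton.1 a
    obtain ⟨d, hd⟩ := Submodule.mem_span_singleton.1 b
    have hc' := congrArg g hc
    have hd' := congrArg g hd
    simp only [map_smul, map_sub, map_add, smul_eq_mul, inv_mul_cancel₀ hu', hk1, add_zero]
      at hc' hd'
    have h1 : 1 - g w2 ≠ 0 := by
      intro h0
      rw [h0, mul_zero] at hc'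
      rw [← hc'] at h0
      simp at h0
    have hcd : c = d := mul_right_cancel₀ h1 (hc'.trans hd'.symm)
    have hc0 : c ≠ 0 := by
      rintro rfl
      rw [zero_smul] at hc
      rw [← hc] at e2
      simp at e2
    subst hcd
    have := smul_right_injective N hc0 (hc.trans hd.symm)
    simp only [sub_left_inj, left_eq_add] at this
    exact hk' (by simpa using this)
  obtain ⟨β, hβ, hβ'⟩ := exists_dual_one_zero hw
  have hβ1 : β w1 = 1 := by rw [map_sub, hβ, sub_eq_zero] at hβ'; exact hβ'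
  exact step e2' hβ e2 (step e1 e1' hβ1 H)

theorem trans_indep [FiniteDimensional F N] (h3 : 3 ≤ finrank F N)
    {R : Dual F N → Dual F N → Prop}
    (hR : ∀ φ g w α, α w = 0 → R φ g → R (φ - φ w • α) (g - g w • α)) {φ g φ' g' : Dual F N}
    (h : Indep φ g) (h' : Indep φ' g') (H : R φ g) : R φ' g' := by
  obtain ⟨k, hk, hk'⟩ := exists_ker_notMem ![φ, φ'] ⊥ (by simp; omega)
  obtain ⟨β, hβ, -⟩ := exists_dual_one_zero (F := F) (w := k) (u := 0) (by simpa using hk')
  have i1 : Indep φ β := indep_of h.ne_zero (hk 0) (by simp [hβ])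
  have i2 : Indep φ' β := indep_of h'.ne_zero (hk 1) (by simp [hβ])
  have H1 := trans_fix h3 hR h i1 H
  have H2 : R φ' β := trans_fix h3 (R := fun g φ => R φ g) (fun g φ w α h => hR φ g w α h)
    i1.symm i2.symm H1
  exact trans_fix h3 hR i2 h' H2

theorem card_ker [Finite F] [Finite N] {φ : Dual F N} (h : φ ≠ 0) :
    Nat.card (LinearMap.ker φ) = Nat.card F ^ (finrank F N - 1) := by
  have := Module.Finite.of_finite (R := F) (M := N)
  rw [Module.natCard_eq_pow_finrank (K := F), ← Module.Dual.finrank_ker_add_one_of_ne_zero h]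
  simp

end Lin

variable {F : Type*} [Field F] {N : Type u} [AddCommGroup N] [Module F N]
  {V : Type v} [AddCommGroup V] [Module ℂ V]

/-- A representation of the system of transvections of `N`. -/
structure TRep (τ : N → Dual F N → Module.End ℂ V) : Prop where
  junk : ∀ u φ, φ u ≠ 0 → τ u φ = 1
  zero : ∀ φ, τ 0 φ = 1
  zero' : ∀ u, τ u 0 = 1
  add : ∀ {u w φ}, φ u = 0 → φ w = 0 → τ (u + w) φ = τ u φ * τ w φ
  smul : ∀ (c : F) u φ, τ (c • u) φ = τ u (c • φ)
  conj : ∀ {w α u φ}, α w = 0 → φ u = 0 →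
    τ w α * τ u φ = τ (u + α u • w) (φ - φ w • α) * τ w α
  int : ∀ (m : Multiset (N × Dual F N)) (v : V) (ω : ℂ), v ≠ 0 →
    (m.map fun p => τ p.1 p.2).sum v = ω • v → IsIntegral ℤ ω

variable {τ : N → Dual F N → Module.End ℂ V}

/-- The transvections with a given axis. -/
def TRep.chi (h : TRep τ) (φ : Dual F N) : AddChar (LinearMap.ker φ) (Module.End ℂ V) where
  toFun u := τ u φ
  map_zero_eq_one' := h.zero φ
  map_add_eq_mul' a b := h.add a.2 b.2

theorem TRep.chi_apply (h : TRep τ) (φ : Dual F N) (u : LinearMap.ker φ) :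
    h.chi φ u = τ u φ := rfl

/-- The weight space. -/
noncomputable def TRep.Wt (h : TRep τ) (ψ : AddChar F ℂ) (φ g : Dual F N) : Submodule ℂ V :=
  wtSpace ψ (h.chi φ) (g.domRestrict (LinearMap.ker φ))

theorem TRep.mem_Wt (h : TRep τ) {ψ : AddChar F ℂ} {φ g : Dual F N} {v : V} :
    v ∈ h.Wt ψ φ g ↔ ∀ u, φ u = 0 → τ u φ v = ψ (g u) • v :=
  ⟨fun H u hu => H ⟨u, hu⟩, fun H u => H u u.2⟩

theorem TRep.injective (h : TRep τ) (w : N) (α : Dual F N) : Function.Injective (τ w α) := by
  by_cases hw : α w = 0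
  · have : τ (-w) α * τ w α = 1 := by rw [← h.add (by simp [hw]) hw, neg_add_cancel, h.zero]
    exact Function.LeftInverse.injective (g := τ (-w) α) fun v => LinearMap.congr_fun this v
  · rw [h.junk _ _ hw]; exact Function.injective_id

theorem TRep.map_Wt (h : TRep τ) {ψ : AddChar F ℂ} {φ g α : Dual F N} {w : N} (hw : α w = 0)
    {v : V} (hv : v ∈ h.Wt ψ φ g) : τ w α v ∈ h.Wt ψ (φ - φ w • α) (g - g w • α) := by
  rw [h.mem_Wt] at hv ⊢
  intro u hu
  have hu' : φ (u - α u • w) = 0 := by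
    simpa [mul_comm] using hu
  have := LinearMap.congr_fun (h.conj hw hu') v
  simp only [map_sub, map_smul, hw, smul_zero, sub_zero, sub_add_cancel, Module.End.mul_apply]
    at this
  rw [← this, hv _ hu', map_smul]
  simp [mul_comm]

theorem TRep.finrank_Wt_le [FiniteDimensional ℂ V] (h : TRep τ) {ψ : AddChar F ℂ}
    {φ g α : Dual F N} {w : N} (hw : α w = 0) :
    finrank ℂ (h.Wt ψ φ g) ≤ finrank ℂ (h.Wt ψ (φ - φ w • α) (g - g w • α)) :=
  LinearMap.finrank_le_finrank_of_injective (f := (τ w α).restrict fun _ hv => h.map_Wt hw hv)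
    fun _ _ e => Subtype.ext (h.injective w α (congrArg Subtype.val e))

theorem TRep.finrank_Wt_eq [FiniteDimensional ℂ V] [FiniteDimensional F N] (h : TRep τ)
    (h3 : 3 ≤ finrank F N) {ψ : AddChar F ℂ} {φ g φ' g' : Dual F N} (i : Indep φ g)
    (i' : Indep φ' g') : finrank ℂ (h.Wt ψ φ g) = finrank ℂ (h.Wt ψ φ' g') :=
  le_antisymm
    (trans_indep h3 (R := fun a b => finrank ℂ (h.Wt ψ φ g) ≤ finrank ℂ (h.Wt ψ a b))
      (fun _ _ _ _ hw H => H.trans (h.finrank_Wt_le hw)) i i' le_rfl)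
    (trans_indep h3 (R := fun a b => finrank ℂ (h.Wt ψ φ' g') ≤ finrank ℂ (h.Wt ψ a b))
      (fun _ _ _ _ hw H => H.trans (h.finrank_Wt_le hw)) i' i le_rfl)

theorem TRep.exists_Wt (h : TRep τ) (ψ : AddChar F ℂ) {φ : Dual F N} (h0 : φ ≠ 0)
    {f : Dual F (LinearMap.ker φ)} (hf : f ≠ 0) :
    ∃ g, Indep φ g ∧ g.domRestrict (LinearMap.ker φ) = f ∧ h.Wt ψ φ g = wtSpace ψ (h.chi φ) f := by
  obtain ⟨g, hg⟩ := LinearMap.exists_extend f
  obtain ⟨u, hu⟩ := DFunLike.ne_iff.1 hf
  refine ⟨g, indep_of h0 u.2 (by rw [← hg] at hu; exact hu), hg, ?_⟩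
  rw [← hg]; rfl

/-- Restriction to an invariant subspace. -/
theorem TRep.restrict (h : TRep τ) {W : Submodule ℂ V} (hW : ∀ u φ, ∀ v ∈ W, τ u φ v ∈ W) :
    TRep fun u φ => (τ u φ).restrict (hW u φ) where
  junk u φ H := by ext v; simp [h.junk u φ H]
  zero φ := by ext v; simp [h.zero]
  zero' φ := by ext v; simp [h.zero']
  add h1 h2 := by ext v; simp [h.add h1 h2]
  smul c u φ := by ext v; simp [h.smul]
  conj h1 h2 := by ext v; exact LinearMap.congr_fun (h.conj h1 h2) v
  int m v ω hv H := by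
    refine h.int m v ω (by simpa using hv) ?_
    have : ∀ m : Multiset (N × Dual F N), (m.map fun p => τ p.1 p.2).sum v =
        ((m.map fun p => (τ p.1 p.2).restrict (hW p.1 p.2)).sum v : W) := by
      intro m
      induction m using Multiset.induction_on with
      | empty => simp
      | cons a s ih => simp [ih]
    rw [this, H]; rfl

/-- Composition with an embedding of the system. -/
theorem TRep.sub (h : TRep τ) (H : Submodule F N) (π : N →ₗ[F] H) (hπ : ∀ x : H, π x = x) :
    TRep fun (u : H) (φ : Dual F H) => τ u (φ ∘ₗ π) where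
  junk u φ H := h.junk _ _ (by simpa [hπ] using H)
  zero φ := h.zero _
  zero' φ := by simp [h.zero']
  add h1 h2 := h.add (by simpa [hπ] using h1) (by simpa [hπ] using h2)
  smul c u φ := h.smul c u _
  conj {w α u φ} h1 h2 := by
    have := h.conj (w := w) (α := α ∘ₗ π) (u := u) (φ := φ ∘ₗ π) (by simpa [hπ] using h1)
      (by simpa [hπ] using h2)
    simpa [hπ, LinearMap.sub_comp, LinearMap.smul_comp] using this
  int m v ω hv H := h.int (m.map fun p => (p.1, p.2 ∘ₗ π)) v ω hv (by
    rw [Multiset.map_map]; exact H)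

/-- Multiplicity one, and transvections with centre in the kernel of the weight act trivially. -/
structure Good (h : TRep τ) (ψ : AddChar F ℂ) : Prop where
  one : ∀ φ g, Indep φ g → finrank ℂ (h.Wt ψ φ g) = 1
  fix : ∀ φ g, Indep φ g → ∀ v ∈ h.Wt ψ φ g, ∀ u α, φ u = 0 → g u = 0 → τ u α v = v

variable [Finite F] [Finite N] [FiniteDimensional ℂ V] {ψ : AddChar F ℂ}

theorem TRep.finrank_eq (h : TRep τ) (hψ : ψ ≠ 1) {m : ℕ}
    (hm : ∀ φ g, Indep φ g → finrank ℂ (h.Wt ψ φ g) = m) {φ : Dual F N} (h0 : φ ≠ 0) :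
    finrank ℂ V = finrank ℂ (h.Wt ψ φ 0) + m * (Nat.card F ^ (finrank F N - 1) - 1) := by
  classical
  have := finite_dual (F := F) (A := LinearMap.ker φ)
  have := Fintype.ofFinite (Dual F (LinearMap.ker φ))
  have := Fintype.ofFinite (LinearMap.ker φ)
  rw [finrank_eq_sum_wt hψ (h.chi φ), ← Finset.add_sum_erase _ _ (Finset.mem_univ 0),
    Finset.sum_congr rfl (g := fun _ => m), Finset.sum_const, Finset.card_erase_of_mem (by simp),
    Finset.card_univ, ← Nat.card_eq_fintype_card, card_dual_eq, card_ker h0, smul_eq_mul, mul_comm]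
  · rfl
  · intro f hf
    obtain ⟨g, hg, -, e⟩ := h.exists_Wt ψ h0 (Finset.ne_of_mem_erase hf)
    rw [← e, hm _ _ hg]

theorem Good.trace {h : TRep τ} (hg : Good h ψ) (hψ : ψ ≠ 1) {φ : Dual F N} (h0 : φ ≠ 0) {u : N}
    (hu : φ u = 0) (hu0 : u ≠ 0) :
    LinearMap.trace ℂ V (τ u φ) = finrank ℂ (h.Wt ψ φ 0) - 1 := by
  classical
  have := finite_dual (F := F) (A := LinearMap.ker φ)
  have := Fintype.ofFinite (Dual F (LinearMap.ker φ))
  have := Fintype.ofFinite (LinearMap.ker φ)
  have h1 := trace_addChar_eq_sum hψ (h.chi φ) ⟨u, hu⟩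
  have h2 := sum_dual_apply_eq_zero (A := LinearMap.ker φ) hψ (a := ⟨u, hu⟩)
    (fun e => hu0 (congrArg Subtype.val e))
  rw [← Finset.add_sum_erase _ _ (Finset.mem_univ 0)] at h1 h2
  rw [h.chi_apply] at h1
  rw [h1, Finset.sum_congr rfl (g := fun f => ψ (f ⟨u, hu⟩))]
  · simp only [LinearMap.zero_apply, AddChar.map_zero_eq_one, one_mul] at h2 ⊢
    have : (finrank ℂ (wtSpace ψ (h.chi φ) 0) : ℂ) = finrank ℂ (h.Wt ψ φ 0) := rfl
    linear_combination h2 + this
  · intro f hf
    obtain ⟨g, hg', -, e⟩ := h.exists_Wt ψ h0 (Finset.ne_of_mem_erase hf)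
    rw [← e, hg.one _ _ hg']; simp

theorem Good.trace' {h : TRep τ} (hg : Good h ψ) (hψ : ψ ≠ 1) {φ : Dual F N} (h0 : φ ≠ 0) {u : N}
    (hu : φ u = 0) (hu0 : u ≠ 0) :
    LinearMap.trace ℂ V (τ u φ) = finrank ℂ V - (Nat.card F : ℂ) ^ (finrank F N - 1) := by
  rw [hg.trace hψ h0 hu hu0, h.finrank_eq hψ hg.one h0, one_mul, Nat.cast_add,
    Nat.cast_sub (Nat.one_le_pow _ _ Nat.card_pos)]
  push_cast; ring

omit [Finite N] [FiniteDimensional ℂ V] in
theorem eq_of_wtP_ne_zero {A : Type*} [AddCommGroup A] [Module F A] [Fintype A] (hψ : ψ ≠ 1)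
    {σ : AddChar A (Module.End ℂ V)} {f : Dual F A} {v : V} (h0 : wtP ψ σ f v ≠ 0) {a : A} {x : F}
    (h : ∀ c : F, σ (c • a) v = ψ (c * x) • v) : f a = x := by
  by_contra hne
  obtain ⟨c, hc⟩ := addChar_mul_ne hψ hne
  exact h0 (wtP_eq_zero_of_eigen (h c) (by simpa using hc))

theorem Good.down {h : TRep τ} (hg : Good h ψ) (hψ : ψ ≠ 1) {φ : Dual F N} (h0 : φ ≠ 0) :
    ∃ (τ' : LinearMap.ker φ → Dual F (LinearMap.ker φ) → Module.End ℂ (h.Wt ψ φ 0))
      (h' : TRep τ'), Good h' ψ := by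
  classical
  have := Module.Finite.of_finite (R := F) (M := N)
  obtain ⟨z, hz⟩ : ∃ z, φ z = 1 := by
    obtain ⟨z, hz⟩ := DFunLike.ne_iff.1 h0
    exact ⟨(φ z)⁻¹ • z, by simpa using inv_mul_cancel₀ hz⟩
  let π : N →ₗ[F] LinearMap.ker φ :=
    (LinearMap.id - φ.smulRight z).codRestrict _ fun x => by simp [hz]
  have hπ : ∀ x : LinearMap.ker φ, π x = x := fun x => Subtype.ext (by
    have : φ x = 0 := x.2
    change (x : N) - φ x • z = x
    simp [this])
  have hW : ∀ (u : LinearMap.ker φ) (α : Dual F (LinearMap.ker φ)), ∀ v ∈ h.Wt ψ φ 0,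
      τ u (α ∘ₗ π) v ∈ h.Wt ψ φ 0 := by
    intro u α v hv
    by_cases hu : α u = 0
    · have hφ : φ u = 0 := u.2
      simpa [hφ] using h.map_Wt (w := u) (α := α ∘ₗ π) (by simpa [hπ] using hu) hv
    · rw [h.junk _ _ (by simpa [hπ] using hu)]; exact hv
  have hne : ∀ {α : Dual F (LinearMap.ker φ)}, α ≠ 0 → α ∘ₗ π ≠ 0 := by
    intro α hα e
    exact hα (LinearMap.ext fun x => by simpa [hπ] using LinearMap.congr_fun e x)
  refine ⟨_, (h.sub _ π hπ).restrict hW, fun φ1 g1 i => ?_, fun φ1 g1 i v hv u α h1 h2 => ?_⟩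
  · have := Fintype.ofFinite (LinearMap.ker φ1)
    have := finite_dual (F := F) (A := LinearMap.ker φ)
    have := Fintype.ofFinite (Dual F (LinearMap.ker φ))
    have := Fintype.ofFinite (LinearMap.ker φ)
    have hH : finrank F (LinearMap.ker φ) = finrank F N - 1 := by
      rw [← Module.Dual.finrank_ker_add_one_of_ne_zero h0]; simp
    have key : ∀ u : LinearMap.ker φ1, u ≠ 0 →
        LinearMap.trace ℂ _ ((τ u (φ1 ∘ₗ π)).restrict (hW u φ1)) =
          finrank ℂ (h.Wt ψ φ 0) - (Fintype.card (LinearMap.ker φ1) : ℂ) := by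
      intro u hu
      have hu1 : φ1 u = 0 := u.2
      have hu2 : φ u = 0 := u.1.2
      have hu0 : u.1 ≠ 0 := fun e => hu (Subtype.ext e)
      have t1 := hg.trace' hψ (hne i.ne_zero) (u := u) (by simpa [hπ] using hu1)
        (fun e => hu0 (Subtype.ext e))
      rw [h.finrank_eq hψ hg.one h0, one_mul, Nat.cast_add,
        Nat.cast_sub (Nat.one_le_pow _ _ Nat.card_pos), trace_eq_sum_wtP hψ (h.chi φ),
        ← Finset.add_sum_erase _ _ (Finset.mem_univ 0), trace_mul_wtP_restrict hψ (f := 0) (hW u φ1),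
        Finset.sum_congr rfl (g := fun f => if f u = 0 then 1 else 0)] at t1
      · have c1 : ∑ f : Dual F (LinearMap.ker φ), (if f u = 0 then 1 else 0 : ℂ) =
            Fintype.card (LinearMap.ker φ1) := by
          have he : Module.Dual.eval F _ u.1 ≠ 0 := fun e =>
            hu0 ((Module.evalEquiv F _).injective (by simpa using e))
          have := card_ker he
          rw [Subspace.dual_finrank_eq, ← card_ker i.ne_zero, Nat.card_eq_fintype_card,
            Nat.card_eq_fintype_card] at this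
          rw [← this, Finset.sum_boole, Fintype.card_subtype]
          rfl
        rw [← Finset.add_sum_erase _ _ (Finset.mem_univ 0)] at c1
        simp only [LinearMap.zero_apply, if_true] at c1
        push_cast at t1
        refine Eq.trans (b := LinearMap.trace ℂ (wtSpace ψ (h.chi φ) 0)
          ((τ u (φ1 ∘ₗ π)).restrict (hW u φ1))) rfl ?_
        linear_combination t1 - c1
      · intro f hf
        obtain ⟨g, ig, e1, e⟩ := h.exists_Wt ψ h0 (Finset.ne_of_mem_erase hf)
        have e2 : g u = f u := by rw [← e1]; rfl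
        split_ifs with hfu
        · rw [trace_mul_wtP_of_smul hψ (c := 1), ← e, hg.one _ _ ig]
          · simp
          · intro v hv
            rw [one_smul]
            exact hg.fix _ _ ig v (e ▸ hv) _ _ hu2 (e2.trans hfu)
        · refine trace_mul_wtP_of_map hψ (g := f - f u • φ1) (fun e' => ?_) fun v hv => ?_
          · rw [eq_comm, sub_eq_self, smul_eq_zero] at e'
            exact e'.elim hfu i.ne_zero
          · have := h.map_Wt (w := u) (α := φ1 ∘ₗ π) (by simpa [hπ] using hu1) (e ▸ hv)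
            simp only [hu2, zero_smul, sub_zero] at this
            convert this using 1
            unfold TRep.Wt
            congr 1
            ext x
            simp [← e1, hπ]
    have h2 := sum_addChar_dual_eq_zero (A := LinearMap.ker φ1) hψ
      (f := -g1.domRestrict (LinearMap.ker φ1)) (by
        obtain ⟨u, hu, hu'⟩ := i.1
        exact fun e => hu' (by simpa using LinearMap.congr_fun e ⟨u, hu⟩))
    have h3 := finrank_wt_eq (τ := ((h.sub _ π hπ).restrict hW).chi φ1) hψ
      (g1.domRestrict (LinearMap.ker φ1))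
    rw [← Finset.add_sum_erase _ _ (Finset.mem_univ 0)] at h2 h3
    rw [Finset.sum_congr rfl (g := fun a => ψ (-g1.domRestrict (LinearMap.ker φ1) a) *
      (finrank ℂ (h.Wt ψ φ 0) - (Fintype.card (LinearMap.ker φ1) : ℂ))) (fun a ha => by
        rw [← key a (Finset.ne_of_mem_erase ha)]; rfl), ← Finset.sum_mul] at h3
    simp only [map_zero, neg_zero, AddChar.map_zero_eq_one, LinearMap.trace_one, one_mul,
      LinearMap.neg_apply] at h2 h3
    rw [eq_neg_of_add_eq_zero_right h2] at h3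
    have hc : (Fintype.card (LinearMap.ker φ1) : ℂ) ≠ 0 := Nat.cast_ne_zero.2 Fintype.card_ne_zero
    have : (finrank ℂ (((h.sub _ π hπ).restrict hW).Wt ψ φ1 g1) : ℂ) = 1 := by
      refine h3.trans ?_
      field_simp
      ring
    exact_mod_cast this
  · have := Fintype.ofFinite (LinearMap.ker (φ1 ∘ₗ π))
    refine Subtype.ext (?_ : τ u (α ∘ₗ π) v = v)
    have hv' : ∀ w : LinearMap.ker φ, φ1 w = 0 → τ w (φ1 ∘ₗ π) v = ψ (g1 w) • v := fun w hw =>
      congrArg Subtype.val ((TRep.mem_Wt _).1 hv w hw)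
    refine (LinearMap.mem_eqLocus (f := τ u (α ∘ₗ π)) (g := LinearMap.id)).1
      (mem_of_wtP_mem (τ := h.chi (φ1 ∘ₗ π)) hψ _ fun f hf => ?_)
    have hf' : ∀ (w : LinearMap.ker φ) (hw : φ1 w = 0),
        f ⟨w, by simpa [hπ] using hw⟩ = g1 w := fun w hw =>
      eq_of_wtP_ne_zero hψ hf fun c => by
        simpa [TRep.chi_apply] using hv' (c • w) (by simp [hw])
    obtain ⟨g, ig, e1, e⟩ := h.exists_Wt ψ (hne i.ne_zero) (f := f) (by
      rintro rfl
      obtain ⟨w, hw, hw'⟩ := i.1
      exact hw' (hf' w hw).symm)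
    refine hg.fix _ _ ig _ (e ▸ wtP_mem f _) _ _ (by simpa [hπ] using h1) ?_
    have := hf' u h1
    rw [← e1, h2] at this
    exact this

omit [Finite F] [Finite N] in
theorem Good.restrict [FiniteDimensional F N] {h : TRep τ} (hg : Good h ψ) (h3 : 3 ≤ finrank F N)
    {W : Submodule ℂ V} (hW : ∀ u φ, ∀ v ∈ W, τ u φ v ∈ W) {φ g : Dual F N} (i : Indep φ g) {v : V}
    (hv : v ∈ h.Wt ψ φ g) (hvW : v ∈ W) (hv0 : v ≠ 0) : Good (h.restrict hW) ψ := by
  have mem : ∀ {φ g} {x : W}, x ∈ (h.restrict hW).Wt ψ φ g ↔ (x : V) ∈ h.Wt ψ φ g := by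
    intro φ g x
    simp only [TRep.mem_Wt, Subtype.ext_iff]
    rfl
  refine ⟨fun φ' g' i' => le_antisymm ?_ ?_, fun φ' g' i' x hx u α h1 h2 =>
    Subtype.ext (hg.fix _ _ i' _ (mem.1 hx) u α h1 h2)⟩
  · rw [← hg.one _ _ i']
    exact LinearMap.finrank_le_finrank_of_injective (f := W.subtype.restrict fun _ hx => mem.1 hx)
      fun _ _ e => Subtype.ext (Subtype.ext (Subtype.ext_iff.1 e :))
  · rw [(h.restrict hW).finrank_Wt_eq h3 i' i, Nat.one_le_iff_ne_zero, Ne,
      Submodule.finrank_eq_zero, Submodule.eq_bot_iff]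
    exact fun H => hv0 (congrArg Subtype.val (H ⟨v, hvW⟩ (mem.2 hv)))

omit [Finite N] [FiniteDimensional ℂ V] in
theorem sum_ne_zero_eq_proj {M : Type*} [AddCommGroup M] [Module F M] [Fintype M] [DecidableEq M]
    [Fintype (Projectivization F M)] {X : Type*} [AddCommMonoid X] (T : M → X)
    (hT : ∀ (c : Fˣ) x, T (c • x) = T x) :
    ∑ x ∈ Finset.univ.erase 0, T x = (Nat.card F - 1) • ∑ p : Projectivization F M, T p.rep := by
  classical
  have := Fintype.ofFinite Fˣ
  rw [← Nat.card_units, Nat.card_eq_fintype_card, Finset.smul_sum]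
  have : ∑ p : Projectivization F M, Fintype.card Fˣ • T p.rep =
      ∑ x : Projectivization F M × Fˣ, T (x.2 • x.1.rep) := by
    rw [Fintype.sum_prod_type]
    simp [hT]
  rw [this]
  symm
  refine Finset.sum_bij (fun x _ => x.2 • x.1.rep) (fun x _ => by simp [Units.smul_def, x.1.rep_nonzero]) ?_ ?_
    fun _ _ => rfl
  · rintro ⟨p, c⟩ - ⟨p', c'⟩ - e
    have e' : p = p' := by
      rw [← p.mk_rep, ← p'.mk_rep, Projectivization.mk_eq_mk_iff]
      exact ⟨c⁻¹ * c', by rw [mul_smul, ← show c • p.rep = c' • p'.rep from e, inv_smul_smul]⟩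
    subst e'
    simp only [Units.smul_def] at e
    rw [Units.ext (smul_left_injective F p.rep_nonzero e)]
  · intro x hx
    obtain ⟨c, hc⟩ := Projectivization.exists_smul_eq_mk_rep F x (Finset.ne_of_mem_erase hx)
    exact ⟨(Projectivization.mk F x (Finset.ne_of_mem_erase hx), c⁻¹), Finset.mem_univ _,
      by simp only [← hc, inv_smul_smul]⟩

theorem geom_mul (q n : ℕ) (hq : 1 ≤ q) : (∑ i ∈ Finset.range n, q ^ i) * (q - 1) = q ^ n - 1 := by
  obtain ⟨q, rfl⟩ := Nat.exists_eq_add_of_le' hq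
  have := geom_sum_mul_add q n
  simp only [add_tsub_cancel_right]
  omega

theorem Good.exists_dvd {h : TRep τ} (hg : Good h ψ) (hψ : ψ ≠ 1) (h3 : 3 ≤ finrank F N) :
    ∃ (W : Submodule ℂ V) (hW : ∀ u φ, ∀ v ∈ W, τ u φ v ∈ W), Good (h.restrict hW) ψ ∧
      finrank ℂ W ∣ (∑ i ∈ Finset.range (finrank F N), Nat.card F ^ i) *
        Nat.card F ^ (finrank F N - 1) * (Nat.card F ^ (finrank F N - 1) - 1) := by
  classical
  have := Module.Finite.of_finite (R := F) (M := N)
  have := finite_dual (F := F) (A := N)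
  have := Fintype.ofFinite (Dual F N)
  have := Fintype.ofFinite N
  have := Fintype.ofFinite (Projectivization F (Dual F N))
  have hq : 2 ≤ Nat.card F := Finite.one_lt_card
  let T : Dual F N → Module.End ℂ V := fun φ => ∑ u : N with φ u = 0, τ u φ
  have hT : ∀ (c : Fˣ) φ, T (c • φ) = T φ := by
    intro c φ
    refine Finset.sum_bijective (fun u => c • u) (MulAction.bijective c) (by simp [Units.smul_def])
      fun u _ => (h.smul c u φ).symm
  let S := ∑ p : Projectivization F (Dual F N), T p.rep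
  have hS : ∀ w α, τ w α * S = S * τ w α := by
    intro w α
    by_cases hw : α w = 0
    swap
    · rw [h.junk _ _ hw, one_mul, mul_one]
    have h1 := sum_ne_zero_eq_proj T hT
    have h2 : τ w α * ∑ φ ∈ Finset.univ.erase 0, T φ = (∑ φ ∈ Finset.univ.erase 0, T φ) * τ w α := by
      rw [Finset.mul_sum, Finset.sum_mul]
      refine Finset.sum_nbij' (fun φ => φ - φ w • α) (fun φ => φ + φ w • α) ?_ ?_
        (by simp [hw]) (by simp [hw]) fun φ _ => ?_
      · intro φ hφ
        simp only [Finset.mem_erase, Finset.mem_univ, and_true] at hφ ⊢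
        intro e
        have := LinearMap.congr_fun e w
        simp only [LinearMap.sub_apply, LinearMap.smul_apply, hw, smul_zero, sub_zero,
          LinearMap.zero_apply] at this
        simp [this, hφ] at e
      · intro φ hφ
        simp only [Finset.mem_erase, Finset.mem_univ, and_true] at hφ ⊢
        intro e
        have := LinearMap.congr_fun e w
        simp only [LinearMap.add_apply, LinearMap.smul_apply, hw, smul_zero, add_zero,
          LinearMap.zero_apply] at this
        simp [this, hφ] at e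
      · simp only [T, Finset.mul_sum, Finset.sum_mul]
        refine Finset.sum_nbij' (fun u => u + α u • w) (fun u => u - α u • w) ?_ ?_
          (by simp [hw]) (by simp [hw]) fun u hu => h.conj hw (by simpa using hu)
        · intro u hu
          simp only [Finset.mem_filter, Finset.mem_univ, true_and] at hu ⊢
          simp [hu, hw, mul_comm]
        · intro u hu
          simp only [Finset.mem_filter, Finset.mem_univ, true_and] at hu ⊢
          simpa [mul_comm] using hu
    rw [h1, mul_smul_comm, smul_mul_assoc, ← Nat.cast_smul_eq_nsmul ℂ, ← Nat.cast_smul_eq_nsmul ℂ]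
      at h2
    exact smul_right_injective _ (Nat.cast_ne_zero.2 (by omega)) h2
  obtain ⟨φ, hφ⟩ : ∃ φ : Dual F N, φ ≠ 0 := by
    have : Nontrivial N := Module.nontrivial_of_finrank_pos (R := F) (by omega)
    exact exists_ne 0
  obtain ⟨k, hk, hk'⟩ := exists_ker_notMem ![φ] ⊥ (by simp; omega)
  obtain ⟨g, hg1, -⟩ := exists_dual_one_zero (F := F) (w := k) (u := 0) (by simpa using hk')
  have i : Indep φ g := indep_of hφ (hk 0) (by simp [hg1])
  obtain ⟨⟨v, hv⟩, hv0, hv1⟩ := finrank_eq_one_iff'.1 (hg.one _ _ i)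
  have hv0' : v ≠ 0 := fun e => hv0 (Subtype.ext e)
  obtain ⟨ω, hω⟩ := hv1 ⟨S v, h.mem_Wt.2 fun u hu => by
    rw [← Module.End.mul_apply, hS, Module.End.mul_apply, h.mem_Wt.1 hv u hu, map_smul]⟩
  have hω' : S v = ω • v := (congrArg Subtype.val hω).symm
  have hW : ∀ u φ, ∀ x ∈ S.eigenspace ω, τ u φ x ∈ S.eigenspace ω := by
    intro u φ x hx
    rw [Module.End.mem_eigenspace_iff] at hx ⊢
    rw [← Module.End.mul_apply, ← hS, Module.End.mul_apply, hx, map_smul]
  have hg' := hg.restrict h3 hW i hv (Module.End.mem_eigenspace_iff.2 hω') hv0'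
  refine ⟨_, hW, hg', ?_⟩
  have hi : IsIntegral ℤ ω := by
    refine h.int (Finset.univ.val.bind fun p : Projectivization F (Dual F N) =>
      (Finset.univ.filter fun u => p.rep u = 0).val.map fun u => (u, p.rep)) v ω hv0' ?_
    rw [Multiset.map_bind, Multiset.sum_bind]
    simp only [Multiset.map_map]
    exact hω'
  have ht : ω * finrank ℂ (S.eigenspace ω) = ∑ p : Projectivization F (Dual F N),
      ∑ u : N with p.rep u = 0, LinearMap.trace ℂ _ ((τ u p.rep).restrict (hW u p.rep)) := by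
    simp only [← map_sum]
    rw [← LinearMap.trace_one, ← smul_eq_mul, ← map_smul]
    congr 1
    ext x
    have := Module.End.mem_eigenspace_iff.1 x.2
    simp only [S, T, LinearMap.sum_apply] at this
    simp [this]
  set D := finrank ℂ (S.eigenspace ω)
  set b := Nat.card F ^ (finrank F N - 1)
  have hb : 1 ≤ b := Nat.one_le_pow _ _ Nat.card_pos
  have ht2 : ∀ p : Projectivization F (Dual F N), ∑ u : N with p.rep u = 0,
      LinearMap.trace ℂ _ ((τ u p.rep).restrict (hW u p.rep)) = b * (D - (b - 1) : ℂ) := by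
    intro p
    rw [← Finset.add_sum_erase _ _ (a := 0) (by simp), Finset.sum_congr rfl (g := fun _ => (D - b : ℂ))]
    · have : (Finset.univ.filter fun u => p.rep u = 0).card = b := by
        rw [← Fintype.card_subtype, ← Nat.card_eq_fintype_card]
        exact card_ker p.rep_nonzero
      rw [Finset.sum_const, Finset.card_erase_of_mem (by simp), this,
        (h.restrict hW).zero p.rep, LinearMap.trace_one, nsmul_eq_mul, Nat.cast_sub hb]
      push_cast; ring
    · intro u hu
      simp only [Finset.mem_erase, Finset.mem_filter, Finset.mem_univ, true_and] at hu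
      rw [hg'.trace' hψ p.rep_nonzero hu.2 hu.1]
      simp [b, D]
  have hc : Fintype.card (Projectivization F (Dual F N)) =
      ∑ i ∈ Finset.range (finrank F N), Nat.card F ^ i := by
    rw [← Nat.card_eq_fintype_card, Projectivization.card_of_finrank F _ rfl,
      Subspace.dual_finrank_eq]
  rw [Finset.sum_congr rfl fun p _ => ht2 p, Finset.sum_const, Finset.card_univ, hc,
    nsmul_eq_mul] at ht
  set a := ∑ i ∈ Finset.range (finrank F N), Nat.card F ^ i
  have := nat_dvd_of_isIntegral hi (D := D) (M := a * b * (D - (b - 1))) (by push_cast; rw [ht]; ring)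
  rw [← Int.natCast_dvd_natCast]
  push_cast [Nat.cast_sub hb]
  have h2 : (a * b * (b - 1) : ℤ) = D * (a * b) - a * b * (D - (b - 1)) := by ring
  rw [h2]
  exact (dvd_mul_right _ _).sub this

theorem arith_two {q k D : ℕ} (hq : 2 ≤ q) (hk : 2 ≤ k)
    (h : D + 2 = ∑ i ∈ Finset.range (k + 1), q ^ i)
    (hd : D ∣ (∑ i ∈ Finset.range (k + 1), q ^ i) * q ^ k * (q ^ k - 1)) : False := by
  rw [← h, mul_assoc, add_mul, Nat.dvd_add_right (dvd_mul_right _ _), mul_left_comm] at hd
  have h1 : D + 1 = q * ∑ i ∈ Finset.range k, q ^ i := by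
    rw [Finset.sum_range_succ', Finset.mul_sum] at *
    simp only [pow_succ', pow_zero, mul_one] at h
    omega
  have hc : D.Coprime q := by
    have : (D + 1).Coprime D := by simp
    rw [h1] at this
    exact (Nat.Coprime.coprime_mul_right this).symm
  obtain ⟨j, hj⟩ := (hc.pow_right k).dvd_of_dvd_mul_left hd
  have h2 : 2 ≤ ∑ i ∈ Finset.range k, q ^ i := by
    obtain ⟨k, rfl⟩ := Nat.exists_eq_add_of_le' hk
    rw [Finset.sum_range_succ', Finset.sum_range_succ']
    simp; omega
  rw [Finset.sum_range_succ] at h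
  have h3 : 1 < q ^ k := Nat.one_lt_pow (by omega) hq
  have hj2 : j < 2 := by
    by_contra! H
    have := Nat.mul_le_mul_left D H
    omega
  interval_cases j
  · omega
  · have h4 : q ∣ q ^ k := dvd_pow_self q (by omega)
    have h5 : q * ∑ i ∈ Finset.range k, q ^ i + 1 = 2 * q ^ k := by omega
    have := (Nat.dvd_add_right (dvd_mul_right q _)).1 (h5 ▸ h4.mul_left 2)
    have := Nat.le_of_dvd one_pos this
    omega

theorem arith_three {q D : ℕ} (hq : IsPrimePow q) (h2 : q ≠ 2) (h4 : q ≠ 4)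
    (h : D + 3 = ∑ i ∈ Finset.range 3, q ^ i)
    (hd : D ∣ (∑ i ∈ Finset.range 3, q ^ i) * q ^ 2 * (q ^ 2 - 1)) : False := by
  have h1 := hq.two_le
  have h10 : q ≠ 10 := by rintro rfl; exact absurd hq (by decide)
  obtain ⟨r, rfl⟩ := Nat.exists_eq_add_of_le' h1
  simp only [Finset.sum_range_succ, Finset.range_zero, Finset.sum_empty] at h hd
  have e1 : D = (r + 4) * (r + 1) := by nlinarith
  have e2 : (r + 2) ^ 2 - 1 = (r + 3) * (r + 1) := by
    rw [Nat.sub_eq_iff_eq_add (Nat.one_le_pow _ _ (by omega))]; ring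
  rw [e1, e2, ← mul_assoc, Nat.mul_dvd_mul_iff_right (by omega)] at hd
  have e3 : (0 + (r + 2) ^ 0 + (r + 2) ^ 1 + (r + 2) ^ 2) * (r + 2) ^ 2 * (r + 3) + 12 =
      (r + 4) * (r ^ 4 + 8 * r ^ 3 + 26 * r ^ 2 + 37 * r + 24) := by ring
  have := (Nat.dvd_add_right hd).1 (e3 ▸ dvd_mul_right _ _)
  have h5 := Nat.le_of_dvd (by norm_num) this
  have : r ≤ 8 := by omega
  interval_cases r <;> simp_all

/-- The defect in the inductive bound. -/
def dft (n q : ℕ) : ℕ :=
  if n = 2 then 1 else if (n, q) = (3, 2) ∨ (n, q) = (3, 4) ∨ (n, q) = (4, 2) then 2 else 0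

theorem arith_step {q k C D : ℕ} (hq : IsPrimePow q) (hk : 2 ≤ k)
    (h : ∑ i ∈ Finset.range k, q ^ i ≤ C + 1 + dft k q) (hD : D = C + (q ^ k - 1))
    (hd : D ∣ (∑ i ∈ Finset.range (k + 1), q ^ i) * q ^ k * (q ^ k - 1)) :
    ∑ i ∈ Finset.range (k + 1), q ^ i ≤ D + 1 + dft (k + 1) q := by
  have h1 : 1 ≤ q ^ k := Nat.one_le_pow _ _ hq.pos
  have h2 : ∑ i ∈ Finset.range (k + 1), q ^ i ≤ D + 2 + dft k q := by
    rw [Finset.sum_range_succ]; omega
  have h3 : D + 2 ≠ _ := fun e => arith_two hq.two_le hk e hd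
  by_cases k2 : k = 2
  · subst k2
    have h4 := fun a b e => arith_three hq a b e hd
    simp only [dft] at h2 ⊢
    by_cases a : q = 2
    · simp [a] at h2 ⊢; omega
    by_cases b : q = 4
    · simp [b] at h2 ⊢; omega
    have := h4 a b
    simp at h2 h3 this ⊢
    omega
  by_cases a : (k, q) = (3, 2) ∨ (k, q) = (3, 4) ∨ (k, q) = (4, 2)
  · simp only [Prod.mk.injEq] at a
    rcases a with ⟨rfl, rfl⟩ | ⟨rfl, rfl⟩ | ⟨rfl, rfl⟩ <;>
    · simp only [dft, Finset.sum_range_succ] at h2 hd ⊢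
      norm_num at h2 hd ⊢
      by_contra! H
      have : D < 90 := by omega
      interval_cases D <;> omega
  · have : dft k q = 0 := by simp only [dft, k2, a, if_false]
    omega

theorem good_bound (hψ : ψ ≠ 1) (n : ℕ) (hn : 2 ≤ n) : ∀ (N : Type u) [AddCommGroup N] [Module F N]
    [Finite N] (V : Type v) [AddCommGroup V] [Module ℂ V] [FiniteDimensional ℂ V]
    (τ : N → Dual F N → Module.End ℂ V) (h : TRep τ), Good h ψ → finrank F N = n →
    ∑ i ∈ Finset.range n, Nat.card F ^ i ≤ finrank ℂ V + 1 + dft n (Nat.card F) := by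
  have ex : ∀ (N : Type u) [AddCommGroup N] [Module F N] [Finite N], 2 ≤ finrank F N →
      ∃ φ : Dual F N, φ ≠ 0 := by
    intro N _ _ _ h
    have := Module.Finite.of_finite (R := F) (M := N)
    have : Nontrivial N := Module.nontrivial_of_finrank_pos (R := F) (by omega)
    exact exists_ne 0
  induction n, hn using Nat.le_induction with
  | base =>
    intro N _ _ _ V _ _ _ τ h hg hn
    obtain ⟨φ, hφ⟩ := ex N hn.ge
    have := h.finrank_eq hψ hg.one hφ
    have h2 : 2 ≤ Nat.card F := Finite.one_lt_card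
    simp [hn, Finset.sum_range_succ, dft] at this ⊢
    omega
  | succ k hk ih =>
    intro N _ _ _ V _ _ _ τ h hg hn
    have := Module.Finite.of_finite (R := F) (M := N)
    obtain ⟨φ, hφ⟩ := ex N (by omega)
    obtain ⟨W, hW, hg', hd⟩ := hg.exists_dvd hψ (by omega)
    obtain ⟨τ', h', hg''⟩ := hg'.down hψ hφ
    have h1 := ih _ _ τ' h' hg'' (by
      have := Module.Dual.finrank_ker_add_one_of_ne_zero hφ
      omega)
    have h2 := (h.restrict hW).finrank_eq hψ hg'.one hφ
    rw [hn, add_tsub_cancel_right] at hd h2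
    rw [one_mul] at h2
    have := Fintype.ofFinite F
    have := arith_step (by rw [Nat.card_eq_fintype_card]; exact FiniteField.isPrimePow_card F) hk h1
      h2 hd
    have := W.finrank_le
    omega

end Cfsg.Agent.KSG.SLM
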