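import Mathlib
import Cfsg.Agent.KSG.WeightBound
import Cfsg.Agent.KSG.QuadOrbit
import Cfsg.Agent.Class.U.Basic
import Cfsg.Agent.Class.GLStab

/-!
The radical of the stabiliser of a totally isotropic subspace in the special unitary group, and
the lower bounds for the degrees of complex representations that come from its weights.
-/

set_option autoImplicit false

namespace Cfsg.Agent.KSG

open Module Matrix Cfsg Class.U

section Heis

/-- Invertible operators that commute up to scalars, with separating scalars, are linearly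
independent. -/
theorem card_le_finrank_sq_of_comm {V : Type*} [AddCommGroup V] [Module ℂ V]
    [FiniteDimensional ℂ V] [Nontrivial V] {B : Type*} [Finite B] (T : B → Module.End ℂ V)
    (hT : ∀ b, IsUnit (T b)) (ω : B → B → ℂ) (h : ∀ c b, T c * T b = ω c b • (T b * T c))
    (hω : ∀ a b, a ≠ b → ∃ c, ω c a ≠ ω c b) : Nat.card B ≤ finrank ℂ V ^ 2 := by
  have := Fintype.ofFinite B
  choose U hU using hT
  have hli : LinearIndependent ℂ T := by
    rw [Fintype.linearIndependent_iff]
    intro x hx a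
    have h1 := congrArg (fun X => LinearMap.trace ℂ V ((U a)⁻¹.val * X)) hx
    simp only [Finset.mul_sum, mul_smul_comm, map_sum, map_smul, mul_zero, map_zero,
      smul_eq_mul] at h1
    rw [Finset.sum_eq_single a] at h1
    · rw [← hU, Units.inv_mul, LinearMap.trace_one] at h1
      have : (finrank ℂ V : ℂ) ≠ 0 := by exact_mod_cast Module.finrank_pos.ne'
      exact (mul_eq_zero.1 h1).resolve_right this
    · intro b _ hb
      obtain ⟨c, hc⟩ := hω b a hb
      have e1 := h c a
      have e2 := h c b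
      rw [← hU, ← hU] at e1 e2
      have e3 : (U a)⁻¹.val * (U c).val = ω c a • ((U c).val * (U a)⁻¹.val) := by
        rw [Units.inv_mul_eq_iff_eq_mul, mul_smul_comm, ← mul_assoc, ← smul_mul_assoc, ← e1,
          Units.mul_inv_cancel_right]
      have e4 : ω c a • ((U c).val * ((U a)⁻¹.val * (U b).val) * (U c)⁻¹.val) =
          ω c b • ((U a)⁻¹.val * (U b).val) := by
        rw [← mul_assoc, ← smul_mul_assoc, ← smul_mul_assoc, ← e3, mul_assoc _ (U c).val, e2,
          mul_smul_comm, smul_mul_assoc, ← mul_assoc, Units.mul_inv_cancel_right]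
      have e5 := congrArg (LinearMap.trace ℂ V) e4
      rw [map_smul, map_smul, LinearMap.trace_mul_comm, ← mul_assoc, Units.inv_mul, one_mul,
        smul_eq_mul, smul_eq_mul] at e5
      rw [← hU, (mul_eq_mul_right_iff.1 e5).resolve_left hc.symm, mul_zero]
    · simp
  have h2 := hli.fintype_card_le_finrank
  rwa [Module.finrank_linearMap, ← sq, ← Nat.card_eq_fintype_card] at h2

end Heis

variable {F : Type*} [Field F] {q : ℕ} [hU : UF F q]

local notation "σ" => conj F q

section Orbit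

variable {W : Type*} [AddCommGroup W] [Module F W]

theorem ncard_norm_eq_le (μ : F) : {s : F | s * σ s = μ}.ncard ≤ q + 1 := by
  classical
  have : {s : F | s * σ s = μ} = ↑(Polynomial.nthRoots (q + 1) μ).toFinset := by
    ext s
    simp [Polynomial.mem_nthRoots, mul_conj_eq_pow]
  rw [this, Set.ncard_coe_finset]
  exact (Multiset.toFinset_card_le _).trans (Polynomial.card_nthRoots _ _)

/-- The orbit of a non-zero Hermitian form under a group that is transitive on non-zero vectors
and contains the transvections. -/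
theorem card_sub_one_le_herm_orbit [Finite W] (H : W → F) (hH : ∀ u, σ (H u) = H u)
    (hline : ∀ x u, ∃ b, ∀ t : F, H (x + t • u) = H x + (t * b + σ (t * b)) + t * σ t * H u)
    (L : Set (W →ₗ[F] W)) (hmul : ∀ g ∈ L, ∀ h ∈ L, g ∘ₗ h ∈ L)
    (hinj : ∀ g ∈ L, Function.Injective g) (htr : ∀ u v : W, u ≠ 0 → v ≠ 0 → ∃ g ∈ L, g u = v)
    (hsh : ∀ (v : W) (α : Module.Dual F W), α v = 0 → LinearMap.id + α.smulRight v ∈ L)
    {v0 : W} (hv00 : v0 ≠ 0) (hv0 : H v0 ≠ 0) :
    Nat.card W - 1 ≤ (q + 1) * ((fun g : W →ₗ[F] W => fun x => H (g x)) '' L).ncard := by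
  have := hU.finite
  have : Module.Finite F W := Module.Finite.of_finite
  have : Finite (Module.Dual F W) := finite_dual
  have hq : 0 < Nat.card F := Nat.card_pos
  set N := {α : Module.Dual F W | ∀ _ : Unit, α v0 = 0}.ncard with hN
  have hNq : N * Nat.card F = Nat.card W := by
    have := ncard_ann_mul (F := F) (v := fun _ : Unit => v0)
      (linearIndependent_unique_iff.2 hv00)
    rw [hN]
    simpa using this
  have key := ncard_mul_le_of_rel {v : W | v ≠ 0} ((fun g : W →ₗ[F] W => fun x => H (g x)) '' L)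
    (fun v Q' => Q' v = H v0) N ((q + 1) * N) ?_ ?_
  · have h1 : {v : W | v ≠ 0}.ncard = Nat.card W - 1 := by
      have : {v : W | v ≠ 0} = Set.univ \ {0} := by ext; simp
      rw [this, Set.ncard_sdiff_singleton_of_mem (Set.mem_univ _), Set.ncard_univ]
    have hN0 : 0 < N := by
      rcases Nat.eq_zero_or_pos N with h | h
      · rw [h, zero_mul] at hNq
        exact absurd hNq (Nat.card_pos (α := W)).ne
      · exact h
    rw [h1] at key
    refine Nat.le_of_mul_le_mul_right ?_ hN0
    calc _ ≤ _ := key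
      _ = _ := by ring
  · intro v hv
    obtain ⟨g, hg, hg0⟩ := htr v v0 hv hv00
    have hsurj := Finite.surjective_of_injective (hinj g hg)
    rw [hN]
    refine Set.ncard_le_ncard_of_injOn
      (fun α => fun x => H (g x + α (g x) • v0)) ?_ ?_ (Set.toFinite _)
    · intro α hα
      have hα0 : α v0 = 0 := hα ()
      refine ⟨⟨_, hmul _ (hsh v0 α hα0) g hg, ?_⟩, ?_⟩
      · ext x; simp
      · simp [hg0, hα0]
    · intro α hα β hβ hab
      have hα0 : α v0 = 0 := hα ()
      have hβ0 : β v0 = 0 := hβ ()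
      ext x
      obtain ⟨b, hb⟩ := hline x v0
      have e : ∀ s : F, H (x + (s + α x) • v0) = H (x + (s + β x) • v0) := by
        intro s
        obtain ⟨y, hy⟩ := hsurj (x + s • v0)
        have e1 := congrFun hab y
        simp only [hy, map_add, map_smul, hα0, hβ0, smul_zero, add_zero] at e1
        rwa [add_assoc, add_assoc, ← add_smul, ← add_smul] at e1
      by_contra hne
      obtain ⟨τ, hτ⟩ := exists_trace_ne_zero F q
      have hd : α x - β x ≠ 0 := sub_ne_zero.2 hne
      have hd' : σ (α x - β x) ≠ 0 := conj_ne_zero.2 hd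
      have e0 := e 0
      have e1 := e (τ / σ (α x - β x))
      simp only [hb, zero_add, map_add, map_mul, map_div₀, conj_conj] at e0 e1
      have e2 : H v0 * (τ / σ (α x - β x) * σ (α x - β x) + σ τ / (α x - β x) * (α x - β x)) = 0 := by
        rw [map_sub σ (α x) (β x)] at e1 ⊢
        linear_combination e1 - e0
      rw [div_mul_cancel₀ _ hd, div_mul_cancel₀ _ hd'] at e2
      exact mul_ne_zero hv0 hτ e2
  · rintro _ ⟨g, hg, rfl⟩
    have h1 : {v | v ∈ {v : W | v ≠ 0} ∧ H (g v) = H v0}.ncard ≤ {x | H x = H v0}.ncard :=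
      Set.ncard_le_ncard_of_injOn g (fun v hv => hv.2) (hinj g hg).injOn (Set.toFinite _)
    have h3 := card_mul_ncard_le_of_lines (F := F) {x | H x = H v0} Set.univ v0 (q + 1)
      (fun _ _ => trivial) (fun _ _ _ => trivial) ?_ hv00
    · rw [Set.ncard_univ, ← hNq] at h3
      refine h1.trans (Nat.le_of_mul_le_mul_right ?_ hq)
      calc _ ≤ _ := h3
        _ = _ := by ring
    · intro x _
      obtain ⟨b, hb⟩ := hline x v0
      refine le_trans ?_ (ncard_norm_eq_le ((H v0 - H x) / H v0 + b * σ b / H v0 ^ 2))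
      refine Set.ncard_le_ncard_of_injOn (fun t => t + σ b / H v0) ?_
        (fun s _ t _ h => add_right_cancel h) (Set.toFinite _)
      intro t ht
      simp only [Set.mem_ofPred_eq, hb, map_mul] at ht
      simp only [Set.mem_ofPred_eq, map_add, map_div₀, conj_conj, hH]
      field_simp
      linear_combination H v0 * ht

end Orbit

section Mat

variable {α β γ : Type*}

variable (q) in
/-- The conjugate transpose. -/
def cT (X : Matrix α β F) : Matrix β α F := (X.map σ)ᵀ

theorem cT_apply (X : Matrix α β F) (i : β) (j : α) : cT q X i j = σ (X j i) := rfl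

theorem cT_cT (X : Matrix α β F) : cT q (cT q X) = X := by
  ext i j; simp [cT_apply, conj_conj]

theorem cT_add (X Y : Matrix α β F) : cT q (X + Y) = cT q X + cT q Y := by
  ext i j; simp [cT_apply]

theorem cT_sub (X Y : Matrix α β F) : cT q (X - Y) = cT q X - cT q Y := by
  ext i j; simp [cT_apply]

theorem cT_neg (X : Matrix α β F) : cT q (-X) = -cT q X := by
  ext i j; simp [cT_apply]

theorem cT_zero : cT q (0 : Matrix α β F) = 0 := by
  ext i j; simp [cT_apply]

theorem cT_smul (c : F) (X : Matrix α β F) : cT q (c • X) = σ c • cT q X := by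
  ext i j; simp [cT_apply]

theorem cT_one [DecidableEq α] : cT q (1 : Matrix α α F) = 1 := by
  ext i j
  by_cases h : i = j
  · subst h; simp [cT_apply]
  · simp [cT_apply, h, Ne.symm h]

theorem cT_mul [Fintype β] (X : Matrix α β F) (Y : Matrix β γ F) :
    cT q (X * Y) = cT q Y * cT q X := by
  rw [cT, Matrix.map_mul, transpose_mul]; rfl

theorem det_cT [Fintype α] [DecidableEq α] (X : Matrix α α F) : (cT q X).det = σ X.det := by
  rw [cT, det_transpose, RingHom.map_det]; rfl

theorem cT_fromRows (X : Matrix α γ F) (Y : Matrix β γ F) :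
    cT q (fromRows X Y) = fromCols (cT q X) (cT q Y) := by
  ext i (j | j) <;> simp [cT_apply]

theorem cT_submatrix {δ : Type*} (X : Matrix α β F) (e : γ → α) (f : δ → β) :
    cT q (X.submatrix e f) = (cT q X).submatrix f e := rfl

theorem pres_iff_cT {n : ℕ} {M : Matrix (Fin n) (Fin n) F} : Pres q M ↔ cT q M * M = 1 := by
  rw [pres_iff]
  have key : ∀ M : Matrix (Fin n) (Fin n) F, (Mᵀ * M.map σ)ᵀ = cT q M * M := by
    intro M; rw [transpose_mul]; rfl
  rw [← key, transpose_eq_one]

end Mat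

variable (F q) in
/-- The fixed field of the conjugation. -/
abbrev conjFix : Subfield F := RingHom.eqLocusField σ (RingHom.id F)

theorem conj_conjFix (c : conjFix F q) : σ (c : F) = c := c.2

theorem exists_trace_rep (φ : F →ₗ[conjFix F q] conjFix F q) :
    ∃ b : F, ∀ t, (φ t : F) = t * b + σ (t * b) := by
  obtain ⟨θ, hθ⟩ := exists_conj_ne F q
  have hd : θ - σ θ ≠ 0 := sub_ne_zero.2 hθ.symm
  have hd' : σ θ - θ ≠ 0 := sub_ne_zero.2 hθ
  refine ⟨(φ θ - σ θ * φ 1) / (θ - σ θ), fun t => ?_⟩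
  let y : conjFix F q := ⟨(t - σ t) / (θ - σ θ), by
    change σ _ = _
    simp only [map_div₀, map_sub, conj_conj, RingHom.id_apply]
    field_simp
    ring⟩
  let x : conjFix F q := ⟨(θ * σ t - σ θ * t) / (θ - σ θ), by
    change σ _ = _
    simp only [map_div₀, map_sub, map_mul, conj_conj, RingHom.id_apply]
    field_simp
    ring⟩
  have ht : t = x • (1 : F) + y • θ := by
    simp only [x, y, Subfield.smul_def, smul_eq_mul]
    field_simp
    ring
  conv_lhs => rw [ht]
  simp only [map_add, map_smul, smul_eq_mul, Subfield.coe_add, Subfield.coe_mul, x, y, map_mul,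
    map_div₀, map_sub, conj_conj, conj_conjFix]
  field_simp
  ring

variable {m n : ℕ}

variable (F q m) in
/-- Skew-Hermitian matrices. -/
def skewH : Submodule (conjFix F q) (Matrix (Fin m) (Fin m) F) where
  carrier := {S | cT q S = -S}
  add_mem' := by
    intro a b ha hb
    simp only [Set.mem_ofPred_eq] at *
    rw [cT_add, ha, hb, neg_add]
  zero_mem' := by simp [cT_zero]
  smul_mem' := by
    intro c a ha
    simp only [Set.mem_ofPred_eq, Subfield.smul_def] at *
    rw [cT_smul, ha, conj_conjFix, smul_neg]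

theorem mem_skewH {S : Matrix (Fin m) (Fin m) F} : S ∈ skewH F q m ↔ cT q S = -S := Iff.rfl

/-- The matrix of an element of the special unitary group. -/
abbrev suMat (g : SU n F q) : Matrix (Fin n) (Fin n) F :=
  (g : Matrix.SpecialLinearGroup (Fin n) F)

omit hU in
theorem suMat_mul (g h : SU n F q) : suMat (g * h) = suMat g * suMat h := rfl

omit hU in
theorem suMat_one : suMat (1 : SU n F q) = 1 := rfl

omit hU in
theorem suMat_ext {g h : SU n F q} (e : suMat g = suMat h) : g = h :=
  Subtype.ext (Subtype.ext e)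

theorem cT_suMat_mul (g : SU n F q) : cT q (suMat g) * suMat g = 1 := pres_iff_cT.1 g.2

/-- The element `1 + P S P*` of the special unitary group. -/
def suUp (P : Matrix (Fin n) (Fin m) F) (hP : cT q P * P = 0) (S : skewH F q m) : SU n F q :=
  mkSU (1 + P * S.1 * cT q P) (by
    have h : cT q S.1 = -S.1 := S.2
    have h' : ∀ X : Matrix (Fin m) (Fin n) F, cT q P * (P * X) = 0 := fun X => by
      rw [← Matrix.mul_assoc, hP, Matrix.zero_mul]
    rw [pres_iff_cT]
    simp [cT_add, cT_one, cT_mul, cT_cT, h, Matrix.mul_add, Matrix.add_mul, Matrix.mul_assoc, h'])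
    (by rw [Matrix.mul_assoc, det_one_add_mul_comm, Matrix.mul_assoc, hP]; simp)

theorem suMat_suUp (P : Matrix (Fin n) (Fin m) F) (hP : cT q P * P = 0) (S : skewH F q m) :
    suMat (suUp P hP S) = 1 + P * S.1 * cT q P := rfl

/-- The radical as an additive character. -/
def suUpChar (P : Matrix (Fin n) (Fin m) F) (hP : cT q P * P = 0) :
    AddChar (skewH F q m) (SU n F q) where
  toFun := suUp P hP
  map_zero_eq_one' := by
    apply suMat_ext
    simp [suMat_suUp, suMat_one]
  map_add_eq_mul' a b := by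
    have h' : ∀ X : Matrix (Fin m) (Fin n) F, cT q P * (P * X) = 0 := fun X => by
      rw [← Matrix.mul_assoc, hP, Matrix.zero_mul]
    apply suMat_ext
    simp only [suMat_mul, suMat_suUp, Submodule.coe_add, Matrix.mul_add, Matrix.add_mul,
      Matrix.mul_assoc, h', Matrix.one_mul, Matrix.mul_one, Matrix.mul_zero]
    abel

/-- The action `S ↦ M S M*` on skew-Hermitian matrices. -/
def skewAct (M : Matrix (Fin m) (Fin m) F) : skewH F q m →ₗ[conjFix F q] skewH F q m where
  toFun S := ⟨M * S.1 * cT q M, by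
    have h : cT q S.1 = -S.1 := S.2
    rw [mem_skewH, cT_mul, cT_mul, cT_cT, h]
    simp [Matrix.mul_assoc]⟩
  map_add' a b := by ext1; simp [Matrix.mul_add, Matrix.add_mul]
  map_smul' c a := by ext1; simp

theorem mul_suUp {P : Matrix (Fin n) (Fin m) F} (hP : cT q P * P = 0) {g : SU n F q}
    {M : Matrix (Fin m) (Fin m) F} (h : suMat g * P = P * M) (S : skewH F q m) :
    g * suUp P hP S = suUp P hP (skewAct M S) * g := by
  have h1 : cT q M * (cT q P * suMat g) = cT q P := by
    rw [← Matrix.mul_assoc, ← cT_mul, ← h, cT_mul, Matrix.mul_assoc, cT_suMat_mul, Matrix.mul_one]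
  apply suMat_ext
  change suMat g * (1 + P * S.1 * cT q P) = (1 + P * (M * S.1 * cT q M) * cT q P) * suMat g
  simp only [Matrix.mul_add, Matrix.add_mul, Matrix.mul_one, Matrix.one_mul, Matrix.mul_assoc, h1]
  simp only [← Matrix.mul_assoc, h]

theorem cT_vecMulVec (u v : Fin m → F) :
    cT q (vecMulVec u (σ ∘ v)) = vecMulVec v (σ ∘ u) := by
  ext i j; simp [cT_apply, vecMulVec_apply, conj_conj, mul_comm]

/-- The skew-Hermitian matrix `c v v*`. -/
def skewSq (c : F) (hc : c + σ c = 0) (v : Fin m → F) : skewH F q m :=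
  ⟨c • vecMulVec v (σ ∘ v), by
    rw [mem_skewH, cT_smul, cT_vecMulVec, ← neg_smul, eq_neg_of_add_eq_zero_right hc]⟩

/-- The skew-Hermitian matrix `c (t u x* + t̄ x u*)`. -/
def skewPair (c : F) (hc : c + σ c = 0) (x u : Fin m → F) : F →ₗ[conjFix F q] skewH F q m where
  toFun t := ⟨c • (t • vecMulVec u (σ ∘ x) + σ t • vecMulVec x (σ ∘ u)), by
    rw [mem_skewH, cT_smul, cT_add, cT_smul, cT_smul, cT_vecMulVec, cT_vecMulVec, conj_conj,
      ← neg_smul, eq_neg_of_add_eq_zero_right hc, add_comm]⟩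
  map_add' a b := by
    ext i j; simp [vecMulVec_apply]; ring
  map_smul' a b := by
    ext i j; simp [vecMulVec_apply, Subfield.smul_def, conj_conjFix]; ring

theorem skewSq_add_smul (c : F) (hc : c + σ c = 0) (x u : Fin m → F) (t : F) :
    skewSq c hc (x + t • u) = skewSq c hc x + skewPair c hc x u t +
      (⟨t * σ t, by change σ _ = _; simp [conj_conj, mul_comm]⟩ : conjFix F q) • skewSq c hc u := by
  ext i j
  simp [skewSq, skewPair, vecMulVec_apply, Subfield.smul_def]
  ring

theorem skewAct_skewSq (M : Matrix (Fin m) (Fin m) F) (c : F) (hc : c + σ c = 0)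
    (v : Fin m → F) : skewAct M (skewSq c hc v) = skewSq c hc (M *ᵥ v) := by
  apply Subtype.ext
  change M * (c • vecMulVec v (σ ∘ v)) * cT q M = c • vecMulVec (M *ᵥ v) (σ ∘ (M *ᵥ v))
  rw [Matrix.mul_smul, Matrix.smul_mul, mul_vecMulVec, vecMulVec_mul, cT, vecMul_transpose]
  congr 2
  ext i
  simp [mulVec, dotProduct]

theorem exists_su_levi {P R : Matrix (Fin n) (Fin m) F} (hP : cT q P * P = 0)
    (hR : cT q R * R = 0) (hRP : cT q R * P = 1) {M : Matrix (Fin m) (Fin m) F}
    (hM : M.det ≠ 0) : ∃ g : Matrix (Fin n) (Fin n) F, Pres q g ∧ g.det * σ M.det = M.det ∧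
      g * P = P * M := by
  have hPR : cT q P * R = 1 := by rw [← cT_cT (q := q) R, ← cT_mul, hRP, cT_one]
  have hM' : (cT q M).det ≠ 0 := by rw [det_cT]; exact conj_ne_zero.2 hM
  obtain ⟨N, hN⟩ : ∃ N, cT q M * N = 1 := ⟨(cT q M)⁻¹, mul_nonsing_inv _ (IsUnit.mk0 _ hM')⟩
  have hN' : cT q N * M = 1 := by rw [← cT_cT (q := q) M, ← cT_mul, hN, cT_one]
  have a1 : ∀ X : Matrix (Fin m) (Fin n) F, cT q P * (P * X) = 0 := fun X => by
    rw [← Matrix.mul_assoc, hP, Matrix.zero_mul]
  have a2 : ∀ X : Matrix (Fin m) (Fin n) F, cT q R * (R * X) = 0 := fun X => by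
    rw [← Matrix.mul_assoc, hR, Matrix.zero_mul]
  have a3 : ∀ X : Matrix (Fin m) (Fin n) F, cT q R * (P * X) = X := fun X => by
    rw [← Matrix.mul_assoc, hRP, Matrix.one_mul]
  have a4 : ∀ X : Matrix (Fin m) (Fin n) F, cT q P * (R * X) = X := fun X => by
    rw [← Matrix.mul_assoc, hPR, Matrix.one_mul]
  have a5 : ∀ X : Matrix (Fin m) (Fin n) F, cT q M * (N * X) = X := fun X => by
    rw [← Matrix.mul_assoc, hN, Matrix.one_mul]
  have a6 : ∀ X : Matrix (Fin m) (Fin n) F, cT q N * (M * X) = X := fun X => by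
    rw [← Matrix.mul_assoc, hN', Matrix.one_mul]
  have e : (1 + P * ((M - 1) * cT q R)) * (1 + R * ((N - 1) * cT q P)) =
      1 + P * ((M - 1) * cT q R) + R * ((N - 1) * cT q P) := by
    simp only [Matrix.mul_add, Matrix.add_mul, Matrix.mul_one, Matrix.one_mul, Matrix.mul_assoc,
      a2, Matrix.mul_zero, add_zero]
  refine ⟨1 + P * ((M - 1) * cT q R) + R * ((N - 1) * cT q P), ?_, ?_, ?_⟩
  · rw [pres_iff_cT]
    simp only [cT_add, cT_one, cT_mul, cT_sub, cT_cT, Matrix.mul_add, Matrix.add_mul,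
      Matrix.mul_sub, Matrix.sub_mul, Matrix.mul_one, Matrix.one_mul, Matrix.mul_assoc, a1, a2, a3,
      a4, a5, a6, Matrix.mul_zero]
    abel
  · rw [← e, det_mul, det_one_add_mul_comm, det_one_add_mul_comm R, Matrix.mul_assoc,
      Matrix.mul_assoc, hRP, hPR, Matrix.mul_one, Matrix.mul_one, add_sub_cancel, add_sub_cancel,
      ← det_cT, mul_assoc, ← det_mul, mul_eq_one_comm.1 hN, det_one, mul_one]
  · simp only [Matrix.add_mul, Matrix.mul_assoc, hRP, hP, Matrix.mul_zero, Matrix.mul_one,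
      Matrix.one_mul, Matrix.mul_sub]
    abel

theorem suUp_not_mem_center {P R : Matrix (Fin n) (Fin m) F} (hP : cT q P * P = 0)
    (hR : cT q R * R = 0) (hRP : cT q R * P = 1) {S : skewH F q m} (hS : S.1 * S.1 ≠ 0) :
    suUp P hP S ∉ Subgroup.center (SU n F q) := by
  intro h
  have hPR : cT q P * R = 1 := by rw [← cT_cT (q := q) R, ← cT_mul, hRP, cT_one]
  have h1 := congrArg (fun g => cT q R * suMat g * P) (Subgroup.mem_center_iff.1 h (suUp R hR S))
  have a2 : ∀ X : Matrix (Fin m) (Fin m) F, cT q R * (R * X) = 0 := fun X => by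
    rw [← Matrix.mul_assoc, hR, Matrix.zero_mul]
  have a3 : ∀ X : Matrix (Fin m) (Fin m) F, cT q R * (P * X) = X := fun X => by
    rw [← Matrix.mul_assoc, hRP, Matrix.one_mul]
  have a4 : ∀ X : Matrix (Fin m) (Fin m) F, cT q P * (R * X) = X := fun X => by
    rw [← Matrix.mul_assoc, hPR, Matrix.one_mul]
  simp only [suMat_mul, suMat_suUp, Matrix.mul_add, Matrix.add_mul, Matrix.mul_one,
    Matrix.one_mul, Matrix.mul_assoc, hP, hRP, a2, a3, a4, Matrix.mul_zero, add_zero] at h1
  exact hS (by simpa using h1)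

theorem exists_su_frame {r : ℕ} (h : m + m + r = n) :
    ∃ (P R : Matrix (Fin n) (Fin m) F) (E : Matrix (Fin n) (Fin r) F), cT q P * P = 0 ∧
      cT q R * R = 0 ∧ cT q R * P = 1 ∧ cT q E * E = 1 ∧ cT q E * P = 0 := by
  obtain ⟨ζ, hζ⟩ := exists_norm_eq (F := F) (q := q) (μ := -1) (by simp)
  obtain ⟨η, hη, hη1⟩ := exists_norm_one_ne_one F q
  have hη' : 1 - σ η ≠ 0 := by
    intro h0
    apply hη1
    rw [← conj_conj (q := q) η, ← sub_eq_zero.1 h0, map_one]
  let e : Fin n ≃ (Fin m ⊕ Fin m) ⊕ Fin r :=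
    ((finCongr h).symm.trans finSumFinEquiv.symm).trans
      (Equiv.sumCongr finSumFinEquiv.symm (Equiv.refl _))
  let a : F := σ (1 - σ η)⁻¹
  refine ⟨(fromRows (fromRows 1 (ζ • 1)) 0).submatrix e id,
    (fromRows (fromRows (a • 1) ((a * ζ * η) • 1)) 0).submatrix e id,
    (fromRows 0 1).submatrix e id, ?_, ?_, ?_, ?_, ?_⟩
  all_goals
    rw [cT_submatrix, submatrix_mul_equiv]
    simp only [cT_fromRows, fromCols_mul_fromRows, cT_smul, cT_one, cT_zero, Matrix.mul_zero,
      Matrix.zero_mul, submatrix_id_id, Matrix.mul_one, add_zero, zero_add, smul_mul_assoc,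
      Matrix.one_mul, smul_smul, map_mul]
  · rw [mul_comm, hζ]; simp
  · rw [← add_smul]
    have : σ a * a + σ a * σ ζ * σ η * (a * ζ * η) = 0 := by
      linear_combination (σ a * a * η * σ η) * hζ - (σ a * a) * hη
    rw [this, zero_smul]
  · rw [← add_smul]
    have : σ a + σ a * σ ζ * σ η * ζ = 1 := by
      have h1 : σ a * (1 - σ η) = 1 := by
        simp only [a, conj_conj]; exact inv_mul_cancel₀ hη'
      linear_combination h1 + (σ a * σ η) * hζ
    rw [this, one_smul]

/-- The elements `1 + w E* - E w* - γ w w*` of the special unitary group. -/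
def suHeis {r : ℕ} {E w : Matrix (Fin n) (Fin r) F} (hE : cT q E * E = 1) (hEw : cT q E * w = 0)
    (hw : cT q w * w = 0) {γ : F} (hγ : γ + σ γ = 1) : SU n F q :=
  mkSU (1 + w * cT q E - E * cT q w - γ • (w * cT q w)) (by
    have hwE : cT q w * E = 0 := by rw [← cT_cT (q := q) E, ← cT_mul, hEw, cT_zero]
    have a1 : ∀ X : Matrix (Fin r) (Fin n) F, cT q E * (E * X) = X := fun X => by
      rw [← Matrix.mul_assoc, hE, Matrix.one_mul]
    have a2 : ∀ X : Matrix (Fin r) (Fin n) F, cT q E * (w * X) = 0 := fun X => by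
      rw [← Matrix.mul_assoc, hEw, Matrix.zero_mul]
    have a3 : ∀ X : Matrix (Fin r) (Fin n) F, cT q w * (w * X) = 0 := fun X => by
      rw [← Matrix.mul_assoc, hw, Matrix.zero_mul]
    have a4 : ∀ X : Matrix (Fin r) (Fin n) F, cT q w * (E * X) = 0 := fun X => by
      rw [← Matrix.mul_assoc, hwE, Matrix.zero_mul]
    rw [pres_iff_cT]
    simp only [cT_add, cT_one, cT_mul, cT_sub, cT_cT, cT_smul, Matrix.mul_add, Matrix.add_mul,
      Matrix.mul_sub, Matrix.sub_mul, Matrix.mul_one, Matrix.one_mul, Matrix.mul_assoc, a1, a2, a3,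
      a4, Matrix.mul_zero, Matrix.mul_smul, Matrix.smul_mul, smul_zero,
      eq_sub_of_add_eq' hγ]
    module)
    (by
    have hwE : cT q w * E = 0 := by rw [← cT_cT (q := q) E, ← cT_mul, hEw, cT_zero]
    have a1 : ∀ X : Matrix (Fin r) (Fin n) F, cT q E * (E * X) = X := fun X => by
      rw [← Matrix.mul_assoc, hE, Matrix.one_mul]
    have a2 : ∀ X : Matrix (Fin r) (Fin n) F, cT q E * (w * X) = 0 := fun X => by
      rw [← Matrix.mul_assoc, hEw, Matrix.zero_mul]
    have a3 : ∀ X : Matrix (Fin r) (Fin n) F, cT q w * (w * X) = 0 := fun X => by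
      rw [← Matrix.mul_assoc, hw, Matrix.zero_mul]
    have : 1 + w * cT q E - E * cT q w - γ • (w * cT q w) =
        (1 + w * cT q E) * (1 + E * (-cT q w)) * (1 + w * ((1 - γ) • cT q w)) := by
      simp only [Matrix.mul_add, Matrix.add_mul, Matrix.mul_one, Matrix.one_mul, Matrix.mul_assoc,
        a1, a2, a3, Matrix.mul_zero, Matrix.mul_smul, Matrix.smul_mul, smul_zero, Matrix.mul_neg,
        Matrix.neg_mul, neg_zero]
      module
    rw [this, det_mul, det_mul, det_one_add_mul_comm, det_one_add_mul_comm E,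
      det_one_add_mul_comm w]
    simp [hEw, hw, hwE])

theorem suMat_suHeis {r : ℕ} {E w : Matrix (Fin n) (Fin r) F} (hE : cT q E * E = 1)
    (hEw : cT q E * w = 0) (hw : cT q w * w = 0) {γ : F} (hγ : γ + σ γ = 1) :
    suMat (suHeis hE hEw hw hγ) = 1 + w * cT q E - E * cT q w - γ • (w * cT q w) := rfl

theorem exists_su_levi_odd {P R : Matrix (Fin n) (Fin m) F} {E : Matrix (Fin n) (Fin 1) F}
    (hP : cT q P * P = 0) (hR : cT q R * R = 0) (hRP : cT q R * P = 1) (hE : cT q E * E = 1)
    (hEP : cT q E * P = 0) {M : Matrix (Fin m) (Fin m) F} (hM : M.det ≠ 0) :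
    ∃ g : SU n F q, suMat g * P = P * M := by
  obtain ⟨g, hg, -, hgP⟩ := exists_su_levi hP hR hRP hM
  have hd := hg.det_mul_conj
  have a1 : ∀ X : Matrix (Fin 1) (Fin n) F, cT q E * (E * X) = X := fun X => by
    rw [← Matrix.mul_assoc, hE, Matrix.one_mul]
  refine ⟨mkSU ((1 + E * ((σ g.det - 1) • cT q E)) * g) (Pres.mul ?_ hg) ?_, ?_⟩
  · rw [pres_iff_cT]
    simp only [cT_add, cT_one, cT_mul, cT_cT, cT_smul, Matrix.mul_add, Matrix.add_mul,
      Matrix.mul_one, Matrix.one_mul, Matrix.mul_assoc, a1, Matrix.mul_smul, Matrix.smul_mul,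
      smul_smul, map_sub, conj_conj, map_one]
    generalize E * cT q E = X
    linear_combination (norm := module) hd • X
  · rw [det_mul, det_one_add_mul_comm, Matrix.smul_mul, hE, det_unique]
    simpa [mul_comm] using hd
  · change (1 + E * ((σ g.det - 1) • cT q E)) * g * P = _
    rw [Matrix.mul_assoc, hgP, ← Matrix.mul_assoc]
    simp [Matrix.add_mul, Matrix.mul_assoc, hEP]

theorem exists_su_levi_of_det {P R : Matrix (Fin n) (Fin m) F}
    (hP : cT q P * P = 0) (hR : cT q R * R = 0) (hRP : cT q R * P = 1)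
    {M : Matrix (Fin m) (Fin m) F} (hM : M.det = 1) : ∃ g : SU n F q, suMat g * P = P * M := by
  obtain ⟨g, hg, hd, hgP⟩ := exists_su_levi hP hR hRP (M := M) (by simp [hM])
  exact ⟨mkSU g hg (by simpa [hM] using hd), hgP⟩

section Rep

variable {V : Type*} [AddCommGroup V] [Module ℂ V] [FiniteDimensional ℂ V]

/-- The bound from the orbit of a weight. -/
theorem su_weight_bound {P : Matrix (Fin n) (Fin m) F} (hP : cT q P * P = 0)
    {ψ : AddChar (conjFix F q) ℂ} (hψ : ψ ≠ 1) (ρ : SU n F q →* Module.End ℂ V)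
    (hdet : ∀ M : Matrix (Fin m) (Fin m) F, M.det = 1 → ∃ g : SU n F q, suMat g * P = P * M)
    (htr : ∀ u v : Fin m → F, u ≠ 0 → v ≠ 0 → ∃ M : Matrix (Fin m) (Fin m) F, M.det ≠ 0 ∧
      M *ᵥ u = v ∧ ∃ g : SU n F q, suMat g * P = P * M)
    {c : F} (hc : c + σ c = 0) {v0 : Fin m → F} (f : Module.Dual (conjFix F q) (skewH F q m))
    (hf : f (skewSq c hc v0) ≠ 0) :
    ((q ^ 2) ^ m - 1) * finrank ℂ (wtSpace ψ (ρ.compAddChar (suUpChar P hP)) f) ≤
      (q + 1) * finrank ℂ V := by
  have := hU.finite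
  have := finite_dual (F := conjFix F q) (A := skewH F q m)
  have hK : (Nat.card (skewH F q m) : ℂ) ≠ 0 := by exact_mod_cast Nat.card_pos.ne'
  let L : Set ((Fin m → F) →ₗ[F] (Fin m → F)) :=
    {l | ∃ M : Matrix (Fin m) (Fin m) F, M.det ≠ 0 ∧ l = Matrix.toLin' M ∧
      ∃ g : SU n F q, suMat g * P = P * M}
  have h1 := card_sub_one_le_herm_orbit (q := q) (fun v => (f (skewSq c hc v) : F))
    (fun _ => conj_conjFix _) (fun x u => ?_) L ?_ ?_ ?_ ?_ (v0 := v0) ?_ (by simpa using hf)
  · rw [Nat.card_fun, Nat.card_eq_fintype_card (α := Fin m), Fintype.card_fin, hU.card_eq] at h1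
    refine (Nat.mul_le_mul_right _ h1).trans ?_
    rw [mul_assoc]
    refine Nat.mul_le_mul_left _ ?_
    refine le_trans (Nat.mul_le_mul_right _ ?_) (mul_ncard_le_finrank hψ hK
      (ρ.compAddChar (suUpChar P hP))
      {f' | finrank ℂ (wtSpace ψ (ρ.compAddChar (suUpChar P hP)) f) ≤
        finrank ℂ (wtSpace ψ (ρ.compAddChar (suUpChar P hP)) f')} _ (fun _ h => h))
    refine le_trans (Set.ncard_le_ncard ?_ (Set.toFinite _))
      (Set.ncard_image_le (f := fun f' : Module.Dual (conjFix F q) (skewH F q m) =>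
        fun v => (f' (skewSq c hc v) : F)) (Set.toFinite _))
    rintro _ ⟨_, ⟨M, -, rfl, g, hg⟩, rfl⟩
    refine ⟨f ∘ₗ skewAct M, finrank_wtSpace_le (ρ g⁻¹) (rep_injective ρ _) (skewAct M)
      (fun S => ?_) (fun _ => rfl), ?_⟩
    · change ρ (suUp P hP S) * _ = _ * ρ (suUp P hP _)
      rw [← map_mul, ← map_mul, eq_inv_mul_iff_mul_eq.2 (mul_suUp hP hg S), mul_assoc,
        mul_inv_cancel_right]
    · ext v
      simp [skewAct_skewSq]
  · obtain ⟨b, hb⟩ := exists_trace_rep (f ∘ₗ skewPair c hc x u)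
    refine ⟨b, fun t => ?_⟩
    rw [← hb, skewSq_add_smul, map_add, map_add, map_smul]
    rfl
  · rintro _ ⟨M, hM, rfl, g, hg⟩ _ ⟨N, hN, rfl, k, hk⟩
    refine ⟨M * N, by simp [hM, hN], by rw [Matrix.toLin'_mul], g * k, ?_⟩
    rw [suMat_mul, Matrix.mul_assoc, hk, ← Matrix.mul_assoc, hg, Matrix.mul_assoc]
  · rintro _ ⟨M, hM, rfl, -⟩
    exact mulVec_injective_iff_isUnit.2 ((isUnit_iff_isUnit_det _).2 (IsUnit.mk0 _ hM))
  · intro u v hu hv
    obtain ⟨M, hM, h, hg⟩ := htr u v hu hv
    exact ⟨_, ⟨M, hM, rfl, hg⟩, h⟩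
  · intro v α hα
    obtain ⟨w, hw⟩ := Class.GLStab.exists_dot_eq α
    have hd : (1 + vecMulVec v w).det = 1 := by
      rw [Class.GLStab.det_one_add_vecMulVec, hw, hα, add_zero]
    refine ⟨1 + vecMulVec v w, by simp [hd], ?_, hdet _ hd⟩
    refine LinearMap.ext fun x => ?_
    rw [Matrix.toLin'_apply, Class.GLStab.one_add_vecMulVec_mulVec, hw]
    rfl
  · rintro rfl
    apply hf
    rw [show skewSq c hc (0 : Fin m → F) = 0 from Subtype.ext (by simp [skewSq]), map_zero]

/-- In odd dimension the weight spaces of non-zero weights have dimension at least `q`. -/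
theorem su_le_finrank_wtSpace {P : Matrix (Fin n) (Fin m) F} {E : Matrix (Fin n) (Fin 1) F}
    (hP : cT q P * P = 0) (hE : cT q E * E = 1) (hEP : cT q E * P = 0)
    {ψ : AddChar (conjFix F q) ℂ} (hψ : ψ ≠ 1) (ρ : SU n F q →* Module.End ℂ V)
    {c : F} (hc : c + σ c = 0) {v0 : Fin m → F} (f : Module.Dual (conjFix F q) (skewH F q m))
    (hf : f (skewSq c hc v0) ≠ 0) (h0 : wtSpace ψ (ρ.compAddChar (suUpChar P hP)) f ≠ ⊥) :
    q ≤ finrank ℂ (wtSpace ψ (ρ.compAddChar (suUpChar P hP)) f) := by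
  have := hU.finite
  obtain ⟨γ, hγ⟩ := exists_trace_eq_one F q
  have hc0 : c ≠ 0 := by
    rintro rfl
    apply hf
    rw [show skewSq 0 hc v0 = 0 from Subtype.ext (by simp [skewSq]), map_zero]
  have hcc : σ c = -c := eq_neg_of_add_eq_zero_right hc
  let b : Matrix (Fin m) (Fin 1) F := replicateCol (Fin 1) v0
  have hb : b * cT q b = vecMulVec v0 (σ ∘ v0) := by
    ext i j; simp [b, Matrix.mul_apply, cT_apply, vecMulVec_apply]
  have hPE : cT q P * E = 0 := by rw [← cT_cT (q := q) E, ← cT_mul, hEP, cT_zero]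
  have a1 : ∀ {k} (X : Matrix (Fin 1) (Fin k) F), cT q E * (E * X) = X := fun X => by
    rw [← Matrix.mul_assoc, hE, Matrix.one_mul]
  have a2 : ∀ {k} (X : Matrix (Fin m) (Fin k) F), cT q E * (P * X) = 0 := fun X => by
    rw [← Matrix.mul_assoc, hEP, Matrix.zero_mul]
  have a3 : ∀ {k} (X : Matrix (Fin m) (Fin k) F), cT q P * (P * X) = 0 := fun X => by
    rw [← Matrix.mul_assoc, hP, Matrix.zero_mul]
  have a4 : ∀ {k} (X : Matrix (Fin 1) (Fin k) F), cT q P * (E * X) = 0 := fun X => by
    rw [← Matrix.mul_assoc, hPE, Matrix.zero_mul]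
  let u : F → SU n F q := fun t => suHeis (w := t • (P * b)) hE (by simp [a2])
    (by simp [cT_smul, cT_mul, Matrix.mul_assoc, a3]) hγ
  have hu : ∀ t, suMat (u t) = 1 + t • (P * (b * cT q E)) - σ t • (E * (cT q b * cT q P)) -
      (γ * t * σ t) • (P * (b * (cT q b * cT q P))) := by
    intro t
    simp only [u, suMat_suHeis, cT_smul, cT_mul, Matrix.mul_smul, Matrix.smul_mul,
      Matrix.mul_assoc, smul_smul, mul_assoc, mul_comm t]
  have hcomm : ∀ t S, u t * suUp P hP S = suUp P hP S * u t := by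
    intro t S
    apply suMat_ext
    simp only [suMat_mul, hu, suMat_suUp, Matrix.mul_add, Matrix.add_mul, Matrix.mul_sub,
      Matrix.sub_mul, Matrix.mul_one, Matrix.one_mul, Matrix.mul_assoc, Matrix.mul_smul,
      Matrix.smul_mul, a2, a3, a4, Matrix.mul_zero, smul_zero]
    module
  let z : F → F → conjFix F q := fun s t => ⟨(t * σ s - s * σ t) / c, by
    change σ _ = _
    simp only [map_div₀, map_sub, map_mul, conj_conj, hcc, RingHom.id_apply]
    field_simp
    ring⟩
  have hz : ∀ s t, u s * u t = suUp P hP (z s t • skewSq c hc v0) * (u t * u s) := by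
    intro s t
    apply suMat_ext
    have : (z s t • skewSq c hc v0).1 = (t * σ s - s * σ t) • (b * cT q b) := by
      rw [hb]
      change (z s t : F) • c • vecMulVec v0 (σ ∘ v0) = _
      rw [smul_smul, div_mul_cancel₀ _ hc0]
    simp only [suMat_mul, hu, suMat_suUp, this, Matrix.mul_add, Matrix.add_mul, Matrix.mul_sub,
      Matrix.sub_mul, Matrix.mul_one, Matrix.one_mul, Matrix.mul_assoc, Matrix.mul_smul,
      Matrix.smul_mul, a1, a2, a3, a4, Matrix.mul_zero, smul_zero]
    module
  set U := wtSpace ψ (ρ.compAddChar (suUpChar P hP)) f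
  have hmem : ∀ t, ∀ x ∈ U, ρ (u t) x ∈ U := fun t x hx =>
    map_mem_wtSpace (ρ (u t)) id (fun S => by
      change ρ (suUp P hP S) * _ = _ * ρ (suUp P hP S)
      rw [← map_mul, ← map_mul, hcomm]) (fun _ => rfl) hx
  have : Nontrivial U := Submodule.nontrivial_iff_ne_bot.2 h0
  have key := card_le_finrank_sq_of_comm (fun t => (ρ (u t)).restrict (hmem t)) (fun t => ?_)
    (fun s t => ψ (z s t * f (skewSq c hc v0))) (fun s t => ?_) (fun a a' haa => ?_)
  · rw [hU.card_eq] at key
    exact (Nat.pow_le_pow_iff_left two_ne_zero).1 key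
  · rw [Module.End.isUnit_iff]
    have : Function.Injective ((ρ (u t)).restrict (hmem t)) := fun x y hxy =>
      Subtype.ext (rep_injective ρ _ (congrArg Subtype.val hxy))
    exact ⟨this, LinearMap.injective_iff_surjective.1 this⟩
  · refine LinearMap.ext fun x => Subtype.ext ?_
    change ρ (u s) (ρ (u t) x) = ψ _ • ρ (u t) (ρ (u s) x)
    have := mem_wtSpace.1 (hmem t _ (hmem s _ x.2)) (z s t • skewSq c hc v0)
    rw [map_smul f, smul_eq_mul] at this
    rw [← this, ← Module.End.mul_apply, ← map_mul, hz, map_mul, map_mul]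
    rfl
  · obtain ⟨τ, hτ⟩ : ∃ τ, ψ τ ≠ 1 := by
      by_contra h
      push Not at h
      exact hψ (by ext t; simpa using h t)
    obtain ⟨s, hs⟩ := exists_conj_sub_eq (q := q) (c := (τ / f (skewSq c hc v0) : conjFix F q) * c) (by
      rw [map_mul, conj_conjFix, ← mul_add, hc, mul_zero])
    have hd : a - a' ≠ 0 := sub_ne_zero.2 haa
    have hd' : σ (a - a') ≠ 0 := conj_ne_zero.2 hd
    refine ⟨s / σ (a - a'), fun h => hτ ?_⟩
    have e : z (s / σ (a - a')) a * f (skewSq c hc v0) =
        z (s / σ (a - a')) a' * f (skewSq c hc v0) + τ := by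
      have e1 : z (s / σ (a - a')) a = z (s / σ (a - a')) a' + τ / f (skewSq c hc v0) := by
        apply Subtype.ext
        rw [Subfield.coe_add, ← mul_left_inj' hc0, add_mul, ← hs]
        simp only [z, div_mul_cancel₀ _ hc0, map_div₀, conj_conj]
        have e2 : σ a = σ (a - a') + σ a' := by simp
        rw [e2]
        field_simp
        ring
      rw [e1, add_mul, div_mul_cancel₀ _ hf]
    rw [e, AddChar.map_add_eq_mul] at h
    exact (mul_eq_left₀ (AddChar.val_isUnit _ _).ne_zero).1 h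

end Rep

theorem skewSq_mul_self_ne_zero {c : F} (hc : c + σ c = 0) (hc0 : c ≠ 0) (i : Fin m) :
    (skewSq c hc (Pi.single i 1)).1 * (skewSq c hc (Pi.single i 1)).1 ≠ 0 := by
  intro h
  have := congrFun (congrFun h i) i
  simp [skewSq, Matrix.mul_apply, vecMulVec_apply, Pi.single_apply, hc0] at this

/-- The bound in even dimension. -/
theorem su_bound_even {V : Type*} [AddCommGroup V] [Module ℂ V] [FiniteDimensional ℂ V]
    (hm : 2 ≤ m) (hn : m + m = n) (ρ : SU n F q →* Module.End ℂ V)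
    (hρ : ∀ g, g ∉ Subgroup.center (SU n F q) → ρ g ≠ 1) :
    q ^ n - 1 ≤ (q + 1) * finrank ℂ V := by
  have := hU.finite
  obtain ⟨P, R, E, hP, hR, hRP, -, -⟩ := exists_su_frame (F := F) (q := q) (r := 0) hn
  obtain ⟨c, hc0, hc⟩ := exists_trace_zero F q
  have hψ : AddChar.FiniteField.primitiveChar_to_Complex (conjFix F q) ≠ 1 := by
    simpa using AddChar.FiniteField.primitiveChar_to_Complex_isPrimitive (conjFix F q) (a := 1)
      one_ne_zero
  have hK : (Nat.card (skewH F q m) : ℂ) ≠ 0 := by exact_mod_cast Nat.card_pos.ne'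
  obtain ⟨f, hf, hf0⟩ := exists_wt_of_ne_one hψ hK (ρ.compAddChar (suUpChar P hP))
    (hρ _ (suUp_not_mem_center hP hR hRP (skewSq_mul_self_ne_zero hc hc0 ⟨0, by omega⟩)))
  have : Nontrivial (Fin m) := Fin.nontrivial_iff_two_le.2 hm
  have h1 := su_weight_bound hP hψ ρ (fun M hM => exists_su_levi_of_det hP hR hRP hM)
    (fun u v hu hv => by
      obtain ⟨M, hM, h⟩ := Class.GLStab.exists_det_eq_mulVec_eq hu hv one_ne_zero
      exact ⟨M, by simp [hM], h, exists_su_levi_of_det hP hR hRP hM⟩) hc f hf0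
  rw [← pow_mul, two_mul, hn] at h1
  refine le_trans (Nat.le_mul_of_pos_right _ (Nat.pos_of_ne_zero fun h => hf ?_)) h1
  exact Submodule.finrank_eq_zero.1 h

/-- The bound in odd dimension. -/
theorem su_bound_odd {V : Type*} [AddCommGroup V] [Module ℂ V] [FiniteDimensional ℂ V]
    (hm : 1 ≤ m) (hn : m + m + 1 = n) (ρ : SU n F q →* Module.End ℂ V)
    (hρ : ∀ g, g ∉ Subgroup.center (SU n F q) → ρ g ≠ 1) :
    q ^ n - q ≤ (q + 1) * finrank ℂ V := by
  have := hU.finite
  obtain ⟨P, R, E, hP, hR, hRP, hE, hEP⟩ := exists_su_frame (F := F) (q := q) hn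
  obtain ⟨c, hc0, hc⟩ := exists_trace_zero F q
  have hψ : AddChar.FiniteField.primitiveChar_to_Complex (conjFix F q) ≠ 1 := by
    simpa using AddChar.FiniteField.primitiveChar_to_Complex_isPrimitive (conjFix F q) (a := 1)
      one_ne_zero
  have hK : (Nat.card (skewH F q m) : ℂ) ≠ 0 := by exact_mod_cast Nat.card_pos.ne'
  obtain ⟨f, hf, hf0⟩ := exists_wt_of_ne_one hψ hK (ρ.compAddChar (suUpChar P hP))
    (hρ _ (suUp_not_mem_center hP hR hRP (skewSq_mul_self_ne_zero hc hc0 ⟨0, by omega⟩)))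
  have h1 := su_weight_bound hP hψ ρ
    (fun M hM => exists_su_levi_of_det hP hR hRP hM)
    (fun u v hu hv => by
      obtain ⟨g, hg⟩ := exists_linearEquiv_of_linearIndependent (F := F) (v := fun _ : Unit => u)
        (w := fun _ : Unit => v) (linearIndependent_unique_iff.2 hu)
        (linearIndependent_unique_iff.2 hv)
      have hd : (LinearMap.toMatrix' g.toLinearMap).det ≠ 0 := by
        rw [LinearMap.det_toMatrix']
        exact g.isUnit_det'.ne_zero
      exact ⟨_, hd, by rw [LinearMap.toMatrix'_mulVec]; exact hg (),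
        exists_su_levi_odd hP hR hRP hE hEP hd⟩) hc f hf0
  have h2 := su_le_finrank_wtSpace hP hE hEP hψ ρ hc f hf0 hf
  refine le_trans ?_ ((Nat.mul_le_mul_left _ h2).trans h1)
  rw [← pow_mul, two_mul, ← hn, pow_succ, Nat.sub_mul, one_mul]

end Cfsg.Agent.KSG
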