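import Mathlib
import Cfsg.Agent.Class.PSL2MaxList
import Cfsg.Agent.Class.PSL2Binary
import Cfsg.Agent.Class.PSL2Small
import Cfsg.Agent.S0810
import Cfsg.Agent.S0251

/-!
# Pairs of elements of `PSL₂(q)` generating a solvable subgroup

For `q = 2^p` and `q = 3^p` solvability of `⟨x, y⟩` is read off the traces of lifts `X`, `Y`
and `XY`; the number of `Y` with prescribed traces is a count of points on a conic.
-/

set_option autoImplicit false

namespace Cfsg.Agent.KSG.Solub

open Matrix MatrixGroups Subgroup MulAction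
open Cfsg.Agent.KSG Cfsg.Agent.KSG.M2 Cfsg.Agent.Class.Dickson

section Group

variable {G : Type*} [Group G]

theorem solv_of_le {H K : Subgroup G} (h : H ≤ K) (hK : Group.IsSolvable K) :
    Group.IsSolvable H :=
  Group.isSolvable_of_isSolvable_injective (inclusion_injective h)

theorem solv_of_comm {a b : G} (h : a * b = b * a) :
    Group.IsSolvable (closure ({a, b} : Set G)) := by
  have : IsMulCommutative (closure ({a, b} : Set G)) := isMulCommutative_closure (by
    rintro x (rfl | rfl) y (rfl | rfl) <;> simp [h])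
  exact Group.isSolvable_of_comm this.is_comm.comm

theorem solv_of_inv {a b : G} (h : b * a * b⁻¹ = a⁻¹) :
    Group.IsSolvable (closure ({a, b} : Set G)) := by
  set H := closure ({a, b} : Set G)
  have ha : a ∈ H := subset_closure (by simp)
  have hb : b ∈ H := subset_closure (by simp)
  have hn : H ≤ normalizer (zpowers a : Set G) := by
    refine (closure_le _).2 ?_
    rintro x (rfl | rfl)
    · exact le_normalizer (mem_zpowers x)
    · refine mem_normalizer_iff.2 fun y => ⟨?_, ?_⟩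
      · rintro ⟨k, rfl⟩
        exact ⟨-k, by simp only; rw [← conj_zpow, h]; simp⟩
      · rintro ⟨k, hk⟩
        refine ⟨-k, ?_⟩
        have : x * a ^ (-k) * x⁻¹ = x * y * x⁻¹ := by rw [← conj_zpow, h, ← hk]; simp
        simpa using this
  have hN : ((zpowers a).subgroupOf H).Normal := (normal_subgroupOf_iff_le_normalizer
    ((zpowers_le).2 ha)).2 hn
  have h1 : Group.IsSolvable ((zpowers a).subgroupOf H) :=
    Group.isSolvable_of_comm fun x y => Subtype.ext (Subtype.ext (by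
      obtain ⟨i, hi⟩ := x.2
      obtain ⟨j, hj⟩ := y.2
      change H.subtype x * H.subtype y = H.subtype y * H.subtype x
      rw [← hi, ← hj]
      exact zpow_mul_comm a i j))
  have h2 : ∀ x (hx : x ∈ H), QuotientGroup.mk' ((zpowers a).subgroupOf H) ⟨x, hx⟩ ∈
      zpowers (QuotientGroup.mk' ((zpowers a).subgroupOf H) ⟨b, hb⟩) := by
    intro x hx
    induction hx using closure_induction with
    | mem x hx =>
      rcases hx with rfl | rfl
      · rw [show QuotientGroup.mk' _ (⟨x, _⟩ : H) = 1 from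
          (QuotientGroup.eq_one_iff _).2 (mem_zpowers x)]
        exact one_mem _
      · exact mem_zpowers _
    | one => exact one_mem _
    | mul x y hx hy ihx ihy => exact mul_mem ihx ihy
    | inv x hx ih => exact inv_mem ih
  have h3 : Group.IsSolvable (H ⧸ (zpowers a).subgroupOf H) :=
    Group.isSolvable_of_comm fun x y => by
      obtain ⟨⟨x, hx⟩, rfl⟩ := QuotientGroup.mk'_surjective _ x
      obtain ⟨⟨y, hy⟩, rfl⟩ := QuotientGroup.mk'_surjective _ y
      obtain ⟨i, hi⟩ := h2 x hx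
      obtain ⟨j, hj⟩ := h2 y hy
      rw [← hi, ← hj]
      exact zpow_mul_comm _ i j
  exact Group.isSolvable_of_ker_le_range ((zpowers a).subgroupOf H).subtype
    (QuotientGroup.mk' ((zpowers a).subgroupOf H)) (by simp)

theorem closure_pair_le {a b : G} {H : Subgroup G} (ha : a ∈ H) (hb : b ∈ H) :
    closure ({a, b} : Set G) ≤ H :=
  (closure_le _).2 (by rintro x (rfl | rfl) <;> assumption)

theorem left_mem (a b : G) : a ∈ closure ({a, b} : Set G) := subset_closure (by simp)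

theorem right_mem (a b : G) : b ∈ closure ({a, b} : Set G) := subset_closure (by simp)

theorem solv_22 {x y : G} (hx : x * x = 1) (hy : y * y = 1) :
    Group.IsSolvable (closure ({x, y} : Set G)) := by
  refine solv_of_le (closure_pair_le (right_mem _ _) ?_) (solv_of_inv (a := x * y) (b := x) ?_)
  · simpa using mul_mem (inv_mem (right_mem (x * y) x)) (left_mem (x * y) x)
  · rw [← mul_assoc, hx, one_mul, _root_.mul_inv_rev, inv_eq_of_mul_eq_one_right hy]

theorem solv_2x {x y : G} (hx : x * x = 1) (hy : x * y * (x * y) = 1) :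
    Group.IsSolvable (closure ({x, y} : Set G)) := by
  refine solv_of_le (closure_pair_le (left_mem _ _) ?_) (solv_22 hx hy)
  simpa using mul_mem (inv_mem (left_mem x (x * y))) (right_mem x (x * y))

theorem solv_x2 {x y : G} (hy : y * y = 1) (hx : x * y * (x * y) = 1) :
    Group.IsSolvable (closure ({x, y} : Set G)) := by
  refine solv_of_le (closure_pair_le ?_ (left_mem _ _)) (solv_22 hy hx)
  simpa using mul_mem (right_mem y (x * y)) (inv_mem (left_mem y (x * y)))

theorem solv_323 {x y : G} (hx : x ^ 3 = 1) (hy : y * y = 1) (hxy : (x * y) ^ 3 = 1) :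
    Group.IsSolvable (closure ({x, y} : Set G)) := by
  obtain ⟨φ, hφ⟩ := exists_hom_alt_of_mooreRel (m := 2) (x := ![x, y])
    ⟨by intro i; fin_cases i <;> simp [hx], by intro i; fin_cases i <;> simp [sq, hy],
      by intro i j; fin_cases i <;> fin_cases j <;> simp [hxy],
      by intro i j; fin_cases i <;> fin_cases j <;> simp⟩
  have : Group.IsSolvable (alternatingGroup (Fin (2 + 2))) :=
    isSolvable_of_card_dvd_24 (by rw [card_alt4]; norm_num)
  exact solv_of_le (closure_pair_le (H := φ.range) ⟨_, hφ 0⟩ ⟨_, hφ 1⟩)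
    (Group.isSolvable_of_surjective φ.rangeRestrict_surjective)

theorem solv_233 {x y : G} (hx : x * x = 1) (hy : y ^ 3 = 1) (hxy : (x * y) ^ 3 = 1) :
    Group.IsSolvable (closure ({x, y} : Set G)) := by
  rw [Set.pair_comm]
  refine solv_323 hy hx ?_
  have : y * x = x⁻¹ * (x * y) * x⁻¹⁻¹ := by group
  rw [this, conj_pow, hxy]; simp

theorem solv_332 {x y : G} (hx : x ^ 3 = 1) (hy : y ^ 3 = 1) (hxy : x * y * (x * y) = 1) :
    Group.IsSolvable (closure ({x, y} : Set G)) := by
  refine solv_of_le (closure_pair_le ?_ ?_) (solv_323 (x := x⁻¹) (y := x * y)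
    (by rw [inv_pow, hx, inv_one]) hxy (by simpa using hy))
  · simpa using inv_mem (left_mem x⁻¹ (x * y))
  · simpa using mul_mem (left_mem x⁻¹ (x * y)) (right_mem x⁻¹ (x * y))

theorem dihedral_cases {n : ℕ} {H : Subgroup G} (e : H ≃* DihedralGroup n) {x y : G}
    (hx : x ∈ H) (hy : y ∈ H) : x * y = y * x ∨ (x * x = 1 ∧ y * y = 1) ∨
      (x * x = 1 ∧ x * y * (x * y) = 1) ∨ (y * y = 1 ∧ x * y * (x * y) = 1) := by
  have k : ∀ u v : DihedralGroup n, u * v = v * u ∨ (u * u = 1 ∧ v * v = 1) ∨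
      (u * u = 1 ∧ u * v * (u * v) = 1) ∨ (v * v = 1 ∧ u * v * (u * v) = 1) := by
    rintro (i | i) (j | j)
    · left; simp [add_comm]
    · right; right; right; simp
    · right; right; left; simp
    · right; left; simp
  have := k (e ⟨x, hx⟩) (e ⟨y, hy⟩)
  simp only [← map_mul, e.injective.eq_iff, map_eq_one_iff _ e.injective] at this
  simpa only [Subtype.ext_iff, coe_mul, coe_one] using this

theorem alt4_cases {H : Subgroup G} (e : H ≃* alternatingGroup (Fin 4)) {x : G} (hx : x ∈ H) :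
    x * x = 1 ∨ x ^ 3 = 1 := by
  have k : ∀ u : alternatingGroup (Fin 4), u * u = 1 ∨ u ^ 3 = 1 := by decide
  have := k (e ⟨x, hx⟩)
  simp only [← map_mul, ← map_pow, map_eq_one_iff _ e.injective] at this
  simpa only [Subtype.ext_iff, coe_mul, coe_one, coe_pow] using this

end Group

variable {F : Type*} [Field F]

local notation "M₂" => Matrix (Fin 2) (Fin 2) F

/-- `tr [X, Y] - 2` in terms of the traces of `X`, `Y` and `XY`. -/
def kap (a b c : F) : F := a ^ 2 + b ^ 2 + c ^ 2 - a * b * c - 4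

/-- The reducible and the dihedral case. -/
def P2 (a b c : F) : Prop :=
  kap a b c = 0 ∨ (a = 0 ∧ b = 0) ∨ (a = 0 ∧ c = 0) ∨ (b = 0 ∧ c = 0)

/-- The reducible, the dihedral and the tetrahedral case in characteristic three. -/
def P3 (a b c : F) : Prop := P2 a b c ∨ (a ^ 3 = a ∧ b ^ 3 = b ∧ c ^ 3 = c)

theorem kap_eq (X Y : SL(2, F)) :
    kap (X : M₂).trace (Y : M₂).trace ((X * Y : SL(2, F)) : M₂).trace =
      (X 0 1 * Y 1 0 - Y 0 1 * X 1 0) ^ 2 + ((X 0 0 - X 1 1) * Y 0 1 - (Y 0 0 - Y 1 1) * X 0 1) *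
        (X 1 0 * (Y 0 0 - Y 1 1) - Y 1 0 * (X 0 0 - X 1 1)) := by
  have hX := X.det_coe
  have hY := Y.det_coe
  rw [det_fin_two] at hX hY
  simp only [kap, Matrix.SpecialLinearGroup.coe_mul, trace_fin_two, mul_apply2]
  linear_combination (exp := 1) (-(Y 0 0 + Y 1 1) ^ 2 + 4 * (Y 0 0 * Y 1 1 - Y 0 1 * Y 1 0)) * hX +
    (-(X 0 0 + X 1 1) ^ 2 + 4) * hY

theorem kap_of_comm {X Y : SL(2, F)} (h : X * Y = Y * X) :
    kap (X : M₂).trace (Y : M₂).trace ((X * Y : SL(2, F)) : M₂).trace = 0 := by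
  rw [kap_eq]
  obtain ⟨h1, h2, -, -⟩ := ext2_iff.1 (SL_ext_iff.1 h)
  simp only [Matrix.SpecialLinearGroup.coe_mul, mul_apply2] at h1 h2
  rw [show X 0 1 * Y 1 0 - Y 0 1 * X 1 0 = 0 by linear_combination h1,
    show (X 0 0 - X 1 1) * Y 0 1 - (Y 0 0 - Y 1 1) * X 0 1 = 0 by linear_combination h2]
  ring

theorem solv_of_kap {X Y : SL(2, F)}
    (h : kap (X : M₂).trace (Y : M₂).trace ((X * Y : SL(2, F)) : M₂).trace = 0) :
    Group.IsSolvable (closure ({pslMk F X, pslMk F Y} : Set PSL(2, F))) := by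
  rw [kap_eq] at h
  by_cases hw : X 1 0 * (Y 0 0 - Y 1 1) - Y 1 0 * (X 0 0 - X 1 1) = 0
  · rw [hw, mul_zero, add_zero, sq_eq_zero_iff] at h
    by_cases hv : (X 0 0 - X 1 1) * Y 0 1 - (Y 0 0 - Y 1 1) * X 0 1 = 0
    · refine solv_of_comm ?_
      rw [← map_mul, ← map_mul]
      congr 1
      refine SL_ext_iff.2 (ext2 ?_ ?_ ?_ ?_) <;>
        simp only [Matrix.SpecialLinearGroup.coe_mul, mul_apply2]
      · linear_combination h
      · linear_combination hv
      · linear_combination hw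
      · linear_combination -h
    · refine isSolvable_of_le_stabilizer (x := inf F) (closure_pair_le
        ((pslMk_smul_inf_inf X).2 ?_) ((pslMk_smul_inf_inf Y).2 ?_)) <;>
        refine mul_left_cancel₀ hv ?_
      · linear_combination -(X 0 0 - X 1 1) * h - X 0 1 * hw
      · linear_combination -(Y 0 0 - Y 1 1) * h - Y 0 1 * hw
  · refine isSolvable_of_le_stabilizer (x := pt ((X 0 1 * Y 1 0 - Y 0 1 * X 1 0) /
      (X 1 0 * (Y 0 0 - Y 1 1) - Y 1 0 * (X 0 0 - X 1 1)))) (closure_pair_le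
        ((pslMk_smul_pt_pt X _ _).2 ?_) ((pslMk_smul_pt_pt Y _ _).2 ?_)) <;> field_simp
    · linear_combination -X 1 0 * h
    · linear_combination -Y 1 0 * h

theorem kap_of_fix {X Y : SL(2, F)} {x : P1 F} (hX : pslMk F X • x = x) (hY : pslMk F Y • x = x) :
    kap (X : M₂).trace (Y : M₂).trace ((X * Y : SL(2, F)) : M₂).trace = 0 := by
  rw [kap_eq]
  rcases inf_or_pt x with rfl | ⟨t, rfl⟩
  · rw [(pslMk_smul_inf_inf X).1 hX, (pslMk_smul_inf_inf Y).1 hY]; ring
  · rw [pslMk_smul_pt_pt] at hX hY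
    rw [show X 0 1 = t * (X 1 0 * t + X 1 1) - X 0 0 * t by linear_combination hX,
      show Y 0 1 = t * (Y 1 0 * t + Y 1 1) - Y 0 0 * t by linear_combination hY]
    ring

theorem trace_of_sq {X : SL(2, F)} (h : pslMk F X * pslMk F X = 1) :
    (X : M₂).trace = 0 ∨ IsScal (X : M₂) := by
  rw [← map_mul] at h
  obtain ⟨h1, h2, h3⟩ := pr_eq_one_iff.1 h
  simp only [Matrix.SpecialLinearGroup.coe_mul, mul_apply2] at h1 h2 h3
  rw [trace_fin_two]
  by_cases ht : X 0 0 + X 1 1 = 0
  · exact Or.inl ht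
  · refine Or.inr ⟨mul_left_cancel₀ ht ?_, mul_left_cancel₀ ht ?_, mul_left_cancel₀ ht ?_⟩
    · linear_combination h1
    · linear_combination h2
    · linear_combination h3

theorem P2_of_comm {X Y : SL(2, F)} (h : pslMk F X * pslMk F Y = pslMk F Y * pslMk F X) :
    P2 (X : M₂).trace (Y : M₂).trace ((X * Y : SL(2, F)) : M₂).trace := by
  rw [← map_mul, ← map_mul] at h
  rcases pr_eq_pr_iff.1 h with h | h
  · exact Or.inl (kap_of_comm h)
  by_cases h2 : (2 : F) = 0
  · exact Or.inl (kap_of_comm (h.trans (neg_eq_self_of_two_eq_zero h2 _)))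
  refine Or.inr (Or.inl ⟨mul_left_cancel₀ h2 ?_, mul_left_cancel₀ h2 ?_⟩)
  · have := SL_trace_eq_of_isConj (isConj_iff.2 ⟨Y⁻¹, show Y⁻¹ * (-X) * Y⁻¹⁻¹ = X by
      rw [inv_inv, mul_assoc, neg_mul, h]; simp⟩)
    rw [SL_trace_neg] at this
    linear_combination -this
  · have := SL_trace_eq_of_isConj (isConj_iff.2 ⟨X, show X * Y * X⁻¹ = -Y by rw [h]; simp⟩)
    rw [SL_trace_neg] at this
    linear_combination this

theorem P2_of_dihedral {X Y : SL(2, F)} {n : ℕ} {H : Subgroup PSL(2, F)}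
    (e : H ≃* DihedralGroup n) (hX : pslMk F X ∈ H) (hY : pslMk F Y ∈ H) :
    P2 (X : M₂).trace (Y : M₂).trace ((X * Y : SL(2, F)) : M₂).trace := by
  have k1 : IsScal (X : M₂) → P2 (X : M₂).trace (Y : M₂).trace ((X * Y : SL(2, F)) : M₂).trace :=
    fun h => Or.inl (kap_of_comm (SL_ext_iff.2 (h.comm _)))
  have k2 : IsScal (Y : M₂) → P2 (X : M₂).trace (Y : M₂).trace ((X * Y : SL(2, F)) : M₂).trace :=
    fun h => Or.inl (kap_of_comm (SL_ext_iff.2 (h.comm _).symm))
  have k3 : IsScal ((X * Y : SL(2, F)) : M₂) →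
      P2 (X : M₂).trace (Y : M₂).trace ((X * Y : SL(2, F)) : M₂).trace := fun h =>
    Or.inl (kap_of_comm (by
      have : X * Y * X = X * (X * Y) := SL_ext_iff.2 (h.comm _)
      rw [mul_assoc] at this
      exact (mul_left_cancel this).symm))
  rcases dihedral_cases e hX hY with h | ⟨h, h'⟩ | ⟨h, h'⟩ | ⟨h, h'⟩
  · exact P2_of_comm h
  · exact (trace_of_sq h).elim (fun a => (trace_of_sq h').elim
      (fun b => Or.inr (Or.inl ⟨a, b⟩)) k2) k1
  · rw [← map_mul (pslMk F) X] at h'
    exact (trace_of_sq h).elim (fun a => (trace_of_sq h').elim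
      (fun b => Or.inr (Or.inr (Or.inl ⟨a, b⟩))) k3) k1
  · rw [← map_mul (pslMk F) X] at h'
    exact (trace_of_sq h).elim (fun a => (trace_of_sq h').elim
      (fun b => Or.inr (Or.inr (Or.inr ⟨a, b⟩))) k3) k2

theorem P2_of_cyclic {X Y : SL(2, F)} {H : Subgroup PSL(2, F)} (e : IsCyclic H)
    (hX : pslMk F X ∈ H) (hY : pslMk F Y ∈ H) :
    P2 (X : M₂).trace (Y : M₂).trace ((X * Y : SL(2, F)) : M₂).trace :=
  P2_of_comm (congrArg Subtype.val (e.isMulCommutative.is_comm.comm ⟨_, hX⟩ ⟨_, hY⟩))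

theorem solv_of_P2 {X Y : SL(2, F)}
    (h : P2 (X : M₂).trace (Y : M₂).trace ((X * Y : SL(2, F)) : M₂).trace) :
    Group.IsSolvable (closure ({pslMk F X, pslMk F Y} : Set PSL(2, F))) := by
  rcases h with h | ⟨h, h'⟩ | ⟨h, h'⟩ | ⟨h, h'⟩
  · exact solv_of_kap h
  · exact solv_22 (pslMk_mul_self h) (pslMk_mul_self h')
  · exact solv_2x (pslMk_mul_self h) (by rw [← map_mul]; exact pslMk_mul_self h')
  · exact solv_x2 (pslMk_mul_self h) (by rw [← map_mul]; exact pslMk_mul_self h')

theorem cube_cases {a : F} (h : a ^ 3 = a) : a = 0 ∨ a ^ 2 = 1 := by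
  by_cases h0 : a = 0
  · exact Or.inl h0
  · exact Or.inr (mul_left_cancel₀ h0 (by linear_combination h))

theorem solv_of_P3 {X Y : SL(2, F)}
    (h : P3 (X : M₂).trace (Y : M₂).trace ((X * Y : SL(2, F)) : M₂).trace) :
    Group.IsSolvable (closure ({pslMk F X, pslMk F Y} : Set PSL(2, F))) := by
  rcases h with h | ⟨ha, hb, hc⟩
  · exact solv_of_P2 h
  have k3 : ((X * Y : SL(2, F)) : M₂).trace ^ 2 = 1 → (pslMk F X * pslMk F Y) ^ 3 = 1 :=
    fun h => by rw [← map_mul]; exact pslMk_pow_three h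
  rcases cube_cases ha with ha | ha <;> rcases cube_cases hb with hb | hb <;>
    rcases cube_cases hc with hc | hc
  · exact solv_of_P2 (Or.inr (Or.inl ⟨ha, hb⟩))
  · exact solv_of_P2 (Or.inr (Or.inl ⟨ha, hb⟩))
  · exact solv_of_P2 (Or.inr (Or.inr (Or.inl ⟨ha, hc⟩)))
  · exact solv_233 (pslMk_mul_self ha) (pslMk_pow_three hb) (k3 hc)
  · exact solv_of_P2 (Or.inr (Or.inr (Or.inr ⟨hb, hc⟩)))
  · exact solv_323 (pslMk_pow_three ha) (pslMk_mul_self hb) (k3 hc)
  · exact solv_332 (pslMk_pow_three ha) (pslMk_pow_three hb)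
      (by rw [← map_mul]; exact pslMk_mul_self hc)
  · have : ((X : M₂).trace * (Y : M₂).trace - ((X * Y : SL(2, F)) : M₂).trace) *
        ((X : M₂).trace * (Y : M₂).trace + ((X * Y : SL(2, F)) : M₂).trace) = 0 := by
      linear_combination (Y : M₂).trace ^ 2 * ha + hb - hc
    rcases mul_eq_zero.1 this with h | h
    · have h0 : ((X * Y⁻¹ : SL(2, F)) : M₂).trace = 0 := by
        rw [← h, Matrix.SpecialLinearGroup.coe_mul, Matrix.SpecialLinearGroup.coe_inv,
          adjugate_fin_two]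
        simp [trace_fin_two, mul_apply2]
        ring
      refine solv_of_le (closure_pair_le ?_ (right_mem _ _)) (solv_233 (x := pslMk F (X * Y⁻¹))
        (pslMk_mul_self h0) (pslMk_pow_three hb) (by simpa using pslMk_pow_three ha))
      simpa using mul_mem (left_mem (pslMk F (X * Y⁻¹)) (pslMk F Y)) (right_mem _ _)
    · refine solv_of_kap ?_
      unfold kap
      linear_combination ha + hb + 2 * hc - ((X * Y : SL(2, F)) : M₂).trace * h

theorem cube_of_alt4 (h3 : (3 : F) = 0) {X : SL(2, F)}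
    (h : pslMk F X * pslMk F X = 1 ∨ pslMk F X ^ 3 = 1) :
    (X : M₂).trace ^ 3 = (X : M₂).trace := by
  by_cases hs : IsScal (X : M₂)
  · have := hs.disc
    rw [X.det_coe] at this
    linear_combination (X : M₂).trace * this + (X : M₂).trace * h3
  rcases h with h | h
  · rw [(trace_of_sq h).resolve_right hs]; ring
  · rw [← map_pow] at h
    have h1 : IsScal ((X ^ 3 : SL(2, F)) : M₂) := pr_eq_one_iff.1 h
    have : ((X ^ 3 : SL(2, F)) : M₂) =
        (-(X : M₂).trace) • (1 : M₂) + ((X : M₂).trace ^ 2 - 1) • (X : M₂) := by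
      rw [Matrix.SpecialLinearGroup.coe_pow, pow_succ, sq, sq_eq, sub_mul, smul_mul_assoc, sq_eq,
        X.det_coe]
      simp only [one_smul, one_mul]
      module
    rw [this, isScal_smul_add hs] at h1
    linear_combination (X : M₂).trace * h1

section Finite

variable [Fintype F]

theorem ne_top_of_solv (h4 : 4 ≤ Fintype.card F) {H : Subgroup PSL(2, F)}
    (h : Group.IsSolvable H) : H ≠ ⊤ := by
  rintro rfl
  exact S0810.not_solvable h4 (isSolvable_of_mulEquiv topEquiv.symm)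

theorem solv_iff_two {p : ℕ} (hp : p.Prime) (hF : Fintype.card F = 2 ^ p) (X Y : SL(2, F)) :
    Group.IsSolvable (closure ({pslMk F X, pslMk F Y} : Set PSL(2, F))) ↔
      P2 (X : M₂).trace (Y : M₂).trace ((X * Y : SL(2, F)) : M₂).trace := by
  refine ⟨fun h => ?_, solv_of_P2⟩
  have h4 : 4 ≤ Fintype.card F := hF ▸ Nat.pow_le_pow_right (i := 2) two_pos hp.two_le
  have h2 : (2 : F) = 0 := (two_eq_zero_or_odd (F := F)).resolve_right (by
    rw [Nat.card_eq_fintype_card, hF, Nat.not_odd_iff_even]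
    exact (Nat.even_pow.2 ⟨even_two, hp.ne_zero⟩))
  rcases dickson_PSL2_even h2 (closure ({pslMk F X, pslMk F Y} : Set PSL(2, F))) with
    ⟨x, hx⟩ | ⟨n, -, e | ⟨⟨e⟩⟩⟩ | ⟨L, g, h1, h3⟩
  · exact Or.inl (kap_of_fix (hx (left_mem _ _)) (hx (right_mem _ _)))
  · exact P2_of_cyclic e (left_mem _ _) (right_mem _ _)
  · exact P2_of_dihedral e (left_mem _ _) (right_mem _ _)
  obtain ⟨m, hm, hL⟩ := (subfield_top_or h3).resolve_left (ne_top_of_solv h4 h)
  have hL := S0810.eq_of_pow Nat.prime_two hp hm (hL.trans hF)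
  have k1 := card_le_of_le h1
  have k2 := card_le_of_le h3
  have k3 := gcd_mul_card_PSL2 (K := L)
  rw [card_map_of_injective pslTo_injective, card_map_of_injective (MulAut.conj g).injective]
    at k1 k2
  rw [← Nat.card_congr (pglOfEquiv L.subtype).toEquiv, card_PGL2, hL] at k1
  rw [← Nat.card_congr (pslOfEquiv L.subtype).toEquiv] at k2
  rw [hL] at k3
  norm_num at k1 k3
  rcases cyclic_or_dihedral_of_card_six (le_antisymm k1 (k3 ▸ k2)) with e | ⟨⟨e⟩⟩
  · exact P2_of_cyclic e (left_mem _ _) (right_mem _ _)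
  · exact P2_of_dihedral e (left_mem _ _) (right_mem _ _)

theorem three_pow_mod {p : ℕ} (hodd : Odd p) : 3 ^ p % 16 = 3 ∨ 3 ^ p % 16 = 11 := by
  obtain ⟨k, rfl⟩ := hodd
  induction k with
  | zero => simp
  | succ k ih =>
    rw [show 2 * (k + 1) + 1 = 2 * k + 1 + 2 by ring, pow_add _ _ 2]
    generalize 3 ^ (2 * k + 1) = a at *
    omega

theorem three_eq_zero {p : ℕ} (hF : Fintype.card F = 3 ^ p) : (3 : F) = 0 := by
  have := FiniteField.cast_card_eq_zero F
  rw [hF] at this
  exact eq_zero_of_pow_eq_zero (n := p) (by exact_mod_cast this)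

theorem solv_iff_three {p : ℕ} (hp : p.Prime) (hodd : Odd p) (hF : Fintype.card F = 3 ^ p)
    (X Y : SL(2, F)) :
    Group.IsSolvable (closure ({pslMk F X, pslMk F Y} : Set PSL(2, F))) ↔
      P3 (X : M₂).trace (Y : M₂).trace ((X * Y : SL(2, F)) : M₂).trace := by
  refine ⟨fun h => ?_, solv_of_P3⟩
  have h4 : 4 ≤ Fintype.card F :=
    hF ▸ le_trans (by norm_num) (Nat.pow_le_pow_right (i := 2) three_pos hp.two_le)
  have h3 := three_eq_zero hF
  have k4 : closure ({pslMk F X, pslMk F Y} : Set PSL(2, F)) ≃* alternatingGroup (Fin 4) →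
      P3 (X : M₂).trace (Y : M₂).trace ((X * Y : SL(2, F)) : M₂).trace := fun e =>
    Or.inr ⟨cube_of_alt4 h3 (alt4_cases e (left_mem _ _)),
      cube_of_alt4 h3 (alt4_cases e (right_mem _ _)),
      cube_of_alt4 h3 (alt4_cases e (map_mul (pslMk F) X Y ▸ mul_mem (left_mem _ _) (right_mem _ _)))⟩
  have k24 : Nat.card (closure ({pslMk F X, pslMk F Y} : Set PSL(2, F))) ≠ 24 := fun e => by
    obtain ⟨c, hc⟩ := e ▸ card_subgroup_dvd_card (closure ({pslMk F X, pslMk F Y} : Set PSL(2, F)))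
    have hG := gcd_mul_card_PSL2 (K := F)
    have hm := three_pow_mod hodd
    rw [gcd_two_of_two_ne (fun h2 => one_ne_zero (α := F) (by linear_combination h3 - h2)), hc,
      Nat.card_eq_fintype_card, hF] at hG
    generalize 3 ^ p = q at *
    obtain ⟨k, rfl | rfl⟩ : ∃ k, q = 16 * k + 3 ∨ q = 16 * k + 11 := ⟨q / 16, by omega⟩
    · rw [show (16 * k + 3) ^ 2 - 1 = 16 * (16 * k ^ 2 + 6 * k) + 8 from
        Nat.sub_eq_of_eq_add (by ring)] at hG
      have := congrArg (· % 16) hG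
      simp [Nat.mul_mod, Nat.add_mod, ← mul_assoc] at this
    · rw [show (16 * k + 11) ^ 2 - 1 = 16 * (16 * k ^ 2 + 22 * k + 7) + 8 from
        Nat.sub_eq_of_eq_add (by ring)] at hG
      have := congrArg (· % 16) hG
      simp [Nat.mul_mod, Nat.add_mod, ← mul_assoc] at this
  rcases dickson_PSL2 (closure ({pslMk F X, pslMk F Y} : Set PSL(2, F))) with
    ⟨x, hx⟩ | ⟨n, -, ⟨e, -⟩ | ⟨⟨e⟩⟩⟩ | ⟨⟨e⟩⟩ | ⟨⟨e⟩⟩ | ⟨⟨e⟩⟩ | ⟨L, g, hL⟩
  · exact Or.inl (Or.inl (kap_of_fix (hx (left_mem _ _)) (hx (right_mem _ _))))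
  · exact Or.inl (P2_of_cyclic e (left_mem _ _) (right_mem _ _))
  · exact Or.inl (P2_of_dihedral e (left_mem _ _) (right_mem _ _))
  · exact k4 e
  · exact absurd ((Nat.card_congr e.toEquiv).trans card_sym4) k24
  · exact absurd (isSolvable_of_mulEquiv e.symm) S0810.not_solvable_alt5
  obtain ⟨m, hm, hc⟩ := (subfield_top_or (L := L) (h := g) (hL.elim
    (fun e => e ▸ map_mono (pslOf_le_pglOf _)) fun e => e.2.ge)).resolve_left (ne_top_of_solv h4 h)
  have hc := S0810.eq_of_pow Nat.prime_three hp hm (hc.trans hF)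
  rcases hL with e | ⟨-, e⟩
  · obtain ⟨e⟩ := nonempty_equiv_of_map_eq_pgl e
    exact absurd ((Nat.card_congr e.toEquiv).trans (by rw [card_PGL2, hc]; norm_num)) k24
  · obtain ⟨e⟩ := nonempty_equiv_of_map_eq_psl e
    have := Fintype.ofFinite L
    obtain ⟨e'⟩ := S0251.result (F := L) (by rw [← Nat.card_eq_fintype_card, hc])
    exact k4 (e.trans e')

/-- The points of the conic of matrices with given traces. -/
noncomputable def conic (s a b : F) : ℕ :=
  Nat.card {w : F × F // w.1 ^ 2 - s * w.1 * w.2 + w.2 ^ 2 - a * w.1 + b * w.2 + 1 = 0}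

theorem card_traces {X : SL(2, F)} (hX : ¬ IsScal (X : M₂)) (R : F → F → Prop) {m : ℕ}
    (hm : ∀ a b, R a b → conic (X : M₂).trace a b = m) :
    Nat.card {Y : SL(2, F) // R (Y : M₂).trace ((X * Y : SL(2, F)) : M₂).trace} =
      Nat.card {v : F × F // R v.1 v.2} * m := by
  classical
  obtain ⟨P, hP, H⟩ := exists_companion hX
  rw [X.det_coe] at H
  set s := (X : M₂).trace
  have hP' : IsUnit P.det := isUnit_iff_ne_zero.2 hP
  let Z : F × F → F × F → M₂ := fun v w => !![v.1 - w.1, v.2 + w.2 - s * w.1; w.2, w.1]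
  have k1 : ∀ A : M₂, (P * A * P⁻¹).trace = A.trace := fun A => by
    rw [trace_mul_comm, ← Matrix.mul_assoc, nonsing_inv_mul _ hP', Matrix.one_mul]
  have k2 : ∀ A : M₂, ((X : M₂) * (P * A * P⁻¹)).trace = (!![0, -1; 1, s] * A).trace := fun A => by
    rw [← Matrix.mul_assoc, ← Matrix.mul_assoc, H, Matrix.mul_assoc P, k1]
  have k3 : ∀ A : M₂, (P * A * P⁻¹).det = A.det := fun A => by
    rw [det_mul, det_mul, det_nonsing_inv, Ring.inverse_eq_inv']; field_simp
  let f : (Σ v : {v : F × F // R v.1 v.2}, {w : F × F //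
      w.1 ^ 2 - s * w.1 * w.2 + w.2 ^ 2 - v.1.1 * w.1 + v.1.2 * w.2 + 1 = 0}) →
      {Y : SL(2, F) // R (Y : M₂).trace ((X * Y : SL(2, F)) : M₂).trace} := fun z =>
    ⟨mkSL (P * Z z.1.1 z.2.1 * P⁻¹) (by
      rw [k3]; simp only [Z, det_fin_two_of]; linear_combination -z.2.2), by
      rw [Matrix.SpecialLinearGroup.coe_mul]
      change R (P * Z z.1.1 z.2.1 * P⁻¹).trace ((X : M₂) * (P * Z z.1.1 z.2.1 * P⁻¹)).trace
      rw [k1, k2]
      convert z.1.2 using 1 <;> simp [Z, trace_fin_two]⟩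
  have hf : Function.Bijective f := by
    constructor
    · rintro ⟨⟨v, hv⟩, ⟨w, hw⟩⟩ ⟨⟨v', hv'⟩, ⟨w', hw'⟩⟩ e
      have e1 : P * Z v w * P⁻¹ = P * Z v' w' * P⁻¹ := congrArg (fun Y => (Y.1 : M₂)) e
      have e2 := congrArg (fun A => P⁻¹ * A * P) e1
      simp only [Matrix.mul_assoc, nonsing_inv_mul _ hP', nonsing_inv_mul_cancel_left _ _ hP',
        Matrix.mul_one] at e2
      obtain ⟨h1, h2, h3, h4⟩ := ext2_iff.1 e2
      simp [Z] at h1 h2 h3 h4
      obtain rfl : w = w' := Prod.ext h4 h3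
      obtain rfl : v = v' := Prod.ext (by linear_combination h1) (by linear_combination h2)
      rfl
    · rintro ⟨Y, hY⟩
      have e : (Y : M₂) = P * (P⁻¹ * Y * P) * P⁻¹ := by
        simp only [Matrix.mul_assoc, mul_nonsing_inv _ hP', mul_nonsing_inv_cancel_left _ _ hP',
          Matrix.mul_one]
      have hd := Y.det_coe
      rw [Matrix.SpecialLinearGroup.coe_mul] at hY
      generalize P⁻¹ * (Y : M₂) * P = A at e
      have e2 : A = Z (A.trace, (!![0, -1; 1, s] * A).trace) (A 1 1, A 1 0) := by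
        refine ext2 ?_ ?_ ?_ ?_ <;> simp [Z, trace_fin_two, vecMul, dotProduct]
      have hY' := hY
      rw [e, k1, k2] at hY'
      rw [e, k3, e2] at hd
      refine ⟨⟨⟨(A.trace, (!![0, -1; 1, s] * A).trace), hY'⟩, ⟨(A 1 1, A 1 0), ?_⟩⟩, ?_⟩
      · simp only [Z, det_fin_two_of] at hd
        linear_combination -hd
      · refine Subtype.ext (SL_ext_iff.2 ?_)
        change P * Z _ _ * P⁻¹ = _
        rw [← e2, ← e]
  rw [← Nat.card_congr (Equiv.ofBijective f hf), Nat.card_sigma]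
  refine (Finset.sum_congr rfl fun v _ => hm _ _ v.2).trans ?_
  simp

theorem card_add_card_not {α : Type*} [Finite α] (p : α → Prop) :
    Nat.card {x // p x} + Nat.card {x // ¬ p x} = Nat.card α := by
  classical
  rw [← Nat.card_sum, Nat.card_congr (Equiv.sumCompl p)]

/-- The size of the solubilizer from a criterion on traces. -/
theorem card_sol {X : SL(2, F)} (hX : ¬ IsScal (X : M₂)) (R : F → F → Prop) {m n : ℕ}
    (hm : ∀ a b, ¬ R a b → conic (X : M₂).trace a b = m)
    (hR : ∀ Y : SL(2, F), Group.IsSolvable (closure ({pslMk F X, pslMk F Y} : Set PSL(2, F))) ↔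
      R (Y : M₂).trace ((X * Y : SL(2, F)) : M₂).trace)
    (hn : Nat.card {v : F × F // R v.1 v.2} = n) :
    (Nat.gcd 2 (Fintype.card F - 1) * Nat.card {y : PSL(2, F) //
      Group.IsSolvable (closure ({pslMk F X, y} : Set PSL(2, F)))} : ℤ) =
      Fintype.card F * (Fintype.card F ^ 2 - 1) - (Fintype.card F ^ 2 - n) * m := by
  have h1 := card_preimage_of_surjective (pslMk F) pslMk_surjective
    {y | Group.IsSolvable (closure ({pslMk F X, y} : Set PSL(2, F)))}
  have h2 := card_traces hX (fun a b => ¬ R a b) hm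
  have h3 := card_add_card_not
    fun Y : SL(2, F) => R (Y : M₂).trace ((X * Y : SL(2, F)) : M₂).trace
  have h4 := card_add_card_not fun v : F × F => R v.1 v.2
  rw [card_ker_pslMk'] at h1
  rw [h2, card_SL2, ← Nat.card_congr (Equiv.subtypeEquivRight hR)] at h3
  rw [hn, Nat.card_prod] at h4
  rw [Nat.card_eq_fintype_card (α := F)] at h3 h4
  have h5 : 1 ≤ Fintype.card F ^ 2 := Nat.one_le_pow _ _ Fintype.card_pos
  have h6 := h1.symm.trans (Nat.eq_sub_of_add_eq h3)
  have h7 := Nat.le.intro ((add_comm _ _).trans h3)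
  zify [h5, h7] at h4 h6
  erw [h6]
  linear_combination (-m : ℤ) * h4

/-- The number of representations by the norm form. -/
noncomputable def nrm (s k : F) : ℕ := Nat.card {w : F × F // w.1 ^ 2 + s * w.1 * w.2 + w.2 ^ 2 = k}

theorem nrm_le (s k x y : F) (h : x ^ 2 + s * x * y + y ^ 2 ≠ 0) :
    nrm s k ≤ nrm s (k * (x ^ 2 + s * x * y + y ^ 2)) := by
  refine Nat.card_le_card_of_injective (fun w => ⟨(w.1.1 * x - w.1.2 * y,
    w.1.1 * y + w.1.2 * x + s * w.1.2 * y), by
      linear_combination (x ^ 2 + s * x * y + y ^ 2) * w.2⟩) ?_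
  rintro ⟨⟨a, b⟩, _⟩ ⟨⟨c, d⟩, _⟩ e
  simp only [Subtype.mk.injEq, Prod.mk.injEq] at e ⊢
  constructor <;> refine mul_left_cancel₀ h ?_
  · linear_combination (x + s * y) * e.1 + y * e.2
  · linear_combination x * e.2 - y * e.1

theorem nrm_eq {s k : F} (hs : s ^ 2 ≠ 4) (hk : k ≠ 0) : nrm s k = nrm s 1 := by
  obtain ⟨x, y, h⟩ := norm_surj (t := s) (d := 1) (Or.inl (by simpa using hs)) k
  obtain ⟨x', y', h'⟩ := norm_surj (t := s) (d := 1) (Or.inl (by simpa using hs)) k⁻¹
  rw [one_mul] at h h'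
  have h1 := nrm_le s 1 x y (h ▸ hk)
  have h2 := nrm_le s k x' y' (h' ▸ inv_ne_zero hk)
  rw [h, one_mul] at h1
  rw [h', mul_inv_cancel₀ hk] at h2
  exact le_antisymm h2 h1

theorem conic_eq {s a b : F} (hs : s ^ 2 ≠ 4) (hk : kap s a b ≠ 0) : conic s a b = nrm s 1 := by
  have hD : 4 - s ^ 2 ≠ 0 := fun h => hs (by linear_combination -h)
  rw [← nrm_eq hs (div_ne_zero hk hD)]
  refine Nat.card_congr (Equiv.subtypeEquiv ((Equiv.subRight ((2 * a - s * b) / (4 - s ^ 2))).prodCongr
    (Equiv.subLeft ((s * a - 2 * b) / (4 - s ^ 2)))) fun w => ?_)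
  simp only [Equiv.prodCongr_apply, Prod.map_fst, Prod.map_snd, Equiv.subRight_apply,
    Equiv.subLeft_apply, kap]
  constructor <;> intro h
  · field_simp
    linear_combination (4 - s ^ 2) ^ 2 * h
  · field_simp at h
    refine mul_left_cancel₀ (pow_ne_zero 2 hD) ?_
    linear_combination h

theorem card_kap {s : F} (hs : s ^ 2 ≠ 4) :
    Nat.card {v : F × F // kap s v.1 v.2 = 0} = nrm s 1 := by
  have hD : 4 - s ^ 2 ≠ 0 := fun h => hs (by linear_combination -h)
  rw [← nrm_eq hs hD]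
  refine Nat.card_congr (Equiv.subtypeEquiv ((Equiv.refl F).prodCongr (Equiv.neg F)) fun w => ?_)
  simp only [Equiv.prodCongr_apply, Prod.map_fst, Prod.map_snd, Equiv.refl_apply, Equiv.neg_apply,
    kap]
  constructor <;> intro h <;> linear_combination h

theorem conic_two {a b : F} (h : a ≠ b) : conic 2 a b = Fintype.card F := by
  have h' : b - a ≠ 0 := sub_ne_zero.2 h.symm
  rw [← Nat.card_eq_fintype_card]
  refine Nat.card_congr (Equiv.ofBijective (fun w => w.1.1 - w.1.2) ⟨?_, fun u => ?_⟩)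
  · rintro ⟨⟨x, y⟩, h1⟩ ⟨⟨x', y'⟩, h2⟩ e
    simp only [Subtype.mk.injEq, Prod.mk.injEq] at e h1 h2 ⊢
    obtain rfl : x = x' - y' + y := by linear_combination e
    have : y = y' := mul_left_cancel₀ h' (by linear_combination h1 - h2)
    exact ⟨by rw [this]; ring, this⟩
  · refine ⟨⟨(u - (u ^ 2 - a * u + 1) / (b - a), -(u ^ 2 - a * u + 1) / (b - a)), ?_⟩, ?_⟩
    · field_simp; ring
    · ring

omit [Fintype F] in
theorem nrm_trace {X : SL(2, F)} (hX : ¬ IsScal (X : M₂)) :
    nrm (X : M₂).trace 1 = Nat.card (centralizer ({X} : Set SL(2, F))) :=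
  (SL_card_centralizer hX).symm

omit [Field F] in
theorem card_pairs [DecidableEq F] (R : F → F → Prop) (T : Finset F) (c : ℕ)
    (h : ∀ a ∉ T, Nat.card {b // R a b} = c) :
    Nat.card {v : F × F // R v.1 v.2} =
      ∑ a ∈ T, Nat.card {b // R a b} + (Fintype.card F - T.card) * c := by
  rw [Nat.card_congr (Equiv.subtypeProdEquivSigmaSubtype R), Nat.card_sigma,
    ← Finset.sum_add_sum_compl T, Finset.sum_congr rfl fun a (ha : a ∈ Tᶜ) =>
      h a (Finset.mem_compl.1 ha), Finset.sum_const, Finset.card_compl, smul_eq_mul]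

theorem card_or_kap {s : F} (hs : s ^ 2 ≠ 4) (R : F → F → Prop)
    (h : ∀ a b, kap s a b = 0 → R a b) :
    Nat.card {v : F × F // R v.1 v.2} =
      nrm s 1 + Nat.card {v : F × F // R v.1 v.2 ∧ kap s v.1 v.2 ≠ 0} := by
  rw [← card_add_card_not (fun v : {v : F × F // R v.1 v.2} => kap s v.1.1 v.1.2 = 0),
    ← card_kap hs, Nat.card_congr (Equiv.subtypeSubtypeEquivSubtypeInter
      (fun v : F × F => R v.1 v.2) fun v => ¬ kap s v.1 v.2 = 0),
    Nat.card_congr (Equiv.subtypeSubtypeEquivSubtype (p := fun v : F × F => R v.1 v.2)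
      (q := fun v => kap s v.1 v.2 = 0) fun {v} => h v.1 v.2)]

/-- The generic case. -/
theorem card_generic {X : SL(2, F)} (hs : (X : M₂).trace ^ 2 ≠ 4)
    (hR : ∀ Y : SL(2, F), Group.IsSolvable (closure ({pslMk F X, pslMk F Y} : Set PSL(2, F))) ↔
      kap (X : M₂).trace (Y : M₂).trace ((X * Y : SL(2, F)) : M₂).trace = 0 ∨
        ((Y : M₂).trace = 0 ∧ ((X * Y : SL(2, F)) : M₂).trace = 0)) :
    (Nat.gcd 2 (Fintype.card F - 1) * Nat.card {y : PSL(2, F) //
      Group.IsSolvable (closure ({pslMk F X, y} : Set PSL(2, F)))} : ℤ) =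
      Fintype.card F * (Fintype.card F ^ 2 - 1) - (Fintype.card F ^ 2 -
        (Nat.card (centralizer ({X} : Set SL(2, F))) + 1)) *
          Nat.card (centralizer ({X} : Set SL(2, F))) := by
  have hX := SL_not_isScal_of_trace hs
  rw [← nrm_trace hX]
  refine (card_sol hX (fun a b => kap (X : M₂).trace a b = 0 ∨ (a = 0 ∧ b = 0))
    (n := nrm (X : M₂).trace 1 + 1) (fun a b h => conic_eq hs fun e => h (Or.inl e)) hR ?_).trans
    (by push_cast; rfl)
  rw [card_or_kap hs (fun a b => kap (X : M₂).trace a b = 0 ∨ (a = 0 ∧ b = 0))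
    fun _ _ => Or.inl, Nat.subtype_card {((0 : F), (0 : F))}, Finset.card_singleton]
  rintro ⟨a, b⟩
  simp only [Finset.mem_singleton, Prod.mk.injEq]
  refine ⟨?_, fun h => h.1.resolve_left h.2⟩
  rintro ⟨rfl, rfl⟩
  exact ⟨Or.inr ⟨rfl, rfl⟩, fun e => hs (by unfold kap at e; linear_combination e)⟩

omit [Fintype F] in
theorem kap_two (a b : F) : kap 2 a b = 0 ↔ a = b := by
  rw [show kap 2 a b = (a - b) ^ 2 by unfold kap; ring, sq_eq_zero_iff, sub_eq_zero]

theorem card_P2_two (h2 : (2 : F) = 0) :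
    Nat.card {v : F × F // P2 2 v.1 v.2} = Fintype.card F + (Fintype.card F - 1) * 2 := by
  classical
  rw [card_pairs (P2 2) {0} 2, Finset.sum_singleton, Finset.card_singleton,
    Nat.subtype_card Finset.univ, Finset.card_univ]
  · simp [P2, h2]
  · intro a ha
    rw [Finset.mem_singleton] at ha
    rw [Nat.subtype_card {a, 0}, Finset.card_pair ha]
    intro b
    simp only [P2, kap_two, Finset.mem_insert, Finset.mem_singleton]
    simp [h2, ha, eq_comm]

omit [Fintype F] in
theorem mem_three {a : F} : a ∈ ({0, 1, -1} : Set F) ↔ a ^ 3 = a := by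
  refine ⟨by rintro (rfl | rfl | rfl) <;> ring, fun h => ?_⟩
  rcases cube_cases h with h | h
  · exact Or.inl h
  · exact Or.inr (sq_eq_one_iff.1 h)

omit [Fintype F] in
theorem card_three [DecidableEq F] (h2 : (2 : F) ≠ 0) : ({0, 1, -1} : Finset F).card = 3 :=
  Finset.card_eq_three.2 ⟨0, 1, -1, zero_ne_one, by simp,
    fun h => h2 (by linear_combination h), rfl⟩

theorem card_P3_two (h3 : (3 : F) = 0) :
    Nat.card {v : F × F // P3 2 v.1 v.2} = 9 + (Fintype.card F - 3) := by
  classical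
  have h2 : (2 : F) ≠ 0 := fun h2 => one_ne_zero (α := F) (by linear_combination h3 - h2)
  have h8 : (2 : F) ^ 3 = 2 := by linear_combination 2 * h3
  have k : ∀ a : F, a ∈ ({0, 1, -1} : Finset F) ↔ a ^ 3 = a := fun a => by
    rw [← mem_three]; simp
  rw [card_pairs (P3 2) {0, 1, -1} 1, card_three h2, mul_one,
    Finset.sum_congr rfl (g := fun _ => 3), Finset.sum_const, card_three h2, smul_eq_mul]
  · intro a ha
    rw [Nat.subtype_card {0, 1, -1}, card_three h2]
    intro b
    rw [k] at ha ⊢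
    simp only [P3, P2, kap_two, h2, h8, ha, false_and, false_or, true_and]
    refine ⟨Or.inr, ?_⟩
    rintro ((rfl | ⟨-, rfl⟩) | h)
    · exact ha
    · ring
    · exact h
  · intro a ha
    rw [Nat.subtype_card {a}, Finset.card_singleton]
    intro b
    have h0 : a ≠ 0 := fun e => ha (by simp [e])
    rw [k] at ha
    simp only [P3, P2, kap_two]
    simp [h2, ha, h0, eq_comm]

theorem card_P3_zero (h3 : (3 : F) = 0) :
    Nat.card {v : F × F // P3 0 v.1 v.2} =
      nrm (0 : F) 1 + (Fintype.card F - 2 + 4 + (Fintype.card F - 3)) := by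
  classical
  have h2 : (2 : F) ≠ 0 := fun h2 => one_ne_zero (α := F) (by linear_combination h3 - h2)
  have h1 : (1 : F) ≠ -1 := fun h => h2 (by linear_combination h)
  have k : ∀ a : F, a ∈ ({0, 1, -1} : Finset F) ↔ a ^ 3 = a := fun a => by
    rw [← mem_three]; simp
  have k0 : ∀ a b : F, kap 0 a b = 0 ↔ a ^ 2 + b ^ 2 = 1 := fun a b => by
    unfold kap
    constructor <;> intro h
    · linear_combination h + h3
    · linear_combination h - h3
  have k1 : ∀ a : F, a ^ 2 = 1 → Nat.card {b // P3 0 a b ∧ kap 0 a b ≠ 0} = 2 := fun a ha => by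
    rw [Nat.subtype_card {1, -1}, Finset.card_pair h1]
    intro b
    have h0 : a ≠ 0 := by rintro rfl; simp at ha
    simp only [Finset.mem_insert, Finset.mem_singleton, ← sq_eq_one_iff, P3, P2, ne_eq, k0, ha]
    constructor
    · intro hb
      exact ⟨Or.inr ⟨by ring, by linear_combination a * ha, by linear_combination b * hb⟩,
        fun e => one_ne_zero (α := F) (by linear_combination e - hb)⟩
    · rintro ⟨(h | h | h | h) | h, h'⟩
      · exact absurd h h'
      · exact absurd h.2 h0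
      · exact absurd (by rw [h.2]; ring) h'
      · exact absurd h.1 h0
      · exact (cube_cases h.2.2).resolve_left fun e => h' (by rw [e]; ring)
  rw [card_or_kap (s := 0) (fun h => one_ne_zero (α := F) (by linear_combination -h - h3)) (P3 0)
    fun _ _ h => Or.inl (Or.inl h), card_pairs (fun a b => P3 0 a b ∧ kap 0 a b ≠ 0) {0, 1, -1} 1,
    card_three h2, mul_one, Finset.sum_insert (by simp), Finset.sum_pair h1, k1 1 (by ring),
    k1 (-1) (by ring), Nat.subtype_card ({1, -1} : Finset F)ᶜ, Finset.card_compl,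
    Finset.card_pair h1]
  · intro b
    simp [P3, P2, k0, sq_eq_one_iff]
  · intro a ha
    rw [Nat.subtype_card {0}, Finset.card_singleton]
    intro b
    have h0 : a ≠ 0 := fun e => ha (by simp [e])
    rw [k] at ha
    simp only [Finset.mem_singleton, P3, P2, ne_eq, k0, ha, h0, false_and, and_false, or_false,
      false_or, true_and]
    refine ⟨?_, fun h => h.1.resolve_left h.2⟩
    rintro rfl
    exact ⟨Or.inr rfl, fun e => ha (by linear_combination a * e)⟩

theorem card_split {X : SL(2, F)} (hs : (X : M₂).trace ^ 2 ≠ 4) (hn : ¬ NoEig (X : M₂))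
    (hR : ∀ Y : SL(2, F), Group.IsSolvable (closure ({pslMk F X, pslMk F Y} : Set PSL(2, F))) ↔
      kap (X : M₂).trace (Y : M₂).trace ((X * Y : SL(2, F)) : M₂).trace = 0 ∨
        ((Y : M₂).trace = 0 ∧ ((X * Y : SL(2, F)) : M₂).trace = 0)) :
    Nat.gcd 2 (Fintype.card F - 1) * Nat.card {y : PSL(2, F) //
      Group.IsSolvable (closure ({pslMk F X, y} : Set PSL(2, F)))} =
      2 * Fintype.card F * (Fintype.card F - 1) := by
  have h := card_generic hs hR
  have h1 : 1 ≤ Fintype.card F := Fintype.card_pos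
  rw [((card_cent_cases hs).resolve_right (fun h' => hn h'.1)).2,
    Nat.card_eq_fintype_card (α := F)] at h
  zify [h1] at h ⊢
  linear_combination h

theorem card_nonsplit {X : SL(2, F)} (hn : NoEig (X : M₂))
    (hR : ∀ Y : SL(2, F), Group.IsSolvable (closure ({pslMk F X, pslMk F Y} : Set PSL(2, F))) ↔
      kap (X : M₂).trace (Y : M₂).trace ((X * Y : SL(2, F)) : M₂).trace = 0 ∨
        ((Y : M₂).trace = 0 ∧ ((X * Y : SL(2, F)) : M₂).trace = 0)) :
    Nat.gcd 2 (Fintype.card F - 1) * Nat.card {y : PSL(2, F) //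
      Group.IsSolvable (closure ({pslMk F X, y} : Set PSL(2, F)))} =
      2 * (Fintype.card F + 1) := by
  have h := card_generic hn.trace_sq_ne_four hR
  rw [SL_card_centralizer_noEig hn, Nat.card_eq_fintype_card (α := F)] at h
  zify at h ⊢
  linear_combination h

omit [Fintype F] in
theorem P2_iff {s : F} (h : s ≠ 0) (a b : F) : P2 s a b ↔ kap s a b = 0 ∨ (a = 0 ∧ b = 0) := by
  simp [P2, h]

omit [Fintype F] in
theorem P3_iff {s : F} (h : s ^ 3 ≠ s) (a b : F) :
    P3 s a b ↔ kap s a b = 0 ∨ (a = 0 ∧ b = 0) := by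
  rw [← P2_iff (by rintro rfl; simp at h)]
  simp [P3, h]

end Finite

end Cfsg.Agent.KSG.Solub
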