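import Mathlib
import Cfsg.Agent.KSG.WeightBound
import Cfsg.Agent.Class.Sp.Gen
import Cfsg.Agent.Char.Basic

/-!
The Weil representation of the symplectic group over a finite field of odd order.
-/

set_option autoImplicit false

namespace Cfsg.Agent.KSG

open Module Matrix Cfsg

section DetOn

variable {K : Type*} [Field K] {W : Type*} [AddCommGroup W] [Module K W]

open Classical in
/-- The determinant of an endomorphism on an invariant subspace. -/
noncomputable def detOn (U : Submodule K W) (M : Module.End K W) : K :=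
  if h : ∀ x ∈ U, M x ∈ U then LinearMap.det (M.restrict h) else 0

theorem detOn_eq {U : Submodule K W} {M : Module.End K W} (h : ∀ x ∈ U, M x ∈ U) :
    detOn U M = LinearMap.det (M.restrict h) := dif_pos h

theorem detOn_one (U : Submodule K W) : detOn U 1 = 1 := by
  rw [detOn_eq (fun x hx => hx)]
  have : (1 : Module.End K W).restrict (p := U) (q := U) (fun x hx => hx) = 1 := by ext; simp
  rw [this, map_one]

theorem detOn_mul {U : Submodule K W} {M N : Module.End K W} (hM : ∀ x ∈ U, M x ∈ U)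
    (hN : ∀ x ∈ U, N x ∈ U) : detOn U (M * N) = detOn U M * detOn U N := by
  rw [detOn_eq hM, detOn_eq hN, detOn_eq (M := M * N) (fun x hx => hM _ (hN x hx)), ← map_mul]
  congr 1

theorem detOn_smul {U : Submodule K W} {M : Module.End K W} (hM : ∀ x ∈ U, M x ∈ U) (c : K) :
    detOn U (c • M) = c ^ finrank K U * detOn U M := by
  rw [detOn_eq hM, detOn_eq (M := c • M) (fun x hx => U.smul_mem c (hM x hx)),
    ← LinearMap.det_smul]
  congr 1

theorem detOn_ne_zero [FiniteDimensional K W] {U : Submodule K W} {M : Module.End K W}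
    (hM : ∀ x ∈ U, M x ∈ U) (hi : Function.Injective M) : detOn U M ≠ 0 := by
  rw [detOn_eq hM]
  intro h
  have := LinearMap.bot_lt_ker_of_det_eq_zero h
  rw [bot_lt_iff_ne_bot] at this
  apply this
  rw [LinearMap.ker_eq_bot]
  intro x y hxy
  exact Subtype.ext (hi (congrArg Subtype.val hxy))

end DetOn

variable {F : Type*} [Field F] {n : ℕ}

/-- The Heisenberg operators on functions on `F^n`. -/
def heis (ψ : AddChar F ℂ) (v : Fin n ⊕ Fin n → F) : Module.End ℂ ((Fin n → F) → ℂ) where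
  toFun φ x := ψ ((v ∘ Sum.inr) ⬝ᵥ (x + x + v ∘ Sum.inl)) * φ (x + v ∘ Sum.inl)
  map_add' a b := by ext x; simp [mul_add]
  map_smul' c a := by ext x; simp; ring

theorem heis_apply (ψ : AddChar F ℂ) (v : Fin n ⊕ Fin n → F) (φ : (Fin n → F) → ℂ)
    (x : Fin n → F) :
    heis ψ v φ x = ψ ((v ∘ Sum.inr) ⬝ᵥ (x + x + v ∘ Sum.inl)) * φ (x + v ∘ Sum.inl) := rfl

theorem heis_zero (ψ : AddChar F ℂ) : heis ψ (0 : Fin n ⊕ Fin n → F) = 1 := by
  ext φ x
  simp [heis_apply]

theorem sympForm_eq_dot (u v : Fin n ⊕ Fin n → F) :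
    sympForm n F u v = (u ∘ Sum.inr) ⬝ᵥ (v ∘ Sum.inl) - (v ∘ Sum.inr) ⬝ᵥ (u ∘ Sum.inl) := by
  rw [Class.Sp.form_eq, Finset.sum_sub_distrib]
  simp [dotProduct, mul_comm]

theorem heis_mul (ψ : AddChar F ℂ) (v w : Fin n ⊕ Fin n → F) :
    heis ψ v * heis ψ w = ψ (sympForm n F w v) • heis ψ (v + w) := by
  refine LinearMap.ext fun φ => funext fun x => ?_
  simp only [Module.End.mul_apply, heis_apply, LinearMap.smul_apply, Pi.smul_apply, smul_eq_mul,
    sympForm_eq_dot]
  have e1 : (v + w) ∘ Sum.inl = v ∘ Sum.inl + w ∘ Sum.inl := rfl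
  have e2 : (v + w) ∘ Sum.inr = v ∘ Sum.inr + w ∘ Sum.inr := rfl
  rw [e1, e2, ← mul_assoc, ← mul_assoc, ← AddChar.map_add_eq_mul, ← AddChar.map_add_eq_mul,
    add_assoc x (v ∘ Sum.inl) (w ∘ Sum.inl)]
  congr 2
  simp only [dotProduct_add, add_dotProduct]
  ring

/-- The operator `φ ↦ φ(-x)`. -/
def parityOp (n : ℕ) (F : Type*) [Field F] : Module.End ℂ ((Fin n → F) → ℂ) where
  toFun φ x := φ (-x)
  map_add' _ _ := rfl
  map_smul' _ _ := rfl

theorem parityOp_apply (φ : (Fin n → F) → ℂ) (x : Fin n → F) : parityOp n F φ x = φ (-x) := rfl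

/-- Functions of parity `ε`. -/
def parityPart (n : ℕ) (F : Type*) [Field F] (ε : ℂ) : Submodule ℂ ((Fin n → F) → ℂ) :=
  Module.End.eigenspace (parityOp n F) ε

theorem mem_parityPart {ε : ℂ} {φ : (Fin n → F) → ℂ} :
    φ ∈ parityPart n F ε ↔ parityOp n F φ = ε • φ := Module.End.mem_eigenspace_iff

theorem map_mem_parityPart {M : Module.End ℂ ((Fin n → F) → ℂ)}
    (h : M * parityOp n F = parityOp n F * M) (ε : ℂ) :
    ∀ φ ∈ parityPart n F ε, M φ ∈ parityPart n F ε := by
  intro φ hφ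
  rw [mem_parityPart] at hφ ⊢
  rw [← Module.End.mul_apply, ← h, Module.End.mul_apply, hφ, map_smul]

variable [Fintype F] [DecidableEq F]

theorem sum_addChar_dot {ψ : AddChar F ℂ} (hψ : ψ ≠ 1) (y : Fin n → F) :
    ∑ b : Fin n → F, ψ (b ⬝ᵥ y) = if y = 0 then (Fintype.card F : ℂ) ^ n else 0 := by
  split_ifs with h
  · subst h; simp
  · let f : Module.Dual F (Fin n → F) := (dotProductBilin F F).flip y
    have hf : f ≠ 0 := by
      intro h0
      apply h
      ext i
      simpa [f] using LinearMap.congr_fun h0 (Pi.single i 1)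
    exact sum_addChar_dual_eq_zero hψ hf

theorem trace_fun_eq (X : Module.End ℂ ((Fin n → F) → ℂ)) :
    LinearMap.trace ℂ _ X = ∑ x, X (Pi.single x 1) x := by
  rw [LinearMap.trace_eq_matrix_trace ℂ (Pi.basisFun ℂ (Fin n → F)), Matrix.trace]
  simp [LinearMap.toMatrix_apply]

omit [Fintype F] [DecidableEq F] in
theorem add_self_eq_zero_iff_of_two (h2 : (2 : F) ≠ 0) (x : Fin n → F) : x + x = 0 ↔ x = 0 := by
  rw [← two_smul F x, smul_eq_zero]; simp [h2]

theorem trace_heis (h2 : (2 : F) ≠ 0) {ψ : AddChar F ℂ} (hψ : ψ ≠ 1) (v : Fin n ⊕ Fin n → F) :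
    LinearMap.trace ℂ _ (heis ψ v) = if v = 0 then (Fintype.card F : ℂ) ^ n else 0 := by
  rw [trace_fun_eq]
  simp only [heis_apply]
  by_cases ha : v ∘ Sum.inl = 0
  · simp only [ha, add_zero, Pi.single_eq_same, mul_one]
    have : ∀ x : Fin n → F, (v ∘ Sum.inr) ⬝ᵥ (x + x) = x ⬝ᵥ (v ∘ Sum.inr + v ∘ Sum.inr) := by
      intro x; simp [dotProduct_comm]
    simp only [this, sum_addChar_dot hψ, add_self_eq_zero_iff_of_two h2]
    refine if_congr ⟨fun h => ?_, fun h => by simp [h]⟩ rfl rfl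
    ext (i | i)
    · exact congrFun ha i
    · exact congrFun h i
  · rw [if_neg (by rintro rfl; exact ha rfl)]
    refine Finset.sum_eq_zero fun x _ => ?_
    rw [Pi.single_eq_of_ne (by simpa using ha), mul_zero]

theorem trace_parityOp (h2 : (2 : F) ≠ 0) : LinearMap.trace ℂ _ (parityOp n F) = 1 := by
  rw [trace_fun_eq, Finset.sum_eq_single 0]
  · simp [parityOp_apply]
  · intro x _ hx
    rw [parityOp_apply, Pi.single_eq_of_ne]
    intro h
    apply hx
    rw [← add_self_eq_zero_iff_of_two h2]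
    nth_rewrite 1 [← h]
    simp
  · simp

theorem sum_heis {ψ : AddChar F ℂ} (hψ : ψ ≠ 1) :
    ∑ v : Fin n ⊕ Fin n → F, heis ψ v = (Fintype.card F : ℂ) ^ n • parityOp n F := by
  refine LinearMap.ext fun φ => funext fun x => ?_
  rw [← (Equiv.sumArrowEquivProdArrow (Fin n) (Fin n) F).symm.sum_comp, Fintype.sum_prod_type]
  simp only [LinearMap.sum_apply, Finset.sum_apply, heis_apply, LinearMap.smul_apply,
    Pi.smul_apply, smul_eq_mul, parityOp_apply]
  have e1 : ∀ a b : Fin n → F,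
      ((Equiv.sumArrowEquivProdArrow (Fin n) (Fin n) F).symm (a, b)) ∘ Sum.inl = a := by
    intro a b; rfl
  have e2 : ∀ a b : Fin n → F,
      ((Equiv.sumArrowEquivProdArrow (Fin n) (Fin n) F).symm (a, b)) ∘ Sum.inr = b := by
    intro a b; rfl
  simp only [e1, e2, ← Finset.sum_mul, sum_addChar_dot hψ]
  rw [Finset.sum_eq_single (-(x + x))]
  · rw [if_pos (by simp)]
    congr 2
    abel
  · intro a _ ha
    rw [if_neg, zero_mul]
    intro h
    exact ha (eq_neg_of_add_eq_zero_right h)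
  · simp

theorem linearIndependent_heis (h2 : (2 : F) ≠ 0) {ψ : AddChar F ℂ} (hψ : ψ ≠ 1) :
    LinearIndependent ℂ (heis (n := n) ψ) := by
  rw [Fintype.linearIndependent_iff]
  intro c hc w
  have := congrArg (fun X => LinearMap.trace ℂ _ (heis ψ (-w) * X)) hc
  simp only [Finset.mul_sum, mul_smul_comm, heis_mul, map_sum, map_smul, trace_heis h2 hψ,
    mul_zero, map_zero, smul_eq_mul] at this
  rw [Finset.sum_eq_single w] at this
  · have hq : (Fintype.card F : ℂ) ≠ 0 := by simp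
    simpa [Class.Sp.form_neg_right, Class.Sp.form_self, hq] using this
  · intro v _ hv
    rw [if_neg, mul_zero, mul_zero]
    intro h
    exact hv (by rw [neg_add_eq_zero] at h; exact h.symm)
  · simp

/-- The Heisenberg operators form a basis of the endomorphism algebra. -/
noncomputable def heisBasis (h2 : (2 : F) ≠ 0) {ψ : AddChar F ℂ} (hψ : ψ ≠ 1) :
    Basis (Fin n ⊕ Fin n → F) ℂ (Module.End ℂ ((Fin n → F) → ℂ)) :=
  basisOfLinearIndependentOfCardEqFinrank (linearIndependent_heis h2 hψ) (by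
    rw [Module.finrank_linearMap]
    simp [pow_add])

theorem heisBasis_apply (h2 : (2 : F) ≠ 0) {ψ : AddChar F ℂ} (hψ : ψ ≠ 1)
    (v : Fin n ⊕ Fin n → F) : heisBasis h2 hψ v = heis ψ v := by
  simp [heisBasis]

theorem finrank_parityPart (h2 : (2 : F) ≠ 0) {ε : ℂ} (hε : ε * ε = 1) :
    2 * (finrank ℂ (parityPart n F ε) : ℂ) = (Fintype.card F : ℂ) ^ n + ε := by
  have hp : LinearMap.IsProj (parityPart n F ε) ((2⁻¹ : ℂ) • (1 + ε • parityOp n F)) := by
    constructor
    · intro φ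
      rw [mem_parityPart]
      ext x
      simp only [parityOp_apply, LinearMap.smul_apply, LinearMap.add_apply, Pi.smul_apply,
        Pi.add_apply, Module.End.one_apply, smul_eq_mul, neg_neg]
      linear_combination (-2⁻¹ * φ (-x)) * hε
    · intro φ hφ
      rw [mem_parityPart] at hφ
      simp only [LinearMap.smul_apply, LinearMap.add_apply, Module.End.one_apply, hφ, smul_smul,
        hε, one_smul]
      rw [← two_smul ℂ φ, smul_smul]
      simp
  have := hp.trace
  rw [map_smul, map_add, map_smul, trace_parityOp h2, LinearMap.trace_one] at this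
  rw [← this]
  simp

theorem finrank_parityPart_one (h2 : (2 : F) ≠ 0) :
    finrank ℂ (parityPart n F 1) = finrank ℂ (parityPart n F (-1)) + 1 := by
  have h1 := finrank_parityPart (n := n) h2 (ε := 1) (by simp)
  have h3 := finrank_parityPart (n := n) h2 (ε := -1) (by simp)
  have : (finrank ℂ (parityPart n F 1) : ℂ) = finrank ℂ (parityPart n F (-1)) + 1 := by
    linear_combination (h1 - h3) / 2
  exact_mod_cast this

theorem two_mul_finrank_parityPart_neg_one (h2 : (2 : F) ≠ 0) :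
    2 * finrank ℂ (parityPart n F (-1)) + 1 = Fintype.card F ^ n := by
  have h3 := finrank_parityPart (n := n) h2 (ε := -1) (by simp)
  have : 2 * (finrank ℂ (parityPart n F (-1)) : ℂ) + 1 = (Fintype.card F : ℂ) ^ n := by
    linear_combination h3
  exact_mod_cast this

/-- The operator `M` implements the symplectic transformation `g`. -/
def HeisImpl (ψ : AddChar F ℂ) (g : symplecticGroup (Fin n) F)
    (M : Module.End ℂ ((Fin n → F) → ℂ)) : Prop :=
  ∀ v, M * heis ψ v = heis ψ (g • v) * M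

theorem HeisImpl.parity {ψ : AddChar F ℂ} (hψ : ψ ≠ 1) {g : symplecticGroup (Fin n) F}
    {M : Module.End ℂ ((Fin n → F) → ℂ)} (h : HeisImpl ψ g M) :
    M * parityOp n F = parityOp n F * M := by
  have hq : (Fintype.card F : ℂ) ^ n ≠ 0 := by simp
  have h1 : M * ∑ v : Fin n ⊕ Fin n → F, heis ψ v = (∑ v : Fin n ⊕ Fin n → F, heis ψ v) * M := by
    rw [Finset.mul_sum, Finset.sum_mul,
      ← Equiv.sum_comp (MulAction.toPerm g) (fun v => heis ψ v * M)]
    exact Finset.sum_congr rfl fun v _ => h v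
  rw [sum_heis hψ, mul_smul_comm, smul_mul_assoc] at h1
  exact smul_right_injective _ hq h1

omit [Fintype F] [DecidableEq F] in
theorem HeisImpl.mul {ψ : AddChar F ℂ} {g h : symplecticGroup (Fin n) F}
    {M N : Module.End ℂ ((Fin n → F) → ℂ)} (hM : HeisImpl ψ g M) (hN : HeisImpl ψ h N) :
    HeisImpl ψ (g * h) (M * N) := fun v => by
  rw [mul_assoc, hN v, ← mul_assoc, hM, mul_smul, mul_assoc]

omit [Fintype F] [DecidableEq F] in
theorem HeisImpl.smul {ψ : AddChar F ℂ} {g : symplecticGroup (Fin n) F}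
    {M : Module.End ℂ ((Fin n → F) → ℂ)} (hM : HeisImpl ψ g M) (c : ℂ) :
    HeisImpl ψ g (c • M) := fun v => by
  rw [smul_mul_assoc, mul_smul_comm, hM v]

theorem exists_smul_of_commute_heis (h2 : (2 : F) ≠ 0) {ψ : AddChar F ℂ} (hψ : ψ ≠ 1)
    {M : Module.End ℂ ((Fin n → F) → ℂ)} (h : ∀ v, M * heis ψ v = heis ψ v * M) :
    ∃ c : ℂ, M = c • 1 := by
  have : M ∈ Subalgebra.center ℂ (Module.End ℂ ((Fin n → F) → ℂ)) := by
    rw [Subalgebra.mem_center_iff]
    intro X
    rw [← (heisBasis h2 hψ).sum_repr X, Finset.sum_mul, Finset.mul_sum]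
    refine Finset.sum_congr rfl fun v _ => ?_
    rw [heisBasis_apply, smul_mul_assoc, mul_smul_comm, h]
  rw [Algebra.IsCentral.center_eq_bot, Algebra.mem_bot] at this
  obtain ⟨c, rfl⟩ := this
  exact ⟨c, Algebra.algebraMap_eq_smul_one c⟩

theorem HeisImpl.exists_smul (h2 : (2 : F) ≠ 0) {ψ : AddChar F ℂ} (hψ : ψ ≠ 1)
    {g : symplecticGroup (Fin n) F} {M N : Module.End ℂ ((Fin n → F) → ℂ)} (hM : HeisImpl ψ g M)
    (hu : IsUnit M) (hN : HeisImpl ψ g N) : ∃ c : ℂ, N = c • M := by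
  obtain ⟨M, rfl⟩ := hu
  obtain ⟨c, hc⟩ := exists_smul_of_commute_heis h2 hψ (M := M⁻¹.val * N) (fun v => by
    rw [mul_assoc, hN v, ← mul_assoc, ← mul_assoc]
    congr 1
    rw [Units.inv_mul_eq_iff_eq_mul, ← mul_assoc, hM v, Units.mul_inv_cancel_right])
  refine ⟨c, ?_⟩
  rw [Units.inv_mul_eq_iff_eq_mul] at hc
  rw [hc, mul_smul_comm, mul_one]

theorem exists_heisImpl (h2 : (2 : F) ≠ 0) {ψ : AddChar F ℂ} (hψ : ψ ≠ 1)
    (g : symplecticGroup (Fin n) F) : ∃ M, IsUnit M ∧ HeisImpl ψ g M := by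
  let b := heisBasis (n := n) h2 hψ
  let l := b.equiv b (MulAction.toPerm g)
  have hl : ∀ v, l (heis ψ v) = heis ψ (g • v) := by
    intro v
    rw [← heisBasis_apply h2 hψ, ← heisBasis_apply h2 hψ]
    exact b.equiv_apply v b _
  have hmul : ∀ X Y, l (X * Y) = l X * l Y := by
    intro X Y
    rw [← b.sum_repr X, ← b.sum_repr Y]
    simp only [Finset.sum_mul, Finset.mul_sum, map_sum, smul_mul_assoc, mul_smul_comm, map_smul,
      b, heisBasis_apply, heis_mul, hl, Class.Sp.form_smul_smul, smul_add]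
  let α := AlgEquiv.ofLinearEquiv l (by rw [← heis_zero ψ, hl, smul_zero]) hmul
  obtain ⟨T, hT⟩ := α.eq_linearEquivConjAlgEquiv
  refine ⟨T.toLinearMap, (Module.End.isUnit_iff _).2 T.bijective, fun v => ?_⟩
  have : α (heis ψ v) = heis ψ (g • v) := hl v
  rw [← this, hT, LinearEquiv.conjAlgEquiv_apply]
  refine LinearMap.ext fun φ => ?_
  simp

theorem existsUnique_weil (h2 : (2 : F) ≠ 0) {ψ : AddChar F ℂ} (hψ : ψ ≠ 1)
    (g : symplecticGroup (Fin n) F) : ∃! M, IsUnit M ∧ HeisImpl ψ g M ∧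
      detOn (parityPart n F 1) M = detOn (parityPart n F (-1)) M := by
  obtain ⟨M, hu, hM⟩ := exists_heisImpl h2 hψ g
  have hp := map_mem_parityPart (hM.parity hψ)
  have hi := ((Module.End.isUnit_iff _).1 hu).1
  have h1 := detOn_ne_zero (hp 1) hi
  have h3 := detOn_ne_zero (hp (-1)) hi
  have key : ∀ c : ℂ, c ≠ 0 → (detOn (parityPart n F 1) (c • M) =
      detOn (parityPart n F (-1)) (c • M) ↔
        c = detOn (parityPart n F (-1)) M / detOn (parityPart n F 1) M) := by
    intro c hc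
    rw [detOn_smul (hp _), detOn_smul (hp _), finrank_parityPart_one h2, pow_succ, mul_assoc,
      mul_right_inj' (pow_ne_zero _ hc), eq_div_iff h1]
  have hc := div_ne_zero h3 h1
  refine ⟨(detOn (parityPart n F (-1)) M / detOn (parityPart n F 1) M) • M,
    ⟨?_, hM.smul _, (key _ hc).2 rfl⟩, ?_⟩
  · rw [Algebra.smul_def]
    exact ((IsUnit.mk0 _ hc).map _).mul hu
  · rintro N ⟨hN, hN1, hN2⟩
    obtain ⟨c, rfl⟩ := hM.exists_smul h2 hψ hu hN1
    rw [← (key c ?_).1 hN2]
    rintro rfl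
    simp at hN

/-- The Weil representation. -/
noncomputable def weilRep (h2 : (2 : F) ≠ 0) {ψ : AddChar F ℂ} (hψ : ψ ≠ 1) :
    Representation ℂ (symplecticGroup (Fin n) F) ((Fin n → F) → ℂ) where
  toFun g := (existsUnique_weil h2 hψ g).exists.choose
  map_one' := (existsUnique_weil h2 hψ 1).unique (existsUnique_weil h2 hψ 1).exists.choose_spec
    ⟨isUnit_one, fun v => by simp, by rw [detOn_one, detOn_one]⟩
  map_mul' g h := by
    obtain ⟨a1, a2, a3⟩ := (existsUnique_weil h2 hψ g).exists.choose_spec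
    obtain ⟨b1, b2, b3⟩ := (existsUnique_weil h2 hψ h).exists.choose_spec
    refine (existsUnique_weil h2 hψ (g * h)).unique
      (existsUnique_weil h2 hψ (g * h)).exists.choose_spec ⟨a1.mul b1, a2.mul b2, ?_⟩
    have ha := map_mem_parityPart (a2.parity hψ)
    have hb := map_mem_parityPart (b2.parity hψ)
    rw [detOn_mul (ha _) (hb _), detOn_mul (ha _) (hb _), a3, b3]

theorem heisImpl_weilRep (h2 : (2 : F) ≠ 0) {ψ : AddChar F ℂ} (hψ : ψ ≠ 1)
    (g : symplecticGroup (Fin n) F) : HeisImpl ψ g (weilRep h2 hψ g) :=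
  (existsUnique_weil h2 hψ g).exists.choose_spec.2.1

theorem detOn_weilRep (h2 : (2 : F) ≠ 0) {ψ : AddChar F ℂ} (hψ : ψ ≠ 1)
    (g : symplecticGroup (Fin n) F) : detOn (parityPart n F 1) (weilRep h2 hψ g) =
      detOn (parityPart n F (-1)) (weilRep h2 hψ g) :=
  (existsUnique_weil h2 hψ g).exists.choose_spec.2.2

/-- The even and the odd part of the Weil representation. -/
noncomputable def weilPart (h2 : (2 : F) ≠ 0) {ψ : AddChar F ℂ} (hψ : ψ ≠ 1) (ε : ℂ) :
    Subrepresentation (weilRep (n := n) h2 hψ) where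
  toSubmodule := parityPart n F ε
  apply_mem_toSubmodule g _ hφ :=
    map_mem_parityPart ((heisImpl_weilRep h2 hψ g).parity hψ) ε _ hφ

/-- The commutant of the Weil representation is spanned by the identity and the parity
operator. -/
theorem exists_of_commute_weilRep (h2 : (2 : F) ≠ 0) {ψ : AddChar F ℂ} (hψ : ψ ≠ 1)
    {X : Module.End ℂ ((Fin n → F) → ℂ)}
    (hX : ∀ g, weilRep h2 hψ g * X = X * weilRep h2 hψ g) :
    ∃ a b : ℂ, X = a • 1 + b • parityOp n F := by
  let b := heisBasis (n := n) h2 hψ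
  have hc : ∀ (g : symplecticGroup (Fin n) F) v, b.repr X (g • v) = b.repr X v := by
    intro g v
    have h1 : X = ∑ v, b.repr X v • heis ψ (g • v) := by
      have hu : IsUnit (weilRep h2 hψ g) := (Group.isUnit g).map _
      apply hu.mul_right_cancel
      rw [← hX]
      conv_lhs => rw [← b.sum_repr X]
      simp only [Finset.sum_mul, Finset.mul_sum, smul_mul_assoc, mul_smul_comm, b,
        heisBasis_apply, heisImpl_weilRep h2 hψ g _]
    conv_lhs => rw [h1]
    simp only [← heisBasis_apply h2 hψ, map_sum, map_smul, Finsupp.coe_finsetSum,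
      Finset.sum_apply, Finsupp.smul_apply, b, Basis.repr_self]
    rw [Finset.sum_eq_single v]
    · simp
    · intro w _ hw
      rw [Finsupp.single_eq_of_ne, smul_zero]
      intro h
      exact hw (MulAction.injective g h).symm
    · simp
  obtain ⟨c, hc'⟩ : ∃ c, ∀ v, v ≠ 0 → b.repr X v = c := by
    by_cases h : ∃ v : Fin n ⊕ Fin n → F, v ≠ 0
    · obtain ⟨v0, hv0⟩ := h
      refine ⟨b.repr X v0, fun v hv => ?_⟩
      obtain ⟨g, rfl⟩ := Class.Sp.exists_smul_eq hv0 hv
      exact hc g v0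
    · exact ⟨0, fun v hv => absurd ⟨v, hv⟩ h⟩
  refine ⟨b.repr X 0 - c, c * (Fintype.card F : ℂ) ^ n, ?_⟩
  rw [mul_smul, ← sum_heis hψ, Finset.smul_sum, ← heis_zero ψ]
  conv_lhs => rw [← b.sum_repr X]
  rw [← Finset.add_sum_erase _ _ (Finset.mem_univ 0), ← Finset.add_sum_erase _ _ (Finset.mem_univ 0),
    ← add_assoc, ← add_smul, sub_add_cancel]
  simp only [b, heisBasis_apply]
  congr 1
  refine Finset.sum_congr rfl fun v hv => ?_
  rw [hc' v (Finset.ne_of_mem_erase hv)]

theorem weilPart_isIrreducible (h2 : (2 : F) ≠ 0) {ψ : AddChar F ℂ} (hψ : ψ ≠ 1) {ε : ℂ}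
    (hε : ε * ε = 1) (h0 : finrank ℂ (parityPart n F ε) ≠ 0) :
    (weilPart (n := n) h2 hψ ε).toRepresentation.IsIrreducible := by
  rw [Char.isIrreducible_iff]
  refine ⟨Module.nontrivial_of_finrank_pos (M := parityPart n F ε) (Nat.pos_of_ne_zero h0),
    fun U hU => ?_⟩
  let U1 : Subrepresentation (weilRep (n := n) h2 hψ) :=
    { toSubmodule := U.map (parityPart n F ε).subtype
      apply_mem_toSubmodule := by
        rintro g _ ⟨φ, hφ, rfl⟩
        exact ⟨_, hU g φ hφ, rfl⟩ }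
  obtain ⟨U2, hc⟩ := Char.exists_isCompl_subrep U1
  let X : Module.End ℂ ((Fin n → F) → ℂ) := U1.toSubmodule.projection U2.toSubmodule hc
  have hX1 : ∀ φ ∈ U1.toSubmodule, X φ = φ := fun φ hφ =>
    Submodule.projection_apply_of_mem_left hc hφ
  have hX2 : ∀ φ ∈ U2.toSubmodule, X φ = 0 := fun φ hφ =>
    Submodule.projection_apply_of_mem_right hc hφ
  obtain ⟨a, b, hab⟩ := exists_of_commute_weilRep h2 hψ (X := X) (fun g => by
    refine LinearMap.ext fun φ => ?_
    obtain ⟨u, hu, w, hw, rfl⟩ := Submodule.mem_sup.1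
      (hc.sup_eq_top.symm ▸ Submodule.mem_top : φ ∈ U1.toSubmodule ⊔ U2.toSubmodule)
    simp only [Module.End.mul_apply, map_add, hX1 u hu, hX2 w hw, map_zero,
      hX1 _ (U1.apply_mem_toSubmodule g hu), hX2 _ (U2.apply_mem_toSubmodule g hw)])
  have hX : ∀ φ ∈ parityPart n F ε, X φ = (a + b * ε) • φ := by
    intro φ hφ
    rw [mem_parityPart] at hφ
    rw [hab]
    simp [hφ, add_smul, smul_smul]
  by_cases h : a + b * ε = 0
  · left
    rw [eq_bot_iff]
    intro φ hφ
    have h1 := hX1 φ ⟨φ, hφ, rfl⟩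
    rw [hX _ φ.2, h, zero_smul] at h1
    exact Subtype.ext h1.symm
  · right
    rw [eq_top_iff]
    intro φ _
    have h1 : X φ ∈ U1.toSubmodule := Submodule.projection_apply_mem hc _
    rw [hX _ φ.2] at h1
    obtain ⟨φ', h3, h4⟩ := (Submodule.smul_mem_iff _ h).1 h1
    rwa [← Subtype.ext h4]

end Cfsg.Agent.KSG
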